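import Cfsg.Agent.Lib.Recog.ClassSizesPSLTwoValues
import Cfsg.Agent.Lib.PSL2.Involution
import Cfsg.Agent.Lib.ClassicalGroups.SL2
import Cfsg.Agent.Lib.Schur.Basic

/-!
A finite group with the class sizes of `PSL(2, q)` is the direct product of its derived group and
its centre.
-/

set_option autoImplicit false
set_option linter.style.haveILetI false

namespace CfsgLib.Recog.ClassSizesPSLTwoSplit

open CfsgLib.Recog.ClassSizesPSLTwo
open scoped commutatorElement

variable {F : Type*} [Field F] [Fintype F]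

local notation "PSL" => Matrix.ProjectiveSpecialLinearGroup (Fin 2) F
local notation "SL2" => Matrix.SpecialLinearGroup (Fin 2) F
local notation "M2" => Matrix (Fin 2) (Fin 2) F

theorem psl_perfect (h4 : 4 ≤ Fintype.card F) :
    IsSimpleGroup PSL ∧ commutator PSL = ⊤ ∧ Subgroup.center PSL = ⊥ := by
  have hs := Matrix.ProjectiveSpecialLinearGroup.rank_two_simple (F := F)
    (by rwa [Nat.card_eq_fintype_card])
  obtain ⟨x, hx⟩ : IsCyclic Fˣ := inferInstance
  have hperf : commutator SL2 = ⊤ := by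
    classical
    refine Matrix.SL2.commutator_eq_top (a := (x : F)) (Units.ne_zero x) fun h => ?_
    have h' : orderOf x ≤ 2 := orderOf_le_of_pow_eq_one zero_lt_two (Units.ext (by simpa using h))
    rw [orderOf_eq_card_of_forall_mem_zpowers hx, Nat.card_units, Nat.card_eq_fintype_card] at h'
    omega
  have hP : commutator PSL = ⊤ := by
    have hsurj := QuotientGroup.mk'_surjective (Subgroup.center SL2)
    rw [eq_top_iff, ← MonoidHom.range_eq_top_of_surjective _ hsurj, MonoidHom.range_eq_map, ← hperf]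
    exact Subgroup.map_le_iff_le_comap.2 ((Subgroup.commutator_le).2 fun a _ b _ => by
      rw [Subgroup.mem_comap, map_commutatorElement]
      exact Subgroup.commutator_mem_commutator (Subgroup.mem_top _) (Subgroup.mem_top _))
  refine ⟨hs, hP, ?_⟩
  rcases (inferInstance : (Subgroup.center PSL).Normal).eq_bot_or_eq_top with h | h
  · exact h
  · exfalso
    have hc : commutator PSL = ⊥ := (commutator_eq_bot_iff_center_eq_top PSL).2 h
    rw [hP] at hc
    haveI := hs.toNontrivial
    exact top_ne_bot hc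

/-- An element of `PSL(2, q)`, `q` odd, whose class has odd size other than one is an
involution. -/
theorem orderOf_two_of_odd (hodd : ¬ 2 ∣ Fintype.card F) {u : PSL} (hu : u ≠ 1)
    (hD : Odd (cs u)) : orderOf u = 2 := by
  obtain ⟨X, rfl⟩ := QuotientGroup.mk_surjective u
  have h2 : (2 : F) ≠ 0 :=
    CfsgLib.ClassicalGroups.SL2.two_ne_zero_of_odd (Nat.odd_iff.2 (by omega))
  have h4 : (4 : F) ≠ 0 := by rw [show (4 : F) = 2 * 2 by norm_num]; exact mul_ne_zero h2 h2
  have hX : ∀ s : F, (X : M2) ≠ s • 1 := fun s hs =>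
    hu (CfsgLib.SpecLin.SLTwo.mk_eq_one_of_scalar hs)
  rw [cs, CfsgLib.SpecLin.SLTwo.index_centralizer_eq_ncard, Nat.odd_iff] at hD
  obtain ⟨a, ha⟩ : ∃ a, Fintype.card F = 2 * a + 1 := ⟨Fintype.card F / 2, by omega⟩
  have ht : (X : M2).trace = 0 := by
    by_contra ht
    rw [CfsgLib.SpecLin.SLTwo.ncard_class_psl (Or.inl (mul_ne_zero h2 ht))] at hD
    by_cases ht4 : (X : M2).trace ^ 2 = 4
    · rw [CfsgLib.SpecLin.SLTwo.ncard_class_unipotent hX h2 ht4, ha] at hD
      rw [show (2 * a + 1) ^ 2 - 1 = 4 * (a * a + a) by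
        rw [Nat.sub_eq_iff_eq_add (Nat.one_le_pow _ _ (by omega))]; ring] at hD
      omega
    · rcases CfsgLib.SpecLin.SLTwo.ncard_class_semisimple (X := X) (Or.inr ⟨h2, ht4⟩) with h | h <;>
        rw [h.2, ha, Nat.mul_mod] at hD
      · rw [show (2 * a + 1 + 1) % 2 = 0 by omega] at hD; simp at hD
      · rw [show (2 * a + 1 - 1) % 2 = 0 by omega] at hD; simp at hD
  refine orderOf_eq_prime (hp := ⟨Nat.prime_two⟩) ?_ hu
  rw [← QuotientGroup.mk_pow, QuotientGroup.eq_one_iff]
  refine CfsgLib.SpecLin.SLTwo.mem_center_iff'.2 (Or.inr ?_)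
  have h := CfsgLib.SpecLin.SLTwo.sq_eq (X : M2) X.2
  rw [ht, zero_smul, zero_sub] at h
  rw [sq]
  exact h

variable {G : Type*} [Group G]

/-- A central extension in which one lift of an involution has the same class size: lifts of
commuting elements, one an involution, commute. -/
theorem commute_of_lift [Finite G] (hodd : ¬ 2 ∣ Fintype.card F) (π : G →* PSL)
    (hπ : Function.Surjective π) (hker : π.ker = Subgroup.center G) {w : G}
    (hw : orderOf (π w) = 2) (hcs : cs (π w) = cs w) {x g : G} (hx : orderOf (π x) = 2)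
    (hc : Commute (π g) (π x)) : Commute g x := by
  have hC : Subgroup.centralizer ({w} : Set G) =
      (Subgroup.centralizer ({π w} : Set PSL)).comap π := by
    have hle : Subgroup.centralizer ({w} : Set G) ≤
        (Subgroup.centralizer ({π w} : Set PSL)).comap π := fun g hg => by
      rw [Subgroup.mem_comap, Subgroup.mem_centralizer_singleton_iff]
      rw [Subgroup.mem_centralizer_singleton_iff] at hg
      rw [← map_mul, hg, map_mul]
    refine le_antisymm hle ?_
    have h1 := Subgroup.relIndex_mul_index hle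
    rw [Subgroup.index_comap_of_surjective _ hπ] at h1
    rw [cs, cs] at hcs
    rw [hcs] at h1
    exact Subgroup.relIndex_eq_one.1 (Nat.eq_of_mul_eq_mul_right
      (Nat.pos_of_ne_zero Subgroup.index_ne_zero_of_finite) (h1.trans (one_mul _).symm))
  have h2 : (2 : F) ≠ 0 :=
    CfsgLib.ClassicalGroups.SL2.two_ne_zero_of_odd (Nat.odd_iff.2 (by omega))
  obtain ⟨c, hcw⟩ := isConj_iff.1 (CfsgLib.PSL2.isConj_of_orderOf_two h2 hw hx)
  obtain ⟨k, rfl⟩ := hπ c
  have hz : (k * w * k⁻¹)⁻¹ * x ∈ Subgroup.center G := by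
    rw [← hker, MonoidHom.mem_ker, map_mul, map_inv, map_mul, map_mul, map_inv, hcw, inv_mul_cancel]
  have hg : k⁻¹ * g * k ∈ Subgroup.centralizer ({w} : Set G) := by
    rw [hC, Subgroup.mem_comap, Subgroup.mem_centralizer_singleton_iff, map_mul, map_mul, map_inv]
    rw [← hcw] at hc
    calc (π k)⁻¹ * π g * π k * π w
        = (π k)⁻¹ * (π g * (π k * π w * (π k)⁻¹)) * π k := by group
      _ = (π k)⁻¹ * (π k * π w * (π k)⁻¹ * π g) * π k := by rw [hc.eq]
      _ = π w * ((π k)⁻¹ * π g * π k) := by group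
  have hgk : Commute g (k * w * k⁻¹) := by
    have h' : Commute (k⁻¹ * g * k) w := Subgroup.mem_centralizer_singleton_iff.1 hg
    have h := h'.map (MulAut.conj k).toMonoidHom
    simpa [mul_assoc] using h
  have := hgk.mul_right (Subgroup.mem_center_iff.1 hz g : Commute g _)
  rwa [mul_inv_cancel_left] at this

/-- The centre meets the derived group of a Sylow `2`-subgroup trivially. -/
theorem center_inf_commutator_two [Finite G] (hodd : ¬ 2 ∣ Fintype.card F) (π : G →* PSL)
    (hπ : Function.Surjective π) (hker : π.ker = Subgroup.center G)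
    (hcomm : ∀ x g : G, orderOf (π x) = 2 → Commute (π g) (π x) → Commute g x)
    (R : Sylow 2 G) {z : G} (hz : z ∈ Subgroup.center G)
    (hzR : z ∈ ⁅(R : Subgroup G), (R : Subgroup G)⁆) : z = 1 := by
  have hFodd : Odd (Fintype.card F) := Nat.odd_iff.2 (by omega)
  have hsurj := QuotientGroup.mk'_surjective (Subgroup.center SL2)
  obtain ⟨Q, hQ⟩ := Sylow.mapSurjective_surjective hsurj 2 (R.mapSurjective hπ)
  have hQ' : (Q : Subgroup SL2).map (QuotientGroup.mk' _) = (R : Subgroup G).map π := by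
    have := congrArg (fun S : Sylow 2 PSL => (S : Subgroup PSL)) hQ
    simpa [Sylow.coe_mapSurjective] using this
  obtain ⟨k, hk, ⟨e⟩⟩ := CfsgLib.ClassicalGroups.SL2.sylow_two_quaternion hFodd Q
  set ψ : QuaternionGroup (2 ^ k) →* PSL :=
    (QuotientGroup.mk' _).comp ((Q : Subgroup SL2).subtype.comp e.symm.toMonoidHom) with hψ
  have hψR : ψ.range = (R : Subgroup G).map π := by
    rw [← hQ', hψ, ← MonoidHom.map_range, ← MonoidHom.map_range,
      MonoidHom.range_eq_top_of_surjective _ e.symm.surjective, ← MonoidHom.range_eq_map,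
      Subgroup.range_subtype]
  set α := ψ (QuaternionGroup.a 1) with hα
  set β := ψ (QuaternionGroup.xa 0) with hβ
  obtain ⟨a, haR, hπa⟩ : α ∈ (R : Subgroup G).map π := hψR ▸ ⟨_, rfl⟩
  obtain ⟨b, hbR, hπb⟩ : β ∈ (R : Subgroup G).map π := hψR ▸ ⟨_, rfl⟩
  have hαβ : β * α * β⁻¹ = α⁻¹ := by
    rw [hα, hβ, ← map_inv, ← map_inv, ← map_mul, ← map_mul]
    refine congrArg ψ (mul_inv_eq_iff_eq_mul.2 ?_)
    rw [show (QuaternionGroup.a 1 : QuaternionGroup (2 ^ k))⁻¹ = QuaternionGroup.a (-1) from rfl]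
    simp
  -- the order of `α` is `2 ^ k`
  have hψinj : ∀ v : QuaternionGroup (2 ^ k), ψ v = 1 →
      ((e.symm v : (Q : Subgroup SL2)) : SL2) ∈ Subgroup.center SL2 :=
    fun v hv => (QuotientGroup.eq_one_iff _).1 hv
  have h2 : (2 : F) ≠ 0 := CfsgLib.ClassicalGroups.SL2.two_ne_zero_of_odd hFodd
  have hpow : ∀ m : ℕ, (QuaternionGroup.a 1 : QuaternionGroup (2 ^ k)) ^ m = .a m :=
    fun m => QuaternionGroup.a_one_pow m
  have h2k : 2 ^ k = 2 * 2 ^ (k - 1) := by rw [← pow_succ']; congr 1; omega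
  have : NeZero (2 ^ k) := ⟨by positivity⟩
  have hord1 : orderOf (QuaternionGroup.a 1 : QuaternionGroup (2 ^ k)) = 2 * 2 ^ k :=
    QuaternionGroup.orderOf_a_one
  have hαn : α ^ 2 ^ k = 1 := by
    rw [hα, ← map_pow]
    have hi : ((e.symm ((QuaternionGroup.a 1) ^ 2 ^ k) : (Q : Subgroup SL2)) : SL2) ∈
        Subgroup.center SL2 := by
      refine CfsgLib.PSL2.mem_center_of_sq_eq_one h2 ?_
      have h1 : (QuaternionGroup.a 1 : QuaternionGroup (2 ^ k)) ^ (2 ^ k * 2) = 1 :=
        orderOf_dvd_iff_pow_eq_one.1 (dvd_of_eq (hord1.trans (mul_comm _ _)))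
      rw [← SubmonoidClass.coe_pow, ← map_pow, ← pow_mul, h1, map_one, OneMemClass.coe_one]
    exact (QuotientGroup.eq_one_iff _).2 hi
  have hαm : α ^ 2 ^ (k - 1) ≠ 1 := by
    intro h
    rw [hα, ← map_pow] at h
    have hc := hψinj _ h
    set s := (QuaternionGroup.a 1 : QuaternionGroup (2 ^ k)) ^ 2 ^ (k - 1) with hs
    have hsord : orderOf s = 4 := by
      rw [hs, orderOf_pow_of_dvd (pow_ne_zero _ two_ne_zero) (by rw [hord1]; exact ⟨4, by omega⟩),
        hord1]
      exact Nat.div_eq_of_eq_mul_left (by positivity) (by omega)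
    have h4 : orderOf ((e.symm s : (Q : Subgroup SL2)) : SL2) = 4 := by
      rw [Subgroup.orderOf_coe, MulEquiv.orderOf_eq, hsord]
    have h5 : orderOf (⟨_, hc⟩ : Subgroup.center SL2) ∣ Nat.card (Subgroup.center SL2) :=
      orderOf_dvd_natCard _
    rw [CfsgLib.PSL2.card_center_sl h2, ← Subgroup.orderOf_coe] at h5
    simp only [h4] at h5
    omega
  set m := 2 ^ (k - 1) with hm
  have hinv : orderOf (α ^ m) = 2 :=
    orderOf_eq_prime (hp := ⟨Nat.prime_two⟩) (by rw [← pow_mul, mul_comm, ← h2k, hαn]) hαm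
  have hαord : orderOf α = 2 ^ k := by
    have := orderOf_eq_prime_pow (p := 2) (n := k - 1) (hp := ⟨Nat.prime_two⟩) (x := α) hαm
      (by rw [show k - 1 + 1 = k by omega]; exact hαn)
    rwa [show k - 1 + 1 = k by omega] at this
  -- relations between the lifts
  obtain ⟨z₀, hz₀, hba⟩ : ∃ z₀ ∈ Subgroup.center G, b * a * b⁻¹ = a⁻¹ * z₀ := by
    refine ⟨a * (b * a * b⁻¹), ?_, (inv_mul_cancel_left a _).symm⟩
    rw [← hker, MonoidHom.mem_ker]
    simp [hπa, hπb, hαβ]
  set c := (a ^ 2)⁻¹ * z₀ with hc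
  have hcen : ∀ v, Commute z₀ v := fun v => (Subgroup.mem_center_iff.1 hz₀ v).symm
  have hac : Commute a c :=
    Commute.mul_right (Commute.inv_right (Commute.pow_right (Commute.refl a) 2)) (hcen a).symm
  have hbj : ∀ j : ℤ, b * a ^ j * b⁻¹ = c ^ j * a ^ j := by
    intro j
    have h1 : b * a * b⁻¹ = c * a := by
      rw [hba, hc, mul_assoc (a ^ 2)⁻¹ z₀ a, (hcen a).eq, ← mul_assoc]
      group
    rw [← conj_zpow, h1, Commute.mul_zpow hac.symm]
  have hbc : b * c * b⁻¹ = c⁻¹ := by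
    have hc' : c = a ^ (-2 : ℤ) * z₀ := by rw [hc]; group
    calc b * c * b⁻¹ = b * a ^ (-2 : ℤ) * (z₀ * b⁻¹) := by rw [hc']; group
      _ = b * a ^ (-2 : ℤ) * b⁻¹ * z₀ := by rw [(hcen b⁻¹).eq]; group
      _ = c ^ (-2 : ℤ) * c := by rw [hbj, mul_assoc, ← hc']
      _ = c⁻¹ := by group
  -- elements of `R` modulo the centre
  have hform : ∀ r ∈ (R : Subgroup G), ∃ (i : ℤ) (z : G), z ∈ Subgroup.center G ∧
      (r = a ^ i * z ∨ r = b * a ^ i * z) := by
    intro r hr
    obtain ⟨v, hv⟩ : π r ∈ ψ.range := hψR ▸ Subgroup.mem_map_of_mem π hr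
    rcases v with i | i
    · refine ⟨(i.val : ℤ), (a ^ (i.val : ℤ))⁻¹ * r, ?_, Or.inl (mul_inv_cancel_left _ _).symm⟩
      rw [← hker, MonoidHom.mem_ker, map_mul, map_inv, ← hv, map_zpow, hπa, zpow_natCast, hα,
        ← map_pow, hpow, ZMod.natCast_zmod_val, inv_mul_cancel]
    · refine ⟨(i.val : ℤ), (b * a ^ (i.val : ℤ))⁻¹ * r, ?_, Or.inr (mul_inv_cancel_left _ _).symm⟩
      rw [← hker, MonoidHom.mem_ker, map_mul, map_inv, ← hv, map_mul, map_zpow, hπa, hπb,
        zpow_natCast, hα, hβ, ← map_pow, hpow, ← map_mul, QuaternionGroup.xa_mul_a, zero_add,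
        ZMod.natCast_zmod_val, inv_mul_cancel]
  have hcentral : ∀ {g h u v : G}, u ∈ Subgroup.center G → v ∈ Subgroup.center G →
      ⁅g * u, h * v⁆ = ⁅g, h⁆ := by
    intro g h u v hu hv
    have hu' := Subgroup.mem_center_iff.1 hu
    have hv' := Subgroup.mem_center_iff.1 hv
    simp only [commutatorElement_def]
    calc g * u * (h * v) * (g * u)⁻¹ * (h * v)⁻¹
        = g * (u * h) * v * u⁻¹ * g⁻¹ * v⁻¹ * h⁻¹ := by group
      _ = g * h * (u * v) * u⁻¹ * g⁻¹ * v⁻¹ * h⁻¹ := by rw [← hu' h]; group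
      _ = g * h * (v * g⁻¹) * v⁻¹ * h⁻¹ := by rw [← hu' v]; group
      _ = g * h * g⁻¹ * h⁻¹ := by rw [← hv' g⁻¹]; group
  have hle : ⁅(R : Subgroup G), (R : Subgroup G)⁆ ≤ Subgroup.zpowers c := by
    rw [Subgroup.commutator_le]
    intro r hr s hs
    obtain ⟨i, u, hu, hr'⟩ := hform r hr
    obtain ⟨j, v, hv, hs'⟩ := hform s hs
    rcases hr' with rfl | rfl <;> rcases hs' with rfl | rfl <;> rw [hcentral hu hv]
    · rw [commutatorElement_eq_one_iff_mul_comm.2 ((Commute.refl a).zpow_zpow i j).eq]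
      exact one_mem _
    · rw [← commutatorElement_inv, inv_mem_iff]
      have : ⁅b * a ^ j, a ^ i⁆ = c ^ i := by
        rw [commutatorElement_def]
        calc b * a ^ j * a ^ i * (b * a ^ j)⁻¹ * (a ^ i)⁻¹
            = (b * a ^ i * b⁻¹) * (a ^ i)⁻¹ := by group
          _ = c ^ i := by rw [hbj, mul_inv_cancel_right]
      rw [this]; exact Subgroup.zpow_mem_zpowers c i
    · have : ⁅b * a ^ i, a ^ j⁆ = c ^ j := by
        rw [commutatorElement_def]
        calc b * a ^ i * a ^ j * (b * a ^ i)⁻¹ * (a ^ j)⁻¹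
            = (b * a ^ j * b⁻¹) * (a ^ j)⁻¹ := by group
          _ = c ^ j := by rw [hbj, mul_inv_cancel_right]
      rw [this]; exact Subgroup.zpow_mem_zpowers c j
    · have : ⁅b * a ^ i, b * a ^ j⁆ = (c ^ (j - i))⁻¹ := by
        rw [commutatorElement_def]
        calc b * a ^ i * (b * a ^ j) * (b * a ^ i)⁻¹ * (b * a ^ j)⁻¹
            = b * (a ^ i * (b * a ^ (j - i) * b⁻¹) * a ^ (-j)) * b⁻¹ := by group
          _ = b * (a ^ i * c ^ (j - i) * a ^ (-i)) * b⁻¹ := by rw [hbj]; group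
          _ = (b * c * b⁻¹) ^ (j - i) := by
              rw [(hac.zpow_zpow i (j - i)).eq, conj_zpow]; group
          _ = (c ^ (j - i))⁻¹ := by rw [hbc, inv_zpow]
      rw [this, inv_mem_iff]; exact Subgroup.zpow_mem_zpowers c _
  obtain ⟨i, rfl⟩ := hle hzR
  have hπc : π c = (α ^ 2)⁻¹ := by
    rw [hc, map_mul, map_inv, map_pow, hπa, show π z₀ = 1 from hker.ge hz₀, mul_one]
  have h1 : α ^ (-(2 * i)) = 1 := by
    have := hker.ge hz
    rw [MonoidHom.mem_ker, map_zpow, hπc] at this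
    rw [← this, zpow_neg, zpow_mul]
    norm_num
  have hdvd : (m : ℤ) ∣ i := by
    have := orderOf_dvd_iff_zpow_eq_one.2 h1
    rw [hαord, dvd_neg, h2k] at this
    push_cast at this
    exact Int.dvd_of_mul_dvd_mul_left two_ne_zero this
  obtain ⟨l, rfl⟩ := hdvd
  have hcm : c ^ (m : ℤ) = 1 := by
    have hcb : Commute b (a ^ m) := by
      refine hcomm (a ^ m) b (by rw [map_pow, hπa, hinv]) ?_
      rw [map_pow, hπa, hπb]
      refine mul_inv_eq_iff_eq_mul.1 ?_
      rw [← conj_pow, hαβ, inv_pow, inv_eq_iff_mul_eq_one, ← pow_add, ← two_mul, ← h2k, hαn]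
    have := hbj m
    rw [zpow_natCast, zpow_natCast, hcb.eq, mul_inv_cancel_right, eq_comm, mul_eq_right] at this
    rwa [zpow_natCast]
  show c ^ _ = 1
  rw [zpow_mul, hcm, one_zpow]

/-- The splitting of the group. -/
theorem split [Finite G] (h4 : 4 ≤ Fintype.card F) {p f A d : ℕ}
    (S : Sizes G p f (Fintype.card F) A d) (e : G ⧸ Subgroup.center G ≃* PSL)
    (hw : ¬ 2 ∣ Fintype.card F → ∃ w : G, cs w ≠ 1 ∧ Odd (cs w) ∧
      ∀ u : PSL, u ≠ 1 → cs u ∣ cs w → cs u = cs w) :
    ∃ N A : Subgroup G, N.Normal ∧ A ≤ Subgroup.center G ∧ N ⊓ A = ⊥ ∧ N ⊔ A = ⊤ ∧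
      Nonempty (N ≃* PSL) := by
  set π : G →* PSL := e.toMonoidHom.comp (QuotientGroup.mk' (Subgroup.center G)) with hπdef
  have hπ : Function.Surjective π := e.surjective.comp (QuotientGroup.mk'_surjective _)
  have hker : π.ker = Subgroup.center G := by
    ext g
    rw [hπdef, MonoidHom.mem_ker, MonoidHom.comp_apply, MulEquiv.coe_toMonoidHom,
      EmbeddingLike.map_eq_one_iff, QuotientGroup.mk'_apply, QuotientGroup.eq_one_iff]
  obtain ⟨-, hperf, -⟩ := psl_perfect (F := F) h4
  have hmap : (commutator G).map π = ⊤ := by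
    rw [commutator_def, Subgroup.map_commutator, Subgroup.map_top_of_surjective _ hπ, ← commutator_def,
      hperf]
  have hsup : commutator G ⊔ Subgroup.center G = ⊤ := by
    rw [← hker, ← Subgroup.comap_map_eq, hmap, Subgroup.comap_top]
  have hinf : commutator G ⊓ Subgroup.center G = ⊥ := by
    by_contra hne
    obtain ⟨r, hr, hrd⟩ := Nat.exists_prime_and_dvd
      (n := Nat.card (commutator G ⊓ Subgroup.center G : Subgroup G))
      (fun h => hne (Subgroup.eq_bot_of_card_eq _ h))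
    haveI := Fact.mk hr
    obtain ⟨⟨z, hz⟩, hzo⟩ := exists_prime_orderOf_dvd_card' r hrd
    rw [Subgroup.orderOf_mk] at hzo
    obtain ⟨R, hR⟩ := (IsPGroup.of_card (G := Subgroup.zpowers z) (n := 1)
      (by rw [Nat.card_zpowers, hzo, pow_one])).exists_le_sylow
    have hzR := CfsgLib.Schur.center_commutator_sylow R hz.2 hz.1 (hR (Subgroup.mem_zpowers z))
    suffices z = 1 by
      rw [this, orderOf_one] at hzo
      exact hr.ne_one hzo.symm
    have hab : (∀ x ∈ (R : Subgroup G), ∀ y ∈ (R : Subgroup G), x * y = y * x) → z = 1 := by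
      intro h
      have : ⁅(R : Subgroup G), (R : Subgroup G)⁆ = ⊥ := by
        rw [Subgroup.commutator_eq_bot_iff_le_centralizer]
        exact fun x hx => Subgroup.mem_centralizer_iff.2 fun y hy => h y hy x hx
      rwa [this, Subgroup.mem_bot] at hzR
    obtain ⟨p₀, hp₀⟩ := CharP.exists F
    haveI := Fact.mk (CharP.char_is_prime F p₀)
    obtain ⟨n, hpp, hcard⟩ := FiniteField.card F p₀
    have hpeq : p = p₀ := by
      have h1 : p ∣ p₀ ^ (n : ℕ) := hcard ▸ S.p_dvd_q
      exact (Nat.prime_dvd_prime_iff_eq S.prime hpp).1 (S.prime.dvd_of_dvd_pow h1)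
    by_cases hrp : r = p
    · subst hrp
      exact hab (S.comm_sylow R)
    by_cases hr2 : r = 2
    · subst hr2
      have hodd : ¬ 2 ∣ Fintype.card F := fun h => hrp
        ((Nat.prime_dvd_prime_iff_eq hr S.prime).1 (hr.dvd_of_dvd_pow (S.q_eq ▸ h)))
      obtain ⟨w, hw1, hwo, hwu⟩ := hw hodd
      have hπw : π w ≠ 1 := fun h => hw1 (mem_center_iff_cs.2 (hker.le h))
      have hcs : cs (π w) = cs w := by
        refine hwu _ hπw ?_
        rw [cs, ← Subgroup.index_comap_of_surjective _ hπ]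
        refine Subgroup.index_dvd_of_le fun g hg => ?_
        rw [Subgroup.mem_comap, Subgroup.mem_centralizer_singleton_iff]
        rw [Subgroup.mem_centralizer_singleton_iff] at hg
        rw [← map_mul, hg, map_mul]
      exact center_inf_commutator_two hodd π hπ hker
        (fun x g hx hc => commute_of_lift hodd π hπ hker
          (orderOf_two_of_odd hodd hπw (hcs ▸ hwo)) hcs hx hc) R hz.2 hzR
    obtain ⟨Q, hQ⟩ := Sylow.mapSurjective_surjective
      (QuotientGroup.mk'_surjective (Subgroup.center SL2)) r (R.mapSurjective hπ)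
    have hQ' : (Q : Subgroup SL2).map (QuotientGroup.mk' _) = (R : Subgroup G).map π := by
      have := congrArg (fun P : Sylow r PSL => (P : Subgroup PSL)) hQ
      simpa [Sylow.coe_mapSurjective] using this
    haveI := CfsgLib.ClassicalGroups.SL2.isCyclic_sylow_odd p₀ r hr2 (hpeq ▸ hrp) Q
    haveI hcyc : IsCyclic ((R : Subgroup G).map π) := by
      rw [← hQ']
      exact isCyclic_of_surjective ((QuotientGroup.mk' _).subgroupMap (Q : Subgroup SL2))
        (MonoidHom.subgroupMap_surjective _ _)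
    haveI := MonoidHom.isMulCommutative_of_isCyclic_of_ker_le_center
      (π.subgroupMap (R : Subgroup G)) fun g hg => ?_
    · exact hab fun x hx y hy => congrArg Subtype.val
        (mul_comm' (⟨x, hx⟩ : (R : Subgroup G)) ⟨y, hy⟩)
    have hg' : (g : G) ∈ Subgroup.center G := hker.le (congrArg Subtype.val hg)
    exact Subgroup.mem_center_iff.2 fun h => Subtype.ext (Subgroup.mem_center_iff.1 hg' h)
  refine ⟨commutator G, Subgroup.center G, inferInstance, le_rfl, hinf, hsup, ⟨?_⟩⟩
  refine MulEquiv.ofBijective (π.comp (commutator G).subtype) ⟨?_, ?_⟩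
  · rw [injective_iff_map_eq_one]
    intro x hx
    have : (x : G) ∈ commutator G ⊓ Subgroup.center G := ⟨x.2, hker.le hx⟩
    rw [hinf, Subgroup.mem_bot] at this
    exact Subtype.ext this
  · rw [← MonoidHom.range_eq_top, ← MonoidHom.map_range, Subgroup.range_subtype, hmap]

end CfsgLib.Recog.ClassSizesPSLTwoSplit
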