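import Cfsg.Agent.Lib.Recog.ThreePrimes

/-!
A three element coclique of the prime graph meets a solvable normal subgroup at most once.
-/

set_option autoImplicit false

namespace CfsgLib.Recog.Coclique

open CfsgLib.Recog.ThreePrimes

/-- No element order `r * s` for distinct `r`, `s` in `S`. -/
def IsCoclique (G : Type*) [Group G] (S : Finset ℕ) : Prop :=
  (∀ r ∈ S, r.Prime) ∧ ∀ r ∈ S, ∀ s ∈ S, r ≠ s → ¬ ∃ x : G, orderOf x = r * s

/-- A solvable normal subgroup contains a normal subgroup whose order involves exactly one of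
the given primes. -/
theorem exists_normal_one_prime {G : Type*} [Group G] [Finite G] (S : Finset ℕ)
    (hS : ∀ r ∈ S, r.Prime) (K : Subgroup G) (hKn : K.Normal) (hK : Group.IsSolvable ↥K)
    (h : ∃ r ∈ S, r ∣ Nat.card K) :
    ∃ N : Subgroup G, N.Normal ∧ N ≤ K ∧ ∃ r ∈ S, r ∣ Nat.card N ∧
      ∀ s ∈ S, s ∣ Nat.card N → s = r := by
  induction K using WellFoundedLT.induction with
  | _ K ih =>
    obtain ⟨r, hr, hrK⟩ := h
    have hK1 : K ≠ ⊥ := by
      rintro rfl
      exact (hS r hr).ne_one (Nat.dvd_one.1 (by simpa using hrK))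
    have hlt : ⁅K, K⁆ < K := by
      have := K.nontrivial_iff_ne_bot.2 hK1
      refine lt_of_le_of_ne K.commutator_le_self fun h => ?_
      rw [← Subgroup.map_subtype_commutator] at h
      refine (Group.IsSolvable.commutator_lt_top_of_nontrivial K).ne
        (Subgroup.map_injective K.subtype_injective ?_)
      rw [h, ← MonoidHom.range_eq_map, Subgroup.range_subtype]
    set D := ⁅K, K⁆
    by_cases hD : ∃ s ∈ S, s ∣ Nat.card D
    · have : Group.IsSolvable ↥D :=
        Group.isSolvable_of_isSolvable_injective (f := Subgroup.inclusion hlt.le)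
          (Subgroup.inclusion_injective hlt.le)
      obtain ⟨N, hN, hle, h⟩ := ih D hlt inferInstance this hD
      exact ⟨N, hN, hle.trans hlt.le, h⟩
    · have hDn : D.Normal := inferInstance
      let π := QuotientGroup.mk' D
      have hcomm : ∀ a ∈ K, ∀ b ∈ K, Commute (π a) (π b) := by
        intro a ha b hb
        refine commutatorElement_eq_one_iff_commute.1 ?_
        rw [← map_commutatorElement]
        exact (QuotientGroup.eq_one_iff _).2 (Subgroup.commutator_mem_commutator ha hb)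
      let N : Subgroup G :=
        { carrier := {g | g ∈ K ∧ π g ^ r ^ Nat.card K = 1}
          one_mem' := ⟨K.one_mem, by simp⟩
          mul_mem' := fun {a b} ha hb => ⟨K.mul_mem ha.1 hb.1, by
            rw [map_mul, (hcomm a ha.1 b hb.1).mul_pow, ha.2, hb.2, mul_one]⟩
          inv_mem' := fun {a} ha => ⟨K.inv_mem ha.1, by rw [map_inv, inv_pow, ha.2, inv_one]⟩ }
      have hN : N.Normal := ⟨fun n hn g => ⟨hKn.conj_mem n hn.1 g, by
        simp only [map_mul, map_inv, conj_pow, hn.2, mul_one, mul_inv_cancel]⟩⟩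
      refine ⟨N, hN, fun g hg => hg.1, r, hr, ?_, ?_⟩
      · have : Fact r.Prime := ⟨hS r hr⟩
        obtain ⟨g, hg⟩ := exists_prime_orderOf_dvd_card' r hrK
        have hgN : (g : G) ∈ N := ⟨g.2, by
          rw [← map_pow, orderOf_dvd_iff_pow_eq_one.1
            (show orderOf (g : G) ∣ r ^ Nat.card K by
              rw [Subgroup.orderOf_coe, hg]; exact dvd_pow_self _ Nat.card_pos.ne'), map_one]⟩
        rw [← hg, ← Subgroup.orderOf_coe, ← Subgroup.orderOf_mk (H := N) _ hgN]
        exact orderOf_dvd_natCard _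
      · intro s hs hsN
        by_contra hne
        have : Fact s.Prime := ⟨hS s hs⟩
        obtain ⟨g, hg⟩ := exists_prime_orderOf_dvd_card' s hsN
        refine hD ⟨s, hs, ?_⟩
        have h1 : (g : G) ^ r ^ Nat.card K ∈ D := (QuotientGroup.eq_one_iff _).1 (by
          have := g.2.2; simp only [π, ← map_pow] at this; exact this)
        have h2 : orderOf ((g : G) ^ r ^ Nat.card K) = s := by
          rw [Nat.Coprime.orderOf_pow]
          · rw [Subgroup.orderOf_coe, hg]
          · rw [Subgroup.orderOf_coe, hg]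
            exact ((Nat.coprime_primes (hS s hs) (hS r hr)).2 hne).pow_right _
        rw [← h2, ← Subgroup.orderOf_mk (H := D) _ h1]
        exact orderOf_dvd_natCard _

variable {G : Type*} [Group G] [Finite G]

theorem IsCoclique.chain_false {S : Finset ℕ} (hS : IsCoclique G S) (K M : Subgroup G) [K.Normal]
    [M.Normal] (hKM : K ≤ M) {p q r : ℕ} (hp : p ∈ S) (hq : q ∈ S) (hr : r ∈ S) (hpq : p ≠ q)
    (hpr : p ≠ r) (hqr : q ≠ r) (hpK : p ∣ Nat.card K) (hqM : q ∣ Nat.card M)
    (hqK : ¬ q ∣ Nat.card K) (hrG : r ∣ Nat.card G) (hrM : ¬ r ∣ Nat.card M) : False := by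
  have hdiv : ∀ a b : ℕ, ∀ s : ℕ, s.Prime → b ∣ a → s ∣ a → ¬ s ∣ b → s ∣ a / b := by
    intro a b s hs hba hsa hsb
    refine (Nat.Prime.dvd_mul hs).1 (?_ : s ∣ b * (a / b)) |>.resolve_left hsb
    rwa [Nat.mul_div_cancel' hba]
  rcases three_primes_across_chain K M hKM (hS.1 p hp) (hS.1 q hq) (hS.1 r hr) hpq hpr hqr hpK
    (hdiv _ _ q (hS.1 q hq) (Subgroup.card_dvd_of_le hKM) hqM hqK)
    (hdiv _ _ r (hS.1 r hr) (Subgroup.card_subgroup_dvd_card M) hrG hrM) with h | h | h
  · exact hS.2 p hp q hq hpq h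
  · exact hS.2 p hp r hr hpr h
  · exact hS.2 q hq r hr hqr h

/-- A solvable group has no three element coclique. -/
theorem not_isSolvable_of_coclique {S : Finset ℕ} (hS : IsCoclique G S) (hc : 3 ≤ S.card)
    (hd : ∀ r ∈ S, r ∣ Nat.card G) : ¬ Group.IsSolvable G := by
  intro hG
  have hne : S.Nonempty := Finset.card_pos.1 (by omega)
  obtain ⟨N, hN, -, p, hp, hpN, huN⟩ := exists_normal_one_prime S hS.1 ⊤ inferInstance
    inferInstance (by simpa using ⟨_, hne.choose_spec, hd _ hne.choose_spec⟩)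
  have hdiv : ∀ s ∈ S.erase p, s ∣ Nat.card (G ⧸ N) := by
    intro s hs
    rw [Finset.mem_erase] at hs
    have := hd s hs.2
    rw [Subgroup.card_eq_card_quotient_mul_card_subgroup N] at this
    exact ((hS.1 s hs.2).dvd_mul.1 this).resolve_right fun h => hs.1 (huN s hs.2 h)
  have hne' : (S.erase p).Nonempty :=
    Finset.card_pos.1 (by rw [Finset.card_erase_of_mem hp]; omega)
  obtain ⟨M₀, hM₀, -, q, hq, hqM, huM⟩ := exists_normal_one_prime (S.erase p)
    (fun r hr => hS.1 r (Finset.mem_of_mem_erase hr)) (⊤ : Subgroup (G ⧸ N)) inferInstance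
    inferInstance (⟨_, hne'.choose_spec, by simpa using hdiv _ hne'.choose_spec⟩)
  obtain ⟨r, hr⟩ : ((S.erase p).erase q).Nonempty :=
    Finset.card_pos.1 (by rw [Finset.card_erase_of_mem hq, Finset.card_erase_of_mem hp]; omega)
  simp only [Finset.mem_erase] at hr hq
  set M := M₀.comap (QuotientGroup.mk' N)
  have hNM : N ≤ M := fun a ha => by
    simp [M, (QuotientGroup.eq_one_iff a).2 ha, M₀.one_mem]
  have hcard : Nat.card M = Nat.card M₀ * Nat.card N := by
    exact QuotientGroup.card_preimage_mk N (M₀ : Set (G ⧸ N)) |>.trans (mul_comm _ _)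
  refine hS.chain_false N M hNM hp hq.2 hr.2.2 (fun h => hq.1 h.symm) (fun h => hr.2.1 h.symm)
    (fun h => hr.1 h.symm) hpN (hcard ▸ hqM.mul_right _) (fun h => hq.1 (huN q hq.2 h))
    (hd r hr.2.2) ?_
  rw [hcard, (hS.1 r hr.2.2).dvd_mul]
  rintro (h | h)
  · exact hr.1 (huM r (Finset.mem_erase.2 hr.2) h)
  · exact hr.2.1 (huN r hr.2.2 h)

theorem coclique_meets_solvable {S : Finset ℕ} (hS : IsCoclique G S) (hc : 3 ≤ S.card)
    (hd : ∀ r ∈ S, r ∣ Nat.card G) (K : Subgroup G) [hKn : K.Normal] (hK : Group.IsSolvable ↥K)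
    {r s : ℕ} (hr : r ∈ S) (hs : s ∈ S) (hrK : r ∣ Nat.card K) (hsK : s ∣ Nat.card K) :
    r = s := by
  by_contra hne
  obtain ⟨t, ht⟩ : ((S.erase r).erase s).Nonempty :=
    Finset.card_pos.1 (by
      rw [Finset.card_erase_of_mem (Finset.mem_erase.2 ⟨Ne.symm hne, hs⟩),
        Finset.card_erase_of_mem hr]
      omega)
  simp only [Finset.mem_erase] at ht
  by_cases htK : t ∣ Nat.card K
  · have hsub : ({r, s, t} : Finset ℕ) ⊆ S := by
      simp [Finset.insert_subset_iff, hr, hs, ht.2.2]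
    refine not_isSolvable_of_coclique (G := K) (S := {r, s, t}) ⟨fun a ha => hS.1 a (hsub ha),
      fun a ha b hb hab ⟨x, hx⟩ => hS.2 a (hsub ha) b (hsub hb) hab
        ⟨x, by rw [Subgroup.orderOf_coe, hx]⟩⟩ ?_ ?_ hK
    · rw [Finset.card_insert_of_notMem, Finset.card_pair ht.1.symm]
      simp [hne, Ne.symm ht.2.1]
    · simp [hrK, hsK, htK]
  · obtain ⟨N, hN, hNK, p, hp, hpN, hu⟩ := exists_normal_one_prime {r, s}
      (fun a ha => hS.1 a (by simp at ha; rcases ha with rfl | rfl <;> assumption))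
      K hKn hK ⟨r, by simp, hrK⟩
    simp at hp
    rcases hp with rfl | rfl
    · exact hS.chain_false N K hNK hr hs ht.2.2 hne ht.2.1.symm ht.1.symm hpN hsK
        (fun h => hne (hu s (by simp) h).symm) (hd t ht.2.2) htK
    · exact hS.chain_false N K hNK hs hr ht.2.2 (Ne.symm hne) ht.1.symm ht.2.1.symm hpN hrK
        (fun h => hne (hu r (by simp) h)) (hd t ht.2.2) htK

end CfsgLib.Recog.Coclique
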