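import Cfsg.Agent.Lib.Recog.CentralSylowTI
import Cfsg.Agent.S0731
import Cfsg.Agent.Lib.Recognition.TwoTransTwoModFour
import Cfsg.Agent.Lib.StrongEmbedding.PSLTwo
import Cfsg.Agent.Lib.ClassicalGroups.SmallIso

/-!
A group with `CentralSylowTI.Data` (and, for odd `q`, without a regular normal subgroup in its
action on the Sylow `p`-subgroups) is `PSL(2, q)`.
-/

set_option autoImplicit false
set_option linter.style.haveILetI false

open MulAction

namespace CfsgLib.Recog.CentralSylowPSLTwo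

universe u

open CentralSylowTI

variable {X : Type u} [Group X] [Finite X] {p q A d : ℕ} [Fact p.Prime]

/-- The case of even `q`. -/
theorem even_case (h : Data X 2 q A d) [Fact (Nat.Prime 2)] (hq : 4 ≤ q) :
    ∃ (F : Type) (_ : Field F) (_ : Fintype F), Fintype.card F = q ∧
      Nonempty (X ≃* Matrix.ProjectiveSpecialLinearGroup (Fin 2) F) := by
  obtain ⟨T⟩ : Nonempty (Sylow 2 X) := inferInstance
  have hT : StrongEmbedding.ElementaryCentralizers.Hyp T := by
    refine ⟨fun hc => ?_, fun hn => ?_, fun t ht => ?_⟩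
    · obtain ⟨g, hg⟩ := IsCyclic.exists_ofOrder_eq_natCard (α := (T : Subgroup X))
      have h2 := h.pow_p_eq_one (Data.exists_pow_of_mem T.2 g.2)
      have : orderOf g ∣ 2 := orderOf_dvd_of_pow_eq_one (Subtype.ext (by simpa using h2))
      rw [hg, h.card_sylow T] at this
      have := Nat.le_of_dvd (by norm_num) this
      omega
    · haveI : Subsingleton (Sylow 2 X) := (Sylow.unique_of_normal T hn).instSubsingleton
      have := h.card_sylows
      rw [Nat.card_of_subsingleton T] at this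
      omega
    · have ht1 : t ≠ 1 := by rintro rfl; rw [orderOf_one] at ht; omega
      obtain ⟨P, hP⟩ := h.exists_sylow_eq ht1
        ⟨1, by rw [pow_one, ← ht]; exact pow_orderOf_eq_one t⟩
      rw [← hP]
      exact ⟨⟨⟨fun a b => Subtype.ext (h.comm_sylow P a a.2 b b.2)⟩⟩,
        fun c hc => h.pow_p_eq_one (Data.exists_pow_of_mem P.2 hc)⟩
  obtain ⟨F, iF, iT, hF, hiso⟩ := StrongEmbedding.PSLTwo.exists_psl hT
  exact ⟨F, iF, iT, hF.trans (h.card_sylow T), hiso⟩

variable (h : Data X p q A d)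
include h

theorem mem_of_fix {P R : Sylow p X} {x : X} (hx : x ∈ (P : Subgroup X)) (hfix : x • R = R) :
    x ∈ (R : Subgroup X) := by
  have hp : IsPGroup p (Subgroup.zpowers x) := P.2.to_le (Subgroup.zpowers_le.2 hx)
  have h1 : Subgroup.zpowers x ⊓ Subgroup.normalizer ((R : Subgroup X) : Set X) =
      Subgroup.zpowers x ⊓ (R : Subgroup X) := hp.inf_normalizer_sylow R
  have h2 : x ∈ Subgroup.zpowers x ⊓ Subgroup.normalizer ((R : Subgroup X) : Set X) :=
    ⟨Subgroup.mem_zpowers x, Sylow.smul_eq_iff_mem_normalizer.1 hfix⟩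
  rw [h1] at h2
  exact h2.2

theorem smul_self {P : Sylow p X} {x : X} (hx : x ∈ (P : Subgroup X)) : x • P = P :=
  Sylow.smul_eq_iff_mem_normalizer.2 (Subgroup.le_normalizer hx)

theorem unique_move (P : Sylow p X) (y z : Sylow p X) (hy : y ≠ P) (hz : z ≠ P) :
    ∃! u : (P : Subgroup X), (u : X) • y = z := by
  classical
  haveI := Fintype.ofFinite (Sylow p X)
  have hinj : ∀ u v : (P : Subgroup X), (u : X) • y = (v : X) • y → u = v := by
    intro u v e
    have h1 : ((v : X)⁻¹ * u) • y = y := by rw [mul_smul, e, inv_smul_smul]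
    have h2 : (v : X)⁻¹ * u ∈ (P : Subgroup X) ⊓ (y : Subgroup X) :=
      Subgroup.mem_inf.2 ⟨mul_mem (inv_mem v.2) u.2, mem_of_fix h (mul_mem (inv_mem v.2) u.2) h1⟩
    rw [h.inf_eq_bot hy.symm, Subgroup.mem_bot] at h2
    exact (Subtype.ext (inv_mul_eq_one.1 h2)).symm
  let f : ↥(P : Subgroup X) → {w : Sylow p X // w ≠ P} := fun u =>
    ⟨(u : X) • y, fun e => hy (smul_left_cancel (u : X) (e.trans (smul_self h u.2).symm))⟩
  have hf : Function.Bijective f := by
    refine (Nat.bijective_iff_injective_and_card f).2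
      ⟨fun u v e => hinj u v (congrArg Subtype.val e), ?_⟩
    rw [h.card_sylow P, Nat.card_eq_fintype_card, Fintype.card_subtype_compl,
      Fintype.card_subtype_eq, ← Nat.card_eq_fintype_card, h.card_sylows, Nat.add_sub_cancel]
  obtain ⟨u, hu⟩ := hf.2 ⟨z, hz⟩
  exact ⟨u, congrArg Subtype.val hu,
    fun v hv => hinj v u (hv.trans (congrArg Subtype.val hu).symm)⟩

theorem exists_other (P : Sylow p X) : ∃ R : Sylow p X, R ≠ P := by
  have hq := h.one_lt_q
  haveI : Nontrivial (Sylow p X) :=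
    Finite.one_lt_card_iff_nontrivial.1 (by rw [h.card_sylows]; omega)
  exact exists_ne P

theorem twoTrans : IsMultiplyPretransitive X (Sylow p X) 2 := by
  rw [is_two_pretransitive_iff]
  intro P R P' R' hPR hPR'
  obtain ⟨g, hg⟩ := exists_smul_eq X P P'
  obtain ⟨u, hu, -⟩ := unique_move h P' (g • R) R'
    (fun e => hPR (smul_left_cancel g (hg.trans e.symm))) hPR'.symm
  exact ⟨(u : X) * g, by rw [mul_smul, hg, smul_self h u.2], by rw [mul_smul, hu]⟩

theorem faithful : FaithfulSMul X (Sylow p X) := by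
  refine ⟨fun {x y} e => ?_⟩
  set g := x⁻¹ * y
  have hg : ∀ R : Sylow p X, g • R = R := fun R => by rw [mul_smul, ← e R, inv_smul_smul]
  obtain ⟨P⟩ : Nonempty (Sylow p X) := inferInstance
  obtain ⟨R, hR⟩ := exists_other h P
  haveI : Nontrivial (P : Subgroup X) :=
    Finite.one_lt_card_iff_nontrivial.1 (by rw [h.card_sylow P]; exact h.one_lt_q)
  obtain ⟨⟨v, hv⟩, hv1⟩ := exists_ne (1 : (P : Subgroup X))
  have hmemP : g * v * g⁻¹ ∈ (P : Subgroup X) :=
    (Subgroup.mem_normalizer_iff.1 (Sylow.smul_eq_iff_mem_normalizer.1 (hg P)) v).1 hv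
  obtain ⟨w, -, hwu⟩ := unique_move h P R (v • R) hR
    fun e => hR (smul_left_cancel v (e.trans (smul_self h hv).symm))
  have h1 : (⟨_, hmemP⟩ : (P : Subgroup X)) = w := hwu _ (by
    show (g * v * g⁻¹) • R = v • R
    rw [mul_smul, mul_smul, inv_smul_eq_iff.2 (hg R).symm, hg])
  have h2 : (⟨v, hv⟩ : (P : Subgroup X)) = w := hwu _ rfl
  have hgv : g * v = v * g := mul_inv_eq_iff_eq_mul.1 (congrArg Subtype.val (h1.trans h2.symm))
  obtain ⟨Q, hQ⟩ := h.exists_sylow_eq (fun e1 => hv1 (Subtype.ext e1))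
    (Data.exists_pow_of_mem P.2 hv)
  have hgQ : g ∈ (Q : Subgroup X) := hQ ▸ Subgroup.mem_centralizer_singleton_iff.2 hgv
  obtain ⟨R', hR'⟩ := exists_other h Q
  have hgR : g ∈ (R' : Subgroup X) := mem_of_fix h hgQ (hg R')
  have : g ∈ (Q : Subgroup X) ⊓ (R' : Subgroup X) := ⟨hgQ, hgR⟩
  rw [h.inf_eq_bot hR'.symm, Subgroup.mem_bot] at this
  exact inv_mul_eq_one.1 this

theorem three_fixed (g : X) (P R S : Sylow p X) (hPR : P ≠ R) (hRS : R ≠ S) (hPS : P ≠ S)
    (hP : g • P = P) (hR : g • R = R) (hS : g • S = S) : g = 1 := by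
  obtain ⟨u, hu, huu⟩ := unique_move h P R S hPR.symm hPS.symm
  have hmem : g * u * g⁻¹ ∈ (P : Subgroup X) :=
    (Subgroup.mem_normalizer_iff.1 (Sylow.smul_eq_iff_mem_normalizer.1 hP) u).1 u.2
  have h1 : (⟨_, hmem⟩ : (P : Subgroup X)) = u := huu _ (by
    show (g * u * g⁻¹) • R = S
    rw [mul_smul, mul_smul, inv_smul_eq_iff.2 hR.symm, hu, hS])
  have hgu : g * u = u * g := mul_inv_eq_iff_eq_mul.1 (congrArg Subtype.val h1)
  have hu1 : (u : X) ≠ 1 := fun e => hRS (by rw [← hu, e, one_smul])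
  have hgP : g ∈ (P : Subgroup X) := by
    rw [← h.centralizer_eq_of_le u.2 hu1 fun y hy =>
      Subgroup.mem_centralizer_singleton_iff.2 (h.comm_sylow P y hy u u.2)]
    exact Subgroup.mem_centralizer_singleton_iff.2 hgu
  have hgR : g ∈ (P : Subgroup X) ⊓ (R : Subgroup X) := ⟨hgP, mem_of_fix h hgP hR⟩
  rw [h.inf_eq_bot hPR, Subgroup.mem_bot] at hgR
  exact hgR

/-- The stabiliser of two Sylow subgroups. -/
theorem card_pair {P R : Sylow p X} (hRP : R ≠ P) :
    d * Nat.card (stabilizer X P ⊓ stabilizer X R : Subgroup X) = q - 1 := by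
  rw [← h.mul_hIdx P]
  congr 1
  have hN : stabilizer X P = Subgroup.normalizer ((P : Subgroup X) : Set X) :=
    Sylow.stabilizer_eq_normalizer P
  have hle : (P : Subgroup X) ≤ stabilizer X P := hN ▸ Subgroup.le_normalizer
  have e1 : Nat.card (stabilizer X P) =
      q * Nat.card (stabilizer X P ⊓ stabilizer X R : Subgroup X) := by
    rw [← h.card_sylow P, ← Nat.card_prod]
    refine (Nat.card_congr (Equiv.ofBijective
      (fun z : ↥(P : Subgroup X) × (stabilizer X P ⊓ stabilizer X R : Subgroup X) =>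
        (⟨(z.1 : X) * z.2, mul_mem (hle z.1.2) z.2.2.1⟩ : stabilizer X P)) ⟨?_, ?_⟩)).symm
    · rintro ⟨u, g⟩ ⟨u', g'⟩ he
      have he' : (u : X) * g = u' * g' := congrArg Subtype.val he
      have h1 : (u : X) • R = (u' : X) • R := by
        calc (u : X) • R = ((u : X) * g) • R := by rw [mul_smul, mem_stabilizer_iff.1 g.2.2]
          _ = (u' : X) • R := by rw [he', mul_smul, mem_stabilizer_iff.1 g'.2.2]
      obtain rfl : u = u' := (unique_move h P R _ hRP (fun e => hRP
        (smul_left_cancel (u' : X) (e.trans (smul_self h u'.2).symm)))).unique h1 rfl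
      exact Prod.ext rfl (Subtype.ext (mul_left_cancel he'))
    · rintro ⟨x, hx⟩
      obtain ⟨u, hu, -⟩ := unique_move h P R (x • R) hRP
        fun e => hRP (smul_left_cancel x (e.trans hx.symm))
      refine ⟨(u, ⟨(u : X)⁻¹ * x, ?_, ?_⟩), Subtype.ext (mul_inv_cancel_left (u : X) x)⟩
      · change ((u : X)⁻¹ * x) • P = P
        rw [mul_smul, hx, inv_smul_eq_iff, smul_self h u.2]
      · change ((u : X)⁻¹ * x) • R = R
        rw [mul_smul, inv_smul_eq_iff, hu]
  have e2 : Nat.card (stabilizer X P) = q * Data.hIdx P := by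
    rw [hN, ← h.card_sylow P, Data.hIdx, Subgroup.relIndex,
      ← Subgroup.card_mul_index ((P : Subgroup X).subgroupOf _),
      Nat.card_congr (Subgroup.subgroupOfEquivOfLe Subgroup.le_normalizer).toEquiv]
  have := h.one_lt_q
  exact Nat.eq_of_mul_eq_mul_left (by omega) (e1.symm.trans e2)

omit h in
/-- The extra hypothesis for odd `q`: for every prime `r` dividing `A` some nontrivial element
centralises a Sylow `r`-subgroup and, if it is an `r`-element, its class has size other than `q`. -/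
def NoRegular (X : Type u) [Group X] (q A : ℕ) : Prop :=
  ∀ r : ℕ, r.Prime → r ∣ A → ∃ w : X, w ≠ 1 ∧
    (∃ R : Sylow r X, (R : Subgroup X) ≤ Subgroup.centralizer ({w} : Set X)) ∧
    ((∃ k, w ^ r ^ k = 1) → (Subgroup.centralizer ({w} : Set X)).index ≠ q)

theorem no_regular (hP4 : NoRegular X q A) (N : Subgroup X) [N.Normal] [FaithfulSMul X (Sylow p X)]
    (htr : IsPretransitive N (Sylow p X)) (hreg : ∀ R : Sylow p X, stabilizer N R = ⊥) : False := by
  classical
  have h2 := twoTrans h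
  have hN : Nat.card N = q + 1 := by
    obtain ⟨P⟩ : Nonempty (Sylow p X) := inferInstance
    rw [← h.card_sylows, ← index_stabilizer_of_transitive N P, hreg P, Subgroup.index_bot]
  have hq := h.one_lt_q
  have hN1 : N ≠ ⊥ := fun e => by rw [e, Subgroup.card_bot] at hN; omega
  obtain ⟨P⟩ : Nonempty (Sylow p X) := inferInstance
  obtain ⟨r, k, hr, hk⟩ := CfsgLib.Recognition.exists_card_eq_prime_pow_of_regular h2 N hN1 P
    fun x hx hxP => by
      have := (hreg P) ▸ (show (⟨x, hx⟩ : N) ∈ stabilizer N P from hxP)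
      exact congrArg Subtype.val (Subgroup.mem_bot.1 this)
  rw [h.card_sylows] at hk
  haveI := Fact.mk hr
  have hNr : IsPGroup r N := IsPGroup.of_card (hN.trans hk)
  -- the centraliser of `N` is again regular
  set C := Subgroup.centralizer (N : Set X) with hC
  have hC1 : C ≠ ⊥ := by
    haveI : Nontrivial N := (Subgroup.nontrivial_iff_ne_bot N).2 hN1
    haveI := hNr.center_nontrivial
    obtain ⟨⟨z, hz⟩, hz1⟩ := exists_ne (1 : Subgroup.center N)
    intro e
    have hzC : (z : X) ∈ C := Subgroup.mem_centralizer_iff.2 fun y hy =>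
      congrArg Subtype.val (Subgroup.mem_center_iff.1 hz ⟨y, hy⟩)
    rw [e, Subgroup.mem_bot] at hzC
    exact hz1 (Subtype.ext (Subtype.ext hzC))
  haveI hCn : C.Normal := Subgroup.normal_centralizer
  have hCsemi : ∀ c ∈ C, ∀ R : Sylow p X, c • R = R → c = 1 := by
    intro c hc R hcR
    refine FaithfulSMul.eq_of_smul_eq_smul (α := Sylow p X) fun S => ?_
    rw [one_smul]
    obtain ⟨n, rfl⟩ := exists_smul_eq N R S
    show c • ((n : X) • R) = (n : X) • R
    rw [← mul_smul, ← Subgroup.mem_centralizer_iff.1 hc n n.2, mul_smul, hcR]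
  haveI := CfsgLib.Recognition.isPretransitive_normal_of_two h2 C hC1
  have hCcard : Nat.card C = q + 1 := by
    rw [← h.card_sylows, ← index_stabilizer_of_transitive C P,
      (Subgroup.eq_bot_iff_forall (stabilizer C P)).2 fun c hc =>
        Subtype.ext (hCsemi (c : X) c.2 P hc), Subgroup.index_bot]
  -- a witness
  have hrA : r ∣ A := by
    obtain ⟨f, hf, hqf⟩ := h.isPow
    have hrX : r ∣ Nat.card X := by
      refine Dvd.dvd.trans ?_ N.card_subgroup_dvd_card
      rw [hN, hk]
      exact dvd_pow_self r (by rintro rfl; simp at hk; omega)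
    rw [h.card] at hrX
    refine (hr.dvd_mul.1 hrX).resolve_left fun hrq => ?_
    have hrp := (Nat.prime_dvd_prime_iff_eq hr h.prime).1 (hr.dvd_of_dvd_pow (hqf ▸ hrq))
    have h1 : r ∣ q + 1 := hk ▸ dvd_pow_self r (by rintro rfl; simp at hk; omega)
    have h2 : r ∣ q := hqf ▸ hrp ▸ dvd_pow_self r (by omega)
    exact hr.not_dvd_one ((Nat.dvd_add_iff_right h2).2 h1)
  obtain ⟨w, hw1, ⟨R, hR⟩, hwne⟩ := hP4 r hr hrA
  have hwC : w ∈ C := Subgroup.mem_centralizer_iff.2 fun y hy =>
    Subgroup.mem_centralizer_singleton_iff.1 (hR (hNr.le_sylow_of_normal R hy))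
  refine hwne ⟨k, ?_⟩ ?_
  · have := pow_card_eq_one' (G := C) (x := ⟨w, hwC⟩)
    rw [hCcard, hk] at this
    exact congrArg Subtype.val this
  -- its class is `C \ {1}`
  have hclass : MulAction.orbit (ConjAct X) w = (C : Set X) \ {1} := by
    ext y
    constructor
    · rintro ⟨g, rfl⟩
      refine ⟨hCn.conj_mem w hwC (ConjAct.ofConjAct g), fun e => hw1 ?_⟩
      have e' : ConjAct.ofConjAct g * w * (ConjAct.ofConjAct g)⁻¹ = 1 := e
      exact conj_eq_one_iff.1 e'
    · rintro ⟨hyC, hy1⟩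
      have hne : ∀ c ∈ C, c ≠ 1 → c • P ≠ P := fun c hc hc1 e => hc1 (hCsemi c hc P e)
      obtain ⟨u, hu, -⟩ := unique_move h P (w • P) (y • P) (hne w hwC hw1) (hne y hyC hy1)
      refine ⟨ConjAct.toConjAct (u : X), ?_⟩
      show (u : X) * w * (u : X)⁻¹ = y
      have huP : (u : X)⁻¹ • P = P := inv_smul_eq_iff.2 (smul_self h u.2).symm
      have h1 : (y⁻¹ * ((u : X) * w * (u : X)⁻¹)) • P = P := by
        rw [mul_smul, mul_smul, mul_smul, huP, hu, inv_smul_smul]
      exact (inv_mul_eq_one.1 (hCsemi _ (mul_mem (inv_mem hyC) (hCn.conj_mem w hwC _)) P h1)).symm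
  have e : (Subgroup.centralizer ({w} : Set X)).index = (stabilizer (ConjAct X) w).index := by
    rw [Subgroup.centralizer_eq_comap_stabilizer]
    exact Subgroup.index_comap_of_surjective (G' := X) (f := ConjAct.toConjAct.toMonoidHom) _
      ConjAct.toConjAct.surjective
  rw [e, MulAction.index_stabilizer, hclass,
    Set.ncard_diff_singleton_of_mem (one_mem C), ← Nat.card_coe_set_eq]
  change Nat.card C - 1 = q
  omega

/-- The case of odd `q`. -/
theorem odd_case (hd : d = 2) (hq5 : 5 ≤ q) (hP4 : NoRegular X q A) :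
    ∃ (F : Type) (_ : Field F) (_ : Fintype F), Fintype.card F = q ∧
      Nonempty (X ≃* Matrix.ProjectiveSpecialLinearGroup (Fin 2) F) := by
  classical
  haveI := faithful h
  obtain ⟨P⟩ : Nonempty (Sylow p X) := inferInstance
  obtain ⟨R, hR⟩ := exists_other h P
  have hpair := card_pair h hR
  rw [hd] at hpair
  have hZ : Cfsg.IsZassenhausGroup X (Sylow p X) := by
    refine ⟨inferInstance, twoTrans h, three_fixed h, ?_, fun N hN htr => ?_⟩
    · obtain ⟨g, hg⟩ : ∃ g : (stabilizer X P ⊓ stabilizer X R : Subgroup X), g ≠ 1 :=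
        haveI := Finite.one_lt_card_iff_nontrivial.1
          (show 1 < Nat.card (stabilizer X P ⊓ stabilizer X R : Subgroup X) by omega)
        exists_ne 1
      exact ⟨g, fun e => hg (Subtype.ext e), P, R, hR.symm, g.2.1, g.2.2⟩
    · by_contra hall
      simp only [ne_eq, not_exists, not_not] at hall
      exact no_regular h hP4 N htr hall
  have hfix : (P : Subgroup X) ≤ stabilizer X P := fun u hu => smul_self h hu
  have hnorm : ((P : Subgroup X).subgroupOf (stabilizer X P)).Normal :=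
    ⟨fun u hu g => (Subgroup.mem_normalizer_iff.1
      (Sylow.smul_eq_iff_mem_normalizer.1 g.2) (u : X)).1 hu⟩
  have hab : IsMulCommutative (P : Subgroup X) :=
    ⟨⟨fun a b => Subtype.ext (h.comm_sylow P a a.2 b b.2)⟩⟩
  rcases Cfsg.Agent.S0731.result hZ P (P : Subgroup X) hfix hnorm hab (unique_move h P) with
    ⟨h3, hsharp⟩ | ⟨K, iK, iT, hchar, ⟨e⟩⟩
  · exfalso
    rw [isMultiplyPretransitive_iff] at h3
    obtain ⟨S₀, hS₀⟩ : ∃ S : Sylow p X, S ≠ P ∧ S ≠ R := by
      by_contra hall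
      simp only [not_exists, not_and, not_not] at hall
      have : Set.univ ⊆ ({P, R} : Set (Sylow p X)) := fun S _ => by
        by_cases hS : S = P
        · simp [hS]
        · simp [hall S hS]
      have := Set.ncard_le_ncard this (Set.toFinite _)
      rw [Set.ncard_univ, h.card_sylows, Set.ncard_pair hR.symm] at this
      omega
    let f : (stabilizer X P ⊓ stabilizer X R : Subgroup X) → {S : Sylow p X // S ≠ P ∧ S ≠ R} :=
      fun g => ⟨(g : X) • S₀, fun e => hS₀.1 (smul_left_cancel (g : X) (e.trans g.2.1.symm)),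
        fun e => hS₀.2 (smul_left_cancel (g : X) (e.trans g.2.2.symm))⟩
    have hf : Function.Surjective f := by
      rintro ⟨S, hS⟩
      have hinj : ∀ S' : Sylow p X, S' ≠ P ∧ S' ≠ R → Function.Injective ![P, R, S'] := by
        intro S' hS' i j hij
        fin_cases i <;> fin_cases j <;> simp_all [eq_comm]
      obtain ⟨g, hg⟩ := h3 ⟨_, hinj S₀ hS₀⟩ ⟨_, hinj S hS⟩
      have h0 := DFunLike.congr_fun hg 0
      have h1 := DFunLike.congr_fun hg 1
      have h2 := DFunLike.congr_fun hg 2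
      exact ⟨⟨g, by simpa using h0, by simpa using h1⟩, Subtype.ext (by simpa using h2)⟩
    have hle := Nat.card_le_card_of_surjective f hf
    have hcard : Nat.card {S : Sylow p X // S ≠ P ∧ S ≠ R} = q - 1 := by
      rw [show Nat.card {S : Sylow p X // S ≠ P ∧ S ≠ R} = ({P, R}ᶜ : Set (Sylow p X)).ncard by
        rw [← Nat.card_coe_set_eq]; exact Nat.card_congr (Equiv.subtypeEquivRight fun S => by simp),
        Set.ncard_compl, Set.ncard_pair hR.symm, h.card_sylows]
      omega
    omega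
  · refine ⟨K, iK, iT, ?_, ⟨e⟩⟩
    have hkodd : Odd (Fintype.card K) := Nat.odd_iff.2 (FiniteField.odd_card_of_char_ne_two hchar)
    have hk1 : 1 < Fintype.card K := Fintype.one_lt_card
    have hg := CfsgLib.ClassicalGroups.card_psl_two_gcd (K := K)
    rw [← Nat.card_congr e.toEquiv, h.card] at hg
    have hgcd : Nat.gcd 2 (Fintype.card K - 1) = 2 :=
      Nat.gcd_eq_left (Nat.Odd.sub_odd hkodd odd_one).two_dvd
    have hdA := h.dA
    rw [hd] at hdA
    rw [hgcd, mul_left_comm, hdA] at hg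
    by_contra hne
    have mono : ∀ a b : ℕ, 2 ≤ a → a < b → a * (a ^ 2 - 1) < b * (b ^ 2 - 1) := by
      intro a b ha hab
      have h1 : a ^ 2 - 1 ≤ b ^ 2 - 1 :=
        Nat.sub_le_sub_right (Nat.pow_le_pow_left hab.le 2) 1
      have h2 : 0 < a ^ 2 - 1 := Nat.sub_pos_of_lt (Nat.one_lt_pow (by norm_num) ha)
      calc a * (a ^ 2 - 1) < b * (a ^ 2 - 1) := Nat.mul_lt_mul_of_pos_right hab h2
        _ ≤ b * (b ^ 2 - 1) := Nat.mul_le_mul_left b h1
    rcases Nat.lt_or_gt_of_ne hne with hlt | hgt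
    · have := mono _ q hk1 hlt; omega
    · have := mono q _ (by omega) hgt; omega

end CfsgLib.Recog.CentralSylowPSLTwo
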