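import Cfsg.Agent.Lib.Recog.OrdersFiveFour
import Cfsg.Agent.Lib.TwoGroups.Semidihedral

/-!
A group with element orders at most five in which an element of order three has a centraliser bigger
than itself has an involution with dihedral centraliser of order eight, once it has elements of
order five.
-/

set_option autoImplicit false

namespace CfsgLib.Recog.OrdersFive

variable {G : Type*} [Group G] {u x y : G}

namespace Frame

/-- The element of order four. -/
def fa (u x y : G) : G := fv u x * fz u y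

theorem a_sq (h : Frame u x y) : fa u x y * fa u x y = u := by
  rw [fa, show fv u x * fz u y * (fv u x * fz u y) = fv u x * (fz u y * fv u x * fz u y) by group,
    h.z_v, ← mul_assoc, ← h.comm_uv.eq, mul_assoc, h.v_sq, mul_one]

theorem a_order (h : Frame u x y) : orderOf (fa u x y) = 4 :=
  orderOf_eq_prime_pow (p := 2) (n := 1)
    (by rw [pow_one, sq, h.a_sq]; exact h.hu1)
    (by rw [show 2 ^ (1 + 1) = 2 * 2 by norm_num, pow_mul, sq, sq, h.a_sq, h.hu])

theorem v_a_v (h : Frame u x y) : fv u x * fa u x y * (fv u x)⁻¹ = (fa u x y)⁻¹ := by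
  rw [fa, mul_inv_rev, h.z_inv, inv_eq_of_mul_eq_one_right h.v_sq, ← mul_assoc, h.v_sq, one_mul]

theorem pow_eq_iff (h : Frame u x y) {p q : ℕ} : fa u x y ^ p = fa u x y ^ q ↔ p % 4 = q % 4 := by
  rw [pow_eq_pow_iff_modEq, h.a_order]
  exact Iff.rfl

theorem pow_conj_v (h : Frame u x y) (j : ℕ) : fv u x * fa u x y ^ j = (fa u x y ^ j)⁻¹ * fv u x := by
  rw [← mul_inv_eq_iff_eq_mul, ← conj_pow, h.v_a_v, inv_pow]

theorem v_pow_sq (h : Frame u x y) (j : ℕ) : (fv u x * fa u x y ^ j) ^ 2 = 1 := by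
  rw [sq]
  nth_rw 1 [h.pow_conj_v]
  rw [mul_assoc, ← mul_assoc (fv u x), h.v_sq, one_mul, inv_mul_cancel]

/-- Membership in the dihedral group of order eight. -/
def InD (u x y g : G) : Prop :=
  ∃ j : ℕ, j < 4 ∧ (g = fa u x y ^ j ∨ g = fv u x * fa u x y ^ j)

theorem inD_mod (h : Frame u x y) {g : G} (j : ℕ)
    (hg : g = fa u x y ^ j ∨ g = fv u x * fa u x y ^ j) : InD u x y g := by
  refine ⟨j % 4, Nat.mod_lt _ (by norm_num), ?_⟩
  have : fa u x y ^ (j % 4) = fa u x y ^ j := h.pow_eq_iff.2 (Nat.mod_mod _ _)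
  rwa [this]

theorem hom_facts (h : Frame u x y) : ∃ φ : DihedralGroup 4 →* G, Function.Injective φ ∧
    ∀ g, g ∈ φ.range ↔ InD u x y g := by
  have ha4 : fa u x y ^ 4 = 1 := by rw [← h.a_order]; exact pow_orderOf_eq_one _
  have hnot : fv u x ∉ Subgroup.zpowers (fa u x y) := by
    intro hv
    obtain ⟨k, hk⟩ := Subgroup.mem_zpowers_iff.1 hv
    have hca : Commute (fv u x) (fa u x y) := hk ▸ (Commute.refl (fa u x y)).zpow_left k
    have h1 := h.v_a_v
    rw [hca.eq, mul_inv_cancel_right, eq_inv_iff_mul_eq_one, h.a_sq] at h1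
    exact h.hu1 h1
  refine ⟨CfsgLib.TwoGroups.SD.dihedralHom (fa u x y) (fv u x) ha4 h.v_sq h.v_a_v,
    CfsgLib.TwoGroups.SD.dihedralHom_injective _ _ ha4 h.v_sq h.v_a_v h.a_order hnot, fun g => ?_⟩
  constructor
  · rintro ⟨i | i, rfl⟩
    · refine h.inD_mod i.val (Or.inl ?_)
      show fa u x y ^ (i.cast : ℤ) = _
      rw [ZMod.cast_eq_val, zpow_natCast]
    · refine h.inD_mod i.val (Or.inr ?_)
      show fv u x * fa u x y ^ (i.cast : ℤ) = _
      rw [ZMod.cast_eq_val, zpow_natCast]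
  · rintro ⟨j, hj, rfl | rfl⟩
    · refine ⟨DihedralGroup.r (j : ZMod 4), ?_⟩
      show fa u x y ^ ((j : ZMod 4).cast : ℤ) = _
      rw [ZMod.cast_eq_val, zpow_natCast, ZMod.val_natCast, Nat.mod_eq_of_lt hj]
    · refine ⟨DihedralGroup.sr (j : ZMod 4), ?_⟩
      show fv u x * fa u x y ^ ((j : ZMod 4).cast : ℤ) = _
      rw [ZMod.cast_eq_val, zpow_natCast, ZMod.val_natCast, Nat.mod_eq_of_lt hj]

theorem inD_of_mem_W [Finite G] (hG : Small G) (h : Frame u x y) {g : G} (hg : g ∈ W u x) :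
    InD u x y g := by
  have hu2 : fa u x y ^ 2 = u := by rw [sq, h.a_sq]
  rcases h.W_eq_four hG hg with rfl | rfl | rfl | rfl
  · exact h.inD_mod 0 (Or.inl (pow_zero _).symm)
  · exact h.inD_mod 2 (Or.inl hu2.symm)
  · exact h.inD_mod 0 (Or.inr (by rw [pow_zero, mul_one]))
  · exact h.inD_mod 2 (Or.inr (by rw [hu2]; exact h.comm_uv.eq))

/-- An element centralising `u` and mapping `v` into `{v, uv}` lies in the dihedral group. -/
theorem inD_of_even [Finite G] (hG : Small G) (h : Frame u x y) {s : G} (hs : Commute u s) {i : ℕ}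
    (hi : Even i) (he : s * fv u x * s⁻¹ = fv u x * fa u x y ^ i) : InD u x y s := by
  obtain ⟨k, rfl⟩ := hi
  have hu2 : fa u x y ^ (k + k) = u ^ k := by
    rw [← two_mul, pow_mul, sq, h.a_sq]
  rw [hu2] at he
  rcases Nat.even_or_odd k with ⟨l, rfl⟩ | ⟨l, rfl⟩
  · rw [← two_mul, pow_mul, sq, h.hu, one_pow, mul_one] at he
    exact h.inD_of_mem_W hG (mem_W.2 ⟨hs, (mul_inv_eq_iff_eq_mul.1 he).symm⟩)
  · rw [pow_succ, pow_mul, sq, h.hu, one_pow, one_mul] at he
    have hzs : fz u y * s ∈ W u x := by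
      refine mem_W.2 ⟨h.z_u.mul_right hs, ?_⟩
      have e : fz u y * s * fv u x * (fz u y * s)⁻¹ = fv u x := by
        rw [show fz u y * s * fv u x * (fz u y * s)⁻¹ =
          fz u y * (s * fv u x * s⁻¹) * (fz u y)⁻¹ by group, he, h.z_inv, ← h.comm_uv.eq,
          show fz u y * (u * fv u x) * fz u y =
            (fz u y * u * fz u y) * ((fz u y)⁻¹ * fv u x * fz u y) by group, h.z_inv, h.z_v,
          show fz u y * u * fz u y = u by rw [← h.z_u.eq, mul_assoc, h.hzz, mul_one],
          ← mul_assoc, h.hu, one_mul]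
      exact (mul_inv_eq_iff_eq_mul.1 e).symm
    obtain ⟨φ, -, hφ⟩ := h.hom_facts
    rw [← hφ]
    have hz : fz u y ∈ φ.range := by
      rw [hφ]
      exact h.inD_mod 1 (Or.inr (by rw [pow_one, fa, ← mul_assoc, h.v_sq, one_mul]))
    exact (Subgroup.mul_mem_cancel_left _ hz).1 ((hφ _).2 (h.inD_of_mem_W hG hzs))

theorem centralizer_u [Finite G] (hG : Small G) (h : Frame u x y) :
    Nonempty (Subgroup.centralizer ({u} : Set G) ≃* DihedralGroup 4) := by
  obtain ⟨φ, hinj, hφ⟩ := h.hom_facts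
  suffices hle : Subgroup.centralizer ({u} : Set G) ≤ φ.range by
    have hge : φ.range ≤ Subgroup.centralizer ({u} : Set G) := by
      intro g hg
      rw [Subgroup.mem_centralizer_singleton_iff]
      have hca : Commute u (fa u x y) := h.comm_uv.mul_right h.z_u
      obtain ⟨j, -, rfl | rfl⟩ := (hφ g).1 hg
      · exact (hca.pow_right j).eq.symm
      · exact (h.comm_uv.mul_right (hca.pow_right j)).eq.symm
    exact ⟨(MulEquiv.subgroupCongr (le_antisymm hle hge)).trans (MonoidHom.ofInjective hinj).symm⟩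
  set P := Subgroup.centralizer ({u} : Set G) with hP
  have hmemP : ∀ {g : G}, g ∈ P → Commute u g := fun hg =>
    (Subgroup.mem_centralizer_singleton_iff.1 hg).symm
  have h4 : ∀ {g : G}, g ∈ P → g ^ 4 = 1 := fun hg => hG.two_centralizer h.hu h.hu1 (hmemP hg)
  by_contra hle
  have hDP : φ.range ≤ P := by
    intro g hg
    rw [hP, Subgroup.mem_centralizer_singleton_iff]
    have hca : Commute u (fa u x y) := h.comm_uv.mul_right h.z_u
    obtain ⟨j, -, rfl | rfl⟩ := (hφ g).1 hg
    · exact (hca.pow_right j).eq.symm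
    · exact (h.comm_uv.mul_right (hca.pow_right j)).eq.symm
  have hPp : IsPGroup 2 P := fun g => ⟨2, Subtype.ext (by simpa using h4 g.2)⟩
  have := Fact.mk Nat.prime_two
  haveI : Group.IsNilpotent P := hPp.isNilpotent
  have hlt : φ.range.subgroupOf P < ⊤ := by
    rw [lt_top_iff_ne_top, Ne, Subgroup.subgroupOf_eq_top]
    exact hle
  obtain ⟨⟨s, hsP⟩, hsn, hsD⟩ :=
    SetLike.exists_of_lt (Group.normalizerCondition_of_isNilpotent _ hlt)
  rw [Subgroup.mem_subgroupOf] at hsD
  have hnorm : ∀ {g : G}, InD u x y g → InD u x y (s * g * s⁻¹) := by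
    intro g hg
    rw [← hφ] at hg ⊢
    have := (Subgroup.mem_normalizer_iff.1 hsn ⟨g, hDP hg⟩).1 (Subgroup.mem_subgroupOf.2 hg)
    simpa [Subgroup.mem_subgroupOf] using this
  rw [hφ] at hsD
  have hsu : Commute u s := hmemP hsP
  have hconj_u : s * u * s⁻¹ = u := by rw [← hsu.eq, mul_inv_cancel_right]
  -- the image of `a`
  obtain ⟨m, -, hm⟩ := hnorm (h.inD_mod 1 (Or.inl (pow_one (fa u x y)).symm))
  have hm' : s * fa u x y * s⁻¹ = fa u x y ^ m := by
    rcases hm with hm | hm
    · exact hm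
    · exfalso
      apply h.hu1
      have h2 := h.v_pow_sq m
      rw [← hm, conj_pow, sq, h.a_sq, hconj_u] at h2
      exact h2
  have hmodd : Odd m := by
    rcases Nat.even_or_odd m with ⟨k, rfl⟩ | hm
    · exfalso
      apply h.hu1
      have h2 : (s * fa u x y * s⁻¹) ^ 2 = 1 := by
        rw [hm', ← pow_mul]
        exact (h.pow_eq_iff (q := 0)).2 (by omega) |>.trans (pow_zero _)
      rwa [conj_pow, sq, h.a_sq, hconj_u] at h2
    · exact hm
  -- the image of `v`
  obtain ⟨i, -, hi⟩ := hnorm (h.inD_mod 0 (Or.inr (by rw [pow_zero, mul_one] : fv u x = fv u x * fa u x y ^ 0)))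
  have hi' : s * fv u x * s⁻¹ = fv u x * fa u x y ^ i := by
    rcases hi with hi | hi
    · exfalso
      have h2 : fa u x y ^ (i * 2) = fa u x y ^ 0 := by
        rw [pow_zero, pow_mul, ← hi, conj_pow, sq, h.v_sq, mul_one, mul_inv_cancel]
      rw [h.pow_eq_iff] at h2
      obtain ⟨k, rfl⟩ : Even i := Nat.even_iff.2 (by omega)
      rw [← two_mul, pow_mul, sq, h.a_sq] at hi
      have : fv u x = u ^ k := by
        calc fv u x = s⁻¹ * (s * fv u x * s⁻¹) * s := by group
          _ = u ^ k := by rw [hi, mul_assoc, (hsu.pow_left k).eq, inv_mul_cancel_left]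
      rcases Nat.even_or_odd k with ⟨l, rfl⟩ | ⟨l, rfl⟩
      · rw [← two_mul, pow_mul, sq, h.hu, one_pow] at this
        exact h.v_ne this
      · rw [pow_succ, pow_mul, sq, h.hu, one_pow, one_mul] at this
        exact h.v_ne_u this
    · exact hi
  have hiodd : Odd i := (Nat.even_or_odd i).resolve_left fun he => hsD (h.inD_of_even hG hsu he hi')
  have hsj : ∀ j : ℕ, s * fa u x y ^ j * s⁻¹ = fa u x y ^ (m * j) := fun j => by
    rw [← conj_pow, hm', ← pow_mul]
  have hss : InD u x y (s * s) := by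
    refine h.inD_of_even hG (hsu.mul_right hsu) (i := i + m * i) ?_ ?_
    · rw [show i + m * i = i * (m + 1) by ring]
      exact (hmodd.add_odd odd_one).mul_left i
    · calc s * s * fv u x * (s * s)⁻¹ = s * (s * fv u x * s⁻¹) * s⁻¹ := by group
        _ = (s * fv u x * s⁻¹) * (s * fa u x y ^ i * s⁻¹) := by
          conv_lhs => rw [hi']
          group
        _ = _ := by rw [hi', hsj, pow_add, mul_assoc]
  obtain ⟨j, -, hj | hj⟩ := hss
  · rcases Nat.even_or_odd j with hje | hjo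
    · have hvs : (fv u x * s) ^ 2 = fa u x y ^ (i + j) := by
        calc (fv u x * s) ^ 2 = fv u x * (s * fv u x * s⁻¹) * (s * s) := by rw [sq]; group
          _ = _ := by rw [hi', hj, ← mul_assoc (fv u x), h.v_sq, one_mul, pow_add]
      have h4' : fa u x y ^ ((i + j) * 2) = fa u x y ^ 0 := by
        rw [pow_zero, pow_mul, ← hvs, ← pow_mul]
        exact h4 (P.mul_mem (hDP ((hφ _).2 (h.inD_mod 0 (Or.inr (by rw [pow_zero, mul_one]))))) hsP)
      rw [h.pow_eq_iff] at h4'
      obtain ⟨a, ha⟩ := hiodd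
      obtain ⟨b, hb⟩ := hje
      omega
    · have h4' : fa u x y ^ (j * 2) = fa u x y ^ 0 := by
        rw [pow_zero, pow_mul, ← hj, ← sq, ← pow_mul]
        exact h4 hsP
      rw [h.pow_eq_iff] at h4'
      obtain ⟨b, hb⟩ := hjo
      omega
  · have h1 : s * (s * s) * s⁻¹ = s * s := by group
    rw [hj] at h1
    have h2 : fv u x * fa u x y ^ (i + m * j) = fv u x * fa u x y ^ j := by
      calc fv u x * fa u x y ^ (i + m * j) = (s * fv u x * s⁻¹) * (s * fa u x y ^ j * s⁻¹) := by
            rw [hi', hsj, pow_add, mul_assoc]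
        _ = s * (fv u x * fa u x y ^ j) * s⁻¹ := by group
        _ = _ := h1
    rw [mul_right_inj, h.pow_eq_iff] at h2
    obtain ⟨a, ha⟩ := hiodd
    obtain ⟨c, rfl⟩ := hmodd
    rw [add_mul, one_mul, mul_assoc] at h2
    omega

end Frame

/-- If an involution fails to invert an element of order three, then some involution has a dihedral
centraliser of order eight. -/
theorem exists_dihedral [Finite G] (hG : Small G) {x y : G} (hn : Nine x y) {t : G} (ht : t * t = 1)
    (ht1 : t ≠ 1) (hinv : t * x * t ≠ x⁻¹) :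
    ∃ u : G, orderOf u = 2 ∧ Nonempty (Subgroup.centralizer ({u} : Set G) ≃* DihedralGroup 4) ∧
      ∃ v : G, v * v = 1 ∧ v ≠ 1 ∧ v ≠ u ∧ Commute u v := by
  obtain ⟨u, hu, hu1, hux⟩ := exists_u hG ht ht1 hn.hx hinv
  obtain ⟨y', h⟩ := exists_frame hG hu hu1 hn hux
  exact ⟨u, orderOf_eq_prime (by rw [sq]; exact hu) hu1, h.centralizer_u hG, fv u x, h.v_sq, h.v_ne,
    h.v_ne_u, h.comm_uv⟩

/-- With an element of order five, not every involution inverts a given element of order three. -/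
theorem exists_not_inverting [Finite G] (hG : Small G) {x f t : G} (hx : x ^ 3 = 1) (hx1 : x ≠ 1)
    (hf : orderOf f = 5) (ht : t * t = 1) (ht1 : t ≠ 1) :
    ∃ s : G, s * s = 1 ∧ s ≠ 1 ∧ s * x * s ≠ x⁻¹ := by
  by_contra hall
  push Not at hall
  let S : Set G := {g | ∃ a b : G, a * a = 1 ∧ a ≠ 1 ∧ b * b = 1 ∧ b ≠ 1 ∧ g = a * b}
  let N := Subgroup.normalClosure S
  have hN : ∀ g ∈ N, Commute x g := by
    have hle : N ≤ Subgroup.centralizer ({x} : Set G) := by
      refine (Subgroup.closure_le _).2 ?_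
      intro g hg
      obtain ⟨s, ⟨a, b, ha, ha1, hb, hb1, rfl⟩, hsg⟩ := Group.mem_conjugatesOfSet_iff.1 hg
      obtain ⟨c, rfl⟩ := isConj_iff.1 hsg
      rw [SetLike.mem_coe, Subgroup.mem_centralizer_singleton_iff]
      have ha' : (c * a * c⁻¹) * (c * a * c⁻¹) = 1 := by
        rw [show c * a * c⁻¹ * (c * a * c⁻¹) = c * (a * a) * c⁻¹ by group, ha]; group
      have hb' : (c * b * c⁻¹) * (c * b * c⁻¹) = 1 := by
        rw [show c * b * c⁻¹ * (c * b * c⁻¹) = c * (b * b) * c⁻¹ by group, hb]; group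
      have h1 := hall _ ha' (fun e => ha1 (conj_eq_one_iff.1 e))
      have h2 := hall _ hb' (fun e => hb1 (conj_eq_one_iff.1 e))
      rw [show c * (a * b) * c⁻¹ = (c * a * c⁻¹) * (c * b * c⁻¹) by group]
      generalize c * a * c⁻¹ = p at ha' h1 ⊢
      generalize c * b * c⁻¹ = q at hb' h2 ⊢
      have hpi : p⁻¹ = p := inv_eq_of_mul_eq_one_right ha'
      have hqi : q⁻¹ = q := inv_eq_of_mul_eq_one_right hb'
      have e : p * q * x * (p * q)⁻¹ = x := by
        rw [show p * q * x * (p * q)⁻¹ = p * (q * x * q⁻¹) * p⁻¹ by group, hqi, h2, hpi]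
        have := congrArg (·⁻¹) h1
        simpa [mul_inv_rev, hpi, mul_assoc] using this
      exact mul_inv_eq_iff_eq_mul.1 e
    exact fun g hg => (Subgroup.mem_centralizer_singleton_iff.1 (hle hg)).symm
  have hN3 : ∀ g ∈ N, g ^ 3 = 1 := fun g hg => hG.three_centralizer hx hx1 (hN g hg)
  let π := QuotientGroup.mk' N
  have htne : π t ≠ 1 := fun e =>
    ht1 (eq_one_of_sq_of_cube ht (hN3 t ((QuotientGroup.eq_one_iff t).1 e)))
  have htt : π t * π t = 1 := by rw [← map_mul, ht, map_one]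
  have hc : Commute (π t) (π f) := by
    have hmem : t * (f * t * f⁻¹) ∈ N := Subgroup.subset_normalClosure
      ⟨t, f * t * f⁻¹, ht, ht1, by
        rw [show f * t * f⁻¹ * (f * t * f⁻¹) = f * (t * t) * f⁻¹ by group, ht]; group,
        fun e => ht1 (conj_eq_one_iff.1 e), rfl⟩
    have e : π (t * (f * t * f⁻¹)) = 1 := (QuotientGroup.eq_one_iff _).2 hmem
    have hq : π f * π t * (π f)⁻¹ * (π f * π t * (π f)⁻¹) = 1 := by
      rw [show π f * π t * (π f)⁻¹ * (π f * π t * (π f)⁻¹) = π f * (π t * π t) * (π f)⁻¹ by group,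
        htt]; group
    rw [map_mul, map_mul, map_mul, map_inv, mul_eq_one_iff_eq_inv, inv_eq_of_mul_eq_one_right hq] at e
    exact eq_mul_inv_iff_mul_eq.1 e
  obtain ⟨h0, h5⟩ := hG (t * f)
  have hk : π t ^ orderOf (t * f) * π f ^ orderOf (t * f) = 1 := by
    rw [← hc.mul_pow, ← map_mul, ← map_pow, pow_orderOf_eq_one, map_one]
  have hf5 : π f ^ 5 = 1 := by rw [← map_pow, ← hf, pow_orderOf_eq_one, map_one]
  have hof : orderOf (π f) = 5 := by
    rcases (Nat.dvd_prime (by norm_num : Nat.Prime 5)).1 (orderOf_dvd_of_pow_eq_one hf5) with e | e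
    · exfalso
      have := hN3 f ((QuotientGroup.eq_one_iff f).1 (orderOf_eq_one_iff.1 e))
      have := orderOf_dvd_of_pow_eq_one this
      rw [hf] at this
      norm_num at this
    · exact e
  have hot : orderOf (π t) = 2 := orderOf_eq_prime (by rw [sq]; exact htt) htne
  have ho : orderOf (π t * π f) = 10 := by
    rw [hc.orderOf_mul_eq_mul_orderOf_of_coprime (by rw [hot, hof]; norm_num), hot, hof]
  have hd := orderOf_dvd_of_pow_eq_one (x := π t * π f) (n := orderOf (t * f)) (by rw [hc.mul_pow, hk])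
  rw [ho] at hd
  have := Nat.le_of_dvd h0 hd
  omega

end CfsgLib.Recog.OrdersFive
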