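import Mathlib

/-!
Scalar powers of elements killed by a polynomial with known roots, elements of the two maximal
torus orders in `SL₂` of a finite field, and the quadratic extension `F[ω]`, `ω² = ω + n`.
-/

set_option autoImplicit false

namespace CfsgLib.Recog.RootPowers

open Polynomial

section Poly

variable {F L : Type*} [Field F] [Field L] [Algebra F L]

/-- The divisor of the half: `1` in characteristic two, `2` otherwise. -/
def half (p : ℕ) : ℕ := if p = 2 then 1 else 2

theorem half_pos (p : ℕ) : 0 < half p := by unfold half; split_ifs <;> norm_num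

open scoped Classical in
theorem pow_eq_of_roots {p : ℕ} [Fact p.Prime] [CharP L p] (f : F[X]) (R : Multiset L)
    (hf : f.map (algebraMap F L) = (R.map fun x => X - C x).prod) (ε : F) (hε : ε ^ p = ε)
    {m : ℕ} (hm : m ≠ 0) (e : ℕ) (hr : ∀ r ∈ R, r ^ m = algebraMap F L ε)
    (hc : ∀ r ∈ R, R.count r ≤ p ^ e) {A : Type*} [Ring A] [Algebra F A] (M : A)
    (hM : aeval M f = 0) : M ^ (p ^ e * m) = ε • 1 := by
  classical
  haveI : CharP L[X] p := inferInstance
  have hεe : ∀ e : ℕ, ε ^ p ^ e = ε := by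
    intro e
    induction e with
    | zero => simp
    | succ e ih => rw [pow_succ, pow_mul, ih, hε]
  set P : L[X] := X ^ m - C (algebraMap F L ε) with hP
  have hP0 : P ≠ 0 := X_pow_sub_C_ne_zero (Nat.pos_of_ne_zero hm) _
  have hpow : P ^ p ^ e = X ^ (p ^ e * m) - C (algebraMap F L ε) := by
    rw [hP, sub_pow_char_pow, ← pow_mul, mul_comm, ← C_pow, ← map_pow, hεe]
  have hroots : R ≤ (P ^ p ^ e).roots := by
    rw [roots_pow, Multiset.le_iff_count]
    intro r
    rw [Multiset.count_nsmul]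
    by_cases hrR : r ∈ R
    · have h1 : 1 ≤ P.roots.count r := by
        rw [Multiset.one_le_count_iff_mem, mem_roots hP0]
        simp [hP, hr r hrR]
      calc R.count r ≤ p ^ e := hc r hrR
        _ = p ^ e * 1 := (mul_one _).symm
        _ ≤ _ := Nat.mul_le_mul_left _ h1
    · simp [Multiset.count_eq_zero_of_notMem hrR]
  have hdvdL : f.map (algebraMap F L) ∣ (X ^ (p ^ e * m) - C ε : F[X]).map (algebraMap F L) := by
    rw [hf, Polynomial.map_sub, Polynomial.map_pow, map_X, map_C, ← hpow]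
    exact (Multiset.prod_X_sub_C_dvd_iff_le_roots (pow_ne_zero _ hP0) R).2 hroots
  obtain ⟨g, hg⟩ := (map_dvd_map' (algebraMap F L)).1 hdvdL
  have h := congrArg (aeval M) hg
  rw [map_mul, hM, zero_mul, map_sub, map_pow, aeval_X, aeval_C, sub_eq_zero] at h
  rw [h, Algebra.algebraMap_eq_smul_one]

/-- Roots of unity of order dividing `2` are signs, in every characteristic. -/
theorem sign_of_half {p : ℕ} [Fact p.Prime] [CharP L p] {r : L} {k : ℕ} (hdvd : half p ∣ k)
    (h : r ^ k = 1) : ∃ ε : F, (ε = 1 ∨ ε = -1) ∧ r ^ (k / half p) = algebraMap F L ε := by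
  obtain ⟨j, rfl⟩ := hdvd
  rw [Nat.mul_div_cancel_left j (half_pos p)]
  unfold half at h
  split_ifs at h with h2
  · exact ⟨1, Or.inl rfl, by rw [one_mul] at h; rw [h, map_one]⟩
  · rw [mul_comm, pow_mul, sq] at h
    rcases mul_self_eq_one_iff.1 h with e | e
    · exact ⟨1, Or.inl rfl, by rw [e, map_one]⟩
    · exact ⟨-1, Or.inr rfl, by rw [e, map_neg, map_one]⟩

theorem sign_pow_char {p : ℕ} [Fact p.Prime] [CharP F p] {ε : F} (h : ε = 1 ∨ ε = -1) :
    ε ^ p = ε := by
  rcases h with rfl | rfl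
  · exact one_pow p
  · exact neg_one_pow_char F p

theorem pow_eq_one_or_pow {q : ℕ} {r : L} (hr : r ≠ 0) (h : r ^ q = r ∨ r ^ q = r⁻¹) (hq : 1 ≤ q) :
    r ^ (q - 1) = 1 ∨ r ^ (q + 1) = 1 := by
  rcases h with h | h
  · left
    apply mul_right_cancel₀ hr
    rw [← pow_succ, Nat.sub_add_cancel hq, h, one_mul]
  · right
    rw [pow_succ, h, inv_mul_cancel₀ hr]

theorem exists_root_pair [IsAlgClosed L] (y : L) : ∃ r : L, r ≠ 0 ∧ r + r⁻¹ = y := by
  obtain ⟨r, hr⟩ := IsAlgClosed.exists_root ((X : L[X]) ^ 2 - C y * X + 1)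
    (by rw [degree_add_eq_left_of_degree_lt, degree_sub_eq_left_of_degree_lt, degree_X_pow]
        · norm_num
        · rw [degree_X_pow]; exact (degree_C_mul_X_le y).trans_lt (by norm_num)
        · rw [degree_sub_eq_left_of_degree_lt, degree_X_pow, degree_one]
          · norm_num
          · rw [degree_X_pow]; exact (degree_C_mul_X_le y).trans_lt (by norm_num))
  simp only [IsRoot, eval_add, eval_sub, eval_mul, eval_pow, eval_C, eval_X, eval_one] at hr
  have h0 : r ≠ 0 := by rintro rfl; simp at hr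
  refine ⟨r, h0, ?_⟩
  field_simp
  linear_combination hr

end Poly

section SL2

variable {K : Type*} [Field K]

open Matrix in
theorem sq_eq (g : Matrix.SpecialLinearGroup (Fin 2) K) :
    (g : Matrix (Fin 2) (Fin 2) K) ^ 2 =
      (g : Matrix (Fin 2) (Fin 2) K).trace • (g : Matrix (Fin 2) (Fin 2) K) - 1 := by
  have h := g.2
  rw [Matrix.det_fin_two] at h
  ext i j
  fin_cases i <;> fin_cases j <;>
    simp [pow_two, Matrix.mul_apply, Fin.sum_univ_two, Matrix.trace]
  · linear_combination -h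
  · ring
  · ring
  · linear_combination -h

/-- A member of `SL₂` whose trace is fixed by `x ↦ x ^ Q` has a scalar power of exponent
`(Q - 1) / half p`, `(Q + 1) / half p` or `p`. -/
theorem sl2_pow_cases {p n : ℕ} [Fact p.Prime] [CharP K p] (g : Matrix.SpecialLinearGroup (Fin 2) K)
    (hn : n ≠ 0) (hT : (g : Matrix (Fin 2) (Fin 2) K).trace ^ p ^ n =
      (g : Matrix (Fin 2) (Fin 2) K).trace) :
    ∃ k, (k = (p ^ n - 1) / half p ∨ k = (p ^ n + 1) / half p ∨ k = p) ∧
      ((g : Matrix (Fin 2) (Fin 2) K) ^ k = 1 ∨ (g : Matrix (Fin 2) (Fin 2) K) ^ k = -1) := by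
  classical
  set Q := p ^ n with hQdef
  set t := (g : Matrix (Fin 2) (Fin 2) K).trace
  have hp := (Fact.out : p.Prime)
  let L := AlgebraicClosure K
  haveI : CharP L p := charP_of_injective_algebraMap (algebraMap K L).injective p
  obtain ⟨r, hr0, hr⟩ := exists_root_pair (L := L) (algebraMap K L t)
  have hrQ : r ^ Q = r ∨ r ^ Q = r⁻¹ := by
    have h : r ^ Q + (r ^ Q)⁻¹ = r + r⁻¹ := by
      rw [← inv_pow, hQdef, ← add_pow_char_pow, ← hQdef, hr, ← map_pow, hT]
    have h0 : r ^ Q ≠ 0 := pow_ne_zero _ hr0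
    have e0 : (r ^ Q - r) * (r * r ^ Q - 1) = r * r ^ Q * ((r ^ Q + (r ^ Q)⁻¹) - (r + r⁻¹)) := by
      linear_combination -r * mul_inv_cancel₀ h0 + r ^ Q * mul_inv_cancel₀ hr0
    rw [h, sub_self, mul_zero] at e0
    rcases mul_eq_zero.1 e0 with e | e
    · exact Or.inl (sub_eq_zero.1 e)
    · exact Or.inr (eq_inv_of_mul_eq_one_right (sub_eq_zero.1 e))
  set f : K[X] := X ^ 2 - C t * X + 1 with hf
  have hfac : f.map (algebraMap K L) = (({r, r⁻¹} : Multiset L).map fun x => X - C x).prod := by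
    have h1 : (C r : L[X]) * C r⁻¹ = 1 := by rw [← C_mul, mul_inv_cancel₀ hr0, C_1]
    simp only [hf, Polynomial.map_add, Polynomial.map_sub, Polynomial.map_mul, Polynomial.map_pow,
      map_X, map_C, Polynomial.map_one, ← hr, C_add, Multiset.insert_eq_cons, Multiset.map_cons,
      Multiset.map_singleton, Multiset.prod_cons, Multiset.prod_singleton]
    linear_combination -h1
  have hM : aeval (g : Matrix (Fin 2) (Fin 2) K) f = 0 := by
    simp only [hf, map_add, map_sub, map_mul, map_pow, aeval_X, aeval_C, map_one,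
      Algebra.algebraMap_eq_smul_one, smul_mul_assoc, one_mul, sq_eq]
    abel
  have hQ : 1 ≤ Q := Nat.one_le_pow _ _ hp.pos
  have conv : ∀ {k : ℕ} {ε : K}, (ε = 1 ∨ ε = -1) → (g : Matrix (Fin 2) (Fin 2) K) ^ k = ε • 1 →
      (g : Matrix (Fin 2) (Fin 2) K) ^ k = 1 ∨ (g : Matrix (Fin 2) (Fin 2) K) ^ k = -1 := by
    rintro k ε (rfl | rfl) h
    · exact Or.inl (by rw [h, one_smul])
    · exact Or.inr (by rw [h, neg_one_smul])
  by_cases hrr : r⁻¹ = r
  · have hr1 : r * r = 1 := by
      nth_rewrite 2 [← hrr]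
      exact mul_inv_cancel₀ hr0
    obtain ⟨ε, hε, hrε⟩ : ∃ ε : K, (ε = 1 ∨ ε = -1) ∧ r = algebraMap K L ε := by
      rcases mul_self_eq_one_iff.1 hr1 with e | e
      · exact ⟨1, Or.inl rfl, by rw [e, map_one]⟩
      · exact ⟨-1, Or.inr rfl, by rw [e, map_neg, map_one]⟩
    refine ⟨p, Or.inr (Or.inr rfl), conv hε ?_⟩
    have h := pow_eq_of_roots (p := p) f _ hfac ε (sign_pow_char hε) one_ne_zero 1
      (fun x hx => by
        simp only [Multiset.insert_eq_cons, Multiset.mem_cons, Multiset.mem_singleton, hrr, or_self] at hx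
        rw [pow_one, hx, hrε])
      (fun x _ => (Multiset.count_le_card x ({r, r⁻¹} : Multiset L)).trans (by simpa using hp.two_le))
      _ hM
    rwa [pow_one, mul_one] at h
  have hdiv : half p ∣ Q - 1 ∧ half p ∣ Q + 1 := by
    unfold half
    split_ifs with h2
    · simp
    · have hodd : Q % 2 = 1 := Nat.odd_iff.1 ((hp.odd_of_ne_two h2).pow)
      omega
  have main : ∀ k, half p ∣ k → k / half p ≠ 0 → r ^ k = 1 →
      (g : Matrix (Fin 2) (Fin 2) K) ^ (k / half p) = 1 ∨
        (g : Matrix (Fin 2) (Fin 2) K) ^ (k / half p) = -1 := by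
    intro k hk hk0 h
    obtain ⟨ε, hε, hrε⟩ := sign_of_half (F := K) hk h
    refine conv hε ?_
    have hh := pow_eq_of_roots (p := p) f _ hfac ε (sign_pow_char hε) hk0 0
      (fun x hx => by
        simp only [Multiset.insert_eq_cons, Multiset.mem_cons, Multiset.mem_singleton] at hx
        rcases hx with rfl | rfl
        · exact hrε
        · rw [inv_pow, hrε]
          rcases hε with rfl | rfl <;> simp)
      (fun x _ => by
        rw [pow_zero]
        refine Multiset.nodup_iff_count_le_one.1 ?_ x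
        simpa using Ne.symm hrr)
      _ hM
    rwa [pow_zero, one_mul] at hh
  rcases pow_eq_one_or_pow hr0 hrQ hQ with h | h
  · refine ⟨_, Or.inl rfl, main _ hdiv.1 ?_ h⟩
    intro h0
    have hlt : 1 < Q := Nat.one_lt_pow hn hp.one_lt
    have := Nat.eq_mul_of_div_eq_right hdiv.1 h0
    omega
  · refine ⟨_, Or.inr (Or.inl rfl), main _ hdiv.2 ?_ h⟩
    intro h0
    have := Nat.eq_mul_of_div_eq_right hdiv.2 h0
    omega

end SL2

section Quad

variable {F : Type*} [Field F]

theorem exists_no_root [Finite F] : ∃ n : F, ∀ x : F, x ^ 2 ≠ n + 1 * x := by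
  have : ¬ Function.Surjective (fun x : F => x ^ 2 - x) := fun h =>
    zero_ne_one ((Finite.injective_iff_surjective.2 h) (show (0 : F) ^ 2 - 0 = (1 : F) ^ 2 - 1 by ring))
  simp only [Function.Surjective, not_forall, not_exists] at this
  obtain ⟨n, hn⟩ := this
  exact ⟨n, fun x h => hn x (by linear_combination h)⟩

variable (n : F)

/-- The regular representation of `F[ω]`, `ω² = n + ω`. -/
def reg : QuadraticAlgebra F n 1 →+* Matrix (Fin 2) (Fin 2) F where
  toFun z := !![z.re, n * z.im; z.im, z.re + z.im]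
  map_one' := by
    ext i j
    fin_cases i <;> fin_cases j <;> simp [QuadraticAlgebra.re_one, QuadraticAlgebra.im_one]
  map_mul' z w := by
    ext i j; fin_cases i <;> fin_cases j <;> simp [Matrix.mul_apply, Fin.sum_univ_two] <;> ring
  map_zero' := by ext i j; fin_cases i <;> fin_cases j <;> simp
  map_add' z w := by
    ext i j; fin_cases i <;> fin_cases j <;> simp <;> ring

theorem reg_injective : Function.Injective (reg n) := fun z w h => by
  ext
  · exact congrFun (congrFun h 0) 0
  · exact congrFun (congrFun h 1) 0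

instance [Finite F] : Finite (QuadraticAlgebra F n 1) :=
  Finite.of_equiv _ (QuadraticAlgebra.equivProd n 1).symm

theorem card_quad [Finite F] : Nat.card (QuadraticAlgebra F n 1) = Nat.card F ^ 2 := by
  rw [Nat.card_congr (QuadraticAlgebra.equivProd n 1), Nat.card_prod, pow_two]

theorem exists_orderOf_add_one [Finite F] :
    ∃ g : Matrix.SpecialLinearGroup (Fin 2) F, orderOf g = Nat.card F + 1 := by
  obtain ⟨n, hn⟩ := exists_no_root (F := F)
  haveI : Fact (∀ r : F, r ^ 2 ≠ n + 1 * r) := ⟨hn⟩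
  have hq : 1 < Nat.card F := Finite.one_lt_card
  obtain ⟨γ, hγ⟩ := IsCyclic.exists_ofOrder_eq_natCard (α := (QuadraticAlgebra F n 1)ˣ)
  rw [Nat.card_units, card_quad] at hγ
  set d := (reg n (γ : QuadraticAlgebra F n 1)).det with hd
  have hd0 : d ≠ 0 := IsUnit.ne_zero ((γ.isUnit.map (reg n)).map Matrix.detMonoidHom)
  let := Fintype.ofFinite F
  refine ⟨⟨reg n ((γ ^ (Nat.card F - 1) : (QuadraticAlgebra F n 1)ˣ) : QuadraticAlgebra F n 1), ?_⟩, ?_⟩
  · rw [Units.val_pow_eq_pow_val, map_pow, Matrix.det_pow, ← hd, Nat.card_eq_fintype_card,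
      FiniteField.pow_card_sub_one_eq_one d hd0]
  · let φ : Matrix.SpecialLinearGroup (Fin 2) F →* Matrix (Fin 2) (Fin 2) F :=
      { toFun := fun g => (g : Matrix (Fin 2) (Fin 2) F)
        map_one' := rfl
        map_mul' := fun _ _ => rfl }
    refine (orderOf_injective φ (fun a b h => Subtype.ext h) _).symm.trans ?_
    show orderOf ((reg n).toMonoidHom
      ((γ ^ (Nat.card F - 1) : (QuadraticAlgebra F n 1)ˣ) : QuadraticAlgebra F n 1)) = _
    rw [orderOf_injective (reg n).toMonoidHom (reg_injective n), orderOf_units,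
      orderOf_pow, hγ]
    have e : Nat.card F ^ 2 - 1 = (Nat.card F + 1) * (Nat.card F - 1) := by
      rw [← Nat.sq_sub_sq]
    rw [e, Nat.gcd_eq_right (dvd_mul_left _ _), Nat.mul_div_cancel _ (by omega)]

theorem exists_orderOf_sub_one [Finite F] :
    ∃ g : Matrix.SpecialLinearGroup (Fin 2) F, orderOf g = Nat.card F - 1 := by
  obtain ⟨γ, hγ⟩ := IsCyclic.exists_ofOrder_eq_natCard (α := Fˣ)
  rw [Nat.card_units] at hγ
  let φ : Fˣ →* Matrix.SpecialLinearGroup (Fin 2) F :=
    { toFun := fun u => ⟨Matrix.diagonal ![(u : F), ((u⁻¹ : Fˣ) : F)], by simp⟩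
      map_one' := Subtype.ext (by ext i j; fin_cases i <;> fin_cases j <;> simp)
      map_mul' := fun u v => Subtype.ext (by
        show Matrix.diagonal _ = Matrix.diagonal _ * Matrix.diagonal _
        rw [Matrix.diagonal_mul_diagonal]
        congr 1
        ext i; fin_cases i <;> simp [mul_comm]) }
  refine ⟨φ γ, (orderOf_injective φ (fun u v h => Units.ext ?_) γ).trans hγ⟩
  have := congrFun (congrFun (congrArg Subtype.val h) 0) 0
  change Matrix.diagonal _ 0 0 = Matrix.diagonal _ 0 0 at this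
  simpa using this

end Quad

end CfsgLib.Recog.RootPowers
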