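import Mathlib

/-!
Isospectral groups obtained from a normal subgroup `V` of prime exponent: the fibre power of `G` over `G ⧸ V`
has exactly the element orders of `G`.
-/

namespace CfsgLib.Recog

/-- Tuples of elements of `G` with a common image in `G ⧸ V`. -/
def fiberPower {G : Type*} [Group G] (V : Subgroup G) [V.Normal] (ι : Type*) : Subgroup (ι → G) where
  carrier := {f | ∀ i j, QuotientGroup.mk' V (f i) = QuotientGroup.mk' V (f j)}
  mul_mem' {f g} hf hg i j := by
    simp only [Pi.mul_apply, map_mul, hf i j, hg i j]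
  one_mem' i j := rfl
  inv_mem' {f} hf i j := by
    simp only [Pi.inv_apply, map_inv, hf i j]

open scoped commutatorElement

variable {G : Type*} [Group G]

theorem orderOf_mem_range_of_fiberPower [Finite G] {V : Subgroup G} [V.Normal] {ι : Type*}
    [Nonempty ι] {p : ℕ} (hp : p.Prime) (hexp : ∀ x ∈ V, x ^ p = 1)
    (f : fiberPower V ι) : orderOf f ∈ Set.range (orderOf : G → ℕ) := by
  obtain ⟨i₁⟩ := ‹Nonempty ι›
  set m := orderOf (QuotientGroup.mk' V ((f : ι → G) i₁)) with hm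
  have himg : ∀ i, orderOf (QuotientGroup.mk' V ((f : ι → G) i)) = m := fun i => by rw [f.2 i i₁]
  have hmp : ∀ i, (f : ι → G) i ^ (m * p) = 1 := by
    intro i
    rw [pow_mul]
    refine hexp _ ?_
    rw [← QuotientGroup.eq_one_iff, ← QuotientGroup.mk'_apply, map_pow, ← himg i]
    exact pow_orderOf_eq_one _
  have hdvd : ∀ i, m ∣ orderOf ((f : ι → G) i) := fun i => by
    rw [← himg i]; exact orderOf_map_dvd (QuotientGroup.mk' V) _
  have hmpos : 0 < m := orderOf_pos _
  have hcases : ∀ i, orderOf ((f : ι → G) i) = m ∨ orderOf ((f : ι → G) i) = m * p := by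
    intro i
    obtain ⟨k, hk⟩ := hdvd i
    have h := orderOf_dvd_of_pow_eq_one (hmp i)
    rw [hk, Nat.mul_dvd_mul_iff_left hmpos] at h
    rcases (Nat.dvd_prime hp).1 h with rfl | rfl
    · left; rw [hk, Nat.mul_one]
    · right; exact hk
  by_cases hall : ∀ i, orderOf ((f : ι → G) i) = m
  · refine ⟨(f : ι → G) i₁, Nat.dvd_antisymm ?_ ?_⟩
    · exact orderOf_map_dvd ((Pi.evalMonoidHom (fun _ : ι => G) i₁).comp (fiberPower V ι).subtype) f
    · apply orderOf_dvd_of_pow_eq_one
      apply Subtype.ext; funext i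
      rw [hall i₁, ← hall i]
      exact pow_orderOf_eq_one _
  · push Not at hall
    obtain ⟨i₀, hi₀⟩ := hall
    have h0 := (hcases i₀).resolve_left hi₀
    refine ⟨(f : ι → G) i₀, Nat.dvd_antisymm ?_ ?_⟩
    · exact orderOf_map_dvd ((Pi.evalMonoidHom (fun _ : ι => G) i₀).comp (fiberPower V ι).subtype) f
    · apply orderOf_dvd_of_pow_eq_one
      apply Subtype.ext; funext i
      rw [h0]
      exact hmp i

theorem range_orderOf_fiberPower [Finite G] (V : Subgroup G) [V.Normal] (ι : Type*)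
    [Nonempty ι] {p : ℕ} (hp : p.Prime) (hexp : ∀ x ∈ V, x ^ p = 1) :
    Set.range (orderOf : fiberPower V ι → ℕ) = Set.range (orderOf : G → ℕ) := by
  apply Set.Subset.antisymm
  · rintro _ ⟨f, rfl⟩
    exact orderOf_mem_range_of_fiberPower hp hexp f
  · rintro _ ⟨g, rfl⟩
    let f : fiberPower V ι := ⟨fun _ => g, fun _ _ => rfl⟩
    refine ⟨f, Nat.dvd_antisymm ?_ ?_⟩
    · apply orderOf_dvd_of_pow_eq_one
      apply Subtype.ext; funext i
      exact pow_orderOf_eq_one g
    · exact orderOf_map_dvd ((Pi.evalMonoidHom (fun _ : ι => G) (Classical.arbitrary ι)).comp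
        (fiberPower V ι).subtype) f

theorem range_orderOf_of_mulEquiv {H : Type*} [Group H] (e : H ≃* G) :
    Set.range (orderOf : H → ℕ) = Set.range (orderOf : G → ℕ) := by
  ext n
  constructor
  · rintro ⟨h, rfl⟩; exact ⟨e h, e.orderOf_eq h⟩
  · rintro ⟨g, rfl⟩; exact ⟨e.symm g, e.symm.orderOf_eq g⟩

/-- A finite group has a copy in `Type`. -/
theorem exists_small_copy (H : Type*) [Group H] [Finite H] :
    ∃ (H' : Type) (_ : Group H') (_ : Fintype H'), Fintype.card H' = Nat.card H ∧ Nonempty (H' ≃* H) :=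
  ⟨Fin (Nat.card H), (Finite.equivFin H).symm.group, inferInstance, by simp,
    ⟨(Finite.equivFin H).symm.mulEquiv⟩⟩

theorem exists_large_isospectral_of_exponent [Finite G] (V : Subgroup G) [V.Normal] (hV : V ≠ ⊥)
    {p : ℕ} (hp : p.Prime) (hexp : ∀ x ∈ V, x ^ p = 1) (N : ℕ) :
    ∃ (H : Type) (_ : Group H) (_ : Fintype H), N < Fintype.card H ∧
      Set.range (orderOf : H → ℕ) = Set.range (orderOf : G → ℕ) := by
  obtain ⟨H, iG, iF, hcard, ⟨e⟩⟩ := exists_small_copy (fiberPower V (Fin (N + 1)))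
  refine ⟨H, iG, iF, ?_, (range_orderOf_of_mulEquiv e).trans (range_orderOf_fiberPower V _ hp hexp)⟩
  rw [hcard]
  let φ : (Fin (N + 1) → V) → fiberPower V (Fin (N + 1)) := fun v =>
    ⟨fun i => (v i : G), fun i j => by
      rw [QuotientGroup.mk'_apply, QuotientGroup.mk'_apply, (QuotientGroup.eq_one_iff _).2 (v i).2,
        (QuotientGroup.eq_one_iff _).2 (v j).2]⟩
  have hinj : Function.Injective φ := by
    intro a b h
    funext i
    exact Subtype.ext (congrFun (congrArg Subtype.val h) i)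
  have h2 : 1 < Nat.card V := (Subgroup.one_lt_card_iff_ne_bot V).2 hV
  calc N < 2 ^ (N + 1) := Nat.lt_two_pow_self.trans (Nat.pow_lt_pow_right (by norm_num) (Nat.lt_succ_self N))
    _ ≤ Nat.card V ^ (N + 1) := Nat.pow_le_pow_left h2 _
    _ = Nat.card (Fin (N + 1) → V) := by rw [Nat.card_fun, Nat.card_fin]
    _ ≤ _ := Nat.card_le_card_of_injective φ hinj

/-- A nontrivial solvable normal subgroup contains a nontrivial normal subgroup of prime exponent that is
commutative. -/
theorem exists_normal_prime_exponent [Finite G] (K : Subgroup G) [K.Normal] (hK : K ≠ ⊥)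
    (hs : Group.IsSolvable K) :
    ∃ (V : Subgroup G) (p : ℕ), V.Normal ∧ V ≤ K ∧ V ≠ ⊥ ∧ p.Prime ∧
      (∀ x ∈ V, x ^ p = 1) ∧ (∀ x ∈ V, ∀ y ∈ V, x * y = y * x) := by
  classical
  obtain ⟨n, hn⟩ := (Group.isSolvable_def K).1 hs
  let D : ℕ → Subgroup G := fun m => (derivedSeries K m).map K.subtype
  have hD0 : D 0 = K := by simp [D, ← MonoidHom.range_eq_map, Subgroup.range_subtype]
  have hDn : D n = ⊥ := by simp [D, hn]
  have hsucc : ∀ m, D (m + 1) = ⁅D m, D m⁆ := fun m => by
    simp [D, derivedSeries_succ, Subgroup.map_commutator]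
  have hnormal : ∀ m, (D m).Normal := by
    intro m
    induction m with
    | zero => rw [hD0]; infer_instance
    | succ m ih => rw [hsucc]; have := ih; infer_instance
  have hex : ∃ m, D m = ⊥ := ⟨n, hDn⟩
  set m₀ := Nat.find hex with hm₀def
  have hm₀ : m₀ ≠ 0 := fun h => hK (by rw [← hD0, ← h]; exact Nat.find_spec hex)
  obtain ⟨m, hm⟩ : ∃ m, m₀ = m + 1 := ⟨m₀ - 1, by omega⟩
  have hne : D m ≠ ⊥ := Nat.find_min hex (by omega)
  have hab : ∀ x ∈ D m, ∀ y ∈ D m, x * y = y * x := by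
    intro x hx y hy
    have h : ⁅x, y⁆ ∈ D (m + 1) := by rw [hsucc]; exact Subgroup.commutator_mem_commutator hx hy
    rw [← hm, show D m₀ = ⊥ from Nat.find_spec hex, Subgroup.mem_bot] at h
    exact commutatorElement_eq_one_iff_mul_comm.1 h
  obtain ⟨p, hp, hpdvd⟩ := Nat.exists_prime_and_dvd (n := Nat.card (D m))
    (ne_of_gt ((Subgroup.one_lt_card_iff_ne_bot _).2 hne))
  have : Fact p.Prime := ⟨hp⟩
  let V : Subgroup G :=
    { carrier := {x | x ∈ D m ∧ x ^ p = 1}
      mul_mem' := fun {a b} ha hb => ⟨mul_mem ha.1 hb.1, by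
        rw [Commute.mul_pow (hab a ha.1 b hb.1), ha.2, hb.2, one_mul]⟩
      one_mem' := ⟨one_mem _, one_pow _⟩
      inv_mem' := fun {a} ha => ⟨inv_mem ha.1, by rw [inv_pow, ha.2, inv_one]⟩ }
  have hVn : V.Normal := ⟨fun x hx g => ⟨(hnormal m).conj_mem x hx.1 g, by
    rw [conj_pow, hx.2, mul_one, mul_inv_cancel]⟩⟩
  refine ⟨V, p, hVn, fun x hx => Subgroup.map_subtype_le _ hx.1, ?_, hp, fun x hx => hx.2,
    fun x hx y hy => hab x hx.1 y hy.1⟩
  obtain ⟨x, hx⟩ := exists_prime_orderOf_dvd_card' p hpdvd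
  intro hbot
  have hmem : (x : G) ∈ V := by
    refine ⟨x.2, ?_⟩
    rw [← SubgroupClass.coe_pow, ← hx, pow_orderOf_eq_one, OneMemClass.coe_one]
  rw [hbot, Subgroup.mem_bot] at hmem
  rw [show x = 1 from Subtype.ext hmem, orderOf_one] at hx
  exact hp.one_lt.ne hx

theorem exists_large_isospectral [Finite G] (K : Subgroup G) [K.Normal] (hK : K ≠ ⊥)
    (hs : Group.IsSolvable K) (N : ℕ) :
    ∃ (H : Type) (_ : Group H) (_ : Fintype H), N < Fintype.card H ∧
      Set.range (orderOf : H → ℕ) = Set.range (orderOf : G → ℕ) := by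
  obtain ⟨V, p, hVn, -, hV, hp, hexp, -⟩ := exists_normal_prime_exponent K hK hs
  exact exists_large_isospectral_of_exponent V hV hp hexp N

end CfsgLib.Recog
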