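import Mathlib

/-!
Powers of a matrix satisfying a cubic or quartic relation, computed in a small coefficient ring.
-/

namespace CfsgLib.Recog.Companion

variable {S : Type*} [CommRing S]

/-- One multiplication by a root of `X³ = a X² + b X + c` on coefficient triples. -/
def step3 (a b c : S) (v : S × S × S) : S × S × S := (v.2.1 + v.1 * a, v.2.2 + v.1 * b, v.1 * c)

/-- Coefficients of the `k`-th power. -/
def iter3 (a b c : S) : ℕ → S × S × S
  | 0 => (0, 0, 1)
  | k + 1 => step3 a b c (iter3 a b c k)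

/-- One multiplication by a root of `X⁴ = a X³ + b X² + c X + d`. -/
def step4 (a b c d : S) (v : S × S × S × S) : S × S × S × S :=
  (v.2.1 + v.1 * a, v.2.2.1 + v.1 * b, v.2.2.2 + v.1 * c, v.1 * d)

/-- Coefficients of the `k`-th power. -/
def iter4 (a b c d : S) : ℕ → S × S × S × S
  | 0 => (0, 0, 0, 1)
  | k + 1 => step4 a b c d (iter4 a b c d k)

variable {F : Type*} [CommRing F] {A : Type*} [Ring A] [Algebra F A] (φ : S →+* F)

theorem pow_eq_iter3 {M : A} {a b c : S} (h : M ^ 3 = φ a • M ^ 2 + φ b • M + φ c • 1) (k : ℕ) :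
    M ^ k = φ (iter3 a b c k).1 • M ^ 2 + φ (iter3 a b c k).2.1 • M + φ (iter3 a b c k).2.2 • 1 := by
  induction k with
  | zero => simp [iter3]
  | succ k ih =>
    have e : M * M ^ 2 = φ a • M ^ 2 + φ b • M + φ c • 1 := by rw [← pow_succ', h]
    have e2 : M * M = M ^ 2 := (pow_two M).symm
    rw [pow_succ', ih, mul_add, mul_add, mul_smul_comm, mul_smul_comm, mul_smul_comm, mul_one, e, e2]
    simp only [iter3, step3, map_add, map_mul]
    module

theorem pow_eq_iter4 {M : A} {a b c d : S}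
    (h : M ^ 4 = φ a • M ^ 3 + φ b • M ^ 2 + φ c • M + φ d • 1) (k : ℕ) :
    M ^ k = φ (iter4 a b c d k).1 • M ^ 3 + φ (iter4 a b c d k).2.1 • M ^ 2
      + φ (iter4 a b c d k).2.2.1 • M + φ (iter4 a b c d k).2.2.2 • 1 := by
  induction k with
  | zero => simp [iter4]
  | succ k ih =>
    have e : M * M ^ 3 = φ a • M ^ 3 + φ b • M ^ 2 + φ c • M + φ d • 1 := by rw [← pow_succ', h]
    have e2 : M * M ^ 2 = M ^ 3 := (pow_succ' M 2).symm
    have e3 : M * M = M ^ 2 := (pow_two M).symm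
    rw [pow_succ', ih, mul_add, mul_add, mul_add, mul_smul_comm, mul_smul_comm, mul_smul_comm, mul_smul_comm,
      mul_one, e, e2, e3]
    simp only [iter4, step4, map_add, map_mul]
    module

theorem pow_eq_of_iter3 {M : A} {a b c : S} (h : M ^ 3 = φ a • M ^ 2 + φ b • M + φ c • 1) {k : ℕ} {z : S}
    (hk : iter3 a b c k = (0, 0, z)) : M ^ k = φ z • 1 := by
  rw [pow_eq_iter3 φ h k, hk]; simp

theorem pow_eq_of_iter4 {M : A} {a b c d : S}
    (h : M ^ 4 = φ a • M ^ 3 + φ b • M ^ 2 + φ c • M + φ d • 1) {k : ℕ} {z : S}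
    (hk : iter4 a b c d k = (0, 0, 0, z)) : M ^ k = φ z • 1 := by
  rw [pow_eq_iter4 φ h k, hk]; simp

theorem cubic_identity (M : Matrix (Fin 3) (Fin 3) F) :
    M ^ 3 = M.trace • M ^ 2 + (-M.adjugate.trace) • M + M.det • 1 := by
  ext i j
  fin_cases i <;> fin_cases j <;>
    simp [pow_succ, Matrix.mul_apply, Fin.sum_univ_three, Matrix.trace, Matrix.det_fin_three,
      Matrix.adjugate_fin_three, Matrix.smul_apply] <;> ring

theorem orderOf_of_pow {G : Type*} [Monoid G] {g : G} {n : ℕ} (h : g ^ n = 1) (hn : 0 < n)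
    (hprime : ∀ p : ℕ, p.Prime → p ∣ n → g ^ (n / p) ≠ 1) : orderOf g = n :=
  orderOf_eq_of_pow_and_pow_div_prime hn h hprime

end CfsgLib.Recog.Companion
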