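import Mathlib
import Cfsg.Prelude.Def_Classical
import Cfsg.Agent.Lib.Recog.Companion

/-!
The element orders of PSU(3,3).
-/

namespace CfsgLib.Recog.SU33

open Companion Matrix

/-- Coefficient model of the field with nine elements. -/
abbrev F9 := QuadraticAlgebra (ZMod 3) (-1) 0

/-- The order list. -/
def ords : List ℕ := [1, 2, 3, 4, 6, 7, 8, 12]

theorem mem_ords_of_dvd : ∀ d : ℕ, (d ∣ 7 ∨ d ∣ 8 ∨ d ∣ 12) → d ∈ ords := by
  intro d hd
  have hd0 : d ≠ 0 := by rintro rfl; simp at hd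
  have hle : d ≤ 12 := by
    rcases hd with h | h | h <;> have := Nat.le_of_dvd (by norm_num) h <;> omega
  interval_cases d <;> first | exact absurd rfl hd0 | (revert hd; decide)

theorem cases_decide : ∀ x y : ZMod 3,
    let t : F9 := ⟨x, y⟩
    iter3 t (-(t * (t * t))) 1 7 = (0, 0, 1) ∨ iter3 t (-(t * (t * t))) 1 8 = (0, 0, 1) ∨
      iter3 t (-(t * (t * t))) 1 12 = (0, 0, 1) := by
  decide +kernel

theorem witness7 : ∃ A : Matrix (Fin 3) (Fin 3) F9, Aᵀ * A.map (fun x => x * (x * x)) = 1 ∧ A.det = 1 ∧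
    A ^ 7 = 1 ∧ ∀ p : ℕ, p ≤ 7 → p.Prime → p ∣ 7 → A ^ (7 / p) ≠ 1 :=
  ⟨!![⟨0, 0⟩, ⟨0, 0⟩, ⟨0, 1⟩; ⟨1, 1⟩, ⟨1, 1⟩, ⟨0, 0⟩; ⟨1, 1⟩, ⟨2, 2⟩, ⟨0, 0⟩], by decide +kernel, by decide +kernel, by decide +kernel, by
    intro p hp hpp hd
    interval_cases p <;> first | (norm_num at hpp; done) | (norm_num at hd; done) | decide +kernel⟩

theorem witness8 : ∃ A : Matrix (Fin 3) (Fin 3) F9, Aᵀ * A.map (fun x => x * (x * x)) = 1 ∧ A.det = 1 ∧
    A ^ 8 = 1 ∧ ∀ p : ℕ, p ≤ 8 → p.Prime → p ∣ 8 → A ^ (8 / p) ≠ 1 :=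
  ⟨!![⟨0, 2⟩, ⟨0, 2⟩, ⟨2, 2⟩; ⟨0, 2⟩, ⟨0, 2⟩, ⟨1, 1⟩; ⟨2, 2⟩, ⟨1, 1⟩, ⟨0, 0⟩], by decide +kernel, by decide +kernel, by decide +kernel, by
    intro p hp hpp hd
    interval_cases p <;> first | (norm_num at hpp; done) | (norm_num at hd; done) | decide +kernel⟩

theorem witness12 : ∃ A : Matrix (Fin 3) (Fin 3) F9, Aᵀ * A.map (fun x => x * (x * x)) = 1 ∧ A.det = 1 ∧
    A ^ 12 = 1 ∧ ∀ p : ℕ, p ≤ 12 → p.Prime → p ∣ 12 → A ^ (12 / p) ≠ 1 :=
  ⟨!![⟨2, 2⟩, ⟨1, 0⟩, ⟨0, 2⟩; ⟨1, 0⟩, ⟨0, 1⟩, ⟨1, 2⟩; ⟨0, 1⟩, ⟨2, 1⟩, ⟨0, 1⟩], by decide +kernel, by decide +kernel, by decide +kernel, by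
    intro p hp hpp hd
    interval_cases p <;> first | (norm_num at hpp; done) | (norm_num at hd; done) | decide +kernel⟩

theorem norm_zero : ∀ z : ZMod 3 × ZMod 3, z.1 * z.1 + z.2 * z.2 = 0 → (⟨z.1, z.2⟩ : F9) = 0 := by
  decide +kernel

theorem model_d1 : (!![-1, 0, 0; 0, -1, 0; 0, 0, 1] : Matrix (Fin 3) (Fin 3) F9)ᵀ *
    (!![-1, 0, 0; 0, -1, 0; 0, 0, 1] : Matrix (Fin 3) (Fin 3) F9).map (fun x => x * (x * x)) = 1 ∧
    (!![-1, 0, 0; 0, -1, 0; 0, 0, 1] : Matrix (Fin 3) (Fin 3) F9).det = 1 := by decide +kernel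

theorem model_d2 : (!![1, 0, 0; 0, -1, 0; 0, 0, -1] : Matrix (Fin 3) (Fin 3) F9)ᵀ *
    (!![1, 0, 0; 0, -1, 0; 0, 0, -1] : Matrix (Fin 3) (Fin 3) F9).map (fun x => x * (x * x)) = 1 ∧
    (!![1, 0, 0; 0, -1, 0; 0, 0, -1] : Matrix (Fin 3) (Fin 3) F9).det = 1 := by decide +kernel

theorem model_c : (!![0, 0, 1; 1, 0, 0; 0, 1, 0] : Matrix (Fin 3) (Fin 3) F9)ᵀ *
    (!![0, 0, 1; 1, 0, 0; 0, 1, 0] : Matrix (Fin 3) (Fin 3) F9).map (fun x => x * (x * x)) = 1 ∧
    (!![0, 0, 1; 1, 0, 0; 0, 1, 0] : Matrix (Fin 3) (Fin 3) F9).det = 1 := by decide +kernel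

variable {F : Type*} [Field F]

theorem exists_hom [Fintype F] (hF : Fintype.card F = 9) :
    ∃ φ : F9 →+* F, Function.Bijective φ := by
  haveI : Fact (Nat.Prime 3) := ⟨Nat.prime_three⟩
  haveI : CharP F 3 := charP_of_card_eq_prime_pow (f := 2) (by norm_num [hF])
  letI : Algebra (ZMod 3) F := ZMod.algebra F 3
  obtain ⟨i, hi⟩ : IsSquare (-1 : F) := by rw [FiniteField.isSquare_neg_one_iff, hF]; decide
  let φ : F9 →ₐ[ZMod 3] F := QuadraticAlgebra.lift ⟨i, by rw [← hi]; simp⟩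
  refine ⟨φ.toRingHom, ?_⟩
  have hker : ∀ z : F9, φ z = 0 → z = 0 := by
    intro z hz
    refine norm_zero (z.re, z.im) ?_
    apply (algebraMap (ZMod 3) F).injective
    have hz' : algebraMap (ZMod 3) F z.re + algebraMap (ZMod 3) F z.im * i = 0 := by
      rw [← hz]
      simp [φ, QuadraticAlgebra.lift, Algebra.smul_def]
    simp only [map_add, map_mul, map_zero]
    have hi' : i * i = -1 := hi.symm
    linear_combination (algebraMap (ZMod 3) F z.re - algebraMap (ZMod 3) F z.im * i) * hz' +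
      (algebraMap (ZMod 3) F z.im * algebraMap (ZMod 3) F z.im) * hi'
  have hinj : Function.Injective φ := (injective_iff_map_eq_zero φ).2 hker
  haveI : Finite F9 := Finite.of_equiv _ (QuadraticAlgebra.equivProd (-1 : ZMod 3) 0).symm
  refine hinj.bijective_of_nat_card_le ?_
  rw [Nat.card_eq_fintype_card, hF, Nat.card_congr (QuadraticAlgebra.equivProd (-1 : ZMod 3) 0)]
  simp

theorem adj_trace {M : Matrix (Fin 3) (Fin 3) F} (hdet : M.det = 1)
    (hu : ∀ u v, Cfsg.hermForm 3 F 3 (M *ᵥ u) (M *ᵥ v) = Cfsg.hermForm 3 F 3 u v) [CharP F 3] :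
    M.adjugate.trace = M.trace ^ 3 := by
  haveI : Fact (Nat.Prime 3) := ⟨Nat.prime_three⟩
  have hMT : Mᵀ * M.map (fun x => x ^ 3) = 1 := by
    ext i j
    have h := hu (Pi.single i 1) (Pi.single j 1)
    simp only [Cfsg.hermForm, Matrix.mulVec_single_one, Matrix.col_apply] at h
    rw [Matrix.mul_apply]
    simp only [Matrix.transpose_apply, Matrix.map_apply, h]
    rw [Matrix.one_apply]
    by_cases hij : i = j
    · subst hij; rw [Finset.sum_eq_single i] <;> simp +contextual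
    · rw [if_neg hij, Finset.sum_eq_zero]
      intro k _
      by_cases hk : k = i
      · subst hk; simp [hij]
      · simp [hk]
  have hadj : Mᵀ.adjugate = M.map (fun x => x ^ 3) := by
    calc Mᵀ.adjugate = Mᵀ.adjugate * (Mᵀ * M.map (fun x => x ^ 3)) := by rw [hMT, mul_one]
      _ = _ := by rw [← mul_assoc, Matrix.adjugate_mul, Matrix.det_transpose, hdet, one_smul, one_mul]
  rw [← Matrix.trace_transpose, Matrix.adjugate_transpose, hadj]
  simp only [Matrix.trace, Matrix.diag, Matrix.map_apply]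
  rw [sum_pow_char]

theorem mem_SU_of_model (φ : F9 →+* F) (A : Matrix (Fin 3) (Fin 3) F9)
    (hA : Aᵀ * A.map (fun x => x * (x * x)) = 1) (hdet : A.det = 1) [CharP F 3] :
    ∃ g : Cfsg.SU 3 F 3, ((g : Matrix.SpecialLinearGroup (Fin 3) F) : Matrix (Fin 3) (Fin 3) F) = A.map φ := by
  haveI : Fact (Nat.Prime 3) := ⟨Nat.prime_three⟩
  have hdet' : (A.map φ).det = 1 := by
    rw [← RingHom.mapMatrix_apply, ← RingHom.map_det, hdet, map_one]
  refine ⟨⟨⟨A.map φ, hdet'⟩, ?_⟩, rfl⟩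
  intro u v
  have h1 : (A.map φ)ᵀ * (A.map φ).map (fun x => x ^ 3) = 1 := by
    have h2 : (A.map φ).map (fun x => x ^ 3) = (A.map (fun x => x * (x * x))).map φ := by
      ext i j; simp [pow_succ, mul_assoc]
    rw [h2, ← Matrix.transpose_map, ← Matrix.map_mul, hA, Matrix.map_one _ (map_zero φ) (map_one φ)]
  have h3 : ∀ (M : Matrix (Fin 3) (Fin 3) F) (w : Fin 3 → F) (i : Fin 3),
      ((M *ᵥ w) i) ^ 3 = ((M.map (fun x => x ^ 3)) *ᵥ (fun k => (w k) ^ 3)) i := by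
    intro M w i
    simp only [Matrix.mulVec, dotProduct, Matrix.map_apply, sum_pow_char, mul_pow]
  change Cfsg.hermForm 3 F 3 ((A.map φ) *ᵥ u) ((A.map φ) *ᵥ v) = _
  simp only [Cfsg.hermForm, h3]
  change ((A.map φ) *ᵥ u) ⬝ᵥ ((A.map φ).map (fun x => x ^ 3) *ᵥ fun k => v k ^ 3) = u ⬝ᵥ fun k => v k ^ 3
  rw [Matrix.dotProduct_mulVec, ← Matrix.mulVec_transpose, Matrix.mulVec_mulVec]
  have h4 : ((A.map φ).map (fun x => x ^ 3))ᵀ * A.map φ = 1 := by
    rw [← Matrix.transpose_one, ← h1, Matrix.transpose_mul, Matrix.transpose_transpose]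
  rw [h4, Matrix.one_mulVec]

theorem center_eq_bot (φ : F9 →+* F) [CharP F 3] :
    Subgroup.center (Cfsg.SU 3 F 3) = ⊥ := by
  haveI : Fact (Nat.Prime 3) := ⟨Nat.prime_three⟩
  rw [eq_bot_iff]
  intro z hz
  rw [Subgroup.mem_bot]
  obtain ⟨d1, hd1⟩ := mem_SU_of_model φ !![-1, 0, 0; 0, -1, 0; 0, 0, 1] model_d1.1 model_d1.2
  obtain ⟨d2, hd2⟩ := mem_SU_of_model φ !![1, 0, 0; 0, -1, 0; 0, 0, -1] model_d2.1 model_d2.2
  obtain ⟨c, hc⟩ := mem_SU_of_model φ !![0, 0, 1; 1, 0, 0; 0, 1, 0] model_c.1 model_c.2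
  set Z : Matrix (Fin 3) (Fin 3) F := ((z : Matrix.SpecialLinearGroup (Fin 3) F) : Matrix (Fin 3) (Fin 3) F) with hZ
  have hcomm : ∀ (g : Cfsg.SU 3 F 3) (A : Matrix (Fin 3) (Fin 3) F),
      ((g : Matrix.SpecialLinearGroup (Fin 3) F) : Matrix (Fin 3) (Fin 3) F) = A → A * Z = Z * A := by
    rintro g _ rfl
    exact congrArg (fun x : Cfsg.SU 3 F 3 => ((x : Matrix.SpecialLinearGroup (Fin 3) F) : Matrix (Fin 3) (Fin 3) F))
      (Subgroup.mem_center_iff.1 hz g)
  have e1 := hcomm d1 _ hd1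
  have e2 := hcomm d2 _ hd2
  have e3 := hcomm c _ hc
  have h2 : (2 : F) ≠ 0 := fun h => by
    have := (CharP.cast_eq_zero_iff F 3 2).1 (by exact_mod_cast h)
    omega
  have k1 : ∀ x : F, -x = x → x = 0 := fun x hx => by
    have : (2 : F) * x = 0 := by linear_combination -hx
    exact (mul_eq_zero.1 this).resolve_left h2
  have k2 : ∀ x : F, x = -x → x = 0 := fun x hx => k1 x hx.symm
  have a02 : Z 0 2 = 0 := k1 _ (by simpa [Matrix.mul_apply, Fin.sum_univ_three] using congrFun (congrFun e1 0) 2)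
  have a12 : Z 1 2 = 0 := k1 _ (by simpa [Matrix.mul_apply, Fin.sum_univ_three] using congrFun (congrFun e1 1) 2)
  have a20 : Z 2 0 = 0 := k2 _ (by simpa [Matrix.mul_apply, Fin.sum_univ_three] using congrFun (congrFun e1 2) 0)
  have a21 : Z 2 1 = 0 := k2 _ (by simpa [Matrix.mul_apply, Fin.sum_univ_three] using congrFun (congrFun e1 2) 1)
  have a01 : Z 0 1 = 0 := k2 _ (by simpa [Matrix.mul_apply, Fin.sum_univ_three] using congrFun (congrFun e2 0) 1)
  have a10 : Z 1 0 = 0 := k1 _ (by simpa [Matrix.mul_apply, Fin.sum_univ_three] using congrFun (congrFun e2 1) 0)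
  have b1 : Z 0 0 = Z 1 1 := by simpa [Matrix.mul_apply, Fin.sum_univ_three] using congrFun (congrFun e3 1) 0
  have b2 : Z 1 1 = Z 2 2 := by simpa [Matrix.mul_apply, Fin.sum_univ_three] using congrFun (congrFun e3 2) 1
  have hdet : Z.det = 1 := (z : Matrix.SpecialLinearGroup (Fin 3) F).2
  rw [Matrix.det_fin_three, a02, a12, a20, a21, a01, a10, ← b2, ← b1] at hdet
  have h0 : (Z 0 0 - 1) ^ 3 = 0 := by
    rw [sub_pow_char_of_commute 3 (Commute.one_right (Z 0 0))]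
    linear_combination hdet
  have hr : Z 0 0 = 1 := sub_eq_zero.1 (eq_zero_of_pow_eq_zero h0)
  apply Subtype.ext
  apply Subtype.ext
  change Z = 1
  ext i j
  fin_cases i <;> fin_cases j <;> simp [a02, a12, a20, a21, a01, a10, ← b2, ← b1, hr]

theorem range_orderOf_psu33 [Fintype F] (hF : Fintype.card F = 9) :
    Set.range (orderOf : Cfsg.PSU 3 F 3 → ℕ) = {k | k ∈ ords} := by
  haveI : Fact (Nat.Prime 3) := ⟨Nat.prime_three⟩
  haveI : CharP F 3 := charP_of_card_eq_prime_pow (f := 2) (by norm_num [hF])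
  obtain ⟨φ, hφ⟩ := exists_hom hF
  let π := QuotientGroup.mk' (Subgroup.center (Cfsg.SU 3 F 3))
  have hπ : Function.Injective π := by
    rw [← MonoidHom.ker_eq_bot_iff, QuotientGroup.ker_mk', center_eq_bot φ]
  apply Set.Subset.antisymm
  · rintro _ ⟨y, rfl⟩
    obtain ⟨g, rfl⟩ := QuotientGroup.mk'_surjective _ y
    rw [orderOf_injective π hπ]
    set M : Matrix (Fin 3) (Fin 3) F := ((g : Matrix.SpecialLinearGroup (Fin 3) F) : Matrix (Fin 3) (Fin 3) F) with hM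
    have hdet : M.det = 1 := (g : Matrix.SpecialLinearGroup (Fin 3) F).2
    obtain ⟨t, ht⟩ := hφ.2 M.trace
    have h : M ^ 3 = φ t • M ^ 2 + φ (-(t * (t * t))) • M + φ 1 • 1 := by
      have := cubic_identity M
      rw [adj_trace hdet g.2, hdet] at this
      rw [this, map_neg, map_mul, map_mul, map_one, ht, pow_three]
    have key : ∀ k, iter3 t (-(t * (t * t))) 1 k = (0, 0, 1) → orderOf g ∣ k := by
      intro k hk
      apply orderOf_dvd_of_pow_eq_one
      apply Subtype.ext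
      apply Subtype.ext
      rw [SubgroupClass.coe_pow, Matrix.SpecialLinearGroup.coe_pow, ← hM, pow_eq_of_iter3 φ h hk]
      simp
    refine mem_ords_of_dvd _ ?_
    rcases cases_decide t.re t.im with h | h | h
    exacts [Or.inl (key _ h), Or.inr (Or.inl (key _ h)), Or.inr (Or.inr (key _ h))]
  · have hd : ∀ {m n : ℕ}, m ∣ n → 0 < n →
        (∃ A : Matrix (Fin 3) (Fin 3) F9, Aᵀ * A.map (fun x => x * (x * x)) = 1 ∧ A.det = 1 ∧ A ^ n = 1 ∧
          ∀ p : ℕ, p ≤ n → p.Prime → p ∣ n → A ^ (n / p) ≠ 1) →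
        m ∈ Set.range (orderOf : Cfsg.PSU 3 F 3 → ℕ) := by
      rintro m n hmn hn ⟨A, h1, h2, h3, h4⟩
      obtain ⟨g, hg⟩ := mem_SU_of_model φ A h1 h2
      have hpow : ∀ k, ((g ^ k : Cfsg.SU 3 F 3) : Matrix.SpecialLinearGroup (Fin 3) F).1 = (A ^ k).map φ := by
        intro k
        rw [SubgroupClass.coe_pow]
        exact (Matrix.SpecialLinearGroup.coe_pow _ _).trans (by rw [hg]; exact (map_pow φ.mapMatrix A k).symm)
      have hog : orderOf g = n := by
        refine orderOf_of_pow ?_ hn fun p hp hd he => h4 p (Nat.le_of_dvd hn hd) hp hd ?_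
        · apply Subtype.ext; apply Subtype.ext
          rw [hpow, h3]
          exact Matrix.map_one _ (map_zero φ) (map_one φ)
        · have := hpow (n / p)
          rw [he] at this
          ext i j : 1
          apply hφ.1
          have h5 := congrFun (congrFun this i) j
          rw [Matrix.one_apply]
          simp [Matrix.one_apply] at h5
          rw [← h5]
          split_ifs <;> simp
      refine ⟨π g ^ (n / m), ?_⟩
      have ho : orderOf (π g) = n := (orderOf_injective π hπ g).trans hog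
      rw [← ho]
      exact orderOf_pow_orderOf_div (by omega) (ho.symm ▸ hmn)
    intro k hk
    change k ∈ ords at hk
    fin_cases hk
    exacts [hd (n := 8) (by norm_num) (by norm_num) witness8, hd (n := 8) (by norm_num) (by norm_num) witness8,
      hd (n := 12) (by norm_num) (by norm_num) witness12, hd (n := 8) (by norm_num) (by norm_num) witness8,
      hd (n := 12) (by norm_num) (by norm_num) witness12, hd (n := 7) (by norm_num) (by norm_num) witness7,
      hd (n := 8) (by norm_num) (by norm_num) witness8, hd (n := 12) (by norm_num) (by norm_num) witness12]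

end CfsgLib.Recog.SU33
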