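import Mathlib

/-!
Element orders of PGL(2,q) for odd q.
-/

namespace CfsgLib.Recog.PGL2

open Matrix QuadraticAlgebra

variable {F : Type*} [Field F] [Fintype F]

theorem charmat_two (M : Matrix (Fin 2) (Fin 2) F) :
    M * M = M.trace • M - M.det • 1 := by
  ext i j
  fin_cases i <;> fin_cases j <;>
    simp [Matrix.mul_apply, Fin.sum_univ_two, Matrix.trace, Matrix.det_fin_two] <;> ring

theorem pow_card_trichotomy {p n : ℕ} [Fact p.Prime] [CharP F p] (hp : p ≠ 2) (hq : Fintype.card F = p ^ n)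
    (M : Matrix (Fin 2) (Fin 2) F) :
    (IsSquare (M.trace ^ 2 - 4 * M.det) ∧ M.trace ^ 2 - 4 * M.det ≠ 0 ∧ M ^ Fintype.card F = M) ∨
      (¬ IsSquare (M.trace ^ 2 - 4 * M.det) ∧ M ^ (Fintype.card F + 1) = M.det • 1) ∨
      (M.trace ^ 2 - 4 * M.det = 0 ∧ ((2 : F) • M - M.trace • 1) ^ 2 = 0 ∧ M ^ p = ((M.trace / 2) ^ p) • 1) := by
  set t := M.trace
  set d := M.det
  set N := (2 : F) • M - t • 1 with hN
  have hF2 : ringChar F ≠ 2 := by rw [ringChar.eq F p]; exact hp
  have h2 : (2 : F) ≠ 0 := Ring.two_ne_zero hF2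
  have hMM := charmat_two M
  have hN2 : N ^ 2 = (t ^ 2 - 4 * d) • 1 := by
    rw [hN, pow_two, sub_mul, mul_sub, mul_sub]
    simp only [Matrix.smul_mul, Matrix.mul_smul, Matrix.mul_one, Matrix.one_mul, smul_smul, hMM]
    module
  haveI : CharP (Matrix (Fin 2) (Fin 2) F) p := inferInstance
  have hcomm : Commute ((2 : F) • M) (t • 1) := ((Commute.one_right M).smul_right t).smul_left 2
  by_cases hΔ : t ^ 2 - 4 * d = 0
  · refine Or.inr (Or.inr ⟨hΔ, by rw [hN2, hΔ, zero_smul], ?_⟩)
    have hNp : N ^ p = 0 := by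
      have : 2 ≤ p := (Fact.out : p.Prime).two_le
      rw [show p = 2 + (p - 2) by omega, pow_add, hN2, hΔ, zero_smul, zero_mul]
    rw [hN, sub_pow_char_of_commute p hcomm, smul_pow, smul_pow, one_pow, sub_eq_zero] at hNp
    rw [div_pow, div_eq_inv_mul, ← smul_smul, ← hNp, smul_smul, inv_mul_cancel₀ (pow_ne_zero p h2), one_smul]
  set q := Fintype.card F with hqdef
  have hodd : q % 2 = 1 := FiniteField.odd_card_of_char_ne_two hF2
  have hNq : N ^ q = (t ^ 2 - 4 * d) ^ (q / 2) • N := by
    conv_lhs => rw [show q = 2 * (q / 2) + 1 by omega]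
    rw [pow_succ, pow_mul, hN2, smul_pow, one_pow, Matrix.smul_mul, Matrix.one_mul]
  have hNq' : N ^ q = (2 : F) • M ^ q - t • 1 := by
    rw [hN, hq, sub_pow_char_pow_of_commute _ _ hcomm, smul_pow, smul_pow, one_pow, ← hq, FiniteField.pow_card,
      FiniteField.pow_card]
  rcases FiniteField.pow_dichotomy hF2 hΔ with hs | hs
  · refine Or.inl ⟨(FiniteField.isSquare_iff hF2 hΔ).2 hs, hΔ, ?_⟩
    rw [hs, one_smul, hNq', hN, sub_left_inj] at hNq
    exact smul_right_injective _ h2 hNq
  · refine Or.inr (Or.inl ⟨fun h => ?_, ?_⟩)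
    · rw [(FiniteField.isSquare_iff hF2 hΔ).1 h] at hs
      exact Ring.neg_one_ne_one_of_char_ne_two hF2 hs.symm
    · rw [hs, neg_one_smul, hNq', hN] at hNq
      have h3 : M ^ q = t • 1 - M := by
        apply smul_right_injective _ h2
        change (2 : F) • M ^ q = (2 : F) • (t • 1 - M)
        rw [eq_add_of_sub_eq hNq]
        module
      rw [pow_succ, h3, sub_mul, hMM, Matrix.smul_mul, Matrix.one_mul]
      module

/-- PGL(2,F) as in the statements. -/
abbrev PGL (F : Type*) [Field F] :=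
  Matrix.GeneralLinearGroup (Fin 2) F ⧸ Subgroup.center (Matrix.GeneralLinearGroup (Fin 2) F)

theorem mk_eq_one_of_scalar {g : Matrix.GeneralLinearGroup (Fin 2) F} {c : F}
    (h : (g : Matrix (Fin 2) (Fin 2) F) = c • 1) :
    QuotientGroup.mk' (Subgroup.center (Matrix.GeneralLinearGroup (Fin 2) F)) g = 1 := by
  rw [QuotientGroup.mk'_apply, QuotientGroup.eq_one_iff, Subgroup.mem_center_iff]
  intro x
  apply Units.ext
  rw [Units.val_mul, Units.val_mul, h, Matrix.mul_smul, Matrix.smul_mul, Matrix.mul_one, Matrix.one_mul]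

theorem scalar_of_mk_eq_one {g : Matrix.GeneralLinearGroup (Fin 2) F}
    (h : QuotientGroup.mk' (Subgroup.center (Matrix.GeneralLinearGroup (Fin 2) F)) g = 1) :
    (g : Matrix (Fin 2) (Fin 2) F) 0 1 = 0 ∧ (g : Matrix (Fin 2) (Fin 2) F) 1 0 = 0 ∧
      (g : Matrix (Fin 2) (Fin 2) F) 0 0 = (g : Matrix (Fin 2) (Fin 2) F) 1 1 := by
  rw [QuotientGroup.mk'_apply, QuotientGroup.eq_one_iff, Subgroup.mem_center_iff] at h
  let u : Matrix.GeneralLinearGroup (Fin 2) F :=
    ⟨!![1, 1; 0, 1], !![1, -1; 0, 1], by ext i j; fin_cases i <;> fin_cases j <;> simp [Matrix.mul_apply, Fin.sum_univ_two],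
      by ext i j; fin_cases i <;> fin_cases j <;> simp [Matrix.mul_apply, Fin.sum_univ_two]⟩
  let w : Matrix.GeneralLinearGroup (Fin 2) F :=
    ⟨!![1, 0; 1, 1], !![1, 0; -1, 1], by ext i j; fin_cases i <;> fin_cases j <;> simp [Matrix.mul_apply, Fin.sum_univ_two],
      by ext i j; fin_cases i <;> fin_cases j <;> simp [Matrix.mul_apply, Fin.sum_univ_two]⟩
  have hu := congrArg Units.val (h u)
  have hw := congrArg Units.val (h w)
  have a := congrFun (congrFun hu 0) 0
  have b := congrFun (congrFun hu 0) 1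
  have c := congrFun (congrFun hw 0) 0
  simp [u, Matrix.mul_apply, Fin.sum_univ_two] at a b
  simp [w, Matrix.mul_apply, Fin.sum_univ_two] at c
  exact ⟨c, a, by linear_combination -b⟩

theorem pow_mk_cases {p n : ℕ} [Fact p.Prime] [CharP F p] (hp : p ≠ 2) (hq : Fintype.card F = p ^ n)
    (g : Matrix.GeneralLinearGroup (Fin 2) F) :
    orderOf (QuotientGroup.mk' (Subgroup.center (Matrix.GeneralLinearGroup (Fin 2) F)) g) ∣ Fintype.card F - 1 ∨
      orderOf (QuotientGroup.mk' (Subgroup.center (Matrix.GeneralLinearGroup (Fin 2) F)) g) ∣ Fintype.card F + 1 ∨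
      orderOf (QuotientGroup.mk' (Subgroup.center (Matrix.GeneralLinearGroup (Fin 2) F)) g) ∣ p := by
  have key : ∀ (k : ℕ) (c : F), ((g : Matrix (Fin 2) (Fin 2) F)) ^ k = c • 1 →
      orderOf (QuotientGroup.mk' (Subgroup.center (Matrix.GeneralLinearGroup (Fin 2) F)) g) ∣ k := by
    intro k c h
    apply orderOf_dvd_of_pow_eq_one
    rw [← map_pow]
    exact mk_eq_one_of_scalar (c := c) (by rw [Units.val_pow_eq_pow_val]; exact h)
  rcases pow_card_trichotomy hp hq (g : Matrix (Fin 2) (Fin 2) F) with ⟨-, -, h⟩ | ⟨-, h⟩ | ⟨-, -, h⟩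
  · left
    refine key _ 1 ?_
    have h1 : g ^ (Fintype.card F - 1) * g = 1 * g := by
      rw [one_mul, ← pow_succ, Nat.sub_add_cancel Fintype.card_pos]
      exact Units.ext (by rw [Units.val_pow_eq_pow_val]; exact h)
    rw [← Units.val_pow_eq_pow_val, mul_right_cancel h1, Units.val_one, one_smul]
  · exact Or.inr (Or.inl (key _ _ h))
  · exact Or.inr (Or.inr (key _ _ h))

/-- The regular representation of a quadratic algebra. -/
def quadRep (ε : F) : QuadraticAlgebra F ε 0 →+* Matrix (Fin 2) (Fin 2) F :=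
  { toFun := fun z => !![z.re, ε * z.im; z.im, z.re]
    map_one' := by ext i j; fin_cases i <;> fin_cases j <;> simp
    map_mul' := fun z w => by
      ext i j; fin_cases i <;> fin_cases j <;> simp [Matrix.mul_apply, Fin.sum_univ_two] <;> ring
    map_zero' := by ext i j; fin_cases i <;> fin_cases j <;> simp
    map_add' := fun z w => by
      ext i j; fin_cases i <;> fin_cases j <;> simp <;> ring }

theorem exists_quadratic_generator (hF2 : ringChar F ≠ 2) :
    ∃ ε : F, ¬ IsSquare ε ∧ ∃ a b : F, ∀ j : ℕ,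
      (((!![a, ε * b; b, a] : Matrix (Fin 2) (Fin 2) F) ^ j) 1 0 = 0 → Fintype.card F + 1 ∣ j) ∧
      ∃ x y : F, (!![a, ε * b; b, a] : Matrix (Fin 2) (Fin 2) F) ^ j = !![x, ε * y; y, x] := by
  obtain ⟨ε, hε⟩ := FiniteField.exists_nonsquare hF2
  refine ⟨ε, hε, ?_⟩
  haveI : Fact (∀ r : F, r ^ 2 ≠ ε + 0 * r) :=
    ⟨fun r h => hε ⟨r, by rw [zero_mul, add_zero] at h; rw [← h, pow_two]⟩⟩
  let φ : F × F ≃ (QuadraticAlgebra F ε 0) := (QuadraticAlgebra.equivProd ε 0).symm
  haveI : Finite (QuadraticAlgebra F ε 0) := Finite.of_equiv _ φ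
  have hK : Nat.card (QuadraticAlgebra F ε 0)ˣ = Fintype.card F * Fintype.card F - 1 := by
    rw [Nat.card_units, ← Nat.card_congr φ, Nat.card_prod, Nat.card_eq_fintype_card]
  obtain ⟨γ, hγ⟩ := IsCyclic.exists_ofOrder_eq_natCard (α := (QuadraticAlgebra F ε 0)ˣ)
  let ρ : (QuadraticAlgebra F ε 0) →+* Matrix (Fin 2) (Fin 2) F := quadRep ε
  refine ⟨(γ : (QuadraticAlgebra F ε 0)).re, (γ : (QuadraticAlgebra F ε 0)).im, fun j => ?_⟩
  have hpow : (!![(γ : (QuadraticAlgebra F ε 0)).re, ε * (γ : (QuadraticAlgebra F ε 0)).im; (γ : (QuadraticAlgebra F ε 0)).im, (γ : (QuadraticAlgebra F ε 0)).re] : Matrix (Fin 2) (Fin 2) F) ^ j =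
      !![((γ : (QuadraticAlgebra F ε 0)) ^ j).re, ε * ((γ : (QuadraticAlgebra F ε 0)) ^ j).im; ((γ : (QuadraticAlgebra F ε 0)) ^ j).im, ((γ : (QuadraticAlgebra F ε 0)) ^ j).re] :=
    (map_pow ρ (γ : (QuadraticAlgebra F ε 0)) j).symm
  refine ⟨fun h0 => ?_, _, _, hpow⟩
  rw [hpow] at h0
  have him : ((γ : (QuadraticAlgebra F ε 0)) ^ j).im = 0 := by simpa using h0
  set c := ((γ : (QuadraticAlgebra F ε 0)) ^ j).re
  have hc : ((γ : (QuadraticAlgebra F ε 0)) ^ j) = algebraMap F (QuadraticAlgebra F ε 0) c := QuadraticAlgebra.ext (by simp [c]) (by simp [him])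
  have hc0 : c ≠ 0 := by
    intro h
    rw [h, map_zero] at hc
    exact pow_ne_zero j γ.ne_zero hc
  have h1 : γ ^ (j * (Fintype.card F - 1)) = 1 := by
    apply Units.ext
    rw [Units.val_pow_eq_pow_val, pow_mul, hc, ← map_pow, FiniteField.pow_card_sub_one_eq_one c hc0, map_one,
      Units.val_one]
  have h2 := orderOf_dvd_of_pow_eq_one h1
  rw [hγ, hK] at h2
  have hq1 : 1 < Fintype.card F := Fintype.one_lt_card
  rw [show Fintype.card F * Fintype.card F - 1 = (Fintype.card F + 1) * (Fintype.card F - 1) by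
    rw [← mul_self_tsub_one]] at h2
  exact (Nat.mul_dvd_mul_iff_right (by omega)).1 h2

theorem range_orderOf_pgl {p n : ℕ} [Fact p.Prime] [CharP F p] (hp : p ≠ 2) (hq : Fintype.card F = p ^ n) :
    Set.range (orderOf : PGL F → ℕ) =
      {d | d ∣ Fintype.card F - 1 ∨ d ∣ Fintype.card F + 1 ∨ d ∣ p} := by
  haveI : Finite (Matrix.GeneralLinearGroup (Fin 2) F) := inferInstance
  apply Set.Subset.antisymm
  · rintro _ ⟨y, rfl⟩
    obtain ⟨g, rfl⟩ := QuotientGroup.mk'_surjective _ y
    exact pow_mk_cases hp hq g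
  · have hF2 : ringChar F ≠ 2 := by rw [ringChar.eq F p]; exact hp
    let π := QuotientGroup.mk' (Subgroup.center (Matrix.GeneralLinearGroup (Fin 2) F))
    have hd : ∀ {m k : ℕ}, m ∣ k → (∃ g, orderOf (π g) = k) → m ∈ Set.range (orderOf : PGL F → ℕ) := by
      rintro m k hmk ⟨g, rfl⟩
      exact ⟨(π g) ^ (orderOf (π g) / m), orderOf_pow_orderOf_div (orderOf_pos _).ne' hmk⟩
    have hminus : ∃ g, orderOf (π g) = Fintype.card F - 1 := by
      obtain ⟨z, hz⟩ := IsCyclic.exists_ofOrder_eq_natCard (α := Fˣ)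
      rw [Nat.card_units, Nat.card_eq_fintype_card] at hz
      let g : Matrix.GeneralLinearGroup (Fin 2) F :=
        Matrix.GeneralLinearGroup.mkOfDetNeZero !![(z : F), 0; 0, 1] (by simp [Matrix.det_fin_two])
      refine ⟨g, Nat.dvd_antisymm ?_ ?_⟩
      · apply orderOf_dvd_of_pow_eq_one
        rw [← map_pow]
        refine mk_eq_one_of_scalar (c := 1) ?_
        have hgp : ∀ j, ((g : Matrix (Fin 2) (Fin 2) F)) ^ j = !![(z : F) ^ j, 0; 0, 1] := by
          intro j
          induction j with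
          | zero => ext i k; fin_cases i <;> fin_cases k <;> simp
          | succ j ih =>
            rw [pow_succ, ih]
            ext i k; fin_cases i <;> fin_cases k <;> simp [g, Matrix.mul_apply, Fin.sum_univ_two, pow_succ]
        rw [Units.val_pow_eq_pow_val, hgp, FiniteField.pow_card_sub_one_eq_one _ z.ne_zero, one_smul]
        ext i k; fin_cases i <;> fin_cases k <;> simp
      · rw [← hz]
        apply orderOf_dvd_of_pow_eq_one
        apply Units.ext
        have h := scalar_of_mk_eq_one (g := g ^ orderOf (π g)) (by rw [map_pow]; exact pow_orderOf_eq_one _)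
        have hgp : ∀ j, ((g : Matrix (Fin 2) (Fin 2) F)) ^ j = !![(z : F) ^ j, 0; 0, 1] := by
          intro j
          induction j with
          | zero => ext i k; fin_cases i <;> fin_cases k <;> simp
          | succ j ih =>
            rw [pow_succ, ih]
            ext i k; fin_cases i <;> fin_cases k <;> simp [g, Matrix.mul_apply, Fin.sum_univ_two, pow_succ]
        rw [Units.val_pow_eq_pow_val, hgp] at h
        simpa using h.2.2
    have hplus : ∃ g, orderOf (π g) = Fintype.card F + 1 := by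
      obtain ⟨ε, hε, a, b, hab⟩ := exists_quadratic_generator (F := F) hF2
      have hdet : (!![a, ε * b; b, a] : Matrix (Fin 2) (Fin 2) F).det ≠ 0 := by
        rw [Matrix.det_fin_two_of]
        intro h
        rcases eq_or_ne b 0 with hb | hb
        · have h1 := (hab 1).1 (by simp [hb])
          have h2 := Nat.le_of_dvd one_pos h1
          have := Fintype.one_lt_card (α := F)
          omega
        · exact hε ⟨a / b, by field_simp; linear_combination -h⟩
      let g : Matrix.GeneralLinearGroup (Fin 2) F := Matrix.GeneralLinearGroup.mkOfDetNeZero _ hdet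
      refine ⟨g, ?_⟩
      have hdiv : Fintype.card F + 1 ∣ orderOf (π g) := by
        have h := scalar_of_mk_eq_one (g := g ^ orderOf (π g)) (by rw [map_pow]; exact pow_orderOf_eq_one _)
        rw [Units.val_pow_eq_pow_val] at h
        exact (hab _).1 h.2.1
      have hq1 : 1 < Fintype.card F := Fintype.one_lt_card
      rcases pow_mk_cases hp hq g with h | h | h
      · have := Nat.le_of_dvd (by omega) (hdiv.trans h); omega
      · exact Nat.dvd_antisymm h hdiv
      · have h' := Nat.le_of_dvd (Fact.out : p.Prime).pos (hdiv.trans h)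
        have hn : n ≠ 0 := by rintro rfl; rw [pow_zero] at hq; omega
        have := Nat.le_self_pow hn p
        omega
    have hp' : ∃ g, orderOf (π g) = p := by
      let g : Matrix.GeneralLinearGroup (Fin 2) F :=
        Matrix.GeneralLinearGroup.mkOfDetNeZero !![1, 1; 0, 1] (by simp [Matrix.det_fin_two])
      refine ⟨g, orderOf_eq_prime ?_ ?_⟩
      · rw [← map_pow]
        refine mk_eq_one_of_scalar (c := 1) ?_
        have hgp : ∀ j : ℕ, ((g : Matrix (Fin 2) (Fin 2) F)) ^ j = !![1, (j : F); 0, 1] := by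
          intro j
          induction j with
          | zero => ext i k; fin_cases i <;> fin_cases k <;> simp
          | succ j ih =>
            rw [pow_succ, ih]
            ext i k; fin_cases i <;> fin_cases k <;> simp [g, Matrix.mul_apply, Fin.sum_univ_two] <;> ring
        rw [Units.val_pow_eq_pow_val, hgp, CharP.cast_eq_zero, one_smul]
        ext i k; fin_cases i <;> fin_cases k <;> simp
      · intro h
        have := (scalar_of_mk_eq_one h).1
        simp [g] at this
    rintro d (h | h | h)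
    exacts [hd h hminus, hd h hplus, hd h hp']

end CfsgLib.Recog.PGL2
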