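import Cfsg.Agent.Lib.Recog.JankoOneSpectrumCert
import Cfsg.Agent.Lib.Sporadic.J1

/-! The element orders of `Cfsg.Spor.J1`. -/

set_option autoImplicit false

namespace CfsgLib.Recog.JankoOneSpectrum

open CfsgLib.Sporadic CfsgLib.Sporadic.J1 Matrix
open Cfsg.Spor (jankoX jankoY)

local notation "GL7" => GL (Fin 7) (ZMod 11)

/-- The vector coded in the low slots. -/
noncomputable abbrev rvec (a : ℕ) : Fin 7 → ZMod 11 := dec a 0

theorem pack_seven (f : ℕ → ℕ) : pack 12 f 7 = f 0 + (f 1) <<< 12 + (f 2) <<< 24 + (f 3) <<< 36 +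
    (f 4) <<< 48 + (f 5) <<< 60 + (f 6) <<< 72 := by
  change 0 + (f 0) <<< 0 + (f 1) <<< 12 + (f 2) <<< 24 + (f 3) <<< 36 + (f 4) <<< 48 +
    (f 5) <<< 60 + (f 6) <<< 72 = _
  rw [Nat.shiftLeft_zero, Nat.zero_add]

theorem sumUpto_seven (f : ℕ → ℕ) :
    sumUpto f 7 = f 0 + f 1 + f 2 + f 3 + f 4 + f 5 + f 6 := by
  change 0 + f 0 + f 1 + f 2 + f 3 + f 4 + f 5 + f 6 = _
  rw [Nat.zero_add]

theorem mask_eq : mask = maskP 7 12 4 := by decide +kernel

theorem vm_eq (a b : ℕ) :
    vm a b = pack 12 (fun j => dig 12 (rowP 7 12 4 a (b &&& maskP 7 12 4) 0) j % 11) 7 := by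
  rw [← mask_eq]
  unfold vm
  generalize b &&& mask = c
  have h16 : ∀ x : ℕ, x % 2 ^ 12 % 2 ^ 4 = x % 16 := fun x => Nat.mod_mod_of_dvd x ⟨256, rfl⟩
  simp only [pack_seven, rowP, sumUpto_seven, entP, dig, h16, Nat.zero_mul, Nat.zero_add,
    Nat.reduceMul, Nat.mul_zero, Nat.shiftRight_zero]
  rfl

theorem dec_vm (a b : ℕ) : rvec (vm a b) = rvec a ᵥ* dec b := by
  have hlt : ∀ j < 7, dig 12 (rowP 7 12 4 a (b &&& maskP 7 12 4) 0) j % 11 < 2 ^ 12 :=
    fun j _ => (Nat.mod_lt _ (by norm_num)).trans (by norm_num)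
  funext j
  have h := congrFun (congrFun (hmul a b) 0) j
  rw [Matrix.mul_apply] at h
  have e : rvec (vm a b) j = dec (mul a b) 0 j := by
    simp only [rvec, dec, decP, Matrix.of_apply, entP, Fin.val_zero, zero_mul, zero_add]
    rw [vm_eq, dig_pack hlt j.2]
    have h2 : dig 12 (mul a b) j.1 = dig 12 (rowP 7 12 4 a (b &&& maskP 7 12 4) 0) j % 11 := by
      have h3 : ∀ i < 7, pack 12 (fun l => dig 12 (rowP 7 12 4 a (b &&& maskP 7 12 4) i) l % 11) 7 <
          2 ^ (12 * 7) := fun i _ => pack_lt fun l _ => (Nat.mod_lt _ (by norm_num)).trans (by norm_num)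
      have h4 := dig_dig (w := 12) (n := 7) (c := mulP 7 12 4 11 a b) (i := 0) j.2
      rw [zero_mul, zero_add] at h4
      rw [show mul a b = mulP 7 12 4 11 a b from rfl, ← h4]
      unfold mulP
      rw [dig_pack h3 (by norm_num : 0 < 7), dig_pack hlt j.2]
    rw [h2]
  rw [e, h]
  rfl

/-- The right action on the coded vector. -/
noncomputable def act (g : GL7) : Fin 7 → ZMod 11 := rvec vecCode ᵥ* (g : Matrix (Fin 7) (Fin 7) (ZMod 11))

theorem act_mul (g h : GL7) : act (g * h) = act g ᵥ* (h : Matrix (Fin 7) (Fin 7) (ZMod 11)) := by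
  rw [act, act, Units.val_mul, ← Matrix.vecMul_vecMul]

theorem act_code {g : GL7} {c : ℕ} (h : emb g = dec c) : act g = rvec (vm vecCode c) := by
  rw [dec_vm]
  exact congrArg (rvec vecCode ᵥ* ·) h

theorem act_mul_code {g h : GL7} {c u : ℕ} (hg : act g = rvec u) (h' : emb h = dec c) :
    act (g * h) = rvec (vm u c) := by
  rw [act_mul, hg, dec_vm]
  exact congrArg (rvec u ᵥ* ·) h'

/-- Row codes below `2 ^ 84` with reduced digits are determined by their vectors. -/
theorem vm_inj {a b a' b' : ℕ} (h : rvec (vm a b) = rvec (vm a' b')) : vm a b = vm a' b' := by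
  rw [vm_eq, vm_eq] at h ⊢
  rw [pack_eq_sum, pack_eq_sum]
  refine Finset.sum_congr rfl fun j hj => ?_
  congr 1
  have hlt : ∀ c i, i < 7 → dig 12 c i % 11 < 2 ^ 12 :=
    fun c i _ => (Nat.mod_lt _ (by norm_num)).trans (by norm_num)
  have h' := congrFun h ⟨j, Finset.mem_range.1 hj⟩
  simp only [rvec, dec, decP, Matrix.of_apply, entP, Fin.val_zero, zero_mul, zero_add] at h'
  rw [dig_pack (fun i hi => hlt _ i hi) (Finset.mem_range.1 hj),
    dig_pack (fun i hi => hlt _ i hi) (Finset.mem_range.1 hj),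
    ZMod.natCast_eq_natCast_iff'] at h'
  omega

theorem vecCode_eq : vm vecCode one = vecCode := by decide +kernel

theorem act_one : act 1 = rvec vecCode := by
  rw [act, Units.val_one, Matrix.vecMul_one]

theorem code_of_act_eq_act_one {g : GL7} {a b : ℕ} (hg : act g = rvec (vm a b)) (h : act g = act 1) :
    vm a b = vecCode := by
  rw [← vecCode_eq]
  exact vm_inj (by rw [← hg, h, act_one, vecCode_eq])

/-- A transversal element. -/
theorem top_mem : ∀ i < 266, CodeMem emb dec Cfsg.Spor.J1 (topT.get i) :=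
  table_mem hmul hone gens_mem gens_par

theorem j1_factor (g : GL7) (hg : g ∈ Cfsg.Spor.J1) :
    ∃ i < 266, ∃ t : GL7, emb t = dec (topT.get i) ∧
      ∃ k ∈ kGroup, g = t * k := by
  have h := exists_factor (emb := emb) (dec := dec) hmul hone (n := 266) (T := topT) (fac := topFac)
    (gens := gens) (lower := [(660, kT)]) (K := kGroup) (S := {jankoX, jankoY}) (by norm_num)
    (by decide +kernel) (by
      rintro s (rfl | rfl)
      · exact ⟨_, by simp [gens], emb_X⟩
      · exact ⟨_, by simp [gens], emb_Y⟩)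
    (by
      intro p hp
      obtain rfl := List.mem_singleton.1 hp
      exact ⟨by norm_num, card_kGroup.2⟩) top_fac
  obtain ⟨t, ⟨i, hi, ht⟩, k, hk, rfl⟩ := h hg
  exact ⟨i, hi, t, ht, k, hk, rfl⟩

theorem k_code (k : GL7) (hk : k ∈ kGroup) : ∃ a < 660, emb k = dec (kT.get a) := by
  have h := exists_factor (emb := emb) (dec := dec) hmul hone (n := 660) (T := kT) (fac := kFac)
    (gens := kGens) (lower := []) (K := (⊥ : Subgroup GL7)) (S := genSet emb dec kGens)
    (by norm_num) (by decide +kernel) (fun s hs => hs) (by simp) k_fac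
  obtain ⟨t, ⟨i, hi, ht⟩, e, he, rfl⟩ := h hk
  rw [Subgroup.mem_bot.1 he]
  exact ⟨i, hi, by rw [map_mul, map_one, mul_one]; exact ht⟩

/-- The vector has trivial stabilizer. -/
theorem eq_one_of_act {g : GL7} (hg : g ∈ Cfsg.Spor.J1) (h : act g = act 1) : g = 1 := by
  obtain ⟨i, hi, t, ht, k, hk, rfl⟩ := j1_factor g hg
  obtain ⟨b, hb, hkb⟩ := k_code _ (kGroup.inv_mem hk)
  have h' : act t = act k⁻¹ := by
    rw [← mul_inv_cancel_right t k, act_mul, h, ← act_mul, one_mul]
  have he : vm vecCode (topT.get i) = vm vecCode (kT.get b) :=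
    vm_inj (by rw [← act_code ht, ← act_code hkb, h'])
  have hi0 : i = 0 := by
    by_contra h0
    have hgp := allFrom_eq_true.1 top_gap i (by omega) (by omega)
    simp only [Bool.and_eq_true, Nat.blt_eq] at hgp
    have hp := of_allFrom_zero img_pos hb
    simp only [Bool.and_eq_true, Nat.blt_eq, beq_iff_eq] at hp
    have hmono : ∀ x y, x < y → y < 662 → imgTab.get x < imgTab.get y := by
      intro x y hxy hy
      induction y with
      | zero => omega
      | succ y ih =>
        have hs := of_allFrom_zero img_sorted (show y < 661 by omega)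
        rw [Nat.blt_eq] at hs
        rcases Nat.lt_or_ge x y with hl | hl
        · exact (ih hl (by omega)).trans hs
        · rwa [show x = y by omega]
    rw [he, ← hp.2] at hgp
    rcases lt_trichotomy (imgPos.get b) (gapTab.get i) with hl | hl | hl
    · have := hmono _ _ hl (by omega)
      omega
    · rw [hl] at hgp
      omega
    · rcases eq_or_lt_of_le (show gapTab.get i + 1 ≤ imgPos.get b from hl) with hl' | hl'
      · rw [hl'] at hgp
        omega
      · have := hmono _ _ hl' hp.1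
        omega
  subst hi0
  have ht1 : t = 1 := by
    refine hemb ?_
    rw [ht, map_one, show topT.get 0 = one from by decide +kernel, hone]
  subst ht1
  rw [one_mul] at h ⊢
  obtain ⟨a, ha, hka⟩ := k_code k hk
  have hv := code_of_act_eq_act_one (act_code hka) h
  rcases Nat.eq_zero_or_pos a with rfl | hpos
  · refine hemb ?_
    rw [hka, map_one, show kT.get 0 = one from by decide +kernel, hone]
  · have := allFrom_eq_true.1 k_fixfree a hpos (by omega)
    simp [hv] at this

theorem act_inj {g h : GL7} (hg : g ∈ Cfsg.Spor.J1) (hh : h ∈ Cfsg.Spor.J1)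
    (he : act g = act h) : g = h := by
  refine mul_inv_eq_one.1 (eq_one_of_act (Subgroup.mul_mem _ hg (Subgroup.inv_mem _ hh)) ?_)
  rw [act_mul, he, ← act_mul, mul_inv_cancel]

theorem act_pow {t k : GL7} {i b : ℕ} (ht : emb t = dec (topT.get i))
    (hk : emb k = dec (kT.get b)) (m : ℕ) :
    act ((t * k) ^ m) = rvec (iterVm vecCode (topT.get i) (kT.get b) m) := by
  induction m with
  | zero => rw [pow_zero, act_one]; rfl
  | succ m ih =>
    rw [pow_succ, ← mul_assoc]
    exact act_mul_code (act_mul_code ih ht) hk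

theorem iterVm_eq_code {m i b : ℕ} (hm : 0 < m)
    (h : rvec (iterVm vecCode (topT.get i) (kT.get b) m) = rvec vecCode) :
    iterVm vecCode (topT.get i) (kT.get b) m = vecCode := by
  obtain ⟨m, rfl⟩ := Nat.exists_eq_succ_of_ne_zero hm.ne'
  rw [← vecCode_eq] at h ⊢
  conv_lhs => rw [vecCode_eq]
  change vm (vm (iterVm vecCode (topT.get i) (kT.get b) m) (topT.get i)) (kT.get b) = _
  refine vm_inj ?_
  rw [vecCode_eq] at h ⊢
  exact h

theorem ord_ok {v : ℕ} (hv : v < 3300) : ordOK v = true := by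
  have h : allFrom 0 (660 + 660 + 660 + 660 + 660) ordOK = true :=
    allFrom_append (allFrom_append (allFrom_append (allFrom_append ord_ok₀ ord_ok₁) ord_ok₂)
      ord_ok₃) ord_ok₄
  exact of_allFrom_zero h hv

theorem pow_eq_one_of_code {t k : GL7} {v : ℕ} (hv : v < 3300)
    (ht : emb t = dec (repT v)) (hk : emb k = dec (kT.get (v % 660)))
    (htk : t * k ∈ Cfsg.Spor.J1) : ∃ n ∈ allowed, (t * k) ^ n = 1 := by
  have h := ord_ok hv
  simp only [ordOK, Bool.and_eq_true, beq_iff_eq, List.contains_iff_mem] at h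
  refine ⟨_, h.1, eq_one_of_act (Subgroup.pow_mem _ htk _) ?_⟩
  rw [act_pow (i := repTab.get (v / 660)) ht hk, act_one]
  exact congrArg rvec h.2

/-- Every element of J1 has one of ten orders. -/
theorem orderOf_mem (x : Cfsg.Spor.J1) : orderOf x ∈ allowed := by
  obtain ⟨i, hi, t, ht, k, hk, hg⟩ := j1_factor x.1 x.2
  have hc := of_allFrom_zero conj_ok hi
  simp only [Bool.and_eq_true, Nat.blt_eq, beq_iff_eq] at hc
  obtain ⟨⟨⟨⟨ha, hj⟩, hb⟩, hr⟩, he⟩ := hc
  obtain ⟨k₁, hk₁, hk₁'⟩ := card_kGroup.2 _ ha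
  obtain ⟨k₂, hk₂, hk₂'⟩ := card_kGroup.2 _ hb
  obtain ⟨t', ht', ht''⟩ := top_mem _ hr
  have htJ : t ∈ Cfsg.Spor.J1 := by
    obtain ⟨t₀, h0, h0'⟩ := top_mem i hi
    rwa [hemb (ht.trans h0'.symm)]
  have heq : k₁ * t' = t * k₂ := by
    refine act_inj (Subgroup.mul_mem _ (kGroup_le hk₁) ht') (Subgroup.mul_mem _ htJ (kGroup_le hk₂))
      ?_
    rw [act_mul_code (act_code hk₁') ht'', act_mul_code (act_code ht) hk₂', he]
  obtain ⟨b, hb', hbk⟩ := k_code (k₂⁻¹ * k * k₁)
    (kGroup.mul_mem (kGroup.mul_mem (kGroup.inv_mem hk₂) hk) hk₁)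
  have hv : conjRep.get i * 660 + b < 3300 := by omega
  have e1 : (conjRep.get i * 660 + b) / 660 = conjRep.get i := by omega
  have e2 : (conjRep.get i * 660 + b) % 660 = b := by omega
  obtain ⟨n, hn, hpow⟩ := pow_eq_one_of_code (t := t') (k := k₂⁻¹ * k * k₁) hv
    (by rw [repT, e1]; exact ht'') (by rw [e2]; exact hbk)
    (Subgroup.mul_mem _ ht' (kGroup_le
      (kGroup.mul_mem (kGroup.mul_mem (kGroup.inv_mem hk₂) hk) hk₁)))
  have hconj : x.1 = k₁ * (t' * (k₂⁻¹ * k * k₁)) * k₁⁻¹ := by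
    rw [← mul_assoc k₁ t', heq, hg]; group
  have hx : x ^ n = 1 := Subtype.ext (by
    rw [SubmonoidClass.coe_pow, hconj, conj_pow, hpow, mul_one, mul_inv_cancel, OneMemClass.coe_one])
  have hd := orderOf_dvd_of_pow_eq_one hx
  have hpos := orderOf_pos x
  simp only [allowed, List.mem_cons, List.not_mem_nil, or_false] at hn ⊢
  have hle : orderOf x ≤ n := Nat.le_of_dvd (by omega) hd
  rcases hn with rfl | rfl | rfl | rfl | rfl | rfl | rfl | rfl | rfl | rfl <;>
    revert hd hle hpos <;> generalize orderOf x = m <;> intro hd hpos hle <;>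
    interval_cases m <;> omega

/-- J1 has elements of each maximal order. -/
theorem exists_orderOf {n : ℕ} (hn : n ∈ ({6, 7, 10, 11, 15, 19} : Finset ℕ)) :
    ∃ x : Cfsg.Spor.J1, orderOf x = n := by
  obtain ⟨v, hv⟩ : ∃ v, (n, v) ∈ witnesses := by
    simp only [Finset.mem_insert, Finset.mem_singleton] at hn
    rcases hn with rfl | rfl | rfl | rfl | rfl | rfl <;> simp [witnesses]
  have h := List.all_eq_true.1 witnesses_ok _ hv
  simp only [exactOK, Bool.and_eq_true, beq_iff_eq, Nat.blt_eq] at h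
  obtain ⟨⟨h1, h2⟩, h3⟩ := h
  have hr := of_allFrom_zero rep_lt (show v / 660 < 5 by omega)
  rw [Nat.blt_eq] at hr
  obtain ⟨t, ht, ht'⟩ := top_mem _ hr
  obtain ⟨k, hk, hk'⟩ := card_kGroup.2 _ (Nat.mod_lt v (show 660 > 0 by norm_num))
  have hmem : t * k ∈ Cfsg.Spor.J1 := Subgroup.mul_mem _ ht (kGroup_le hk)
  refine ⟨⟨t * k, hmem⟩, ?_⟩
  rw [Subgroup.orderOf_mk]
  have hpos : 0 < n := by simp at hn; omega
  rw [orderOf_eq_iff hpos]
  refine ⟨eq_one_of_act (Subgroup.pow_mem _ hmem _) ?_, fun m hm hm0 hpow => ?_⟩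
  · rw [act_pow ht' hk', act_one]
    exact congrArg rvec h1
  · have hmm := allFrom_eq_true.1 h2 m hm0 (by omega)
    simp only [Bool.not_eq_true', beq_eq_false_iff_ne] at hmm
    refine hmm (iterVm_eq_code hm0 ?_)
    rw [← act_pow ht' hk', hpow, act_one]

/-- The set of element orders of J1. -/
theorem range_orderOf : Set.range (orderOf : Cfsg.Spor.J1 → ℕ) = {n | n ∈ allowed} := by
  refine Set.ext fun n => ⟨?_, fun hn => ?_⟩
  · rintro ⟨x, rfl⟩
    exact orderOf_mem x
  · obtain ⟨M, hM, hnM⟩ : ∃ M ∈ ({6, 7, 10, 11, 15, 19} : Finset ℕ), n ∣ M := by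
      simp only [Set.mem_setOf_eq, allowed, List.mem_cons, List.not_mem_nil, or_false] at hn
      rcases hn with rfl | rfl | rfl | rfl | rfl | rfl | rfl | rfl | rfl | rfl <;> decide
    obtain ⟨x, rfl⟩ := exists_orderOf hM
    exact ⟨_, orderOf_pow_orderOf_div (orderOf_pos x).ne' hnM⟩

end CfsgLib.Recog.JankoOneSpectrum
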