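import Mathlib

/-!
The eigenvalues of a matrix preserving a non-degenerate bilinear form, and the order bounds that
they give in characteristic two.
-/

set_option autoImplicit false

namespace CfsgLib.Recog.SelfReciprocalRoots

open Polynomial Matrix
open scoped Classical

section Poly

variable {K : Type*} [Field K]

theorem reverse_prod_X_sub_C (R : Multiset K) (h0 : (0 : K) ∉ R) :
    ∃ c : K, c ≠ 0 ∧ (R.map (fun r => X - C r)).prod.reverse =
      C c * ((R.map fun r => r⁻¹).map (fun r => X - C r)).prod := by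
  induction R using Multiset.induction_on with
  | empty => exact ⟨1, one_ne_zero, by
      rw [Multiset.map_zero, Multiset.map_zero, Multiset.map_zero, Multiset.prod_zero,
        show (1 : K[X]) = C 1 from C_1.symm, reverse_C, ← C_mul, mul_one]⟩
  | cons a R ih =>
    obtain ⟨ha, h0'⟩ := not_or.1 fun h => h0 (Multiset.mem_cons.2 h)
    obtain ⟨c, hc, e⟩ := ih h0'
    refine ⟨-a * c, mul_ne_zero (neg_ne_zero.2 (Ne.symm ha)) hc, ?_⟩
    have hr : (X - C a).reverse = C (-a) * (X - C a⁻¹) := by
      have h1 : (X - C a).reverse = 1 + C (-a) * X := by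
        rw [show (X - C a : K[X]) = X + C (-a) by rw [C_neg, sub_eq_add_neg], reverse_add_C,
          natDegree_X, pow_one]
        simp [reverse]
      rw [h1, mul_sub, ← C_mul, neg_mul, mul_inv_cancel₀ (Ne.symm ha), C_neg, C_neg, C_1]
      ring
    rw [Multiset.map_cons, Multiset.prod_cons, reverse_mul_of_domain, hr, e, Multiset.map_cons,
      Multiset.map_cons, Multiset.prod_cons, C_mul]
    ring

theorem roots_map_inv {g : K[X]} (hs : g.Splits) (hm : g.Monic) (h0 : (0 : K) ∉ g.roots)
    {u : K} (hu : C u * g.reverse = g) : g.roots.map (fun r => r⁻¹) = g.roots := by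
  obtain ⟨c, hc, e⟩ := reverse_prod_X_sub_C g.roots h0
  rw [← hs.eq_prod_roots_of_monic hm] at e
  rw [e, ← mul_assoc, ← C_mul] at hu
  have huc : u * c ≠ 0 := fun h => by
    rw [h, C_0, zero_mul] at hu
    exact hm.ne_zero hu.symm
  conv_rhs => rw [← hu, roots_C_mul _ huc, roots_multiset_prod_X_sub_C]

end Poly

section Mat

variable {F : Type*} [Field F] {ι : Type*} [Fintype ι] [DecidableEq ι]

/-- The eigenvalues in the algebraic closure, with multiplicity. -/
noncomputable def eigen (A : Matrix ι ι F) : Multiset (AlgebraicClosure F) :=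
  (A.charpoly.map (algebraMap F (AlgebraicClosure F))).roots

theorem card_eigen (A : Matrix ι ι F) : (eigen A).card = Fintype.card ι := by
  rw [eigen, ← Polynomial.Splits.natDegree_eq_card_roots (IsAlgClosed.splits _),
    Polynomial.natDegree_map, Matrix.charpoly_natDegree_eq_dim]

theorem map_frobenius [Fintype F] (A : Matrix ι ι F) :
    (eigen A).map (fun x => x ^ Fintype.card F) = eigen A := by
  let ψ : AlgebraicClosure F →ₐ[F] AlgebraicClosure F :=
    FiniteField.frobeniusAlgHom F (AlgebraicClosure F)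
  have h := Polynomial.Splits.roots_map_of_injective (IsAlgClosed.splits
    (A.charpoly.map (algebraMap F (AlgebraicClosure F)))) (i := ψ.toRingHom) ψ.toRingHom.injective
  rw [Polynomial.map_map, show ψ.toRingHom.comp (algebraMap F _) = algebraMap F _ from
    RingHom.ext fun x => ψ.commutes x] at h
  exact h.symm

theorem zero_notMem_eigen {A : Matrix ι ι F} (hA : IsUnit A) : (0 : AlgebraicClosure F) ∉ eigen A := by
  intro h
  have hr := isRoot_of_mem_roots h
  rw [IsRoot, eval_map, ← map_zero (algebraMap F (AlgebraicClosure F)), eval₂_at_apply,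
    (algebraMap F (AlgebraicClosure F)).injective.eq_iff,
    ← coeff_zero_eq_eval_zero] at hr
  exact ((Matrix.isUnit_iff_isUnit_det A).1 hA).ne_zero (by
    rw [Matrix.det_eq_sign_charpoly_coeff, hr, mul_zero])

theorem isUnit_of_preserves {A B : Matrix ι ι F} (hB : IsUnit B.det) (h : Aᵀ * B * A = B) :
    IsUnit A := by
  rw [Matrix.isUnit_iff_isUnit_det]
  have hd := congrArg Matrix.det h
  rw [det_mul, det_mul, det_transpose] at hd
  exact isUnit_of_mul_isUnit_right (x := A.det * B.det) (hd.symm ▸ hB)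

theorem charpoly_inv_of_preserves {A B : Matrix ι ι F} (hB : IsUnit B.det) (h : Aᵀ * B * A = B) :
    A⁻¹.charpoly = A.charpoly := by
  have hi : A⁻¹ = B⁻¹ * Aᵀ * B := by
    refine Matrix.inv_eq_left_inv ?_
    rw [Matrix.mul_assoc, Matrix.mul_assoc, ← Matrix.mul_assoc Aᵀ, h, Matrix.nonsing_inv_mul _ hB]
  rw [hi, Matrix.charpoly_mul_comm, ← Matrix.mul_assoc, Matrix.mul_nonsing_inv _ hB,
    Matrix.one_mul, Matrix.charpoly_transpose]

theorem map_inv {A : Matrix ι ι F} (hA : IsUnit A) (h : A⁻¹.charpoly = A.charpoly) :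
    (eigen A).map (fun x => x⁻¹) = eigen A := by
  rw [Matrix.charpoly_inv A hA, ← Matrix.reverse_charpoly] at h
  set φ := algebraMap F (AlgebraicClosure F)
  refine roots_map_inv (IsAlgClosed.splits _) ((Matrix.charpoly_monic A).map φ)
    (zero_notMem_eigen hA) (u := φ ((-1) ^ Fintype.card ι * Ring.inverse A.det)) ?_
  rw [show (A.charpoly.map φ).reverse = A.charpoly.reverse.map φ by
    simp [Polynomial.reverse, Polynomial.reflect_map, Polynomial.natDegree_map]]
  conv_rhs => rw [← h]
  simp [φ]

/-- Orders are bounded by the orders and multiplicities of the eigenvalues. -/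
theorem pow_eq_one [CharP F 2] {A : Matrix ι ι F} {M b : ℕ} (hM : 0 < M)
    (h : ∀ x ∈ eigen A, x ^ M = 1 ∧ (eigen A).count x ≤ 2 ^ b) : A ^ (2 ^ b * M) = 1 := by
  classical
  set φ := algebraMap F (AlgebraicClosure F)
  have hdvd : A.charpoly ∣ (X ^ M - 1) ^ 2 ^ b := by
    rw [← Polynomial.map_dvd_map φ φ.injective (Matrix.charpoly_monic A),
      (IsAlgClosed.splits (A.charpoly.map φ)).eq_prod_roots_of_monic
        ((Matrix.charpoly_monic A).map φ)]
    have hne : (((X : F[X]) ^ M - 1) ^ 2 ^ b).map φ ≠ 0 := by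
      simpa using pow_ne_zero (2 ^ b) (X_pow_sub_C_ne_zero hM (1 : AlgebraicClosure F))
    rw [Multiset.prod_X_sub_C_dvd_iff_le_roots hne, Multiset.le_iff_count]
    intro x
    by_cases hx : x ∈ eigen A
    · obtain ⟨hxM, hcnt⟩ := h x hx
      rw [Polynomial.map_pow, roots_pow, Multiset.count_nsmul]
      refine hcnt.trans (Nat.le_mul_of_pos_right _ (Multiset.count_pos.2 ?_))
      rw [mem_roots', IsRoot]
      refine ⟨fun h0 => hne (by rw [Polynomial.map_pow, h0, zero_pow (by simp)]), ?_⟩
      simp [hxM]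
    · exact (Multiset.count_eq_zero.2 hx).trans_le (Nat.zero_le _)
  obtain ⟨g, hg⟩ := hdvd
  have h1 := congrArg (aeval A) hg
  rw [map_mul, Matrix.aeval_self_charpoly, zero_mul, sub_pow_char_pow, one_pow, ← pow_mul] at h1
  rw [Nat.mul_comm]
  simpa [sub_eq_zero] using h1

/-- A Jordan block of full length and a second fixed direction force a large multiplicity of the
eigenvalue one. -/
theorem lt_count_one [CharP F 2] {A : Matrix ι ι F} {a M : ℕ} (hA : A ^ (2 ^ a * M) = 1)
    {v : ι → F} (hv : (∑ i ∈ Finset.range (2 ^ a * M), A ^ i) *ᵥ v ≠ 0)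
    (hfix : 2 ≤ Module.finrank F (LinearMap.ker (Matrix.toLin' (A - 1)))) :
    2 ^ a < (eigen A).count 1 := by
  classical
  obtain ⟨r, hr⟩ : ∃ r, 2 ^ a = r + 1 := ⟨2 ^ a - 1, by have := Nat.one_le_two_pow (n := a); omega⟩
  set G : F[X] := (∑ i ∈ Finset.range M, X ^ i) ^ 2 ^ a
  have hsum : (∑ i ∈ Finset.range (2 ^ a * M), (X : F[X]) ^ i) = (X - 1) ^ r * G := by
    refine mul_right_cancel₀ (show (X - 1 : F[X]) ≠ 0 from X_sub_C_ne_zero 1) ?_
    rw [geom_sum_mul, mul_right_comm, ← pow_succ, ← hr, ← mul_pow, mul_geom_sum,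
      sub_pow_char_pow, one_pow, ← pow_mul, Nat.mul_comm]
  set f : Module.End F (ι → F) := Matrix.toLin' (A - 1) with hf
  set w := (aeval A G) *ᵥ v
  have hS := congrArg (aeval A) hsum
  simp only [map_mul, map_pow, map_sub, map_one, aeval_X, map_sum] at hS
  have hw1 : (f ^ r) w ≠ 0 := by
    rw [hf, ← Matrix.toLin'_pow, Matrix.toLin'_apply, Matrix.mulVec_mulVec, ← hS]
    exact hv
  have hw2 : (f ^ (r + 1)) w = 0 := by
    rw [hf, ← Matrix.toLin'_pow, Matrix.toLin'_apply, Matrix.mulVec_mulVec, pow_succ', Matrix.mul_assoc,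
      ← hS, mul_geom_sum, hA, sub_self, Matrix.zero_mulVec]
  have hstep : ∀ j, j + 1 ≤ r + 1 → Module.finrank F (LinearMap.ker f) + j ≤
      Module.finrank F (LinearMap.ker (f ^ (j + 1))) := by
    intro j hj
    induction j with
    | zero => rw [zero_add, pow_one, Nat.add_zero]
    | succ j ih =>
      have hlt : LinearMap.ker (f ^ (j + 1)) < LinearMap.ker (f ^ (j + 2)) := by
        refine lt_of_le_of_ne (fun x hx => ?_) (fun he => ?_)
        · rw [LinearMap.mem_ker] at hx ⊢
          rw [pow_succ', Module.End.mul_apply, hx, map_zero]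
        · refine hw1 ?_
          obtain ⟨d, rfl⟩ : ∃ d, r = j + 1 + d := ⟨r - (j + 1), by omega⟩
          have hmem : (f ^ d) w ∈ LinearMap.ker (f ^ (j + 2)) := by
            rw [LinearMap.mem_ker, ← Module.End.mul_apply, ← pow_add,
              show j + 2 + d = j + 1 + d + 1 by omega]
            exact hw2
          rw [← he, LinearMap.mem_ker, ← Module.End.mul_apply, ← pow_add] at hmem
          exact hmem
      have := Submodule.finrank_lt_finrank_of_lt hlt
      have := ih (by omega)
      change _ ≤ Module.finrank F (LinearMap.ker (f ^ (j + 2)))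
      omega
  have hle : Module.finrank F (LinearMap.ker (f ^ (r + 1))) ≤ A.charpoly.rootMultiplicity 1 := by
    have h1 := LinearMap.finrank_genEigenspace_le (Matrix.toLin' A) 1 (r + 1 : ℕ)
    rw [Matrix.charpoly_toLin'] at h1
    refine le_trans (le_of_eq ?_) h1
    rw [Module.End.genEigenspace_nat, hf, map_sub, Matrix.toLin'_one, one_smul]
    rfl
  have hmap : A.charpoly.rootMultiplicity 1 ≤ (eigen A).count 1 := by
    rw [eigen, count_roots, ← map_one (algebraMap F (AlgebraicClosure F))]
    exact le_rootMultiplicity_map ((Matrix.charpoly_monic A).map _).ne_zero 1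
  have := hstep r le_rfl
  omega

end Mat

end CfsgLib.Recog.SelfReciprocalRoots
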