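import Cfsg.Agent.Lib.Recog.CommutingGraphPSLThreeThreeData
import Cfsg.Agent.Classical.SLBasic

/-! The commuting graph facts of `PSL(3, 3)`. -/

set_option autoImplicit false
set_option maxRecDepth 100000

namespace CfsgLib.Recog.CommutingGraph.PSLThreeThree

open Matrix

local notation "SL3" => Matrix.SpecialLinearGroup (Fin 3) (ZMod 3)
local notation "PSL3" => Matrix.ProjectiveSpecialLinearGroup (Fin 3) (ZMod 3)

/-- Product of two row-major lists. -/
def mmul (a b : List ℕ) : List ℕ :=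
  [(a.getD 0 0 * b.getD 0 0 + a.getD 1 0 * b.getD 3 0 + a.getD 2 0 * b.getD 6 0) % 3,
   (a.getD 0 0 * b.getD 1 0 + a.getD 1 0 * b.getD 4 0 + a.getD 2 0 * b.getD 7 0) % 3,
   (a.getD 0 0 * b.getD 2 0 + a.getD 1 0 * b.getD 5 0 + a.getD 2 0 * b.getD 8 0) % 3,
   (a.getD 3 0 * b.getD 0 0 + a.getD 4 0 * b.getD 3 0 + a.getD 5 0 * b.getD 6 0) % 3,
   (a.getD 3 0 * b.getD 1 0 + a.getD 4 0 * b.getD 4 0 + a.getD 5 0 * b.getD 7 0) % 3,
   (a.getD 3 0 * b.getD 2 0 + a.getD 4 0 * b.getD 5 0 + a.getD 5 0 * b.getD 8 0) % 3,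
   (a.getD 6 0 * b.getD 0 0 + a.getD 7 0 * b.getD 3 0 + a.getD 8 0 * b.getD 6 0) % 3,
   (a.getD 6 0 * b.getD 1 0 + a.getD 7 0 * b.getD 4 0 + a.getD 8 0 * b.getD 7 0) % 3,
   (a.getD 6 0 * b.getD 2 0 + a.getD 7 0 * b.getD 5 0 + a.getD 8 0 * b.getD 8 0) % 3]

/-- The nine entries. -/
def encM (A : Matrix (Fin 3) (Fin 3) (ZMod 3)) : List ℕ :=
  [(A 0 0).val, (A 0 1).val, (A 0 2).val, (A 1 0).val, (A 1 1).val, (A 1 2).val,
   (A 2 0).val, (A 2 1).val, (A 2 2).val]

theorem encM_mul (A B : Matrix (Fin 3) (Fin 3) (ZMod 3)) :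
    encM (A * B) = mmul (encM A) (encM B) := by
  have key : ∀ a b c d e f : ZMod 3, (a * b + c * d + e * f).val =
      (a.val * b.val + c.val * d.val + e.val * f.val) % 3 := by
    intro a b c d e f
    simp [ZMod.val_add, ZMod.val_mul, Nat.add_mod, Nat.mod_mod]
  simp [encM, mmul, Matrix.mul_apply, Fin.sum_univ_three, key]

theorem encM_inj : Function.Injective encM := by
  intro A B h
  simp only [encM, List.cons.injEq, (ZMod.val_injective 3).eq_iff, and_true] at h
  obtain ⟨h0, h1, h2, h3, h4, h5, h6, h7, h8⟩ := h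
  ext i j
  fin_cases i <;> fin_cases j <;> assumption

theorem center_eq_bot : Subgroup.center SL3 = ⊥ := by
  rw [Subgroup.eq_bot_iff_forall]
  intro A hA
  obtain ⟨r, hr, hrA⟩ := Matrix.SpecialLinearGroup.mem_center_iff.1 hA
  have key : ∀ r : ZMod 3, r ^ 3 = 1 → r = 1 := by decide
  have h1 : r = 1 := key r (by simpa using hr)
  subst h1
  exact Subtype.ext (by rw [← hrA]; simp)

/-- `PSL₃(3)` is `SL₃(3)`. -/
noncomputable def toSL : PSL3 ≃* SL3 :=
  (QuotientGroup.quotientMulEquivOfEq center_eq_bot).trans QuotientGroup.quotientBot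

/-- The encoding. -/
noncomputable def encoding : Enc PSL3 mmul where
  enc := fun g => encM (toSL g : SL3).1
  inj := fun a b h => toSL.injective (Subtype.ext (encM_inj h))
  mul := fun a b => by rw [map_mul, Matrix.SpecialLinearGroup.coe_mul, encM_mul]

theorem card_psl : Nat.card PSL3 = 5616 := by
  have h := Cfsg.Agent.Classical.card_psl_mul (F := ZMod 3) 3 (by norm_num)
  rw [Fin.prod_univ_three, ZMod.card] at h
  generalize Nat.card PSL3 = x at h ⊢
  norm_num at h
  omega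

theorem mem_gens (l : List ℕ) (hl : l ∈ cert.gens) : ∃ g : PSL3, encoding.enc g = l := by
  have key : ∀ A : SL3, encM A.1 = l → ∃ g : PSL3, encoding.enc g = l := fun A hA =>
    ⟨toSL.symm A, by show encM (toSL (toSL.symm A) : SL3).1 = l; rw [MulEquiv.apply_symm_apply, hA]⟩
  simp only [cert, List.mem_cons, List.not_mem_nil, or_false] at hl
  rcases hl with rfl | rfl | rfl | rfl
  · exact key ⟨!![1, 1, 0; 0, 1, 0; 0, 0, 1], by decide +kernel⟩ (by decide +kernel)
  · exact key ⟨!![0, 0, 1; 1, 0, 0; 0, 1, 0], by decide +kernel⟩ (by decide +kernel)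
  · exact key ⟨!![1, 2, 0; 0, 1, 0; 0, 0, 1], by decide +kernel⟩ (by decide +kernel)
  · exact key ⟨!![0, 1, 0; 0, 0, 1; 1, 0, 0], by decide +kernel⟩ (by decide +kernel)

set_option maxHeartbeats 2000000 in
-- one goal per check, each evaluated by the kernel
theorem facts : Nonempty (Facts PSL3 cert.N cert.c cert.table) := by
  refine facts_of_checks encoding cert ?_ mem_gens ?_ ?_ ?_ ?_ ?_ ?_ ?_ ?_ ?_ ?_ ?_ ?_
  · show encM (toSL 1 : SL3).1 = cert.e
    rw [map_one]; decide +kernel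
  · rw [card_psl]; rfl
  · rw [card_psl]; rfl
  all_goals decide +kernel

end CfsgLib.Recog.CommutingGraph.PSLThreeThree
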