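import Mathlib
import Cfsg.Agent.Lib.OrderCount.Basic

/-!
Numbers of elements of each order: Frobenius congruences, totient divisibility and the
contribution of a Sylow subgroup of prime order or of a cyclic Sylow subgroup.
-/

set_option autoImplicit false

namespace CfsgLib.Recog.OrderCounts

open Subgroup

universe u

variable {G : Type u} [Group G] [Finite G]

/-- The number of elements of order `m`. -/
noncomputable def cntOrd (G : Type u) [Group G] (m : ℕ) : ℕ := Nat.card {g : G // orderOf g = m}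

theorem cntOrd_ne_zero_iff (m : ℕ) :
    cntOrd G m ≠ 0 ↔ m ∈ Set.range (orderOf : G → ℕ) := by
  unfold cntOrd
  rw [← Nat.pos_iff_ne_zero, Finite.card_pos_iff]
  exact ⟨fun ⟨g, hg⟩ => ⟨g, hg⟩, fun ⟨g, hg⟩ => ⟨⟨g, hg⟩⟩⟩

theorem cntOrd_one : cntOrd G 1 = 1 := by
  unfold cntOrd
  rw [Nat.card_eq_one_iff_unique]
  exact ⟨⟨fun a b => Subtype.ext ((orderOf_eq_one_iff.1 a.2).trans (orderOf_eq_one_iff.1 b.2).symm)⟩,
    ⟨⟨1, orderOf_one⟩⟩⟩

theorem dvd_card_of_cntOrd_ne_zero {m : ℕ} (h : cntOrd G m ≠ 0) : m ∣ Nat.card G := by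
  obtain ⟨g, rfl⟩ := (cntOrd_ne_zero_iff m).1 h
  exact orderOf_dvd_natCard g

theorem cntOrd_ne_zero_of_dvd {d m : ℕ} (hd : d ∣ m) (h : cntOrd G m ≠ 0) : cntOrd G d ≠ 0 := by
  obtain ⟨g, rfl⟩ := (cntOrd_ne_zero_iff m).1 h
  have hg : orderOf g ≠ 0 := (orderOf_pos g).ne'
  exact (cntOrd_ne_zero_iff d).2 ⟨g ^ (orderOf g / d), orderOf_pow_orderOf_div hg hd⟩

theorem cntOrd_prime_ne_zero {p : ℕ} (hp : p.Prime) (h : p ∣ Nat.card G) : cntOrd G p ≠ 0 := by
  haveI := Fact.mk hp
  exact (cntOrd_ne_zero_iff p).2 (exists_prime_orderOf_dvd_card' p h)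

theorem totient_dvd_cntOrd (m : ℕ) : m.totient ∣ cntOrd G m := by
  classical
  have : Fintype G := Fintype.ofFinite G
  have h := OrderCount.dvd_sum_of_zpowers_invariant (Finset.univ.filter fun g : G => orderOf g = m)
    (fun _ => 1) m.totient
    (fun u w hu hw => by
      simp only [Finset.mem_filter, Finset.mem_univ, true_and] at hu ⊢
      rw [← Nat.card_zpowers, hw, Nat.card_zpowers, hu])
    (fun _ _ _ _ => rfl)
    (fun u hu => by
      simp only [Finset.mem_filter, Finset.mem_univ, true_and] at hu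
      simp [hu])
  simpa [cntOrd, Nat.card_eq_fintype_card, Fintype.card_subtype] using h

theorem card_eq_sum {D : Finset ℕ} (hD : ∀ g : G, orderOf g ∈ D) :
    Nat.card G = ∑ m ∈ D, cntOrd G m := by
  classical
  have : Fintype G := Fintype.ofFinite G
  rw [Nat.card_eq_fintype_card, ← Finset.card_univ,
    Finset.card_eq_sum_card_fiberwise (t := D) (f := fun g : G => orderOf g)
      (fun g _ => hD g)]
  exact Finset.sum_congr rfl fun m _ => by
    rw [cntOrd, Nat.card_eq_fintype_card, Fintype.card_subtype]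

theorem card_pow_eq_sum {n : ℕ} (hn : n ≠ 0) :
    Nat.card {g : G // g ^ n = 1} = ∑ d ∈ n.divisors, cntOrd G d := by
  classical
  have : Fintype G := Fintype.ofFinite G
  rw [Nat.card_eq_fintype_card, Fintype.card_subtype,
    Finset.card_eq_sum_card_fiberwise (t := n.divisors) (f := fun g : G => orderOf g)
      (fun g hg => Nat.mem_divisors.2
        ⟨orderOf_dvd_of_pow_eq_one (Finset.mem_filter.1 hg).2, hn⟩)]
  refine Finset.sum_congr rfl fun m hm => ?_
  rw [cntOrd, Nat.card_eq_fintype_card, Fintype.card_subtype]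
  congr 1
  ext g
  simp only [Finset.mem_filter, Finset.mem_univ, true_and]
  refine ⟨fun h => h.2, fun h => ⟨?_, h⟩⟩
  exact orderOf_dvd_iff_pow_eq_one.1 (h ▸ (Nat.mem_divisors.1 hm).1)

/-- The Frobenius congruence in terms of the order counts. -/
theorem dvd_sum_cntOrd {n : ℕ} (hn : n ∣ Nat.card G) :
    n ∣ ∑ d ∈ n.divisors, cntOrd G d := by
  rw [← card_pow_eq_sum (ne_zero_of_dvd_ne_zero Nat.card_pos.ne' hn)]
  exact OrderCount.dvd_card_pow_eq_one hn

theorem even_cntOrd {m : ℕ} (hm : 3 ≤ m) : 2 ∣ cntOrd G m :=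
  (even_iff_two_dvd.1 (Nat.totient_even hm)).trans (totient_dvd_cntOrd m)

/-- A number whose prime divisors divide `N` and whose prime powers are no bigger than those
of `N` divides `N`. -/
theorem dvd_of_bounds (N : ℕ) {m : ℕ} (hm : m ≠ 0) (hp : ∀ p, p.Prime → p ∣ m → p ∣ N)
    (he : ∀ p ∈ N.primeFactors, ¬ p ^ (N.factorization p + 1) ∣ m) (hN : N ≠ 0) : m ∣ N := by
  rw [← Nat.factorization_le_iff_dvd hm hN]
  intro p
  by_cases hpp : p.Prime
  · by_cases hpm : p ∣ m
    · by_contra hlt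
      push Not at hlt
      exact he p (Nat.mem_primeFactors.2 ⟨hpp, hp p hpp hpm, hN⟩)
        ((hpp.pow_dvd_iff_le_factorization hm).2 hlt)
    · simp [Nat.factorization_eq_zero_of_not_dvd hpm]
  · simp [Nat.factorization_eq_zero_of_not_prime _ hpp]

theorem card_sylow_eq_prime {p : ℕ} [Fact p.Prime] (hp : p ∣ Nat.card G)
    (hp2 : ¬ p * p ∣ Nat.card G) (Q : Sylow p G) : Nat.card Q = p := by
  obtain ⟨k, hk⟩ := IsPGroup.iff_card.1 Q.isPGroup'
  have h1 := Q.dvd_card_of_dvd_card hp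
  rw [hk] at h1 ⊢
  rcases k with _ | _ | k
  · rw [pow_zero] at h1
    exact absurd (Nat.eq_one_of_dvd_one h1) (Fact.out : p.Prime).ne_one
  · simp
  · exfalso
    refine hp2 ((Dvd.intro_left (p ^ k) ?_).trans (card_subgroup_dvd_card (Q : Subgroup G)))
    rw [hk]; ring

/-- With Sylow subgroups of order `p`, the number of Sylow subgroups divides the number of
elements of each order divisible by `p`. -/
theorem card_sylow_dvd_cntOrd {p : ℕ} [Fact p.Prime] (hQ : ∀ Q : Sylow p G, Nat.card Q = p)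
    {m : ℕ} (hm : p ∣ m) : Nat.card (Sylow p G) ∣ cntOrd G m := by
  classical
  have : Fintype (Sylow p G) := Fintype.ofFinite _
  obtain ⟨Q₀⟩ := (inferInstance : Nonempty (Sylow p G))
  let F : Sylow p G → ℕ := fun Q =>
    Nat.card {g : G // orderOf g = m ∧ g ^ (m / p) ∈ (Q : Subgroup G)}
  have hF : ∀ Q, F Q = F Q₀ := by
    intro Q
    obtain ⟨c, rfl⟩ := MulAction.exists_smul_eq G Q₀ Q
    refine (Nat.card_congr ((MulAut.conj c).toEquiv.subtypeEquiv fun g => ?_)).symm
    show _ ↔ orderOf (MulAut.conj c g) = m ∧ (MulAut.conj c g) ^ (m / p) ∈ _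
    rw [MulEquiv.orderOf_eq, ← map_pow, Sylow.coe_subgroup_smul,
      Subgroup.mem_pointwise_smul_iff_inv_smul_mem, ← MulAut.smul_def, inv_smul_smul]
  by_cases hm0 : cntOrd G m = 0
  · simp [hm0]
  have hmpos : m ≠ 0 := by
    obtain ⟨g, hg⟩ := (cntOrd_ne_zero_iff m).1 hm0
    exact hg ▸ (orderOf_pos g).ne'
  have key : cntOrd G m = ∑ Q : Sylow p G, F Q := by
    rw [cntOrd, ← Nat.card_sigma]
    refine (Nat.card_congr (Equiv.ofBijective (fun x => ⟨x.2.1, x.2.2.1⟩) ⟨?_, ?_⟩)).symm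
    · rintro ⟨Q, g, hg, hgQ⟩ ⟨R, h, hh, hhR⟩ heq
      simp only [Subtype.mk.injEq] at heq
      subst heq
      have ho : orderOf (g ^ (m / p)) = p := by
        rw [← hg]; exact orderOf_pow_orderOf_div (orderOf_pos g).ne' (hg ▸ hm)
      have e : ∀ S : Sylow p G, g ^ (m / p) ∈ (S : Subgroup G) →
          zpowers (g ^ (m / p)) = (S : Subgroup G) := fun S hS =>
        eq_of_le_of_card_ge (zpowers_le.2 hS) (le_of_eq (by rw [Nat.card_zpowers, ho]; exact hQ S))
      have hQR : Q = R := Sylow.ext ((e Q hgQ).symm.trans (e R hhR))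
      subst hQR
      rfl
    · rintro ⟨g, hg⟩
      have ho : orderOf (g ^ (m / p)) = p := by
        rw [← hg]; exact orderOf_pow_orderOf_div (orderOf_pos g).ne' (hg ▸ hm)
      have hP : IsPGroup p (zpowers (g ^ (m / p))) :=
        IsPGroup.of_card (n := 1) (by rw [Nat.card_zpowers, ho, pow_one])
      obtain ⟨Q, hQle⟩ := hP.exists_le_sylow
      exact ⟨⟨Q, g, hg, hQle (mem_zpowers _)⟩, rfl⟩
  rw [key, Finset.sum_congr rfl (fun Q _ => hF Q), Finset.sum_const, Finset.card_univ, smul_eq_mul,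
    ← Nat.card_eq_fintype_card]
  exact dvd_mul_right _ _

/-- The number of elements of order `p` when the Sylow subgroups have order `p`. -/
theorem cntOrd_prime_eq {p : ℕ} [Fact p.Prime] (hQ : ∀ Q : Sylow p G, Nat.card Q = p) :
    cntOrd G p = Nat.card (Sylow p G) * (p - 1) := by
  classical
  have : Fintype (Sylow p G) := Fintype.ofFinite _
  have hp := (Fact.out : p.Prime)
  have hmem : ∀ x : Σ Q : Sylow p G, {g : (Q : Subgroup G) // g ≠ 1},
      orderOf (x.2.1 : G) = p := by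
    rintro ⟨Q, g, hg1⟩
    have h := orderOf_dvd_natCard g
    rw [hQ Q] at h
    rw [Subgroup.orderOf_coe]
    exact ((Nat.dvd_prime hp).1 h).resolve_left fun e => hg1 (orderOf_eq_one_iff.1 e)
  have hbij : Function.Bijective
      (fun x : Σ Q : Sylow p G, {g : (Q : Subgroup G) // g ≠ 1} =>
        (⟨(x.2.1 : G), hmem x⟩ : {g : G // orderOf g = p})) := by
    refine ⟨?_, ?_⟩
    · rintro ⟨Q, ⟨g, hg⟩, hg1⟩ ⟨R, ⟨h, hh⟩, hh1⟩ heq
      simp only [Subtype.mk.injEq] at heq
      subst heq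
      have ho : orderOf g = p := hmem ⟨Q, ⟨g, hg⟩, hg1⟩
      have e : ∀ S : Sylow p G, g ∈ (S : Subgroup G) → zpowers g = (S : Subgroup G) := fun S hS =>
        eq_of_le_of_card_ge (zpowers_le.2 hS) (le_of_eq (by rw [Nat.card_zpowers, ho]; exact hQ S))
      have hQR : Q = R := Sylow.ext ((e Q hg).symm.trans (e R hh))
      subst hQR
      rfl
    · rintro ⟨g, hg⟩
      have hP : IsPGroup p (zpowers g) :=
        IsPGroup.of_card (n := 1) (by rw [Nat.card_zpowers, hg, pow_one])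
      obtain ⟨Q, hQle⟩ := hP.exists_le_sylow
      refine ⟨⟨Q, ⟨g, hQle (mem_zpowers _)⟩, fun e => ?_⟩, rfl⟩
      have h1 : g = 1 := congrArg Subtype.val e
      rw [h1, orderOf_one] at hg
      exact hp.ne_one hg.symm
  rw [cntOrd, ← Nat.card_eq_of_bijective _ hbij, Nat.card_sigma,
    Finset.sum_congr rfl (fun Q _ => ?_), Finset.sum_const, Finset.card_univ, smul_eq_mul,
    ← Nat.card_eq_fintype_card]
  classical
  have : Fintype (Q : Subgroup G) := Fintype.ofFinite _
  rw [Nat.card_eq_fintype_card, Fintype.card_subtype_compl, Fintype.card_subtype_eq,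
    ← Nat.card_eq_fintype_card, hQ Q]

/-- If a Sylow `p`-subgroup is cyclic of order `p ^ (j + 1)`, each element of order `p ^ j` has
`p` roots of order `p ^ (j + 1)`. -/
theorem mul_cntOrd_le {p j : ℕ} [Fact p.Prime] (hj : j ≠ 0)
    (hd : cntOrd G (p ^ (j + 1)) ≠ 0) (hn : ¬ p ^ (j + 2) ∣ Nat.card G) :
    p * cntOrd G (p ^ j) ≤ cntOrd G (p ^ (j + 1)) := by
  classical
  have hp := (Fact.out : p.Prime)
  obtain ⟨y, hy⟩ := (cntOrd_ne_zero_iff _).1 hd
  have hPy : IsPGroup p (zpowers y) := IsPGroup.of_card (n := j + 1) (by rw [Nat.card_zpowers, hy])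
  obtain ⟨R, hR⟩ := hPy.exists_le_sylow
  have hcard : ∀ Q : Sylow p G, Nat.card Q = p ^ (j + 1) := by
    intro Q
    obtain ⟨k, hk⟩ := IsPGroup.iff_card.1 Q.isPGroup'
    have h1 : p ^ (j + 1) ∣ Nat.card (Q : Subgroup G) :=
      Q.pow_dvd_card_of_pow_dvd_card (hy ▸ orderOf_dvd_natCard y)
    rw [hk] at h1
    have h2 : j + 1 ≤ k := (Nat.pow_dvd_pow_iff_le_right hp.one_lt).1 h1
    have h3 : k ≤ j + 1 := by
      by_contra hlt
      exact hn ((pow_dvd_pow p (by omega : j + 2 ≤ k)).trans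
        (hk ▸ card_subgroup_dvd_card (Q : Subgroup G)))
    rw [hk, le_antisymm h3 h2]
  have hroot : ∀ x : {x : G // orderOf x = p ^ j}, ∃ z : G, z ^ p = x.1 := by
    rintro ⟨x, hx⟩
    have hPx : IsPGroup p (zpowers x) := IsPGroup.of_card (n := j) (by rw [Nat.card_zpowers, hx])
    obtain ⟨Q, hQ⟩ := hPx.exists_le_sylow
    obtain ⟨c, rfl⟩ := MulAction.exists_smul_eq G R Q
    have hxQ : x ∈ ((c • R : Sylow p G) : Subgroup G) := hQ (mem_zpowers x)
    rw [Sylow.coe_subgroup_smul, Subgroup.mem_pointwise_smul_iff_inv_smul_mem] at hxQ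
    have heq : zpowers y = (R : Subgroup G) :=
      eq_of_le_of_card_ge hR (le_of_eq (by rw [Nat.card_zpowers, hy]; exact hcard R))
    rw [← heq, mem_zpowers_iff] at hxQ
    obtain ⟨k, hk⟩ := hxQ
    set w := (MulAut.conj c)⁻¹ • x with hw
    have how : orderOf w = p ^ j := by
      rw [hw, MulAut.smul_def, MulEquiv.orderOf_eq, hx]
    have hdvd : (p : ℤ) ∣ k := by
      have h1 : y ^ (k * (p ^ j : ℕ)) = 1 := by
        rw [zpow_mul, hk, zpow_natCast, ← how, pow_orderOf_eq_one]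
      rw [← orderOf_dvd_iff_zpow_eq_one, hy, pow_succ'] at h1
      push_cast at h1
      exact Int.dvd_of_mul_dvd_mul_right (pow_ne_zero j (Int.natCast_ne_zero.2 hp.ne_zero)) h1
    obtain ⟨l, rfl⟩ := hdvd
    refine ⟨c * y ^ l * c⁻¹, ?_⟩
    rw [conj_pow, ← zpow_natCast, ← zpow_mul, mul_comm l, hk, hw]
    simp [mul_assoc]
  choose z hz using hroot
  have hzo : ∀ (x : {x : G // orderOf x = p ^ j}) (v : G), v ^ p = x.1 →
      orderOf v = p ^ (j + 1) := by
    intro x v hv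
    obtain ⟨i, rfl⟩ : ∃ i, j = i + 1 := ⟨j - 1, by omega⟩
    refine orderOf_eq_prime_pow ?_ ?_
    · rw [pow_succ', pow_mul, hv]
      intro h
      have := orderOf_dvd_of_pow_eq_one h
      rw [x.2, Nat.pow_dvd_pow_iff_le_right hp.one_lt] at this
      omega
    · rw [pow_succ', pow_mul, hv]
      exact orderOf_dvd_iff_pow_eq_one.1 (dvd_of_eq x.2)
  have hw : ∀ x : {x : G // orderOf x = p ^ j}, orderOf (x.1 ^ (p ^ (j - 1))) = p := by
    intro x
    obtain ⟨i, rfl⟩ : ∃ i, j = i + 1 := ⟨j - 1, by omega⟩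
    rw [orderOf_pow, x.2, Nat.add_sub_cancel, Nat.gcd_eq_right (pow_dvd_pow p (by omega)),
      pow_succ', Nat.mul_div_cancel _ (pow_pos hp.pos i)]
  have hcomm : ∀ x : {x : G // orderOf x = p ^ j}, Commute (z x) (x.1 ^ (p ^ (j - 1))) := by
    intro x
    rw [← hz x]
    exact ((Commute.refl (z x)).pow_right _).pow_right _
  have hone : ∀ x : {x : G // orderOf x = p ^ j}, (x.1 ^ (p ^ (j - 1))) ^ p = 1 := fun x =>
    orderOf_dvd_iff_pow_eq_one.1 (dvd_of_eq (hw x))
  have hroot' : ∀ (x : {x : G // orderOf x = p ^ j}) (i : ℕ),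
      (z x * (x.1 ^ (p ^ (j - 1))) ^ i) ^ p = x.1 := by
    intro x i
    rw [((hcomm x).pow_right _).mul_pow, hz, ← pow_mul (x.1 ^ (p ^ (j - 1))), mul_comm i, pow_mul,
      hone, one_pow, mul_one]
  let f : {x : G // orderOf x = p ^ j} × Fin p → {v : G // orderOf v = p ^ (j + 1)} := fun q =>
    ⟨z q.1 * (q.1.1 ^ (p ^ (j - 1))) ^ q.2.val, hzo q.1 _ (by
      exact hroot' q.1 q.2.val)⟩
  have hf : Function.Injective f := by
    rintro ⟨x, i⟩ ⟨x', i'⟩ h
    have h' := congrArg Subtype.val h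
    simp only [f] at h'
    have hxx : x = x' := Subtype.ext (by rw [← hroot' x i, h', hroot' x' i'])
    subst hxx
    have h2 := pow_inj_mod.1 (mul_left_cancel h')
    rw [hw x, Nat.mod_eq_of_lt i.2, Nat.mod_eq_of_lt i'.2] at h2
    exact Prod.ext rfl (Fin.ext h2)
  have := Nat.card_le_card_of_injective f hf
  rw [Nat.card_prod, Nat.card_fin] at this
  rw [mul_comm]
  exact this

end CfsgLib.Recog.OrderCounts
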