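import Mathlib
import Cfsg.Agent.Lib.Recog.OrderCounts
import Cfsg.Agent.Lib.OrderElim.A6Line
import Cfsg.Agent.Lib.Recognition.OrderSixtyFive

/-!
The alternating groups of degree 4, 5 and 6 are recognised by the set of the numbers of elements
of each order.
-/

set_option autoImplicit false

namespace CfsgLib.Recog.SmallAltCounts

open Subgroup CfsgLib.Recog.OrderCounts
open scoped Pointwise

universe u

variable {G : Type u} [Group G] [Finite G]

theorem div2 : (2 : ℕ).divisors = {1, 2} := by decide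
theorem div3 : (3 : ℕ).divisors = {1, 3} := by decide
theorem div4 : (4 : ℕ).divisors = {1, 2, 4} := by decide
theorem div5 : (5 : ℕ).divisors = {1, 5} := by decide
theorem div6 : (6 : ℕ).divisors = {1, 2, 3, 6} := by decide
theorem div7 : (7 : ℕ).divisors = {1, 7} := by decide
theorem div8 : (8 : ℕ).divisors = {1, 2, 4, 8} := by decide
theorem div9 : (9 : ℕ).divisors = {1, 3, 9} := by decide
theorem div10 : (10 : ℕ).divisors = {1, 2, 5, 10} := by decide
theorem div14 : (14 : ℕ).divisors = {1, 2, 7, 14} := by decide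
theorem div15 : (15 : ℕ).divisors = {1, 3, 5, 15} := by decide
theorem div16 : (16 : ℕ).divisors = {1, 2, 4, 8, 16} := by decide
theorem div20 : (20 : ℕ).divisors = {1, 2, 4, 5, 10, 20} := by decide
theorem div25 : (25 : ℕ).divisors = {1, 5, 25} := by decide
theorem div27 : (27 : ℕ).divisors = {1, 3, 9, 27} := by decide
theorem div49 : (49 : ℕ).divisors = {1, 7, 49} := by decide
theorem div125 : (125 : ℕ).divisors = {1, 5, 25, 125} := by decide +kernel

section Four

variable (hV : ∀ m, cntOrd G m ≠ 0 → cntOrd G m ∈ ({1, 3, 8} : Finset ℕ))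
  (hA : ∀ v ∈ ({1, 3, 8} : Finset ℕ), ∃ m, cntOrd G m ≠ 0 ∧ cntOrd G m = v)

include hV in
theorem four_big {m : ℕ} (hm : 3 ≤ m) (h : cntOrd G m ≠ 0) : cntOrd G m = 8 := by
  have h1 := hV m h
  have h2 := even_cntOrd (G := G) hm
  simp only [Finset.mem_insert, Finset.mem_singleton] at h1
  omega

include hV hA in
theorem four_two : cntOrd G 2 = 3 := by
  obtain ⟨m, h, hv⟩ := hA 3 (by simp)
  rcases lt_or_ge m 3 with hm | hm
  · interval_cases m
    · exact absurd ((cntOrd_ne_zero_iff 0).1 h) (fun ⟨g, hg⟩ => (orderOf_pos g).ne' hg)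
    · rw [cntOrd_one] at hv; omega
    · exact hv
  · have := four_big hV hm h; omega

include hV in
theorem four_prime {p : ℕ} (hp : p.Prime) (hd : p ∣ Nat.card G) : p = 2 ∨ p = 3 := by
  by_contra hne
  push Not at hne
  have h0 := cntOrd_prime_ne_zero hp hd
  have h3 : 3 ≤ p := by have := hp.two_le; omega
  have h8 := four_big hV h3 h0
  have hdiv := dvd_sum_cntOrd hd
  rw [hp.sum_divisors, cntOrd_one, h8] at hdiv
  have h9 : p ∣ 3 ^ 2 := by simpa using hdiv
  exact hne.2 ((Nat.prime_dvd_prime_iff_eq hp Nat.prime_three).1 (hp.dvd_of_dvd_pow h9))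

include hV hA in
theorem card_four : Nat.card G = 12 ∧ cntOrd G 3 = 8 := by
  have s2 := four_two hV hA
  have hG0 : 0 < Nat.card G := Nat.card_pos
  have hbig : ∀ m, 3 ≤ m → cntOrd G m = 0 ∨ cntOrd G m = 8 := fun m hm => by
    by_cases h : cntOrd G m = 0
    · exact Or.inl h
    · exact Or.inr (four_big hV hm h)
  have htot : ∀ m, 3 ≤ m → cntOrd G m ≠ 0 → m.totient ∣ 8 := fun m hm h =>
    four_big hV hm h ▸ totient_dvd_cntOrd m
  have hno : ∀ m, 3 ≤ m → ¬ m.totient ∣ 8 → cntOrd G m = 0 := fun m hm h1 => by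
    by_contra h; exact h1 (htot m hm h)
  have h6 : cntOrd G 6 = 0 := by
    by_contra h
    have h3 := four_big hV (le_refl 3) (cntOrd_ne_zero_of_dvd (show 3 ∣ 6 by norm_num) h)
    have hd := dvd_sum_cntOrd (dvd_card_of_cntOrd_ne_zero h)
    simp [div6, cntOrd_one, s2, h3, four_big hV (show 3 ≤ 6 by norm_num) h] at hd
  have hD : ∀ g : G, orderOf g ∈ ({1, 2, 3, 4, 8, 16} : Finset ℕ) := by
    intro g
    have h0 : cntOrd G (orderOf g) ≠ 0 := (cntOrd_ne_zero_iff _).2 ⟨g, rfl⟩
    have hdvd : orderOf g ∣ 48 := dvd_of_bounds 48 (orderOf_pos g).ne'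
      (fun p hp hpm => by
        rcases four_prime hV hp (hpm.trans (orderOf_dvd_natCard g)) with rfl | rfl <;> norm_num)
      (by
        intro p hp hd
        have hcl := cntOrd_ne_zero_of_dvd hd h0
        obtain rfl | rfl : p = 2 ∨ p = 3 := by
          have : (48 : ℕ).primeFactors = {2, 3} := by decide +kernel
          simpa [this] using hp
        · rw [show (48 : ℕ).factorization 2 = 4 by decide +kernel] at hcl
          exact hcl (hno 32 (by norm_num) (by decide +kernel))
        · rw [show (48 : ℕ).factorization 3 = 1 by decide +kernel] at hcl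
          exact hcl (hno 9 (by norm_num) (by decide +kernel)))
      (by norm_num)
    have hn6 : ¬ 6 ∣ orderOf g := fun h => cntOrd_ne_zero_of_dvd h h0 h6
    have hfilt : (48 : ℕ).divisors.filter (fun m => ¬ 6 ∣ m) = {1, 2, 3, 4, 8, 16} := by
      decide +kernel
    rw [← hfilt]
    exact Finset.mem_filter.2 ⟨Nat.mem_divisors.2 ⟨hdvd, by norm_num⟩, hn6⟩
  have hN := card_eq_sum hD
  simp [cntOrd_one, s2] at hN
  obtain ⟨v, hv0, hv⟩ := hA 8 (by simp)
  have hvD : v ∈ ({1, 2, 3, 4, 8, 16} : Finset ℕ) := by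
    obtain ⟨g, rfl⟩ := (cntOrd_ne_zero_iff v).1 hv0
    exact hD g
  have e3 := hbig 3 le_rfl
  have e4 := hbig 4 (by norm_num)
  have e8 := hbig 8 (by norm_num)
  have e16 := hbig 16 (by norm_num)
  have d4 : cntOrd G 4 ≠ 0 → 4 ∣ Nat.card G := dvd_card_of_cntOrd_ne_zero
  have d8 : cntOrd G 8 ≠ 0 → 8 ∣ Nat.card G := dvd_card_of_cntOrd_ne_zero
  have d16 : cntOrd G 16 ≠ 0 → 16 ∣ Nat.card G := dvd_card_of_cntOrd_ne_zero
  have d3 : 3 ∣ Nat.card G → cntOrd G 3 ≠ 0 := cntOrd_prime_ne_zero Nat.prime_three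
  have n5 : ¬ 5 ∣ Nat.card G := fun h => by
    rcases four_prime hV (show Nat.Prime 5 by norm_num) h with h | h <;> omega
  have n7 : ¬ 7 ∣ Nat.card G := fun h => by
    rcases four_prime hV (show Nat.Prime 7 by norm_num) h with h | h <;> omega
  simp only [Finset.mem_insert, Finset.mem_singleton] at hvD
  have hsome : cntOrd G 3 = 8 ∨ cntOrd G 4 = 8 ∨ cntOrd G 8 = 8 ∨ cntOrd G 16 = 8 := by
    rcases hvD with rfl | rfl | rfl | rfl | rfl | rfl
    · rw [cntOrd_one] at hv; omega
    · omega
    all_goals omega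
  omega

include hV hA in
theorem iso_four : Nonempty (G ≃* alternatingGroup (Fin 4)) := by
  classical
  obtain ⟨hG, h3⟩ := card_four hV hA
  haveI : Fact (Nat.Prime 3) := ⟨Nat.prime_three⟩
  have hQ : ∀ Q : Sylow 3 G, Nat.card Q = 3 :=
    card_sylow_eq_prime (by rw [hG]; norm_num) (by rw [hG]; norm_num)
  have hn : Nat.card (Sylow 3 G) = 4 := by
    have := cntOrd_prime_eq hQ
    omega
  let φ : G →* Equiv.Perm (Sylow 3 G) := MulAction.toPermHom G (Sylow 3 G)
  have hinj : Function.Injective φ := by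
    rw [← MonoidHom.ker_eq_bot_iff, Subgroup.eq_bot_iff_forall]
    intro x hx
    have hfix : ∀ Q : Sylow 3 G, x ∈ (Q : Subgroup G) := by
      intro Q
      have h1 : x • Q = Q := DFunLike.congr_fun (MonoidHom.mem_ker.1 hx) Q
      have h2 : x ∈ normalizer ((Q : Subgroup G) : Set G) := Sylow.smul_eq_iff_mem_normalizer.1 h1
      have hN := Q.card_eq_index_normalizer
      have hmul := card_mul_index (normalizer ((Q : Subgroup G) : Set G))
      rw [show (normalizer ((Q : Subgroup G) : Set G)).index = 4 from hN.symm.trans hn, hG] at hmul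
      have heq : (Q : Subgroup G) = normalizer ((Q : Subgroup G) : Set G) :=
        eq_of_le_of_card_ge Subgroup.le_normalizer (by
          rw [show Nat.card (Q : Subgroup G) = 3 from hQ Q]; omega)
      rw [heq]; exact h2
    by_contra hne
    obtain ⟨Q, R, hQR⟩ : ∃ Q R : Sylow 3 G, Q ≠ R := by
      have : Nontrivial (Sylow 3 G) := Finite.one_lt_card_iff_nontrivial.1 (by omega)
      exact exists_pair_ne _
    have e : ∀ S : Sylow 3 G, zpowers x = (S : Subgroup G) := fun S => by
      refine eq_of_le_of_card_ge (zpowers_le.2 (hfix S)) (le_of_eq ?_)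
      rw [Nat.card_zpowers]
      have h := orderOf_dvd_natCard (⟨x, hfix S⟩ : (S : Subgroup G))
      rw [hQ S, Subgroup.orderOf_mk] at h
      rw [((Nat.dvd_prime Nat.prime_three).1 h).resolve_left
        fun e => hne (orderOf_eq_one_iff.1 e)]
      exact hQ S
    exact hQR (Sylow.ext ((e Q).symm.trans (e R)))
  let e4 : Sylow 3 G ≃ Fin 4 := (Finite.equivFin _).trans (finCongr hn)
  let ψ : G →* Equiv.Perm (Fin 4) := e4.permCongrHom.toMonoidHom.comp φ
  have hψ : Function.Injective ψ := e4.permCongrHom.injective.comp hinj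
  have hidx : ψ.range.index = 2 := by
    have hm := card_mul_index ψ.range
    rw [← Nat.card_congr (MonoidHom.ofInjective hψ).toEquiv, hG, Nat.card_perm, Nat.card_fin] at hm
    simp [Nat.factorial] at hm
    omega
  exact ⟨(MonoidHom.ofInjective hψ).trans
    (MulEquiv.subgroupCongr (Equiv.Perm.eq_alternatingGroup_of_index_eq_two hidx))⟩

end Four

section Five

variable (hV : ∀ m, cntOrd G m ≠ 0 → cntOrd G m ∈ ({1, 15, 20, 24} : Finset ℕ))
  (hA : ∀ v ∈ ({1, 15, 20, 24} : Finset ℕ), ∃ m, cntOrd G m ≠ 0 ∧ cntOrd G m = v)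

include hV in
theorem five_big {m : ℕ} (hm : 3 ≤ m) :
    cntOrd G m = 0 ∨ cntOrd G m = 20 ∨ cntOrd G m = 24 := by
  by_cases h : cntOrd G m = 0
  · exact Or.inl h
  have h1 := hV m h
  have h2 := even_cntOrd (G := G) hm
  simp only [Finset.mem_insert, Finset.mem_singleton] at h1
  omega

include hV hA in
theorem five_two : cntOrd G 2 = 15 := by
  obtain ⟨m, h, hv⟩ := hA 15 (by simp)
  rcases lt_or_ge m 3 with hm | hm
  · interval_cases m
    · exact absurd ((cntOrd_ne_zero_iff 0).1 h) (fun ⟨g, hg⟩ => (orderOf_pos g).ne' hg)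
    · rw [cntOrd_one] at hv; omega
    · exact hv
  · have := five_big hV hm; omega

include hV in
theorem five_no {m : ℕ} (hm : 3 ≤ m) (h20 : ¬ m.totient ∣ 20) (h24 : ¬ m.totient ∣ 24) :
    cntOrd G m = 0 := by
  have h := totient_dvd_cntOrd (G := G) m
  rcases five_big hV hm with e | e | e
  · exact e
  all_goals rw [e] at h
  · exact absurd h h20
  · exact absurd h h24

include hV in
theorem five_prime {p : ℕ} (hp : p.Prime) (hd : p ∣ Nat.card G) : p = 2 ∨ p = 3 ∨ p = 5 := by
  by_contra hne
  push Not at hne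
  have h0 := cntOrd_prime_ne_zero hp hd
  have h3 : 3 ≤ p := by have := hp.two_le; omega
  have hdiv := dvd_sum_cntOrd hd
  have htot := totient_dvd_cntOrd (G := G) p
  rw [hp.sum_divisors, cntOrd_one] at hdiv
  rw [Nat.totient_prime hp] at htot
  rcases five_big hV h3 with e | e | e
  · exact h0 e
  · rw [e] at hdiv htot
    have hle : p ≤ 21 := Nat.le_of_dvd (by norm_num) (by simpa using hdiv)
    interval_cases p <;> norm_num at *
  · rw [e] at hdiv
    have h25 : p ∣ 5 ^ 2 := by simpa using hdiv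
    exact hne.2.2 ((Nat.prime_dvd_prime_iff_eq hp (by norm_num)).1 (hp.dvd_of_dvd_pow h25))

include hV hA in
theorem card_five : Nat.card G = 60 ∧ cntOrd G 5 = 24 ∧
    ¬ 25 ∣ Nat.card G := by
  haveI : Fact (Nat.Prime 3) := ⟨Nat.prime_three⟩
  haveI : Fact (Nat.Prime 5) := ⟨by norm_num⟩
  have s2 := five_two hV hA
  have hG0 : 0 < Nat.card G := Nat.card_pos
  have e : ∀ m, 3 ≤ m → cntOrd G m = 0 ∨ cntOrd G m = 20 ∨ cntOrd G m = 24 := fun m hm => five_big hV hm
  have t : ∀ m, m.totient ∣ cntOrd G m := totient_dvd_cntOrd (G := G)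
  have i3 : 3 ∣ Nat.card G → cntOrd G 3 ≠ 0 := cntOrd_prime_ne_zero Nat.prime_three
  have i5 : 5 ∣ Nat.card G → cntOrd G 5 ≠ 0 := cntOrd_prime_ne_zero (by norm_num)
  have s3 : cntOrd G 3 = 0 ∨ cntOrd G 3 = 20 := by
    by_cases h : cntOrd G 3 = 0
    · exact Or.inl h
    have hd := dvd_sum_cntOrd (dvd_card_of_cntOrd_ne_zero h)
    simp [div3, cntOrd_one] at hd
    have := e 3 (by norm_num)
    omega
  have s5 : cntOrd G 5 = 0 ∨ cntOrd G 5 = 24 := by
    by_cases h : cntOrd G 5 = 0
    · exact Or.inl h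
    have hd := dvd_sum_cntOrd (dvd_card_of_cntOrd_ne_zero h)
    simp [div5, cntOrd_one] at hd
    have := e 5 (by norm_num)
    omega
  have z27 : cntOrd G 27 = 0 := five_no hV (by norm_num) (by decide +kernel) (by decide +kernel)
  have z9 : cntOrd G 9 = 0 := by
    by_contra h
    have h3 : cntOrd G 3 = 20 :=
      s3.resolve_left (cntOrd_ne_zero_of_dvd (show 3 ∣ 9 by norm_num) h)
    have := e 9 (by norm_num)
    have := t 9
    rw [show (9 : ℕ).totient = 6 by decide +kernel] at this
    by_cases h27 : 27 ∣ Nat.card G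
    · have hd := dvd_sum_cntOrd h27
      simp [div27, cntOrd_one, z27] at hd
      omega
    · have := mul_cntOrd_le (G := G) (p := 3) (j := 1) (by norm_num) (by simpa using h)
        (by simpa using h27)
      norm_num at this
      omega
  have n9 : ¬ 9 ∣ Nat.card G := fun h9 => by
    have hd := dvd_sum_cntOrd h9
    simp [div9, cntOrd_one, z9] at hd
    omega
  have z25 : cntOrd G 25 = 0 := by
    by_contra h
    have h5 : cntOrd G 5 = 24 :=
      s5.resolve_left (cntOrd_ne_zero_of_dvd (show 5 ∣ 25 by norm_num) h)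
    have hd := dvd_sum_cntOrd (dvd_card_of_cntOrd_ne_zero h)
    have := e 25 (by norm_num)
    have := t 25
    rw [show (25 : ℕ).totient = 20 by decide +kernel] at this
    simp [div25, cntOrd_one] at hd
    omega
  have z15 : cntOrd G 15 = 0 := by
    by_contra h
    have h3 := s3.resolve_left (cntOrd_ne_zero_of_dvd (show 3 ∣ 15 by norm_num) h)
    have h5 := s5.resolve_left (cntOrd_ne_zero_of_dvd (show 5 ∣ 15 by norm_num) h)
    have hd := dvd_sum_cntOrd (dvd_card_of_cntOrd_ne_zero h)
    simp [div15, cntOrd_one] at hd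
    have := e 15 (by norm_num)
    have := t 15
    rw [show (15 : ℕ).totient = 8 by decide +kernel] at this
    omega
  have f6 : cntOrd G 6 ≠ 0 → cntOrd G 6 = 24 := fun h => by
    have h3 := s3.resolve_left (cntOrd_ne_zero_of_dvd (show 3 ∣ 6 by norm_num) h)
    have hd := dvd_sum_cntOrd (dvd_card_of_cntOrd_ne_zero h)
    simp [div6, cntOrd_one] at hd
    have := e 6 (by norm_num)
    omega
  have f10 : cntOrd G 10 ≠ 0 → cntOrd G 10 = 20 := fun h => by
    have h5 := s5.resolve_left (cntOrd_ne_zero_of_dvd (show 5 ∣ 10 by norm_num) h)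
    have hd := dvd_sum_cntOrd (dvd_card_of_cntOrd_ne_zero h)
    simp [div10, cntOrd_one] at hd
    have := e 10 (by norm_num)
    omega
  have z20 : cntOrd G 20 = 0 := by
    by_contra h
    have h5 := s5.resolve_left (cntOrd_ne_zero_of_dvd (show 5 ∣ 20 by norm_num) h)
    have h10 := f10 (cntOrd_ne_zero_of_dvd (show 10 ∣ 20 by norm_num) h)
    have h4 := cntOrd_ne_zero_of_dvd (show 4 ∣ 20 by norm_num) h
    have hd := dvd_sum_cntOrd (dvd_card_of_cntOrd_ne_zero h)
    simp [div20, cntOrd_one] at hd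
    have := e 4 (by norm_num)
    have := e 20 (by norm_num)
    have := t 20
    rw [show (20 : ℕ).totient = 8 by decide +kernel] at this
    omega
  have hD : ∀ g : G, orderOf g ∈ ({1, 2, 3, 4, 5, 6, 8, 10, 12, 16, 24} : Finset ℕ) := by
    intro g
    have h0 : cntOrd G (orderOf g) ≠ 0 := (cntOrd_ne_zero_iff _).2 ⟨g, rfl⟩
    have hdvd : orderOf g ∣ 240 := dvd_of_bounds 240 (orderOf_pos g).ne'
      (fun p hp hpm => by
        rcases five_prime hV hp (hpm.trans (orderOf_dvd_natCard g)) with rfl | rfl | rfl <;> norm_num)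
      (by
        intro p hp hd
        have hcl := cntOrd_ne_zero_of_dvd hd h0
        obtain rfl | rfl | rfl : p = 2 ∨ p = 3 ∨ p = 5 := by
          have : (240 : ℕ).primeFactors = {2, 3, 5} := by decide +kernel
          simpa [this] using hp
        · rw [show (240 : ℕ).factorization 2 = 4 by decide +kernel] at hcl
          exact hcl (five_no hV (by norm_num) (by decide +kernel) (by decide +kernel))
        · rw [show (240 : ℕ).factorization 3 = 1 by decide +kernel] at hcl
          exact hcl z9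
        · rw [show (240 : ℕ).factorization 5 = 1 by decide +kernel] at hcl
          exact hcl z25)
      (by norm_num)
    have hn15 : ¬ 15 ∣ orderOf g := fun h => cntOrd_ne_zero_of_dvd h h0 z15
    have hn20 : ¬ 20 ∣ orderOf g := fun h => cntOrd_ne_zero_of_dvd h h0 z20
    have hn40 : ¬ (orderOf g = 48) := fun h => by
      rw [h] at h0
      exact h0 (five_no hV (by norm_num) (by decide +kernel) (by decide +kernel))
    have hfilt : (240 : ℕ).divisors.filter (fun m => ¬ 15 ∣ m ∧ ¬ 20 ∣ m ∧ m ≠ 48)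
        = {1, 2, 3, 4, 5, 6, 8, 10, 12, 16, 24} := by
      decide +kernel
    rw [← hfilt]
    exact Finset.mem_filter.2 ⟨Nat.mem_divisors.2 ⟨hdvd, by norm_num⟩, hn15, hn20, hn40⟩
  have hN := card_eq_sum hD
  simp [cntOrd_one, s2] at hN
  obtain ⟨v, hv0, hv⟩ := hA 20 (by simp)
  have hvD : v ∈ ({1, 2, 3, 4, 5, 6, 8, 10, 12, 16, 24} : Finset ℕ) := by
    obtain ⟨g, rfl⟩ := (cntOrd_ne_zero_iff v).1 hv0
    exact hD g
  simp only [Finset.mem_insert, Finset.mem_singleton] at hvD
  have hsome : cntOrd G 3 = 20 ∨ cntOrd G 4 = 20 ∨ cntOrd G 6 = 20 ∨ cntOrd G 8 = 20 ∨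
      cntOrd G 10 = 20 ∨ cntOrd G 12 = 20 := by
    have t16 := t 16
    rw [show (16 : ℕ).totient = 8 by decide +kernel] at t16
    have t24 := t 24
    rw [show (24 : ℕ).totient = 8 by decide +kernel] at t24
    rcases hvD with rfl | rfl | rfl | rfl | rfl | rfl | rfl | rfl | rfl | rfl | rfl
    · rw [cntOrd_one] at hv; omega
    all_goals omega
  have d : ∀ m, cntOrd G m ≠ 0 → m ∣ Nat.card G := fun m => dvd_card_of_cntOrd_ne_zero
  have d2 := d 2 (by omega)
  have d3 := d 3
  have d4 := d 4
  have d5 := d 5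
  have d8 := d 8
  have d16 := d 16
  have p12 : cntOrd G 12 ≠ 0 → cntOrd G 6 ≠ 0 := cntOrd_ne_zero_of_dvd (by norm_num)
  have p6 : cntOrd G 6 ≠ 0 → cntOrd G 3 ≠ 0 := cntOrd_ne_zero_of_dvd (by norm_num)
  have p24 : cntOrd G 24 ≠ 0 → cntOrd G 12 ≠ 0 := cntOrd_ne_zero_of_dvd (by norm_num)
  have p10 : cntOrd G 10 ≠ 0 → cntOrd G 5 ≠ 0 := cntOrd_ne_zero_of_dvd (by norm_num)
  have n7 : ¬ 7 ∣ Nat.card G := fun h => by
    rcases five_prime hV (show Nat.Prime 7 by norm_num) h with h | h | h <;> omega
  have n11 : ¬ 11 ∣ Nat.card G := fun h => by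
    rcases five_prime hV (show Nat.Prime 11 by norm_num) h with h | h | h <;> omega
  have n13 : ¬ 13 ∣ Nat.card G := fun h => by
    rcases five_prime hV (show Nat.Prime 13 by norm_num) h with h | h | h <;> omega
  -- three divides the order
  have g3 : cntOrd G 3 = 20 → 10 ∣ Nat.card G := fun h => by
    have hQ : ∀ Q : Sylow 3 G, Nat.card Q = 3 :=
      card_sylow_eq_prime (d3 (by omega)) (by simpa using n9)
    have hc := cntOrd_prime_eq hQ
    have hdv : Nat.card (Sylow 3 G) ∣ Nat.card G :=
      (Classical.arbitrary (Sylow 3 G)).card_dvd_index.trans (Subgroup.index_dvd_card _)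
    have h10 : Nat.card (Sylow 3 G) = 10 := by omega
    rwa [h10] at hdv
  have g5 : cntOrd G 5 = 24 → ¬ 25 ∣ Nat.card G → 6 ∣ Nat.card G ∧ cntOrd G 10 ≠ 20 := by
    intro h h25
    have hQ : ∀ Q : Sylow 5 G, Nat.card Q = 5 :=
      card_sylow_eq_prime (d5 (by omega)) (by simpa using h25)
    have hc := cntOrd_prime_eq hQ
    have h6 : Nat.card (Sylow 5 G) = 6 := by omega
    have hdv : Nat.card (Sylow 5 G) ∣ Nat.card G :=
      (Classical.arbitrary (Sylow 5 G)).card_dvd_index.trans (Subgroup.index_dvd_card _)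
    have hdv10 := card_sylow_dvd_cntOrd hQ (show 5 ∣ 10 by norm_num)
    rw [h6] at hdv hdv10
    exact ⟨hdv, fun h => by rw [h] at hdv10; norm_num at hdv10⟩
  have b : ∀ m, 3 ≤ m → cntOrd G m ≤ 24 := fun m hm => by have := e m hm; omega
  have b4 := b 4 (by norm_num)
  have b6 := b 6 (by norm_num)
  have b8 := b 8 (by norm_num)
  have b10 := b 10 (by norm_num)
  have b12 := b 12 (by norm_num)
  have b16 := b 16 (by norm_num)
  have b24 := b 24 (by norm_num)
  have d12 := d 12
  have d24 := d 24
  rcases s3 with h3 | h3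
  · -- no elements of order three
    exfalso
    have z6 : cntOrd G 6 = 0 := by_contra fun h => p6 h h3
    have z12 : cntOrd G 12 = 0 := by_contra fun h => p12 h z6
    have z24 : cntOrd G 24 = 0 := by_contra fun h => p24 h z12
    have hn3 : ¬ 3 ∣ Nat.card G := fun h => i3 h h3
    rcases s5 with h5 | h5
    · have z10 : cntOrd G 10 = 0 := by_contra fun h => p10 h h5
      have hn5 : ¬ 5 ∣ Nat.card G := fun h => i5 h h5
      have := e 4 (by norm_num)
      have := e 8 (by norm_num)
      have := e 16 (by norm_num)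
      omega
    · by_cases h25 : 25 ∣ Nat.card G
      · have := e 4 (by norm_num)
        have := e 10 (by norm_num)
        clear hsome hv hvD p6 p12 p24 p10 g3 g5 f6 f10 i5
        omega
      · exact hn3 (dvd_trans (by norm_num) (g5 h5 h25).1)
  · have h10 := g3 h3
    have h5 : cntOrd G 5 = 24 := s5.resolve_left (i5 (dvd_trans (by norm_num) h10))
    have d3' := d3 (by omega)
    by_cases h25 : 25 ∣ Nat.card G
    · exfalso
      clear hsome hv hvD p6 p12 p24 p10 g3 g5 f6 f10 i5 i3
      omega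
    · obtain ⟨h6d, h10'⟩ := g5 h5 h25
      refine ⟨?_, h5, h25⟩
      have z10 : cntOrd G 10 = 0 := by_contra fun h => h10' (f10 h)
      clear hsome hv hvD g3 g5 f10 i5 i3
      have hcases : Nat.card G = 60 ∨ Nat.card G = 120 := by
        clear p6 p12 p24 p10 f6
        omega
      rcases hcases with hc | hc
      · exact hc
      · exfalso
        have := e 4 (by norm_num)
        have := e 8 (by norm_num)
        have := e 12 (by norm_num)
        have := e 24 (by norm_num)
        by_cases h6 : cntOrd G 6 = 0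
        · have z12 : cntOrd G 12 = 0 := by_contra fun h => p12 h h6
          have z24 : cntOrd G 24 = 0 := by_contra fun h => p24 h z12
          omega
        · have := f6 h6
          omega

include hV hA in
theorem iso_five : Nonempty (G ≃* alternatingGroup (Fin 5)) := by
  haveI : Fact (Nat.Prime 5) := ⟨by norm_num⟩
  obtain ⟨hG, h5, h25⟩ := card_five hV hA
  have hQ : ∀ Q : Sylow 5 G, Nat.card Q = 5 :=
    card_sylow_eq_prime (by rw [hG]; norm_num) (by rw [hG]; norm_num)
  have hc := cntOrd_prime_eq hQ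
  exact CfsgLib.Recognition.OrderSixty.nonempty_mulEquiv_alternating_five hG (by omega)

end Five

section Six

variable (hV : ∀ m, cntOrd G m ≠ 0 → cntOrd G m ∈ ({1, 45, 80, 90, 144} : Finset ℕ))
  (hA : ∀ v ∈ ({1, 45, 80, 90, 144} : Finset ℕ), ∃ m, cntOrd G m ≠ 0 ∧ cntOrd G m = v)

include hV in
theorem six_big {m : ℕ} (hm : 3 ≤ m) :
    cntOrd G m = 0 ∨ cntOrd G m = 80 ∨ cntOrd G m = 90 ∨ cntOrd G m = 144 := by
  by_cases h : cntOrd G m = 0
  · exact Or.inl h
  have h1 := hV m h
  have h2 := even_cntOrd (G := G) hm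
  simp only [Finset.mem_insert, Finset.mem_singleton] at h1
  omega

include hV hA in
theorem six_two : cntOrd G 2 = 45 := by
  obtain ⟨m, h, hv⟩ := hA 45 (by simp)
  rcases lt_or_ge m 3 with hm | hm
  · interval_cases m
    · exact absurd ((cntOrd_ne_zero_iff 0).1 h) (fun ⟨g, hg⟩ => (orderOf_pos g).ne' hg)
    · rw [cntOrd_one] at hv; omega
    · exact hv
  · have := six_big hV hm; omega

include hV in
theorem six_prime {p : ℕ} (hp : p.Prime) (hd : p ∣ Nat.card G) :
    p = 2 ∨ p = 3 ∨ p = 5 ∨ p = 7 := by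
  by_contra hne
  push Not at hne
  have h0 := cntOrd_prime_ne_zero hp hd
  have h3 : 3 ≤ p := by have := hp.two_le; omega
  have hdiv := dvd_sum_cntOrd hd
  have htot := totient_dvd_cntOrd (G := G) p
  rw [hp.sum_divisors, cntOrd_one] at hdiv
  rw [Nat.totient_prime hp] at htot
  rcases six_big hV h3 with e | e | e | e
  · exact h0 e
  · rw [e] at hdiv
    have h81 : p ∣ 3 ^ 4 := by simpa using hdiv
    exact hne.2.1 ((Nat.prime_dvd_prime_iff_eq hp Nat.prime_three).1 (hp.dvd_of_dvd_pow h81))
  · rw [e] at hdiv htot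
    have hle : p ≤ 91 := Nat.le_of_dvd (by norm_num) (by simpa using hdiv)
    interval_cases p <;> norm_num at *
  · rw [e] at hdiv htot
    have hle : p ≤ 145 := Nat.le_of_dvd (by norm_num) (by simpa using hdiv)
    interval_cases p <;> norm_num at *

include hV hA in
theorem card_six : Nat.card G = 360 ∧ cntOrd G 3 = 80 ∧ cntOrd G 5 = 144 ∧
    cntOrd G 15 = 0 ∧ cntOrd G 10 = 0 := by
  haveI : Fact (Nat.Prime 3) := ⟨Nat.prime_three⟩
  haveI : Fact (Nat.Prime 5) := ⟨by norm_num⟩
  haveI : Fact (Nat.Prime 7) := ⟨by norm_num⟩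
  have s2 := six_two hV hA
  have hG0 : 0 < Nat.card G := Nat.card_pos
  have e : ∀ m, 3 ≤ m → cntOrd G m = 0 ∨ cntOrd G m = 80 ∨ cntOrd G m = 90 ∨ cntOrd G m = 144 :=
    fun m hm => six_big hV hm
  have t : ∀ m, m.totient ∣ cntOrd G m := totient_dvd_cntOrd (G := G)
  have d : ∀ m, cntOrd G m ≠ 0 → m ∣ Nat.card G := fun m => dvd_card_of_cntOrd_ne_zero
  have s3 : cntOrd G 3 = 0 ∨ cntOrd G 3 = 80 := by
    by_cases h : cntOrd G 3 = 0
    · exact Or.inl h
    have hd := dvd_sum_cntOrd (d 3 h)
    simp [div3, cntOrd_one] at hd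
    have := e 3 (by norm_num)
    omega
  have s5 : cntOrd G 5 = 0 ∨ cntOrd G 5 = 144 := by
    by_cases h : cntOrd G 5 = 0
    · exact Or.inl h
    have hd := dvd_sum_cntOrd (d 5 h)
    simp [div5, cntOrd_one] at hd
    have := e 5 (by norm_num)
    omega
  have s7 : cntOrd G 7 = 0 ∨ cntOrd G 7 = 90 := by
    by_cases h : cntOrd G 7 = 0
    · exact Or.inl h
    have hd := dvd_sum_cntOrd (d 7 h)
    simp [div7, cntOrd_one] at hd
    have := e 7 (by norm_num)
    have := t 7
    rw [show (7 : ℕ).totient = 6 by decide +kernel] at this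
    omega
  have s4 : 4 ∣ Nat.card G → cntOrd G 4 = 90 := fun h => by
    have hd := dvd_sum_cntOrd h
    simp [div4, cntOrd_one, s2] at hd
    have := e 4 (by norm_num)
    omega
  have n16 : ¬ 16 ∣ Nat.card G := fun h => by
    have h4 := s4 (dvd_trans (by norm_num) h)
    have hd := dvd_sum_cntOrd h
    simp [div16, cntOrd_one, s2] at hd
    have := e 8 (by norm_num)
    have := e 16 (by norm_num)
    have := t 8
    rw [show (8 : ℕ).totient = 4 by decide +kernel] at this
    have := t 16
    rw [show (16 : ℕ).totient = 8 by decide +kernel] at this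
    omega
  have z8 : cntOrd G 8 = 0 := by
    by_contra h
    have h4 := s4 (dvd_trans (by norm_num) (d 8 h))
    haveI : Fact (Nat.Prime 2) := ⟨Nat.prime_two⟩
    have := mul_cntOrd_le (G := G) (p := 2) (j := 2) (by norm_num) (by simpa using h)
      (by simpa using n16)
    norm_num at this
    have := e 8 (by norm_num)
    omega
  have z9 : cntOrd G 9 = 0 := by
    by_contra h
    have h3 : cntOrd G 3 = 80 :=
      s3.resolve_left (cntOrd_ne_zero_of_dvd (show 3 ∣ 9 by norm_num) h)
    have := e 9 (by norm_num)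
    have := e 27 (by norm_num)
    have := t 9
    rw [show (9 : ℕ).totient = 6 by decide +kernel] at this
    have := t 27
    rw [show (27 : ℕ).totient = 18 by decide +kernel] at this
    by_cases h27 : 27 ∣ Nat.card G
    · have hd := dvd_sum_cntOrd h27
      simp [div27, cntOrd_one] at hd
      omega
    · have := mul_cntOrd_le (G := G) (p := 3) (j := 1) (by norm_num) (by simpa using h)
        (by simpa using h27)
      norm_num at this
      omega
  have z25 : cntOrd G 25 = 0 := by
    by_contra h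
    have h5 : cntOrd G 5 = 144 :=
      s5.resolve_left (cntOrd_ne_zero_of_dvd (show 5 ∣ 25 by norm_num) h)
    have := e 25 (by norm_num)
    have := e 125 (by norm_num)
    have := t 25
    rw [show (25 : ℕ).totient = 20 by decide +kernel] at this
    have := t 125
    rw [show (125 : ℕ).totient = 100 by decide +kernel] at this
    by_cases h125 : 125 ∣ Nat.card G
    · have hd := dvd_sum_cntOrd h125
      simp [div125, cntOrd_one] at hd
      omega
    · have := mul_cntOrd_le (G := G) (p := 5) (j := 1) (by norm_num) (by simpa using h)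
        (by simpa using h125)
      norm_num at this
      omega
  have z49 : cntOrd G 49 = 0 := by
    have := e 49 (by norm_num)
    have := t 49
    rw [show (49 : ℕ).totient = 42 by decide +kernel] at this
    omega
  have n25 : ¬ 25 ∣ Nat.card G := fun h => by
    have hd := dvd_sum_cntOrd h
    simp [div25, cntOrd_one, z25] at hd
    omega
  have n49 : ¬ 49 ∣ Nat.card G := fun h => by
    have hd := dvd_sum_cntOrd h
    simp [div49, cntOrd_one, z49] at hd
    omega
  have g7 : cntOrd G 7 ≠ 0 → 15 ∣ Nat.card G ∧ 15 ∣ cntOrd G 14 ∧ 15 ∣ cntOrd G 21 ∧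
      15 ∣ cntOrd G 35 := by
    intro h
    have hQ : ∀ Q : Sylow 7 G, Nat.card Q = 7 := card_sylow_eq_prime (d 7 h) (by simpa using n49)
    have hc := cntOrd_prime_eq hQ
    have hn : Nat.card (Sylow 7 G) = 15 := by omega
    rw [← hn]
    exact ⟨(Classical.arbitrary (Sylow 7 G)).card_dvd_index.trans (Subgroup.index_dvd_card _),
      card_sylow_dvd_cntOrd hQ (by norm_num), card_sylow_dvd_cntOrd hQ (by norm_num),
      card_sylow_dvd_cntOrd hQ (by norm_num)⟩
  have g5 : cntOrd G 5 ≠ 0 → 36 ∣ Nat.card G ∧ 36 ∣ cntOrd G 10 ∧ 36 ∣ cntOrd G 15 ∧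
      36 ∣ cntOrd G 35 := by
    intro h
    have hQ : ∀ Q : Sylow 5 G, Nat.card Q = 5 := card_sylow_eq_prime (d 5 h) (by simpa using n25)
    have hc := cntOrd_prime_eq hQ
    have hn : Nat.card (Sylow 5 G) = 36 := by omega
    rw [← hn]
    exact ⟨(Classical.arbitrary (Sylow 5 G)).card_dvd_index.trans (Subgroup.index_dvd_card _),
      card_sylow_dvd_cntOrd hQ (by norm_num), card_sylow_dvd_cntOrd hQ (by norm_num),
      card_sylow_dvd_cntOrd hQ (by norm_num)⟩
  have z14 : cntOrd G 14 = 0 := by
    by_contra h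
    have h7 := cntOrd_ne_zero_of_dvd (show 7 ∣ 14 by norm_num) h
    have := (g7 h7).2.1
    have hd := dvd_sum_cntOrd (d 14 h)
    simp [div14, cntOrd_one, s2] at hd
    have := e 14 (by norm_num)
    omega
  have z21 : cntOrd G 21 = 0 := by
    by_contra h
    have := (g7 (cntOrd_ne_zero_of_dvd (show 7 ∣ 21 by norm_num) h)).2.2.1
    have := e 21 (by norm_num)
    have := t 21
    rw [show (21 : ℕ).totient = 12 by decide +kernel] at this
    omega
  have z35 : cntOrd G 35 = 0 := by
    by_contra h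
    have := (g7 (cntOrd_ne_zero_of_dvd (show 7 ∣ 35 by norm_num) h)).2.2.2
    have := (g5 (cntOrd_ne_zero_of_dvd (show 5 ∣ 35 by norm_num) h)).2.2.2
    have := e 35 (by norm_num)
    omega
  have z10 : cntOrd G 10 = 0 := by
    by_contra h
    have h5 := cntOrd_ne_zero_of_dvd (show 5 ∣ 10 by norm_num) h
    have := (g5 h5).2.1
    have hd := dvd_sum_cntOrd (d 10 h)
    simp [div10, cntOrd_one, s2] at hd
    have := e 10 (by norm_num)
    omega
  have z15 : cntOrd G 15 = 0 := by
    by_contra h
    have h5 := cntOrd_ne_zero_of_dvd (show 5 ∣ 15 by norm_num) h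
    have h3 := cntOrd_ne_zero_of_dvd (show 3 ∣ 15 by norm_num) h
    have := (g5 h5).2.2.1
    have hd := dvd_sum_cntOrd (d 15 h)
    simp [div15, cntOrd_one] at hd
    have := e 15 (by norm_num)
    omega
  have f6 : cntOrd G 6 ≠ 0 → cntOrd G 6 = 90 ∨ cntOrd G 6 = 144 := fun h => by
    have h3 := cntOrd_ne_zero_of_dvd (show 3 ∣ 6 by norm_num) h
    have hd := dvd_sum_cntOrd (d 6 h)
    simp [div6, cntOrd_one, s2] at hd
    have := e 6 (by norm_num)
    omega
  have hD : ∀ g : G, orderOf g ∈ ({1, 2, 3, 4, 5, 6, 7, 12} : Finset ℕ) := by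
    intro g
    have h0 : cntOrd G (orderOf g) ≠ 0 := (cntOrd_ne_zero_iff _).2 ⟨g, rfl⟩
    have hdvd : orderOf g ∣ 420 := dvd_of_bounds 420 (orderOf_pos g).ne'
      (fun p hp hpm => by
        rcases six_prime hV hp (hpm.trans (orderOf_dvd_natCard g)) with rfl | rfl | rfl | rfl <;>
          norm_num)
      (by
        intro p hp hd
        have hcl := cntOrd_ne_zero_of_dvd hd h0
        obtain rfl | rfl | rfl | rfl : p = 2 ∨ p = 3 ∨ p = 5 ∨ p = 7 := by
          have : (420 : ℕ).primeFactors = {2, 3, 5, 7} := by decide +kernel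
          simpa [this] using hp
        · rw [show (420 : ℕ).factorization 2 = 2 by decide +kernel] at hcl
          exact hcl z8
        · rw [show (420 : ℕ).factorization 3 = 1 by decide +kernel] at hcl
          exact hcl z9
        · rw [show (420 : ℕ).factorization 5 = 1 by decide +kernel] at hcl
          exact hcl z25
        · rw [show (420 : ℕ).factorization 7 = 1 by decide +kernel] at hcl
          exact hcl z49)
      (by norm_num)
    have hn : ∀ k, cntOrd G k = 0 → ¬ k ∣ orderOf g := fun k hk h =>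
      cntOrd_ne_zero_of_dvd h h0 hk
    have hfilt : (420 : ℕ).divisors.filter
        (fun m => ¬ 10 ∣ m ∧ ¬ 15 ∣ m ∧ ¬ 14 ∣ m ∧ ¬ 21 ∣ m ∧ ¬ 35 ∣ m)
        = {1, 2, 3, 4, 5, 6, 7, 12} := by
      decide +kernel
    rw [← hfilt]
    exact Finset.mem_filter.2 ⟨Nat.mem_divisors.2 ⟨hdvd, by norm_num⟩,
      hn 10 z10, hn 15 z15, hn 14 z14, hn 21 z21, hn 35 z35⟩
  have hN := card_eq_sum hD
  simp [cntOrd_one, s2] at hN
  obtain ⟨v, hv0, hv⟩ := hA 144 (by simp)
  have hvD : v ∈ ({1, 2, 3, 4, 5, 6, 7, 12} : Finset ℕ) := by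
    obtain ⟨g, rfl⟩ := (cntOrd_ne_zero_iff v).1 hv0
    exact hD g
  simp only [Finset.mem_insert, Finset.mem_singleton] at hvD
  have hsome : cntOrd G 4 = 144 ∨ cntOrd G 5 = 144 ∨ cntOrd G 6 = 144 ∨ cntOrd G 12 = 144 := by
    have := e 3 le_rfl
    have := e 7 (by norm_num)
    rcases hvD with rfl | rfl | rfl | rfl | rfl | rfl | rfl | rfl
    · rw [cntOrd_one] at hv; omega
    all_goals omega
  have d2 := d 2 (by omega)
  have d3 := d 3
  have d4 := d 4
  have d5 := d 5
  have d7 := d 7
  have d12 := d 12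
  have i5 : 5 ∣ Nat.card G → cntOrd G 5 ≠ 0 := cntOrd_prime_ne_zero (by norm_num)
  have i7 : 7 ∣ Nat.card G → cntOrd G 7 ≠ 0 := cntOrd_prime_ne_zero (by norm_num)
  have i3 : 3 ∣ Nat.card G → cntOrd G 3 ≠ 0 := cntOrd_prime_ne_zero Nat.prime_three
  have p12 : cntOrd G 12 ≠ 0 → cntOrd G 6 ≠ 0 := cntOrd_ne_zero_of_dvd (by norm_num)
  have p12' : cntOrd G 12 ≠ 0 → cntOrd G 4 ≠ 0 := cntOrd_ne_zero_of_dvd (by norm_num)
  have p6 : cntOrd G 6 ≠ 0 → cntOrd G 3 ≠ 0 := cntOrd_ne_zero_of_dvd (by norm_num)
  have b : ∀ m, 3 ≤ m → cntOrd G m ≤ 144 := fun m hm => by have := e m hm; omega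
  have b3 := b 3 (by norm_num)
  have b4 := b 4 (by norm_num)
  have b5 := b 5 (by norm_num)
  have b6 := b 6 (by norm_num)
  have b7 := b 7 (by norm_num)
  have b12 := b 12 (by norm_num)
  have z7 : cntOrd G 7 = 0 := by
    by_contra h
    obtain ⟨h15, -⟩ := g7 h
    obtain ⟨h36, -⟩ := g5 (i5 (dvd_trans (by norm_num) h15))
    have := d7 h
    clear * - h15 h36 this hN b3 b4 b5 b6 b7 b12 hG0
    omega
  have c4 : cntOrd G 4 = 0 ∨ cntOrd G 4 = 90 := by
    by_cases h : cntOrd G 4 = 0
    · exact Or.inl h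
    · exact Or.inr (s4 (d4 h))
  have c6 : cntOrd G 6 = 0 ∨ cntOrd G 6 = 90 ∨ cntOrd G 6 = 144 := by
    by_cases h : cntOrd G 6 = 0
    · exact Or.inl h
    · exact Or.inr (f6 h)
  have c12 : cntOrd G 12 = 0 ∨ cntOrd G 12 = 80 ∨ cntOrd G 12 = 144 := by
    have := e 12 (by norm_num)
    have := t 12
    rw [show (12 : ℕ).totient = 4 by decide +kernel] at this
    omega
  have n5 : cntOrd G 5 = 144 := by
    rcases s5 with h | h
    · exfalso
      have hn5 : ¬ 5 ∣ Nat.card G := fun h' => i5 h' h
      have hn7 : ¬ 7 ∣ Nat.card G := fun h' => i7 h' z7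
      clear * - hn5 hn7 hN s3 c4 c6 c12 h z7 hsome p12 p12' p6 d2 d4
      omega
    · exact h
  obtain ⟨h36, -⟩ := g5 (by omega)
  have h5d := d5 (by omega)
  have h4 := s4 (dvd_trans (by norm_num) h36)
  have h3 := s3.resolve_left (i3 (dvd_trans (by norm_num) h36))
  refine ⟨?_, h3, n5, z15, z10⟩
  clear * - h36 h5d h4 h3 n5 z7 hN c6 c12 p12 hG0
  omega

include hV hA in
theorem iso_six : Nonempty (G ≃* alternatingGroup (Fin 6)) := by
  classical
  obtain ⟨hG, h3, h5, h15, h10z'⟩ := card_six hV hA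
  haveI : Fact (Nat.Prime 5) := ⟨by norm_num⟩
  haveI : Fact (Nat.Prime 3) := ⟨Nat.prime_three⟩
  have hQ5 : ∀ Q : Sylow 5 G, Nat.card Q = 5 :=
    card_sylow_eq_prime (by rw [hG]; norm_num) (by rw [hG]; norm_num)
  suffices IsSimpleGroup G from CfsgLib.OrderElim.A6.nonempty_mulEquiv_alternating_six hG
  have hnt : Nontrivial G := Finite.one_lt_card_iff_nontrivial.1 (by omega)
  refine ⟨fun N hN => ?_⟩
  -- counting elements inside a normal subgroup
  have hcnt : ∀ S : Finset ℕ, (∀ g : G, orderOf g ∈ S → g ∈ N) →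
      ∑ m ∈ S, cntOrd G m ≤ Nat.card N := by
    intro S hS
    have : Fintype G := Fintype.ofFinite G
    have hsum : ∑ m ∈ S, cntOrd G m = Nat.card {g : G // orderOf g ∈ S} := by
      rw [Nat.card_eq_fintype_card, Fintype.card_subtype,
        Finset.card_eq_sum_card_fiberwise (s := Finset.univ.filter fun g : G => orderOf g ∈ S)
          (t := S) (f := fun g : G => orderOf g) (fun g hg => (Finset.mem_filter.1 hg).2)]
      refine Finset.sum_congr rfl fun m hm => ?_
      rw [cntOrd, Nat.card_eq_fintype_card, Fintype.card_subtype]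
      congr 1
      ext g
      simp only [Finset.mem_filter, Finset.mem_univ, true_and]
      exact ⟨fun h => ⟨h ▸ hm, h⟩, fun h => h.2⟩
    rw [hsum]
    exact Nat.card_le_card_of_injective (fun g => (⟨g.1, hS g.1 g.2⟩ : N))
      (fun a b h => Subtype.ext (congrArg (fun z : N => (z : G)) h))
  have hdvd : Nat.card N ∣ 360 := hG ▸ card_subgroup_dvd_card N
  by_cases h5N : 5 ∣ Nat.card N
  · right
    obtain ⟨y, hy⟩ := exists_prime_orderOf_dvd_card' (G := N) 5 h5N
    rw [← Subgroup.orderOf_coe] at hy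
    have h5in : ∀ g : G, orderOf g = 5 → g ∈ N := by
      intro g hg
      have hP : ∀ z : G, orderOf z = 5 → ∃ Q : Sylow 5 G, (Q : Subgroup G) = zpowers z := by
        intro z hz
        obtain ⟨Q, hQ⟩ := (IsPGroup.of_card (p := 5) (n := 1)
          (by rw [Nat.card_zpowers, hz, pow_one] : Nat.card (zpowers z) = 5 ^ 1)).exists_le_sylow
        exact ⟨Q, (eq_of_le_of_card_ge hQ
          (le_of_eq (by rw [Nat.card_zpowers, hz]; exact hQ5 Q))).symm⟩
      obtain ⟨Q, hQ⟩ := hP g hg
      obtain ⟨R, hR⟩ := hP (y : G) hy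
      obtain ⟨c, rfl⟩ := MulAction.exists_smul_eq G R Q
      have hgm : g ∈ ((c • R : Sylow 5 G) : Subgroup G) := by rw [hQ]; exact mem_zpowers g
      rw [Sylow.coe_subgroup_smul, Subgroup.mem_pointwise_smul_iff_inv_smul_mem, hR] at hgm
      have := hN.conj_mem _ (zpowers_le.2 y.2 hgm) c
      simpa [mul_assoc] using this
    have h1 : ∑ m ∈ ({1, 5} : Finset ℕ), cntOrd G m ≤ Nat.card N := hcnt _ (by
      intro g hg
      simp only [Finset.mem_insert, Finset.mem_singleton] at hg
      rcases hg with hg | hg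
      · rw [orderOf_eq_one_iff.1 hg]; exact one_mem N
      · exact h5in g hg)
    simp [cntOrd_one, h5] at h1
    by_contra hne
    have h180 : Nat.card N = 180 := by
      obtain ⟨k, hk⟩ := hdvd
      have hlt : Nat.card N < 360 := by
        have hle := Nat.le_of_dvd (by norm_num) (hG ▸ card_subgroup_dvd_card N)
        by_contra hge
        exact hne (eq_top_of_card_eq N (by omega))
      have hk2 : k ≤ 2 := by
        by_contra h
        have : Nat.card N * 3 ≤ Nat.card N * k := Nat.mul_le_mul_left _ (by omega)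
        omega
      interval_cases k <;> omega
    have hidx : N.index = 2 := by
      have := card_mul_index N
      rw [h180, hG] at this
      omega
    have h2 : ∑ m ∈ ({1, 3, 5} : Finset ℕ), cntOrd G m ≤ Nat.card N := hcnt _ (by
      intro g hg
      simp only [Finset.mem_insert, Finset.mem_singleton] at hg
      have key : ∀ k : ℕ, g ^ (2 * k) = g → g ∈ N := fun k hk => by
        rw [← hk, pow_mul]; exact pow_mem (sq_mem_of_index_two hidx g) k
      rcases hg with hg | hg | hg
      · rw [orderOf_eq_one_iff.1 hg]; exact one_mem N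
      · refine key 2 ?_
        rw [show 2 * 2 = 3 + 1 from rfl, pow_succ, ← hg, pow_orderOf_eq_one, one_mul]
      · exact h5in g hg)
    simp [cntOrd_one, h5, h3] at h2
    omega
  · left
    by_contra hne
    have h1N : 1 < Nat.card N := (one_lt_card_iff_ne_bot N).2 hne
    obtain ⟨x, hx⟩ : ∃ x : G, orderOf x = 5 := (cntOrd_ne_zero_iff 5).1 (by omega)
    have hnc : ∀ z : G, orderOf z = 3 → ¬ Commute x z := fun z hz hc => by
      have := hc.orderOf_mul_eq_mul_orderOf_of_coprime (by rw [hx, hz]; norm_num)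
      rw [hx, hz] at this
      exact (cntOrd_ne_zero_iff 15).2 ⟨_, this⟩ h15
    -- nine does not divide the order of `N`
    have h9 : ¬ 9 ∣ Nat.card N := by
      intro h9
      have hni : ¬ 3 ∣ N.index := by
        intro h
        have := Nat.mul_dvd_mul h9 h
        rw [card_mul_index, hG] at this
        norm_num at this
      have h81 : ∑ m ∈ ({1, 3} : Finset ℕ), cntOrd G m ≤ Nat.card N := hcnt _ (by
        intro g hg
        simp only [Finset.mem_insert, Finset.mem_singleton] at hg
        rcases hg with hg | hg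
        · rw [orderOf_eq_one_iff.1 hg]; exact one_mem N
        · rw [← QuotientGroup.eq_one_iff, ← orderOf_eq_one_iff]
          have h1 : orderOf (g : G ⧸ N) ∣ 3 := hg ▸ orderOf_map_dvd (QuotientGroup.mk' N) g
          have h2 : orderOf (g : G ⧸ N) ∣ N.index :=
            Subgroup.index_eq_card N ▸ orderOf_dvd_natCard _
          rcases (Nat.dvd_prime Nat.prime_three).1 h1 with h | h
          · exact h
          · exact absurd (h ▸ h2) hni)
      simp [cntOrd_one, h3] at h81
      obtain ⟨k, hk⟩ := hdvd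
      have hk4 : k ≤ 4 := by
        by_contra h
        have : Nat.card N * 5 ≤ Nat.card N * k := Nat.mul_le_mul_left _ (by omega)
        omega
      interval_cases k <;> omega
    -- the action of `x`
    let φ : zpowers x →* MulAut N := (MulAut.conjNormal (H := N)).comp (zpowers x).subtype
    letI : MulAction (zpowers x) N := MulAction.compHom N φ
    have hsm : ∀ (a : zpowers x) (n : N), ((a • n : N) : G) = (a : G) * n * (a : G)⁻¹ :=
      fun a n => rfl
    have hPx : IsPGroup 5 (zpowers x) := IsPGroup.of_card (n := 1) (by rw [Nat.card_zpowers, hx, pow_one])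
    have hmod := hPx.card_modEq_card_fixedPoints N
    have hfix : ∀ n : N, n ∈ MulAction.fixedPoints (zpowers x) N → Commute x (n : G) := by
      intro n hn
      have := congrArg (fun z : N => (z : G)) (hn ⟨x, mem_zpowers x⟩)
      rw [hsm] at this
      exact mul_inv_eq_iff_eq_mul.1 this
    by_cases h3N : 3 ∣ Nat.card N
    · obtain ⟨y, hy⟩ := exists_prime_orderOf_dvd_card' (G := N) 3 h3N
      have hQ3 : ∀ Q : Sylow 3 N, Nat.card Q = 3 := card_sylow_eq_prime h3N (by simpa using h9)
      -- the Sylow 3-subgroups of `N` are permuted by `x`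
      obtain ⟨Q₀⟩ := (inferInstance : Nonempty (Sylow 3 N))
      have hn4 : Nat.card (Sylow 3 N) ≤ 4 := by
        have hdv : Nat.card (Sylow 3 N) ∣ Nat.card N :=
          Q₀.card_dvd_index.trans (Subgroup.index_dvd_card _)
        have hm3 : Nat.card (Sylow 3 N) % 3 = 1 := card_sylow_modEq_one 3 N
        have hidx : Nat.card (Sylow 3 N) ≤ (Q₀ : Subgroup N).index :=
          Nat.le_of_dvd (Nat.pos_of_ne_zero index_ne_zero_of_finite) Q₀.card_dvd_index
        have hmul := card_mul_index (Q₀ : Subgroup N)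
        rw [show Nat.card (Q₀ : Subgroup N) = 3 from hQ3 Q₀] at hmul
        have h24 : Nat.card N ∣ 24 := by
          have h72 : Nat.card N ∣ 72 := by
            refine (Nat.Coprime.dvd_of_dvd_mul_left ?_ (show Nat.card N ∣ 5 * 72 from hdvd))
            exact ((Nat.Prime.coprime_iff_not_dvd (by norm_num)).2 h5N).symm
          obtain ⟨k, hk⟩ := h72
          have hk3 : 3 ∣ k := by
            by_contra hk3
            refine h9 ((Nat.Coprime.dvd_of_dvd_mul_right ?_ (show 9 ∣ Nat.card N * k by
              rw [← hk]; norm_num)))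
            exact ((Nat.Prime.coprime_iff_not_dvd Nat.prime_three).2 hk3).pow_left 2
          obtain ⟨l, rfl⟩ := hk3
          exact ⟨l, by linarith⟩
        have := Nat.le_of_dvd (by norm_num) h24
        have hdv8 : Nat.card (Sylow 3 N) ∣ 8 := by
          have h1 : 3 * Nat.card (Sylow 3 N) ∣ 24 :=
            (hmul ▸ Nat.mul_dvd_mul_left 3 Q₀.card_dvd_index).trans h24
          exact (Nat.mul_dvd_mul_iff_left (by norm_num : 0 < 3)).1 (show 3 * _ ∣ 3 * 8 from h1)
        have : Nat.card (Sylow 3 N) ≠ 7 := fun h => by rw [h] at hdv8; norm_num at hdv8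
        omega
      let σ : Equiv.Perm (Sylow 3 N) := MulAction.toPerm (MulAut.conjNormal (H := N) x)
      have hx5 : x ^ 5 = 1 := by rw [← hx]; exact pow_orderOf_eq_one x
      have hσ : σ ^ 5 = 1 := by
        have h : (MulAction.toPermHom (MulAut N) (Sylow 3 N)).comp (MulAut.conjNormal (H := N))
            (x ^ 5) = 1 := by rw [hx5, map_one]
        rw [map_pow] at h
        exact h
      have hσ1 : σ = 1 := by
        rcases (Nat.dvd_prime (by norm_num : Nat.Prime 5)).1 (orderOf_dvd_of_pow_eq_one hσ) with h | h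
        · exact orderOf_eq_one_iff.1 h
        · have h2 := orderOf_dvd_natCard σ
          rw [h, Nat.card_perm] at h2
          exact absurd (h2.trans (Nat.factorial_dvd_factorial hn4)) (by norm_num [Nat.factorial])
      have hQfix : MulAut.conjNormal (H := N) x • Q₀ = Q₀ := congrArg (· Q₀) (congrArg DFunLike.coe hσ1)
      obtain ⟨q, hq⟩ := exists_prime_orderOf_dvd_card' (G := (Q₀ : Subgroup N)) 3
        (dvd_of_eq (hQ3 Q₀).symm)
      rw [← Subgroup.orderOf_coe, ← Subgroup.orderOf_coe] at hq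
      set Q := ((Q₀ : Subgroup N)).map N.subtype with hQ
      have hQc : Nat.card Q = 3 :=
        (card_map_of_injective N.subtype_injective).trans (hQ3 Q₀)
      have hxn : x ∈ normalizer (Q : Set G) := by
        have h' : (MulAut.conjNormal (H := N) x • (Q₀ : Subgroup N)) = (Q₀ : Subgroup N) :=
          congrArg Sylow.toSubgroup hQfix
        refine mem_normalizer_iff.2 fun z => ?_
        constructor
        · rintro ⟨r, hr, rfl⟩
          refine ⟨MulAut.conjNormal (H := N) x r, ?_, by simp⟩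
          rw [SetLike.mem_coe, ← h']
          exact Subgroup.smul_mem_pointwise_smul r _ _ hr
        · rintro ⟨r, hr, hrz⟩
          refine ⟨(MulAut.conjNormal (H := N) x)⁻¹ r, ?_, ?_⟩
          · rw [SetLike.mem_coe] at hr ⊢
            rw [← h', Subgroup.mem_pointwise_smul_iff_inv_smul_mem] at hr
            exact hr
          · rw [← map_inv]
            simp only [Subgroup.coe_subtype] at hrz ⊢
            rw [MulAut.conjNormal_apply, hrz]
            group
      have hc := CfsgLib.Recognition.OrderSixty.five_centralizes_three hx5 hQc hxn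
        (q := ((q : N) : G)) ⟨(q : N), q.2, rfl⟩
      exact hnc _ hq (mul_inv_eq_iff_eq_mul.1 hc)
    · -- a 2-group of order 2, 4 or 8
      have h8 : Nat.card N ∣ 8 := by
        have h72 : Nat.card N ∣ 72 := by
          refine (Nat.Coprime.dvd_of_dvd_mul_left ?_ (show Nat.card N ∣ 5 * 72 from hdvd))
          exact ((Nat.Prime.coprime_iff_not_dvd (by norm_num)).2 h5N).symm
        refine (Nat.Coprime.dvd_of_dvd_mul_left ?_ (show Nat.card N ∣ 9 * 8 from h72))
        exact (((Nat.Prime.coprime_iff_not_dvd Nat.prime_three).2 h3N).symm).pow_right 2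
      have hN8 := Nat.le_of_dvd (by norm_num) h8
      have hfp : Nat.card (MulAction.fixedPoints (zpowers x) N) = 1 := by
        rw [Nat.card_eq_one_iff_unique]
        refine ⟨⟨fun a b => ?_⟩, ⟨⟨1, fun a => Subtype.ext (by rw [hsm]; simp)⟩⟩⟩
        have key : ∀ a : MulAction.fixedPoints (zpowers x) N, (a : N) = 1 := by
          intro a
          by_contra ha
          have h2 : orderOf (a : N) ∣ 8 := (_root_.orderOf_dvd_natCard _).trans h8
          have h2' : 2 ∣ orderOf (a : N) := by
            rcases (Nat.dvd_prime_pow Nat.prime_two).1 (show orderOf (a : N) ∣ 2 ^ 3 from h2) with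
              ⟨i, -, hi⟩
            rcases i with _ | i
            · exact absurd (orderOf_eq_one_iff.1 (by simpa using hi)) ha
            · rw [hi]; exact dvd_pow_self 2 (by omega)
          have hc := ((hfix a.1 a.2).pow_right (orderOf (a : N) / 2))
          have ho : orderOf (((a : N) : G) ^ (orderOf (a : N) / 2)) = 2 := by
            rw [← Subgroup.coe_pow, Subgroup.orderOf_coe,
              orderOf_pow_orderOf_div (orderOf_pos _).ne' h2']
          have h10 := hc.orderOf_mul_eq_mul_orderOf_of_coprime (by rw [hx, ho]; norm_num)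
          rw [hx, ho] at h10
          exact (cntOrd_ne_zero_iff 10).2 ⟨_, h10⟩ h10z'
        exact Subtype.ext ((key a).trans (key b).symm)
      rw [hfp] at hmod
      have hmod' : Nat.card N % 5 = 1 := hmod
      interval_cases h : Nat.card N <;> norm_num at *

end Six

end CfsgLib.Recog.SmallAltCounts
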