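import Cfsg.Agent.Lib.Recog.CentralSylowPSLTwo

/-!
A finite group with the class sizes of `PSL(2, q)` has central quotient `PSL(2, q)`: the
centraliser of a noncentral `p`-element has no noncentral element of order prime to `p`, and the
index of the centre is `q (q^2 - 1) / d`.
-/

set_option autoImplicit false
set_option linter.style.haveILetI false

namespace CfsgLib.Recog.ClassSizesPSLTwo

universe u

variable {G : Type u} [Group G]

/-- The class size of an element. -/
noncomputable abbrev cs (x : G) : ℕ := (Subgroup.centralizer ({x} : Set G)).index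

/-- Being an element of `p`-power order. -/
def IsPElt (p : ℕ) (x : G) : Prop := ∃ k, x ^ p ^ k = 1

theorem mem_center_iff_cs {x : G} : cs x = 1 ↔ x ∈ Subgroup.center G := by
  rw [cs, Subgroup.index_eq_one]
  constructor
  · intro h
    exact Subgroup.mem_center_iff.2 fun g =>
      Subgroup.mem_centralizer_singleton_iff.1 (h ▸ Subgroup.mem_top g)
  · intro h
    exact eq_top_iff.2 fun g _ =>
      Subgroup.mem_centralizer_singleton_iff.2 (Subgroup.mem_center_iff.1 h g)

theorem center_le_centralizer (x : G) :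
    Subgroup.center G ≤ Subgroup.centralizer ({x} : Set G) :=
  fun z hz => Subgroup.mem_centralizer_singleton_iff.2 (Subgroup.mem_center_iff.1 hz x).symm

theorem centralizer_le_pow (x : G) (k : ℕ) :
    Subgroup.centralizer ({x} : Set G) ≤ Subgroup.centralizer ({x ^ k} : Set G) := fun g hg =>
  have h : Commute g x := Subgroup.mem_centralizer_singleton_iff.1 hg
  Subgroup.mem_centralizer_singleton_iff.2 (h.pow_right k).eq

theorem cs_pow_dvd (x : G) (k : ℕ) : cs (x ^ k) ∣ cs x :=
  Subgroup.index_dvd_of_le (centralizer_le_pow x k)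

theorem cs_conj [Finite G] (x g : G) : cs (g * x * g⁻¹) = cs x := by
  have h : Subgroup.centralizer ({g * x * g⁻¹} : Set G) =
      (Subgroup.centralizer ({x} : Set G)).map (MulAut.conj g).toMonoidHom := by
    ext y
    rw [Subgroup.mem_map_equiv, Subgroup.mem_centralizer_singleton_iff,
      Subgroup.mem_centralizer_singleton_iff, MulAut.conj_symm_apply]
    constructor <;> intro e
    · calc g⁻¹ * y * g * x = g⁻¹ * (y * (g * x * g⁻¹)) * g := by group
        _ = g⁻¹ * (g * x * g⁻¹ * y) * g := by rw [e]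
        _ = x * (g⁻¹ * y * g) := by group
    · calc y * (g * x * g⁻¹) = g * (g⁻¹ * y * g * x) * g⁻¹ := by group
        _ = g * (x * (g⁻¹ * y * g)) * g⁻¹ := by rw [e]
        _ = g * x * g⁻¹ * y := by group
  rw [cs, cs, h]
  exact Subgroup.index_map_equiv _ (MulAut.conj g)

theorem IsPElt.pow {p : ℕ} {x : G} (h : IsPElt p x) (n : ℕ) : IsPElt p (x ^ n) := by
  obtain ⟨k, hk⟩ := h
  exact ⟨k, by rw [← pow_mul, mul_comm, pow_mul, hk, one_pow]⟩

theorem IsPElt.coprime {p r : ℕ} (hp : p.Prime) (hr : r.Prime) (hne : p ≠ r) {x y : G}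
    (hx : IsPElt p x) (hy : IsPElt r y) : Nat.Coprime (orderOf x) (orderOf y) := by
  obtain ⟨k, hk⟩ := hx
  obtain ⟨j, hj⟩ := hy
  exact Nat.Coprime.of_dvd (orderOf_dvd_of_pow_eq_one hk) (orderOf_dvd_of_pow_eq_one hj)
    (Nat.Coprime.pow k j ((Nat.coprime_primes hp hr).2 hne))

theorem mem_of_coprime_pow {H : Subgroup G} {x : G} {m n : ℕ} (hm : x ^ m ∈ H) (hn : x ^ n = 1)
    (hcop : Nat.Coprime m n) : x ∈ H := by
  have h : x ∈ Subgroup.zpowers (x ^ m) := by
    rw [mem_zpowers_pow_iff]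
    exact Nat.Coprime.coprime_dvd_right (orderOf_dvd_of_pow_eq_one hn) hcop
  exact (Subgroup.zpowers_le.2 hm) h

/-- For commuting elements of coprime orders the centraliser of the product is the intersection. -/
theorem centralizer_mul {x y : G} (hc : Commute x y) (hco : Nat.Coprime (orderOf x) (orderOf y))
    (hx : orderOf x ≠ 0) :
    Subgroup.centralizer ({x * y} : Set G) =
      Subgroup.centralizer ({x} : Set G) ⊓ Subgroup.centralizer ({y} : Set G) := by
  refine le_antisymm (fun g hg => ?_) fun g hg => ?_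
  · have hxy : Commute g (x * y) := Subgroup.mem_centralizer_singleton_iff.1 hg
    have hx' : Commute g x := by
      have h1 : Commute g (x ^ orderOf y) := by
        have := hxy.pow_right (orderOf y)
        rwa [hc.mul_pow, pow_orderOf_eq_one y, mul_one] at this
      exact Subgroup.mem_centralizer_singleton_iff.1 (mem_of_coprime_pow
        (H := Subgroup.centralizer ({g} : Set G)) (Subgroup.mem_centralizer_singleton_iff.2 h1.symm.eq)
        (pow_orderOf_eq_one x) hco.symm) |>.symm
    refine ⟨Subgroup.mem_centralizer_singleton_iff.2 hx'.eq,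
      Subgroup.mem_centralizer_singleton_iff.2 ?_⟩
    have := (hx'.inv_right).mul_right hxy
    rw [inv_mul_cancel_left] at this
    exact this.eq
  · have h1 : Commute g x := Subgroup.mem_centralizer_singleton_iff.1 hg.1
    have h2 : Commute g y := Subgroup.mem_centralizer_singleton_iff.1 hg.2
    exact Subgroup.mem_centralizer_singleton_iff.2 (h1.mul_right h2).eq

variable [Finite G]

/-- A noncentral element has a noncentral power of prime power order. -/
theorem exists_primary {w : G} (hw : w ∉ Subgroup.center G) :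
    ∃ (r k : ℕ), r.Prime ∧ IsPElt r (w ^ k) ∧ w ^ k ∉ Subgroup.center G := by
  have hm : orderOf (QuotientGroup.mk' (Subgroup.center G) w) ≠ 1 := fun e =>
    hw ((QuotientGroup.eq_one_iff w).1 (orderOf_eq_one_iff.1 e))
  obtain ⟨r, hr, hrd⟩ := Nat.exists_prime_and_dvd hm
  refine ⟨r, orderOf w / r ^ (orderOf w).factorization r, hr, ⟨(orderOf w).factorization r, ?_⟩,
    fun hc => ?_⟩
  · rw [← pow_mul, mul_comm, Nat.ordProj_mul_ordCompl_eq_self, pow_orderOf_eq_one]
  · have h1 : orderOf (QuotientGroup.mk' (Subgroup.center G) w) ∣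
        orderOf w / r ^ (orderOf w).factorization r := by
      refine orderOf_dvd_of_pow_eq_one ?_
      rw [← map_pow]
      exact (QuotientGroup.eq_one_iff _).2 hc
    exact Nat.not_dvd_ordCompl hr (orderOf_pos w).ne' (hrd.trans h1)

theorem exists_sylow_le {r : ℕ} [Fact r.Prime] (H : Subgroup G) (hr : ¬ r ∣ H.index) :
    ∃ R : Sylow r G, (R : Subgroup G) ≤ H := by
  obtain ⟨L⟩ : Nonempty (Sylow r H) := inferInstance
  refine ⟨(L.2.map H.subtype).toSylow ?_, Subgroup.map_subtype_le _⟩
  rw [Subgroup.index_map_subtype]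
  exact fun h => ((Fact.out : r.Prime).dvd_mul.1 h).elim L.not_dvd_index hr

/-- A prime dividing `[H : Z(G)]` gives a noncentral element of that prime power order in `H`. -/
theorem exists_noncentral {r : ℕ} [Fact r.Prime] {H : Subgroup G}
    (hr : r ∣ (Subgroup.center G).relIndex H) :
    ∃ y ∈ H, IsPElt r y ∧ y ∉ Subgroup.center G := by
  by_contra hall
  simp only [not_exists, not_and, not_not] at hall
  obtain ⟨L⟩ : Nonempty (Sylow r H) := inferInstance
  refine L.not_dvd_index (hr.trans (Subgroup.index_dvd_of_le fun y hy => ?_))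
  obtain ⟨k, hk⟩ := L.2 ⟨y, hy⟩
  exact hall y y.2 ⟨k, by simpa using congrArg (fun t => ((t : (L : Subgroup H)) : H).1) hk⟩

/-- The hypotheses on the class sizes. -/
structure Sizes (G : Type u) [Group G] (p f q A d : ℕ) : Prop where
  prime : p.Prime
  one_le : 1 ≤ f
  q_eq : q = p ^ f
  dle : d ≤ 2
  dlt : d < q
  dA : d * A = q ^ 2 - 1
  nA : ¬ p ∣ A
  one_lt : 1 < A
  exA : ∃ x : G, cs x = A
  exq : ∃ x : G, q ∣ cs x
  split : ∀ x : G, cs x = 1 ∨ cs x = A ∨
    (q ∣ cs x ∧ ¬ A ∣ cs x ∧ ¬ p ^ (f + 1) ∣ cs x ∧ cs x ≠ q)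
  primes : ∀ (x : G) (r : ℕ), r.Prime → r ∣ cs x → r ∣ q * A
  cop : ∀ r : ℕ, r.Prime → r ∣ A → ∃ x : G, q ∣ cs x ∧ ¬ r ∣ cs x
  mult : ∀ x y : G, q ∣ cs x → cs x ∣ cs y → cs y = cs x ∨ (cs y = 2 * cs x ∧ p ≠ 2)

variable {p f q A d : ℕ}

namespace Sizes

variable (S : Sizes G p f q A d)
include S

theorem p_dvd_q : p ∣ q := S.q_eq ▸ dvd_pow_self p (by have := S.one_le; omega)

theorem not_q_dvd {n : ℕ} (hn : n ∣ A) : ¬ q ∣ n := fun h => S.nA ((S.p_dvd_q.trans h).trans hn)

theorem q_ne_one : q ≠ 1 := by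
  have h := S.p_dvd_q
  intro e
  exact S.prime.not_dvd_one (e ▸ h)

theorem cs_eq_A {x : G} (hx : x ∉ Subgroup.center G) (hd : cs x ∣ A) : cs x = A := by
  rcases S.split x with h | h | h
  · exact absurd (mem_center_iff_cs.1 h) hx
  · exact h
  · exact absurd h.1 (S.not_q_dvd hd)

/-- Elements of coprime order commuting with an element of class size `A` centralise its
centraliser. -/
theorem key1 {x y : G} (hx : cs x = A) (hc : Commute x y)
    (hco : Nat.Coprime (orderOf x) (orderOf y)) :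
    Subgroup.centralizer ({x} : Set G) ≤ Subgroup.centralizer ({y} : Set G) := by
  have he := centralizer_mul hc hco (orderOf_pos x).ne'
  have hle : Subgroup.centralizer ({x * y} : Set G) ≤ Subgroup.centralizer ({x} : Set G) :=
    he ▸ inf_le_left
  have hA : A ∣ cs (x * y) := hx ▸ Subgroup.index_dvd_of_le hle
  have hxy : cs (x * y) = A := by
    rcases S.split (x * y) with h | h | h
    · have := Nat.le_of_dvd (by omega) (h ▸ hA); have := S.one_lt; omega
    · exact h
    · exact absurd hA h.2.1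
  have heq : Subgroup.centralizer ({x * y} : Set G) = Subgroup.centralizer ({x} : Set G) := by
    refine Subgroup.eq_of_le_of_card_ge hle (le_of_eq ?_)
    have h1 := (Subgroup.centralizer ({x} : Set G)).index_mul_card
    have h2 := (Subgroup.centralizer ({x * y} : Set G)).index_mul_card
    rw [show (Subgroup.centralizer ({x} : Set G)).index = A from hx] at h1
    rw [show (Subgroup.centralizer ({x * y} : Set G)).index = A from hxy] at h2
    have := S.one_lt
    exact Nat.eq_of_mul_eq_mul_left (by omega) (h1.trans h2.symm)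
  rw [← heq, he]
  exact inf_le_right

theorem key1' {x y : G} (hx : cs x = A) {r s : ℕ} (hr : r.Prime) (hs : s.Prime) (hne : r ≠ s)
    (hxp : IsPElt r x) (hyp : IsPElt s y) (hy : y ∈ Subgroup.centralizer ({x} : Set G)) :
    Subgroup.centralizer ({x} : Set G) ≤ Subgroup.centralizer ({y} : Set G) :=
  S.key1 hx (Subgroup.mem_centralizer_singleton_iff.1 hy : Commute y x).symm
    (IsPElt.coprime hr hs hne hxp hyp)

/-- A `p`-element of class size `A` centralises no noncentral element of coprime prime power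
order. -/
theorem key2 {x y : G} (hxA : cs x = A) (hxp : IsPElt p x) {r : ℕ} (hr : r.Prime) (hrp : r ≠ p)
    (hy : y ∈ Subgroup.centralizer ({x} : Set G)) (hyr : IsPElt r y) : y ∈ Subgroup.center G := by
  by_contra hyZ
  haveI := Fact.mk hr
  have hxy := S.key1' hxA S.prime hr hrp.symm hxp hyr hy
  have hyA : cs y = A := S.cs_eq_A hyZ (hxA ▸ Subgroup.index_dvd_of_le hxy)
  have hCy : Subgroup.centralizer ({y} : Set G) = Subgroup.centralizer ({x} : Set G) :=
    le_antisymm (S.key1' hyA hr S.prime hrp hyr hxp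
      (Subgroup.mem_centralizer_singleton_iff.2 (Subgroup.mem_centralizer_singleton_iff.1 hy).symm))
      hxy
  -- an element whose centraliser contains a Sylow `r`-subgroup
  obtain ⟨w₀, hqw, hrw⟩ : ∃ w : G, q ∣ cs w ∧ ¬ r ∣ cs w := by
    by_cases hrA : r ∣ A
    · exact S.cop r hr hrA
    · obtain ⟨w, hw⟩ := S.exq
      refine ⟨w, hw, fun hd => ?_⟩
      rcases hr.dvd_mul.1 (S.primes w r hr hd) with h | h
      · rw [S.q_eq] at h
        exact hrp ((Nat.prime_dvd_prime_iff_eq hr S.prime).1 (hr.dvd_of_dvd_pow h))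
      · exact hrA h
  obtain ⟨R, hR⟩ := exists_sylow_le _ hrw
  have hyP : IsPGroup r (Subgroup.zpowers y) := by
    obtain ⟨k, hk⟩ := hyr
    obtain ⟨i, -, hi⟩ := (Nat.dvd_prime_pow hr).1 (orderOf_dvd_of_pow_eq_one hk)
    exact IsPGroup.of_card (by rw [Nat.card_zpowers, hi])
  obtain ⟨R₀, hR₀⟩ := hyP.exists_le_sylow
  obtain ⟨g, hg⟩ := MulAction.exists_smul_eq G R R₀
  set w := g * w₀ * g⁻¹ with hwdef
  have hwy : w ∈ Subgroup.centralizer ({y} : Set G) := by
    have hy0 : y ∈ ((g • R : Sylow r G) : Subgroup G) := by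
      rw [hg]; exact hR₀ (Subgroup.mem_zpowers y)
    rw [Sylow.coe_subgroup_smul, Subgroup.mem_pointwise_smul_iff_inv_smul_mem] at hy0
    have h1 := Subgroup.mem_centralizer_singleton_iff.1 (hR hy0)
    simp only [MulAut.smul_def, MulAut.conj_inv_apply] at h1
    rw [Subgroup.mem_centralizer_singleton_iff, hwdef]
    calc g * w₀ * g⁻¹ * y = g * (w₀ * (g⁻¹ * y * g)) * g⁻¹ := by group
      _ = g * (g⁻¹ * y * g * w₀) * g⁻¹ := by rw [h1]
      _ = y * (g * w₀ * g⁻¹) := by group
  have hws : cs w = cs w₀ := cs_conj w₀ g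
  have hwZ : w ∉ Subgroup.center G := fun e => by
    rw [← mem_center_iff_cs, hws] at e
    rw [e] at hqw
    exact S.q_ne_one (Nat.dvd_one.1 hqw)
  obtain ⟨s, k, hs, hwk, hwkZ⟩ := exists_primary hwZ
  have hwky : w ^ k ∈ Subgroup.centralizer ({y} : Set G) := pow_mem hwy k
  have hbad : cs (w ^ k) ∣ A → False := fun hd => by
    have h1 := S.cs_eq_A hwkZ hd
    have h2 : A ∣ cs w₀ := hws ▸ h1 ▸ cs_pow_dvd w k
    rcases S.split w₀ with h | h | h
    · rw [h] at hqw; exact S.q_ne_one (Nat.dvd_one.1 hqw)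
    · exact S.not_q_dvd dvd_rfl (h ▸ hqw)
    · exact h.2.1 h2
  by_cases hsp : s = p
  · exact hbad (hyA ▸ Subgroup.index_dvd_of_le (S.key1' hyA hr hs (hsp ▸ hrp) hyr hwk hwky))
  · exact hbad (hxA ▸ Subgroup.index_dvd_of_le
      (S.key1' hxA S.prime hs (Ne.symm hsp) hxp hwk (hCy ▸ hwky)))

theorem dvd_index_center : A ∣ (Subgroup.center G).index := by
  obtain ⟨x, hx⟩ := S.exA
  exact hx ▸ Subgroup.index_dvd_of_le (center_le_centralizer x)

/-- Some `p`-element of class size `A` centralises a given Sylow `p`-subgroup. -/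
theorem exists_x [Fact p.Prime] (P : Sylow p G) :
    ∃ x : G, cs x = A ∧ IsPElt p x ∧ (P : Subgroup G) ≤ Subgroup.centralizer ({x} : Set G) := by
  obtain ⟨x₀, hx₀⟩ := S.exA
  obtain ⟨P₀, hP₀⟩ := exists_sylow_le (r := p) (Subgroup.centralizer ({x₀} : Set G))
    (by rw [show (Subgroup.centralizer ({x₀} : Set G)).index = A from hx₀]; exact S.nA)
  obtain ⟨g, hg⟩ := MulAction.exists_smul_eq G P₀ P
  suffices ∃ x : G, cs x = A ∧ IsPElt p x ∧ (P₀ : Subgroup G) ≤ Subgroup.centralizer ({x} : Set G) by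
    obtain ⟨x, hxA, ⟨k, hk⟩, hle⟩ := this
    refine ⟨g * x * g⁻¹, by rw [cs_conj, hxA], ⟨k, by rw [conj_pow, hk, mul_one, mul_inv_cancel]⟩,
      fun y hy => ?_⟩
    rw [← hg] at hy
    change y ∈ ((g • P₀ : Sylow p G) : Subgroup G) at hy
    rw [Sylow.coe_subgroup_smul, Subgroup.mem_pointwise_smul_iff_inv_smul_mem] at hy
    have h1 := Subgroup.mem_centralizer_singleton_iff.1 (hle hy)
    simp only [MulAut.smul_def, MulAut.conj_inv_apply] at h1
    rw [Subgroup.mem_centralizer_singleton_iff]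
    calc y * (g * x * g⁻¹) = g * (g⁻¹ * y * g * x) * g⁻¹ := by group
      _ = g * (x * (g⁻¹ * y * g)) * g⁻¹ := by rw [h1]
      _ = g * x * g⁻¹ * y := by group
  have hx₀Z : x₀ ∉ Subgroup.center G := fun e => by
    rw [← mem_center_iff_cs, hx₀] at e
    exact S.one_lt.ne' e
  obtain ⟨r, k, hr, hrk, hkZ⟩ := exists_primary hx₀Z
  have hxk : cs (x₀ ^ k) = A := S.cs_eq_A hkZ (hx₀ ▸ cs_pow_dvd x₀ k)
  have hP₀k : (P₀ : Subgroup G) ≤ Subgroup.centralizer ({x₀ ^ k} : Set G) :=
    hP₀.trans (centralizer_le_pow x₀ k)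
  by_cases hrp : r = p
  · exact ⟨x₀ ^ k, hxk, hrp ▸ hrk, hP₀k⟩
  obtain ⟨y, hy, hyZ⟩ : ∃ y ∈ (P₀ : Subgroup G), y ∉ Subgroup.center G := by
    by_contra hall
    simp only [not_exists, not_and, not_not] at hall
    obtain ⟨w, hw⟩ := S.exq
    exact P₀.not_dvd_index ((S.p_dvd_q.trans hw).trans
      ((Subgroup.index_dvd_of_le (center_le_centralizer w)).trans (Subgroup.index_dvd_of_le hall)))
  obtain ⟨j, hj⟩ := P₀.2 ⟨y, hy⟩
  have hyp : IsPElt p y := ⟨j, by simpa using congrArg Subtype.val hj⟩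
  have hle := S.key1' hxk hr S.prime hrp hrk hyp (hP₀k hy)
  exact ⟨y, S.cs_eq_A hyZ (hxk ▸ Subgroup.index_dvd_of_le hle), hyp, hP₀k.trans hle⟩

/-- All noncentral `p`-elements have class size `A`. -/
theorem key3 {v : G} (hv : IsPElt p v) (hvZ : v ∉ Subgroup.center G) : cs v = A := by
  by_contra hne
  haveI := Fact.mk S.prime
  obtain ⟨hq, hA, -⟩ : q ∣ cs v ∧ ¬ A ∣ cs v ∧ True := by
    rcases S.split v with h | h | h
    · exact absurd (mem_center_iff_cs.1 h) hvZ
    · exact absurd h hne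
    · exact ⟨h.1, h.2.1, trivial⟩
  have hvP : IsPGroup p (Subgroup.zpowers v) := by
    obtain ⟨k, hk⟩ := hv
    obtain ⟨i, -, hi⟩ := (Nat.dvd_prime_pow S.prime).1 (orderOf_dvd_of_pow_eq_one hk)
    exact IsPGroup.of_card (by rw [Nat.card_zpowers, hi])
  obtain ⟨P₀, hP₀⟩ := hvP.exists_le_sylow
  obtain ⟨x, hxA, hxp, hxP⟩ := S.exists_x P₀
  have hxv : x ∈ Subgroup.centralizer ({v} : Set G) :=
    Subgroup.mem_centralizer_singleton_iff.2
      (Subgroup.mem_centralizer_singleton_iff.1 (hxP (hP₀ (Subgroup.mem_zpowers v)))).symm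
  set C := Subgroup.centralizer ({v} : Set G) with hC
  have hAn : A ∣ cs v * (Subgroup.center G).relIndex C := by
    rw [mul_comm, Subgroup.relIndex_mul_index (center_le_centralizer v)]
    exact S.dvd_index_center
  obtain ⟨r, hr, hrA, hrt⟩ : ∃ r : ℕ, r.Prime ∧ r ∣ A ∧ r ∣ (Subgroup.center G).relIndex C := by
    have h1 : ¬ Nat.Coprime A ((Subgroup.center G).relIndex C) := fun hco =>
      hA (hco.dvd_of_dvd_mul_right hAn)
    obtain ⟨r, hr, hr1, hr2⟩ := Nat.Prime.not_coprime_iff_dvd.1 h1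
    exact ⟨r, hr, hr1, hr2⟩
  have hrp : r ≠ p := fun e => S.nA (e ▸ hrA)
  haveI := Fact.mk hr
  obtain ⟨w, hwC, hwr, hwZ⟩ := exists_noncentral hrt
  have hvw : Commute v w := (Subgroup.mem_centralizer_singleton_iff.1 hwC : Commute w v).symm
  have he := centralizer_mul hvw (IsPElt.coprime S.prime hr hrp.symm hv hwr) (orderOf_pos v).ne'
  have hle : Subgroup.centralizer ({v * w} : Set G) ≤ C := he ▸ inf_le_left
  have hxw : x ∈ Subgroup.centralizer ({v * w} : Set G) := by
    rcases S.mult v (v * w) hq (Subgroup.index_dvd_of_le hle) with h | ⟨h, hp2⟩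
    · have : Subgroup.centralizer ({v * w} : Set G) = C := by
        refine Subgroup.eq_of_le_of_card_ge hle (le_of_eq ?_)
        have h1 := C.index_mul_card
        have h2 := (Subgroup.centralizer ({v * w} : Set G)).index_mul_card
        rw [show (Subgroup.centralizer ({v * w} : Set G)).index = cs v from h] at h2
        exact Nat.eq_of_mul_eq_mul_left
          (Nat.pos_of_ne_zero Subgroup.index_ne_zero_of_finite) (h1.trans h2.symm)
      rw [this]; exact hxv
    · set H := (Subgroup.centralizer ({v * w} : Set G)).subgroupOf C with hH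
      have hH2 : H.index = 2 := by
        have h1 := Subgroup.relIndex_mul_index hle
        rw [show (Subgroup.centralizer ({v * w} : Set G)).index = 2 * cs v from h] at h1
        exact Nat.eq_of_mul_eq_mul_right (Nat.pos_of_ne_zero Subgroup.index_ne_zero_of_finite) h1
      obtain ⟨k, hk⟩ := hxp
      have hsq : (⟨x, hxv⟩ : C) ^ 2 ∈ H := Subgroup.sq_mem_of_index_two hH2 _
      exact mem_of_coprime_pow (x := (⟨x, hxv⟩ : C)) hsq (Subtype.ext (by simpa using hk))
        (((Nat.coprime_primes Nat.prime_two S.prime).2 hp2.symm).pow_right k)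
  rw [he] at hxw
  exact hwZ (S.key2 hxA hxp hr hrp
    (Subgroup.mem_centralizer_singleton_iff.2 (Subgroup.mem_centralizer_singleton_iff.1 hxw.2).symm)
    hwr)

/-- Noncentral `p`-elements centralise no noncentral element of coprime prime power order. -/
theorem key4 {v y : G} (hv : IsPElt p v) (hvZ : v ∉ Subgroup.center G) {r : ℕ} (hr : r.Prime)
    (hrp : r ≠ p) (hy : y ∈ Subgroup.centralizer ({v} : Set G)) (hyr : IsPElt r y) :
    y ∈ Subgroup.center G :=
  S.key2 (S.key3 hv hvZ) hv hr hrp hy hyr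

theorem index_center : (Subgroup.center G).index = q * A := by
  haveI := Fact.mk S.prime
  obtain ⟨P⟩ : Nonempty (Sylow p G) := inferInstance
  obtain ⟨x, hxA, hxp, -⟩ := S.exists_x P
  have hxZ : x ∉ Subgroup.center G := fun e => by
    rw [← mem_center_iff_cs, hxA] at e
    exact S.one_lt.ne' e
  obtain ⟨w₀, hw₀⟩ := S.exq
  have hw₀Z : w₀ ∉ Subgroup.center G := fun e => by
    rw [← mem_center_iff_cs] at e
    rw [e] at hw₀
    exact S.q_ne_one (Nat.dvd_one.1 hw₀)
  obtain ⟨s, k, hs, hwk, hwkZ⟩ := exists_primary hw₀Z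
  obtain ⟨hqw, hwf, hwA⟩ : q ∣ cs (w₀ ^ k) ∧ ¬ p ^ (f + 1) ∣ cs (w₀ ^ k) ∧ cs (w₀ ^ k) ≠ A := by
    rcases S.split (w₀ ^ k) with h | h | h
    · exact absurd (mem_center_iff_cs.1 h) hwkZ
    · exfalso
      have h2 : A ∣ cs w₀ := h ▸ cs_pow_dvd w₀ k
      rcases S.split w₀ with g | g | g
      · exact hw₀Z (mem_center_iff_cs.1 g)
      · exact S.not_q_dvd dvd_rfl (g ▸ hw₀)
      · exact g.2.1 h2
    · exact ⟨h.1, h.2.2.1, fun e => S.not_q_dvd dvd_rfl (e ▸ h.1)⟩
  have hsp : s ≠ p := fun e => hwA (S.key3 (e ▸ hwk) hwkZ)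
  have h0 := Subgroup.index_ne_zero_of_finite (H := Subgroup.center G)
  have hpnot : ¬ p ∣ (Subgroup.center G).relIndex (Subgroup.centralizer ({w₀ ^ k} : Set G)) := by
    intro hd
    obtain ⟨v, hv, hvp, hvZ⟩ := exists_noncentral hd
    exact hwkZ (S.key4 hvp hvZ hs hsp (Subgroup.mem_centralizer_singleton_iff.2
      (Subgroup.mem_centralizer_singleton_iff.1 hv).symm) hwk)
  have hA0 : A ≠ 0 := by have := S.one_lt; omega
  have hq0 : q ≠ 0 := fun e => by
    have := S.q_eq; rw [e] at this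
    exact pow_ne_zero f S.prime.ne_zero this.symm
  refine Nat.eq_of_factorization_eq h0 (mul_ne_zero hq0 hA0) fun r => ?_
  by_cases hr : r.Prime
  swap
  · rw [Nat.factorization_eq_zero_of_not_prime _ hr, Nat.factorization_eq_zero_of_not_prime _ hr]
  haveI := Fact.mk hr
  by_cases hrp : r = p
  · subst hrp
    rw [← Subgroup.relIndex_mul_index (center_le_centralizer (w₀ ^ k)),
      Nat.factorization_mul (fun e => hpnot (by rw [e]; exact dvd_zero r)) Subgroup.index_ne_zero_of_finite,
      Finsupp.add_apply, Nat.factorization_eq_zero_of_not_dvd hpnot, zero_add,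
      Nat.factorization_mul hq0 hA0, Finsupp.add_apply, Nat.factorization_eq_zero_of_not_dvd S.nA,
      add_zero, S.q_eq, Nat.Prime.factorization_pow hr, Finsupp.single_eq_same]
    apply le_antisymm
    · by_contra hlt
      exact hwf ((hr.pow_dvd_iff_le_factorization Subgroup.index_ne_zero_of_finite).2 (by omega))
    · exact (hr.pow_dvd_iff_le_factorization Subgroup.index_ne_zero_of_finite).1 (S.q_eq ▸ hqw)
  · have hnot : ¬ r ∣ (Subgroup.center G).relIndex (Subgroup.centralizer ({x} : Set G)) := by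
      intro hd
      obtain ⟨y, hy, hyr, hyZ⟩ := exists_noncentral hd
      exact hyZ (S.key2 hxA hxp hr hrp hy hyr)
    have hrq : ¬ r ∣ q := fun h => hrp
      ((Nat.prime_dvd_prime_iff_eq hr S.prime).1 (hr.dvd_of_dvd_pow (S.q_eq ▸ h)))
    rw [← Subgroup.relIndex_mul_index (center_le_centralizer x),
      Nat.factorization_mul (fun e => hnot (by rw [e]; exact dvd_zero r)) Subgroup.index_ne_zero_of_finite,
      Finsupp.add_apply, Nat.factorization_eq_zero_of_not_dvd hnot, zero_add,
      Nat.factorization_mul hq0 hA0, Finsupp.add_apply, Nat.factorization_eq_zero_of_not_dvd hrq,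
      zero_add, show (Subgroup.centralizer ({x} : Set G)).index = A from hxA]

omit S in
/-- Elements of prime power order of the central quotient lift. -/
theorem exists_lift {r : ℕ} [Fact r.Prime] {x : G ⧸ Subgroup.center G} (hx : IsPElt r x) :
    ∃ y : G, (y : G ⧸ Subgroup.center G) = x ∧ IsPElt r y := by
  have hxP : IsPGroup r (Subgroup.zpowers x) := by
    obtain ⟨k, hk⟩ := hx
    obtain ⟨i, -, hi⟩ := (Nat.dvd_prime_pow Fact.out).1 (orderOf_dvd_of_pow_eq_one hk)
    exact IsPGroup.of_card (by rw [Nat.card_zpowers, hi])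
  obtain ⟨Q, hQ⟩ := hxP.exists_le_sylow
  obtain ⟨R, rfl⟩ := Sylow.mapSurjective_surjective
    (QuotientGroup.mk'_surjective (Subgroup.center G)) r Q
  have hx' := hQ (Subgroup.mem_zpowers x)
  rw [Sylow.coe_mapSurjective] at hx'
  obtain ⟨y, hy, hyx⟩ := hx'
  obtain ⟨k, hk⟩ := R.2 ⟨y, hy⟩
  exact ⟨y, hyx, k, by simpa using congrArg Subtype.val hk⟩

omit S [Finite G] in
/-- Lifts of coprime orders of commuting elements commute. -/
theorem commute_lift {a b : G} (h : Commute (a : G ⧸ Subgroup.center G) b)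
    (hco : Nat.Coprime (orderOf a) (orderOf b)) : Commute a b := by
  have hc : a * b * a⁻¹ * b⁻¹ ∈ Subgroup.center G := by
    rw [← QuotientGroup.eq_one_iff]
    simp [h.eq]
  set c := a * b * a⁻¹ * b⁻¹ with hcdef
  have hcb : Commute c b := (Subgroup.mem_center_iff.1 hc b).symm
  have h1 : a * b * a⁻¹ = c * b := by rw [hcdef]; group
  have hb : c ^ orderOf b = 1 := by
    have h2 : (c * b) ^ orderOf b = 1 := by
      rw [← h1, conj_pow, pow_orderOf_eq_one, mul_one, mul_inv_cancel]
    rwa [hcb.mul_pow, pow_orderOf_eq_one, mul_one] at h2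
  have ha : ∀ n : ℕ, a ^ n * b * (a ^ n)⁻¹ = c ^ n * b := by
    intro n
    induction n with
    | zero => simp
    | succ n ih =>
      rw [pow_succ' a]
      calc a * a ^ n * b * (a * a ^ n)⁻¹ = a * (a ^ n * b * (a ^ n)⁻¹) * a⁻¹ := by group
        _ = a * (c ^ n * b) * a⁻¹ := by rw [ih]
        _ = c ^ n * (a * b * a⁻¹) := by
          rw [← mul_assoc a (c ^ n), Subgroup.mem_center_iff.1 (pow_mem hc n) a]
          group
        _ = c ^ (n + 1) * b := by rw [h1, pow_succ]; group
  have ha' : c ^ orderOf a = 1 := by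
    have := ha (orderOf a)
    rw [pow_orderOf_eq_one, one_mul, inv_one, mul_one] at this
    exact mul_eq_right.1 this.symm
  have hc1 : c = 1 := by
    have := pow_gcd_eq_one.2 (⟨ha', hb⟩ : c ^ orderOf a = 1 ∧ c ^ orderOf b = 1)
    rwa [hco.gcd_eq_one, pow_one] at this
  rw [hc1, one_mul] at h1
  exact mul_inv_eq_iff_eq_mul.1 h1

theorem data [Fact p.Prime] :
    CentralSylowTI.Data (G ⧸ Subgroup.center G) p q A d where
  prime := S.prime
  isPow := ⟨f, S.one_le, S.q_eq⟩
  dle := S.dle
  dA := S.dA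
  dlt := S.dlt
  nA := S.nA
  card := S.index_center
  cent := by
    intro v hv hvp
    obtain ⟨y, rfl, hy⟩ := exists_lift hvp
    have hyZ : y ∉ Subgroup.center G := fun e => hv ((QuotientGroup.eq_one_iff y).2 e)
    constructor
    · rw [IsPGroup.iff_orderOf]
      intro g
      refine ⟨_, Nat.eq_prime_pow_of_unique_prime_dvd (orderOf_pos g).ne' fun {r} hr hrd => ?_⟩
      by_contra hrp
      haveI := Fact.mk hr
      set g' := g ^ (orderOf g / r) with hg'
      have hg'o : orderOf g' = r := orderOf_pow_orderOf_div (orderOf_pos g).ne' hrd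
      obtain ⟨z, hz, hzr⟩ := exists_lift (r := r) (x := (g' : G ⧸ Subgroup.center G))
        ⟨1, by rw [pow_one, ← hg'o, ← Subgroup.orderOf_coe, pow_orderOf_eq_one]⟩
      have hc := commute_lift (a := z) (b := y)
        (by rw [hz]; exact Subgroup.mem_centralizer_singleton_iff.1 g'.2)
        (IsPElt.coprime hr S.prime hrp hzr hy)
      have hzZ := S.key4 hy hyZ hr hrp (Subgroup.mem_centralizer_singleton_iff.2 hc.eq) hzr
      rw [(QuotientGroup.eq_one_iff z).2 hzZ] at hz
      rw [show g' = 1 from Subtype.ext hz.symm, orderOf_one] at hg'o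
      exact hr.ne_one hg'o.symm
    · have hyA := S.key3 hy hyZ
      obtain ⟨P, hP⟩ := exists_sylow_le (r := p) (Subgroup.centralizer ({y} : Set G))
        (by rw [show (Subgroup.centralizer ({y} : Set G)).index = A from hyA]; exact S.nA)
      set Q := P.mapSurjective (QuotientGroup.mk'_surjective (Subgroup.center G)) with hQ
      have hQc : Nat.card (Q : Subgroup (G ⧸ Subgroup.center G)) = q := by
        rw [Q.card_eq_multiplicity,
          show Nat.card (G ⧸ Subgroup.center G) = q * A from S.index_center,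
          Nat.factorization_mul (fun e => pow_ne_zero f S.prime.ne_zero (S.q_eq ▸ e))
            (by have := S.one_lt; omega), Finsupp.add_apply,
          Nat.factorization_eq_zero_of_not_dvd S.nA, add_zero, S.q_eq, S.prime.factorization_pow,
          Finsupp.single_eq_same]
      refine hQc.symm.dvd.trans (Subgroup.card_dvd_of_le fun z hz => ?_)
      rw [hQ, Sylow.coe_mapSurjective] at hz
      obtain ⟨z', hz', rfl⟩ := hz
      rw [Subgroup.mem_centralizer_singleton_iff]
      exact congrArg (QuotientGroup.mk' _) (Subgroup.mem_centralizer_singleton_iff.1 (hP hz'))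

theorem noRegular : CentralSylowPSLTwo.NoRegular (G ⧸ Subgroup.center G) q A := by
  intro r hr hrA
  haveI := Fact.mk hr
  obtain ⟨w, hqw, hrw⟩ := S.cop r hr hrA
  have hwZ : w ∉ Subgroup.center G := fun e => by
    rw [← mem_center_iff_cs] at e
    rw [e] at hqw
    exact S.q_ne_one (Nat.dvd_one.1 hqw)
  refine ⟨(w : G ⧸ Subgroup.center G), fun e => hwZ ((QuotientGroup.eq_one_iff w).1 e), ?_, ?_⟩
  · obtain ⟨R, hR⟩ := exists_sylow_le (r := r) (Subgroup.centralizer ({w} : Set G)) hrw
    refine ⟨R.mapSurjective (QuotientGroup.mk'_surjective (Subgroup.center G)), fun z hz => ?_⟩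
    rw [Sylow.coe_mapSurjective] at hz
    obtain ⟨z', hz', rfl⟩ := hz
    rw [Subgroup.mem_centralizer_singleton_iff]
    exact congrArg (QuotientGroup.mk' _) (Subgroup.mem_centralizer_singleton_iff.1 (hR hz'))
  rintro ⟨k, hk⟩ hindex
  set C₁ := (Subgroup.centralizer ({(w : G ⧸ Subgroup.center G)} : Set (G ⧸ Subgroup.center G))).comap
    (QuotientGroup.mk' (Subgroup.center G)) with hC₁
  have hC₁i : C₁.index = q := by
    rw [hC₁, Subgroup.index_comap_of_surjective _ (QuotientGroup.mk'_surjective _), hindex]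
  have hmem : ∀ g : C₁, (g : G) * w * (g : G)⁻¹ * w⁻¹ ∈ Subgroup.center G := by
    intro g
    have h := Subgroup.mem_centralizer_singleton_iff.1 (Subgroup.mem_comap.1 g.2)
    simp only [QuotientGroup.mk'_apply] at h
    rw [← QuotientGroup.eq_one_iff]
    simp [h]
  let θ : C₁ →* Subgroup.center G :=
    { toFun := fun g => ⟨_, hmem g⟩
      map_one' := Subtype.ext (by simp)
      map_mul' := fun g g' => Subtype.ext (by
        have hc := Subgroup.mem_center_iff.1 (hmem g') g
        simp only [Subgroup.coe_mul]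
        calc (g : G) * g' * w * ((g : G) * g')⁻¹ * w⁻¹
            = ((g : G) * ((g' : G) * w * (g' : G)⁻¹ * w⁻¹)) * (w * (g : G)⁻¹ * w⁻¹) := by group
          _ = (((g' : G) * w * (g' : G)⁻¹ * w⁻¹) * g) * (w * (g : G)⁻¹ * w⁻¹) := by rw [hc]
          _ = ((g' : G) * w * (g' : G)⁻¹ * w⁻¹) * ((g : G) * w * (g : G)⁻¹ * w⁻¹) := by group
          _ = ((g : G) * w * (g : G)⁻¹ * w⁻¹) * ((g' : G) * w * (g' : G)⁻¹ * w⁻¹) :=
            Subgroup.mem_center_iff.1 (hmem g) _) }
  have hwk : w ^ r ^ k ∈ Subgroup.center G := by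
    rw [← QuotientGroup.eq_one_iff]
    simpa using hk
  have hθ : IsPGroup r θ.range := by
    rintro ⟨c, g, rfl⟩
    refine ⟨k, Subtype.ext (Subtype.ext ?_)⟩
    simp only [SubmonoidClass.coe_pow, OneMemClass.coe_one]
    show ((g : G) * w * (g : G)⁻¹ * w⁻¹) ^ r ^ k = 1
    have h1 : Commute ((g : G) * w * (g : G)⁻¹ * w⁻¹) w :=
      (Subgroup.mem_center_iff.1 (hmem g) w).symm
    have h2 := h1.mul_pow (r ^ k)
    rw [inv_mul_cancel_right, conj_pow, Subgroup.mem_center_iff.1 hwk, mul_assoc,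
      mul_inv_cancel, mul_one] at h2
    exact mul_eq_right.1 h2.symm
  obtain ⟨i, hi⟩ := IsPGroup.iff_card.1 hθ
  have hle : Subgroup.centralizer ({w} : Set G) ≤ C₁ := by
    intro g hg
    rw [hC₁, Subgroup.mem_comap, Subgroup.mem_centralizer_singleton_iff]
    exact congrArg (QuotientGroup.mk' _) (Subgroup.mem_centralizer_singleton_iff.1 hg)
  have hker : θ.ker = (Subgroup.centralizer ({w} : Set G)).subgroupOf C₁ := by
    ext g
    rw [MonoidHom.mem_ker, Subgroup.mem_subgroupOf, Subgroup.mem_centralizer_singleton_iff]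
    constructor
    · intro e
      exact mul_inv_eq_iff_eq_mul.1 (mul_inv_eq_one.1 (congrArg Subtype.val e))
    · intro e
      refine Subtype.ext ?_
      show (g : G) * w * (g : G)⁻¹ * w⁻¹ = 1
      rw [e]; group
  have hcsw : cs w = r ^ i * q := by
    rw [cs, ← Subgroup.relIndex_mul_index hle, hC₁i, Subgroup.relIndex, ← hker, Subgroup.index_ker, hi]
  rcases i with _ | i
  · rw [pow_zero, one_mul] at hcsw
    rcases S.split w with h | h | h
    · exact hwZ (mem_center_iff_cs.1 h)
    · exact S.not_q_dvd dvd_rfl (h ▸ hqw)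
    · exact h.2.2.2 hcsw
  · exact hrw (hcsw ▸ (dvd_pow_self r (Nat.succ_ne_zero i)).mul_right q)

/-- The central quotient is `PSL(2, q)`. -/
theorem quotient_iso (heven : p = 2 → 4 ≤ q) (hodd : p ≠ 2 → d = 2 ∧ 5 ≤ q) :
    ∃ (F : Type) (_ : Field F) (_ : Fintype F), Fintype.card F = q ∧
      Nonempty (G ⧸ Subgroup.center G ≃* Matrix.ProjectiveSpecialLinearGroup (Fin 2) F) := by
  haveI := Fact.mk S.prime
  by_cases hp : p = 2
  · subst hp
    exact CentralSylowPSLTwo.even_case S.data (heven rfl)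
  · exact CentralSylowPSLTwo.odd_case S.data (hodd hp).1 (hodd hp).2 S.noRegular

/-- Sylow `p`-subgroups are abelian. -/
theorem comm_sylow [Fact p.Prime] (P : Sylow p G) :
    ∀ a ∈ (P : Subgroup G), ∀ b ∈ (P : Subgroup G), a * b = b * a := by
  intro a ha b hb
  by_cases haZ : a ∈ Subgroup.center G
  · exact (Subgroup.mem_center_iff.1 haZ b).symm
  obtain ⟨k, hk⟩ := P.2 ⟨a, ha⟩
  have hap : IsPElt p a := ⟨k, by simpa using congrArg Subtype.val hk⟩
  obtain ⟨P₀, hP₀⟩ := exists_sylow_le (r := p) (Subgroup.centralizer ({a} : Set G))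
    (by rw [show (Subgroup.centralizer ({a} : Set G)).index = A from S.key3 hap haZ]; exact S.nA)
  have hsurj := QuotientGroup.mk'_surjective (Subgroup.center G)
  set π := QuotientGroup.mk' (Subgroup.center G)
  have hbar : π a ≠ 1 := fun e => haZ ((QuotientGroup.eq_one_iff a).1 e)
  obtain ⟨Q, hQ⟩ := S.data.exists_sylow_eq hbar ⟨k, by
    rw [← map_pow, show a ^ p ^ k = 1 from by simpa using congrArg Subtype.val hk, map_one]⟩
  have haP : π a ∈ ((P.mapSurjective hsurj : Sylow p _) : Subgroup _) := by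
    rw [Sylow.coe_mapSurjective]; exact Subgroup.mem_map_of_mem _ ha
  have hbP : π b ∈ ((P.mapSurjective hsurj : Sylow p _) : Subgroup _) := by
    rw [Sylow.coe_mapSurjective]; exact Subgroup.mem_map_of_mem _ hb
  have hP₀Q : P₀.mapSurjective hsurj = Q := by
    refine Sylow.ext (Subgroup.eq_of_le_of_card_ge (fun z hz => ?_)
      (by rw [S.data.card_sylow, S.data.card_sylow]))
    rw [Sylow.coe_mapSurjective] at hz
    obtain ⟨z', hz', rfl⟩ := hz
    rw [hQ, Subgroup.mem_centralizer_singleton_iff, ← map_mul, ← map_mul,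
      Subgroup.mem_centralizer_singleton_iff.1 (hP₀ hz')]
  have heq : P.mapSurjective hsurj = Q := by
    by_contra hne
    have h2 : π a ∈ ((P.mapSurjective hsurj : Sylow p _) : Subgroup _) ⊓ (Q : Subgroup _) :=
      Subgroup.mem_inf.2 ⟨haP, hQ ▸ Subgroup.mem_centralizer_singleton_iff.2 rfl⟩
    rw [S.data.inf_eq_bot hne, Subgroup.mem_bot] at h2
    exact hbar h2
  rw [heq, ← hP₀Q, Sylow.coe_mapSurjective] at hbP
  obtain ⟨b₀, hb₀, hb₀b⟩ := hbP
  have hz : b₀⁻¹ * b ∈ Subgroup.center G := (QuotientGroup.eq).1 hb₀b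
  have h1 := Subgroup.mem_centralizer_singleton_iff.1 (hP₀ hb₀)
  calc a * b = a * b₀ * (b₀⁻¹ * b) := by group
    _ = b₀ * a * (b₀⁻¹ * b) := by rw [h1]
    _ = b₀ * ((b₀⁻¹ * b) * a) := by rw [mul_assoc, Subgroup.mem_center_iff.1 hz a]
    _ = b * a := by group

end Sizes

end CfsgLib.Recog.ClassSizesPSLTwo
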