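import Mathlib

/-!
Element orders of symmetric and alternating groups of small degree, via a computable list of cycle-type data.
-/

namespace CfsgLib.Recog

/-- All pairs (lcm, parity of sum + number of parts) of multisets of at most `f` parts, each at least 2,
with sum at most `b`. -/
def cycleData : ℕ → ℕ → List (ℕ × ℕ)
  | 0, _ => [(1, 0)]
  | f + 1, b => (1, 0) :: (List.range' 2 (b - 1)).flatMap
      (fun k => (cycleData f (b - k)).map (fun x => (Nat.lcm k x.1, (k + 1 + x.2) % 2)))

theorem mem_cycleData (m : Multiset ℕ) :
    ∀ f b, Multiset.card m ≤ f → m.sum ≤ b → (∀ a ∈ m, 2 ≤ a) →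
      (m.lcm, (m.sum + Multiset.card m) % 2) ∈ cycleData f b := by
  induction m using Multiset.induction_on with
  | empty =>
    intro f b _ _ _
    cases f <;> simp [cycleData]
  | cons a m ih =>
    intro f b hf hb h2
    obtain ⟨f, rfl⟩ : ∃ f', f = f' + 1 := ⟨f - 1, by simp at hf; omega⟩
    have ha := h2 a (Multiset.mem_cons_self a m)
    simp only [Multiset.card_cons, Multiset.sum_cons] at hf hb
    refine List.mem_cons_of_mem _ (List.mem_flatMap.2 ⟨a, ?_, List.mem_map.2
      ⟨_, ih f (b - a) (by omega) (by omega) (fun x hx => h2 x (Multiset.mem_cons_of_mem hx)), ?_⟩⟩)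
    · rw [List.mem_range'_1]; omega
    · rw [Multiset.lcm_cons, Multiset.sum_cons, Multiset.card_cons, ← lcm_eq_nat_lcm]
      ext
      · rfl
      · simp only; omega

theorem orderOf_perm_mem_cycleData {α : Type*} [Fintype α] [DecidableEq α] {n : ℕ}
    (hn : Fintype.card α = n) (g : Equiv.Perm α) :
    (orderOf g, (g.cycleType.sum + Multiset.card g.cycleType) % 2) ∈ cycleData n n := by
  have hs : g.cycleType.sum ≤ n := by
    rw [Equiv.Perm.sum_cycleType, ← hn]; exact Finset.card_le_univ _
  have hc : Multiset.card g.cycleType ≤ g.cycleType.sum := by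
    have := Multiset.card_nsmul_le_sum (s := g.cycleType) (a := 1)
      (fun x hx => le_trans (by norm_num) (Equiv.Perm.two_le_of_mem_cycleType hx))
    simpa using this
  rw [← Equiv.Perm.lcm_cycleType g]
  exact mem_cycleData _ n n (hc.trans hs) hs (fun a ha => Equiv.Perm.two_le_of_mem_cycleType ha)

theorem orderOf_alternating_mem_cycleData {n : ℕ} (g : alternatingGroup (Fin n)) :
    (orderOf g, 0) ∈ cycleData n n := by
  have h := orderOf_perm_mem_cycleData (Fintype.card_fin n) (g : Equiv.Perm (Fin n))
  have hev : ((g : Equiv.Perm (Fin n)).cycleType.sum +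
      Multiset.card (g : Equiv.Perm (Fin n)).cycleType) % 2 = 0 := by
    have hs := Equiv.Perm.sign_of_cycleType (g : Equiv.Perm (Fin n))
    rw [Equiv.Perm.mem_alternatingGroup.1 g.2] at hs
    exact Nat.even_iff.1 ((neg_one_pow_eq_one_iff_even (by decide)).1 hs.symm)
  rw [hev] at h
  simpa [Subgroup.orderOf_coe] using h

theorem mem_range_orderOf_alternating {n : ℕ} (m : Multiset ℕ) (hsum : m.sum ≤ n)
    (h2 : ∀ a ∈ m, 2 ≤ a) (hev : (m.sum + Multiset.card m) % 2 = 0) :
    m.lcm ∈ Set.range (orderOf : alternatingGroup (Fin n) → ℕ) := by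
  obtain ⟨g, hg⟩ := (Equiv.Perm.exists_with_cycleType_iff (Fin n)).2
    ⟨by rwa [Fintype.card_fin], h2⟩
  have hmem : g ∈ alternatingGroup (Fin n) := by
    rw [Equiv.Perm.mem_alternatingGroup, Equiv.Perm.sign_of_cycleType, hg,
      Even.neg_one_pow (Nat.even_iff.2 hev)]
  exact ⟨⟨g, hmem⟩, by rw [Subgroup.orderOf_mk, ← hg, Equiv.Perm.lcm_cycleType]⟩

theorem range_orderOf_alternating_eq {n : ℕ} (L : List ℕ)
    (hsub : ∀ x ∈ cycleData n n, x.2 = 0 → x.1 ∈ L)
    (hsup : ∀ k ∈ L, k ∈ Set.range (orderOf : alternatingGroup (Fin n) → ℕ)) :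
    Set.range (orderOf : alternatingGroup (Fin n) → ℕ) = {k | k ∈ L} := by
  apply Set.Subset.antisymm
  · rintro _ ⟨g, rfl⟩
    exact hsub _ (orderOf_alternating_mem_cycleData g) rfl
  · exact hsup

theorem range_orderOf_alternating_five :
    Set.range (orderOf : alternatingGroup (Fin 5) → ℕ) = {k | k ∈ [1, 2, 3, 5]} := by
  refine range_orderOf_alternating_eq _ (by decide +kernel) ?_
  intro k hk
  fin_cases hk
  · exact mem_range_orderOf_alternating (n := 5) 0 (by simp) (by simp) (by simp)
  · exact mem_range_orderOf_alternating (n := 5) {2, 2} (by decide) (by decide) (by decide)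
  · exact mem_range_orderOf_alternating (n := 5) {3} (by decide) (by decide) (by decide)
  · exact mem_range_orderOf_alternating (n := 5) {5} (by decide) (by decide) (by decide)

theorem range_orderOf_alternating_six :
    Set.range (orderOf : alternatingGroup (Fin 6) → ℕ) = {k | k ∈ [1, 2, 3, 4, 5]} := by
  refine range_orderOf_alternating_eq _ (by decide +kernel) ?_
  intro k hk
  fin_cases hk
  · exact mem_range_orderOf_alternating (n := 6) 0 (by simp) (by simp) (by simp)
  · exact mem_range_orderOf_alternating (n := 6) {2, 2} (by decide) (by decide) (by decide)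
  · exact mem_range_orderOf_alternating (n := 6) {3} (by decide) (by decide) (by decide)
  · exact mem_range_orderOf_alternating (n := 6) {4, 2} (by decide) (by decide) (by decide)
  · exact mem_range_orderOf_alternating (n := 6) {5} (by decide) (by decide) (by decide)

theorem range_orderOf_alternating_ten :
    Set.range (orderOf : alternatingGroup (Fin 10) → ℕ) =
      {k | k ∈ [1, 2, 3, 4, 5, 6, 7, 8, 9, 10, 12, 15, 21]} := by
  refine range_orderOf_alternating_eq _ (by decide +kernel) ?_
  intro k hk
  fin_cases hk
  · exact mem_range_orderOf_alternating (n := 10) 0 (by simp) (by simp) (by simp)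
  · exact mem_range_orderOf_alternating (n := 10) {2, 2} (by decide) (by decide) (by decide)
  · exact mem_range_orderOf_alternating (n := 10) {3} (by decide) (by decide) (by decide)
  · exact mem_range_orderOf_alternating (n := 10) {4, 2} (by decide) (by decide) (by decide)
  · exact mem_range_orderOf_alternating (n := 10) {5} (by decide) (by decide) (by decide)
  · exact mem_range_orderOf_alternating (n := 10) {3, 2, 2} (by decide) (by decide) (by decide)
  · exact mem_range_orderOf_alternating (n := 10) {7} (by decide) (by decide) (by decide)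
  · exact mem_range_orderOf_alternating (n := 10) {8, 2} (by decide) (by decide) (by decide)
  · exact mem_range_orderOf_alternating (n := 10) {9} (by decide) (by decide) (by decide)
  · exact mem_range_orderOf_alternating (n := 10) {5, 2, 2} (by decide) (by decide) (by decide)
  · exact mem_range_orderOf_alternating (n := 10) {4, 6} (by decide) (by decide) (by decide)
  · exact mem_range_orderOf_alternating (n := 10) {5, 3} (by decide) (by decide) (by decide)
  · exact mem_range_orderOf_alternating (n := 10) {7, 3} (by decide) (by decide) (by decide)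

end CfsgLib.Recog
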