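import Cfsg.Agent.Lib.Suzuki.Basic

/-!
An element of odd order of a Suzuki group fixes no non-zero vector of the natural module.
-/

set_option autoImplicit false

namespace CfsgLib.Recog.SuzukiFixedPointFree

open Matrix Cfsg.Lie CfsgLib.Suzuki
open scoped MatrixGroups

variable {F : Type*} [Field F] [CharP F 2]

omit [CharP F 2] in
theorem altForm4_add_right (u a b : Fin 4 → F) :
    altForm4 u (a + b) = altForm4 u a + altForm4 u b := by
  simp [altForm4]; ring

omit [CharP F 2] in
theorem altForm4_smul_right (u a : Fin 4 → F) (c : F) :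
    altForm4 u (c • a) = c * altForm4 u a := by
  simp [altForm4]; ring

omit [CharP F 2] in
theorem altForm4_comm (u a : Fin 4 → F) : altForm4 u a = altForm4 a u := by
  simp [altForm4]; ring

theorem altForm4_self (u : Fin 4 → F) : altForm4 u u = 0 := by
  simp only [altForm4]
  linear_combination (u 0 * u 3 + u 1 * u 2) * (CharTwo.two_eq_zero : (2 : F) = 0)

omit [CharP F 2] in
theorem exists_pair {v : Fin 4 → F} (hv : v ≠ 0) : ∃ u, altForm4 v u = 1 := by
  obtain ⟨i, hi⟩ := Function.ne_iff.1 hv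
  refine ⟨Pi.single i.rev (v i)⁻¹, ?_⟩
  simp only [Pi.zero_apply] at hi
  fin_cases i <;> simp [altForm4, Fin.rev, Pi.single_apply] <;> exact mul_inv_cancel₀ hi

theorem exists_symplectic_frame {v w : Fin 4 → F} (hvw : altForm4 v w = 1) :
    ∃ P : GL (Fin 4) F, P ∈ Sp4 F ∧ (P : Matrix (Fin 4) (Fin 4) F) *ᵥ Pi.single 0 1 = v ∧
      (P : Matrix (Fin 4) (Fin 4) F) *ᵥ Pi.single 3 1 = w := by
  let L : (Fin 4 → F) →ₗ[F] (Fin 2 → F) :=
    { toFun := fun u => ![altForm4 v u, altForm4 w u]
      map_add' := fun a b => by ext i; fin_cases i <;> simp [altForm4_add_right]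
      map_smul' := fun c a => by ext i; fin_cases i <;> simp [altForm4_smul_right] }
  have hker : L.ker ≠ ⊥ := fun h => by
    have := LinearMap.finrank_le_finrank_of_injective (LinearMap.ker_eq_bot.1 h)
    simp at this
  obtain ⟨a, ha, ha0⟩ := Submodule.exists_mem_ne_zero_of_ne_bot hker
  have hva : altForm4 v a = 0 := congrFun (LinearMap.mem_ker.1 ha) 0
  have hwa : altForm4 w a = 0 := congrFun (LinearMap.mem_ker.1 ha) 1
  obtain ⟨b, hab⟩ := exists_pair ha0
  obtain ⟨q, hq⟩ : ∃ q, q = b + altForm4 w b • v + altForm4 v b • w := ⟨_, rfl⟩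
  have two : (2 : F) = 0 := CharTwo.two_eq_zero
  have hvq : altForm4 v q = 0 := by
    rw [hq, altForm4_add_right, altForm4_add_right, altForm4_smul_right, altForm4_smul_right,
      altForm4_self, hvw]
    linear_combination altForm4 v b * two
  have hwq : altForm4 w q = 0 := by
    rw [hq, altForm4_add_right, altForm4_add_right, altForm4_smul_right, altForm4_smul_right,
      altForm4_self, altForm4_comm w v, hvw]
    linear_combination altForm4 w b * two
  have haq : altForm4 a q = 1 := by
    rw [hq, altForm4_add_right, altForm4_add_right, altForm4_smul_right, altForm4_smul_right, hab,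
      altForm4_comm a v, altForm4_comm a w, hva, hwa]
    ring
  clear hq
  let c : Fin 4 → Fin 4 → F := ![v, a, q, w]
  let M : Matrix (Fin 4) (Fin 4) F := Matrix.of fun i j => c j i
  have hM : Mᵀ * szJ F * M = szJ F := by
    ext i j
    have h1 : (Mᵀ * szJ F * M) i j = altForm4 (c i) (c j) := by
      simp [M, altForm4, szJ, Matrix.mul_apply, Fin.sum_univ_four, Matrix.vecMul, dotProduct]
      ring
    rw [h1]
    fin_cases i <;> fin_cases j <;>
      simp [c, szJ, altForm4_self, hvw, hva, hwa, hvq, hwq, haq, altForm4_comm a v,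
        altForm4_comm q v, altForm4_comm w v, altForm4_comm q a, altForm4_comm w a,
        altForm4_comm w q] <;>
      first
        | simp_all [altForm4_comm q w, altForm4_comm a w]
        | (rw [altForm4_comm]; simp_all)
  have hinv : (szJ F * Mᵀ * szJ F) * M = 1 := by
    rw [Matrix.mul_assoc, Matrix.mul_assoc, ← Matrix.mul_assoc Mᵀ, hM, szJ_mul_szJ]
  refine ⟨⟨M, szJ F * Mᵀ * szJ F, mul_eq_one_comm.1 hinv, hinv⟩, (mem_sp4_iff _).2 hM, ?_, ?_⟩
  · ext i; simp [Matrix.mulVec_single_one, M, c]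
  · ext i; simp [Matrix.mulVec_single_one, M, c]

theorem eq_one_of_fixes {θ : F →+* F} {g : GL (Fin 4) F} (hg : MemSz θ g)
    (hodd : Odd (orderOf g)) {v : Fin 4 → F} (hv : v ≠ 0)
    (hfix : (g : Matrix (Fin 4) (Fin 4) F) *ᵥ v = v) : g = 1 := by
  have two : (2 : F) = 0 := CharTwo.two_eq_zero
  set r := orderOf g
  obtain ⟨u, hu⟩ := exists_pair hv
  set f : ℕ → Fin 4 → F := fun i => ((g ^ i : GL (Fin 4) F) : Matrix (Fin 4) (Fin 4) F) *ᵥ u
  set w : Fin 4 → F := ∑ i ∈ Finset.range r, f i
  have hpres : ∀ a b, altForm4 ((g : Matrix (Fin 4) (Fin 4) F) *ᵥ a)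
      ((g : Matrix (Fin 4) (Fin 4) F) *ᵥ b) = altForm4 a b := fun a b => by
    simpa [Units.coeHom_apply] using hg.1 a b
  have hfi : ∀ i, altForm4 v (f i) = 1 := by
    intro i
    induction i with
    | zero => simpa [f] using hu
    | succ i ih =>
      rw [← ih, ← hpres v (f i), hfix]
      simp [f, pow_succ', Matrix.mulVec_mulVec]
  have hvw : altForm4 v w = 1 := by
    let A : (Fin 4 → F) →+ F :=
      AddMonoidHom.mk' (fun x => altForm4 v x) (altForm4_add_right v)
    have : A w = ∑ i ∈ Finset.range r, A (f i) := map_sum A _ _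
    change A w = 1
    rw [this, Finset.sum_congr rfl fun i _ => (show A (f i) = 1 from hfi i)]
    simp only [Finset.sum_const, Finset.card_range, nsmul_one]
    obtain ⟨k, hk⟩ := hodd
    rw [hk]; push_cast
    linear_combination (k : F) * two
  have hgw : (g : Matrix (Fin 4) (Fin 4) F) *ᵥ w = w := by
    simp only [w, Matrix.mulVec_sum]
    have h1 : ∀ i, (g : Matrix (Fin 4) (Fin 4) F) *ᵥ f i = f (i + 1) := fun i => by
      simp [f, pow_succ', Matrix.mulVec_mulVec]
    have h2 := Finset.sum_range_succ f r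
    rw [Finset.sum_range_succ'] at h2
    have h3 : f r = f 0 := by
      simp only [f]
      rw [show g ^ r = 1 from pow_orderOf_eq_one g, pow_zero]
    rw [h3] at h2
    simp only [h1]
    exact add_right_cancel h2
  obtain ⟨P, hP, hPv, hPw⟩ := exists_symplectic_frame hvw
  set g' := P⁻¹ * g * P with hg'
  have hg'sp : g' ∈ Sp4 F := mul_mem (mul_mem (inv_mem hP) hg.1) hP
  set M : Matrix (Fin 4) (Fin 4) F := (g' : Matrix (Fin 4) (Fin 4) F) with hM
  have hcol : ∀ k : Fin 4, (g : Matrix (Fin 4) (Fin 4) F) *ᵥ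
      ((P : Matrix (Fin 4) (Fin 4) F) *ᵥ Pi.single k 1) =
        (P : Matrix (Fin 4) (Fin 4) F) *ᵥ Pi.single k 1 →
      ∀ i, M i k = (Pi.single k 1 : Fin 4 → F) i := by
    intro k hk i
    have h := congrArg (((P⁻¹ : GL (Fin 4) F) : Matrix (Fin 4) (Fin 4) F) *ᵥ ·) hk
    simp only [Matrix.mulVec_mulVec, ← Units.val_mul] at h
    rw [← mul_assoc, inv_mul_cancel, Units.val_one, Matrix.one_mulVec] at h
    rw [hM, hg', ← congrFun h i]
    simp [Matrix.mulVec_single_one]
  have c0 := hcol 0 (by rw [hPv]; exact hfix)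
  have c3 := hcol 3 (by rw [hPw]; exact hgw)
  have k00 : M 0 0 = 1 := by simpa using c0 0
  have k10 : M 1 0 = 0 := by simpa using c0 1
  have k20 : M 2 0 = 0 := by simpa using c0 2
  have k30 : M 3 0 = 0 := by simpa using c0 3
  have k03 : M 0 3 = 0 := by simpa using c3 0
  have k13 : M 1 3 = 0 := by simpa using c3 1
  have k23 : M 2 3 = 0 := by simpa using c3 2
  have k33 : M 3 3 = 1 := by simpa using c3 3
  have s01 := sp4_cols hg'sp 0 1
  have s02 := sp4_cols hg'sp 0 2
  have s31 := sp4_cols hg'sp 3 1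
  have s32 := sp4_cols hg'sp 3 2
  have s12 := sp4_cols hg'sp 1 2
  simp [szJ, ← hM, k00, k10, k20, k30] at s01 s02
  simp [szJ, ← hM, k03, k13, k23, k33] at s31 s32
  simp [szJ, ← hM, s01, s02, s31, s32] at s12
  have htr : Matrix.trace (star4 M) = 0 := by
    simp [Matrix.trace, star4, pairOf, Fin.sum_univ_four, k00, k10, k20, k30, k03, k13, k23,
      k33, s01, s02, s31, s32]
    linear_combination (M 1 1 + M 2 2) * two
  have htrace : θ (Matrix.trace M) = 0 := by
    have e2 : star4 M = star4 ((P⁻¹ : GL (Fin 4) F) : Matrix (Fin 4) (Fin 4) F) *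
        star4 (g : Matrix (Fin 4) (Fin 4) F) * star4 (P : Matrix (Fin 4) (Fin 4) F) := by
      rw [hM, hg', Units.val_mul, star4_mul (mul_mem (inv_mem hP) hg.1) hP, Units.val_mul,
        star4_mul (inv_mem hP) hg.1]
    have e3 : star4 (P : Matrix (Fin 4) (Fin 4) F) *
        star4 ((P⁻¹ : GL (Fin 4) F) : Matrix (Fin 4) (Fin 4) F) = 1 := by
      rw [← star4_mul hP (inv_mem hP), ← Units.val_mul, mul_inv_cancel, Units.val_one, star4_one]
    have e4 : Matrix.trace M = Matrix.trace (g : Matrix (Fin 4) (Fin 4) F) := by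
      rw [hM, hg', Units.val_mul, Units.val_mul, Matrix.trace_mul_cycle, ← Units.val_mul,
        mul_inv_cancel, Units.val_one, Matrix.one_mul]
    rw [e2, Matrix.trace_mul_cycle, e3, Matrix.one_mul, hg.2] at htr
    rw [e4]
    exact (AddMonoidHom.map_trace θ.toAddMonoidHom _).trans htr
  rw [map_eq_zero] at htrace
  simp [Matrix.trace, Fin.sum_univ_four, k00, k33] at htrace
  have h22 : M 2 2 = M 1 1 := by linear_combination htrace - (1 + M 1 1) * two
  have hsq : M * M = 1 := by
    ext i j
    fin_cases i <;> fin_cases j <;>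
      simp [Matrix.mul_apply, Fin.sum_univ_four, k00, k10, k20, k30, k03, k13, k23, k33,
        s01, s02, s31, s32, h22] <;>
      first
        | linear_combination s12 + (0 : F) * two
        | (simp [h22] at s12; linear_combination s12)
        | linear_combination (M 1 2 * M 1 1) * two
        | linear_combination (M 2 1 * M 1 1) * two
  have hg2 : g' ^ 2 = 1 := Units.ext (by rw [sq, Units.val_mul, Units.val_one, ← hM, hsq])
  have hg2' : g ^ 2 = 1 := by
    have hconj : g' ^ 2 = P⁻¹ * g ^ 2 * P := by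
      rw [hg', sq, sq]; group
    rw [hconj] at hg2
    calc g ^ 2 = P * (P⁻¹ * g ^ 2 * P) * P⁻¹ := by group
      _ = 1 := by rw [hg2]; group
  have hd := orderOf_dvd_of_pow_eq_one hg2'
  rcases (Nat.dvd_prime Nat.prime_two).1 hd with h | h
  · exact orderOf_eq_one_iff.1 h
  · rw [show r = 2 from h] at hodd
    exact absurd hodd (by decide)

end CfsgLib.Recog.SuzukiFixedPointFree
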