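import Cfsg.Agent.Lib.Sporadic.M11Local
import Cfsg.Agent.Lib.SylowNumber.Action
import Cfsg.Agent.Lib.Order7920.Main
import Cfsg.Agent.S2490
import Cfsg.Agent.Lib.Golay.Mathieu
import Cfsg.Prelude.Def_Sporadic

/-!
A group of order 7920 with the numbers of elements of each order of a simple group of that order is
simple: its elements of order 11 are self-centralising, so the prime graph is disconnected.
-/

set_option autoImplicit false

namespace CfsgLib.Recog.NSEEleven

open Subgroup CfsgLib.Small

section Counts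

variable {G : Type*} [Group G] [Finite G]

/-- If every element of order `n` has class size divisible by `c`, so has their number. -/
theorem dvd_card_orderOf {n c : ℕ}
    (h : ∀ g : G, orderOf g = n → c ∣ (centralizer ({g} : Set G)).index) :
    c ∣ Nat.card {g : G // orderOf g = n} := by
  classical
  have := Fintype.ofFinite G
  rw [Nat.card_eq_fintype_card, Fintype.card_subtype,
    Finset.card_eq_sum_card_image (fun g : G => CfsgLib.ClassCount.cls g)]
  refine Finset.dvd_sum fun B hB => ?_
  obtain ⟨g, hg, rfl⟩ := Finset.mem_image.1 hB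
  have hgn := (Finset.mem_filter.1 hg).2
  have e : ((Finset.univ.filter fun g : G => orderOf g = n).filter
      fun a => CfsgLib.ClassCount.cls a = CfsgLib.ClassCount.cls g) = CfsgLib.ClassCount.cls g := by
    ext a
    rw [Finset.mem_filter, Finset.mem_filter, CfsgLib.ClassCount.mem_cls]
    constructor
    · rintro ⟨-, he⟩
      rw [← CfsgLib.ClassCount.mem_cls, ← he, CfsgLib.ClassCount.mem_cls]
    · intro ha
      refine ⟨⟨Finset.mem_univ _, ?_⟩, ?_⟩
      · obtain ⟨u, rfl⟩ := isConj_iff.1 ha
        rw [← MulAut.conj_apply, MulEquiv.orderOf_eq, hgn]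
      · ext b
        rw [CfsgLib.ClassCount.mem_cls, CfsgLib.ClassCount.mem_cls]
        exact ⟨fun hb => ha.trans hb, fun hb => ha.symm.trans hb⟩
  rw [e, CfsgLib.ClassCount.card_cls]
  exact h g hgn

omit [Finite G] in
theorem centralizer_le_of_commute_pow (x : G) (k : ℕ) :
    centralizer ({x} : Set G) ≤ centralizer ({x ^ k} : Set G) := fun g hg => by
  rw [mem_centralizer_singleton_iff] at hg ⊢
  exact ((show Commute g x from hg).pow_right k).eq

theorem dvd_index_of_card_dvd (h : Nat.card G = 7920) {H : Subgroup G} {k : ℕ}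
    (hk : k ∣ 7920) (hH : Nat.card H ∣ k) : 7920 / k ∣ H.index := by
  obtain ⟨j, hj⟩ := hH
  obtain ⟨l, hl⟩ := hk
  have hmul := card_mul_index H
  rw [h, hl, hj, mul_assoc] at hmul
  have hHpos : 0 < Nat.card H := Nat.card_pos
  have hk0 : 0 < k := by
    rcases Nat.eq_zero_or_pos k with e | e
    · rw [e, zero_mul] at hl; omega
    · exact e
  rw [hl, Nat.mul_div_cancel_left _ hk0, Nat.eq_of_mul_eq_mul_left hHpos hmul]
  exact dvd_mul_left _ _

end Counts

section Simple

variable {M : Type*} [Group M] [Finite M] [IsSimpleGroup M]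

theorem centralizer_eleven_element (h : Nat.card M = 7920) {y : M} (hy : orderOf y = 11) :
    Nat.card (centralizer ({y} : Set M)) = 11 := by
  have : Fact (Nat.Prime 11) := ⟨by norm_num⟩
  have h11 : ∀ P : Sylow 11 M, Nat.card P = 11 := fun P => by
    simpa using card_sylow_of_card_eq (k := 1) (m := 720) (by rw [h]; norm_num) (by norm_num) P
  obtain ⟨P, hyP, -⟩ := exists_unique_sylow_mem hy h11
  have hP := eq_zpowers_of_mem (h11 P) hyP (fun e => by rw [e, orderOf_one] at hy; omega)
  have hC := CfsgLib.Sporadic.M11.card_centralizer_eleven h P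
  have hz : centralizer ((P : Subgroup M) : Set M) = centralizer ({y} : Set M) := by
    rw [hP]; exact CfsgLib.Sporadic.M11.centralizer_zpowers y
  rw [← hz, hC]
  exact h11 P

/-- The possible numbers of elements of a given order. -/
theorem count_cases (h : Nat.card M = 7920) {n : ℕ} (hpos : 0 < Nat.card {g : M // orderOf g = n}) :
    let v := Nat.card {g : M // orderOf g = n}
    v = 1 ∨ 165 ∣ v ∨ 440 ∣ v ∨ 1584 ∣ v ∨ v = 1440 := by
  intro v
  classical
  obtain ⟨⟨⟨g, hg⟩⟩, -⟩ := Nat.card_pos_iff.1 hpos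
  have hn : n ∣ 7920 := hg ▸ h ▸ orderOf_dvd_natCard g
  rcases eq_or_ne n 1 with rfl | hn1
  · exact Or.inl (card_orderOf_eq_one (G := M))
  by_cases h11 : 11 ∣ n
  · right; right; right; right
    obtain ⟨k, rfl⟩ := h11
    have hgy : orderOf (g ^ k) = 11 := by
      have hk : k ≠ 0 := fun e => by subst e; simp at hg; omega
      rw [orderOf_pow' _ hk, hg, Nat.gcd_eq_right (dvd_mul_left k 11),
        Nat.mul_div_cancel _ (Nat.pos_of_ne_zero hk)]
    have hd := orderOf_dvd_natCard (⟨g, mem_centralizer_singleton_iff.2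
      ((Commute.refl g).pow_right k).eq⟩ : centralizer ({g ^ k} : Set M))
    rw [Subgroup.orderOf_mk, hg, centralizer_eleven_element h hgy] at hd
    have hk1 : k = 1 := by
      have := Nat.le_of_dvd (by norm_num) hd
      have : k ≠ 0 := fun e => by subst e; simp at hd
      omega
    subst hk1
    have : Fact (Nat.Prime 11) := ⟨by norm_num⟩
    have hc := card_orderOf_eq_prime (G := M) (p := 11) (fun P => by
      simpa using card_sylow_of_card_eq (k := 1) (m := 720) (by rw [h]; norm_num) (by norm_num) P)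
    obtain ⟨P⟩ := (inferInstance : Nonempty (Sylow 11 M))
    have hN := card_normalizer_mul_card_sylow P
    rw [CfsgLib.Sporadic.M11.card_normalizer_eleven h P, h] at hN
    show Nat.card {g : M // orderOf g = 11 * 1} = 1440
    rw [mul_one, hc]
    omega
  by_cases h5 : 5 ∣ n
  · right; right; right; left
    refine dvd_card_orderOf fun x hx => ?_
    refine dvd_index_of_card_dvd h (k := 5) (by norm_num) ?_
    obtain ⟨k, rfl⟩ := h5
    have hk : k ≠ 0 := fun e => by subst e; simp at hn
    have hy : orderOf (x ^ k) = 5 := by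
      rw [orderOf_pow' _ hk, hx, Nat.gcd_eq_right (dvd_mul_left k 5),
        Nat.mul_div_cancel _ (Nat.pos_of_ne_zero hk)]
    exact CfsgLib.Sporadic.M11.card_centralizer_five h hy ▸
      card_dvd_of_le (centralizer_le_of_commute_pow x k)
  by_cases h2 : 2 ∣ n
  · right; left
    refine dvd_card_orderOf fun x hx => ?_
    refine dvd_index_of_card_dvd h (k := 48) (by norm_num) ?_
    obtain ⟨k, rfl⟩ := h2
    have hk : k ≠ 0 := fun e => by subst e; simp at hn
    have hy : orderOf (x ^ k) = 2 := by
      rw [orderOf_pow' _ hk, hx, Nat.gcd_eq_right (dvd_mul_left k 2),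
        Nat.mul_div_cancel _ (Nat.pos_of_ne_zero hk)]
    exact CfsgLib.Sporadic.M11.card_centralizer_involution h hy ▸
      card_dvd_of_le (centralizer_le_of_commute_pow x k)
  right; right; left
  refine dvd_card_orderOf fun x hx => ?_
  refine dvd_index_of_card_dvd h (k := 18) (by norm_num) ?_
  obtain ⟨k, rfl⟩ : 3 ∣ n := by
    obtain ⟨q, hq, hqn⟩ := Nat.exists_prime_and_dvd hn1
    have hq' : q ∈ (7920 : ℕ).primeFactors := Nat.mem_primeFactors.2 ⟨hq, hqn.trans hn, by norm_num⟩
    rw [show (7920 : ℕ).primeFactors = {2, 3, 5, 11} by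
      rw [show (7920 : ℕ) = 2 ^ 4 * (3 ^ 2 * (5 * 11)) by norm_num, Nat.primeFactors_mul (by norm_num)
        (by norm_num), Nat.primeFactors_mul (by norm_num) (by norm_num), Nat.primeFactors_mul
        (by norm_num) (by norm_num), Nat.primeFactors_prime_pow (by norm_num) Nat.prime_two,
        Nat.primeFactors_prime_pow (by norm_num) Nat.prime_three, Nat.Prime.primeFactors (by norm_num),
        Nat.Prime.primeFactors (by norm_num)]
      decide] at hq'
    simp only [Finset.mem_insert, Finset.mem_singleton] at hq'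
    rcases hq' with rfl | rfl | rfl | rfl
    exacts [absurd hqn h2, hqn, absurd hqn h5, absurd hqn h11]
  have hk : k ≠ 0 := fun e => by subst e; simp at hn
  have hy : orderOf (x ^ k) = 3 := by
    rw [orderOf_pow' _ hk, hx, Nat.gcd_eq_right (dvd_mul_left k 3),
      Nat.mul_div_cancel _ (Nat.pos_of_ne_zero hk)]
  refine (card_dvd_of_le (centralizer_le_of_commute_pow x k)).trans ?_
  set y := x ^ k
  set C := centralizer ({y} : Set M) with hCdef
  have hCd : Nat.card C ∣ 7920 := h ▸ card_subgroup_dvd_card _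
  have h9 : 9 ∣ Nat.card C := by
    have : Fact (Nat.Prime 3) := ⟨Nat.prime_three⟩
    obtain ⟨S, hS⟩ := (IsPGroup.of_card (p := 3) (G := zpowers y) (n := 1)
      (by rw [Nat.card_zpowers, hy, pow_one])).exists_le_sylow
    have hS9 : Nat.card S = 9 := by
      simpa using card_sylow_of_card_eq (k := 2) (m := 880) (by rw [h]; norm_num) (by norm_num) S
    have hab : IsMulCommutative (S : Subgroup M) :=
      IsPGroup.isMulCommutative_of_card_eq_prime_sq (p := 3) (by rw [hS9]; norm_num)
    refine hS9 ▸ card_dvd_of_le (fun a ha => mem_centralizer_singleton_iff.2 ?_)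
    exact congrArg Subtype.val
      (hab.is_comm.comm (⟨a, ha⟩ : (S : Subgroup M)) ⟨y, hS (mem_zpowers y)⟩)
  have hne : ∀ p, p = 5 ∨ p = 11 → ¬ p ∣ Nat.card C := by
    intro p hp hd
    have : Fact p.Prime := ⟨by rcases hp with rfl | rfl <;> norm_num⟩
    obtain ⟨⟨z, hz⟩, hzo⟩ := exists_prime_orderOf_dvd_card' p hd
    rw [Subgroup.orderOf_mk] at hzo
    have hyz : y ∈ centralizer ({z} : Set M) := mem_centralizer_singleton_iff.2
      (mem_centralizer_singleton_iff.1 hz).symm
    have hdz := orderOf_dvd_natCard (⟨y, hyz⟩ : centralizer ({z} : Set M))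
    rw [Subgroup.orderOf_mk, hy] at hdz
    rcases hp with rfl | rfl
    · rw [CfsgLib.Sporadic.M11.card_centralizer_five h hzo] at hdz; norm_num at hdz
    · rw [centralizer_eleven_element h hzo] at hdz; norm_num at hdz
  obtain ⟨a, ha4, ha⟩ := (show ∀ d ∈ Nat.divisors 7920, 9 ∣ d → ¬ 5 ∣ d → ¬ 11 ∣ d →
      ∃ a ∈ Finset.range 5, d = 9 * 2 ^ a from by decide +kernel) _
    (Nat.mem_divisors.2 ⟨hCd, by norm_num⟩) h9 (hne 5 (Or.inl rfl)) (hne 11 (Or.inr rfl))
  have := CfsgLib.Sporadic.M11.card_centralizer_three h hy ha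
  rw [ha]
  interval_cases a <;> norm_num

end Simple

/-- A group of order 7920 whose counts of elements by order are those of a simple group of that
order is simple. -/
theorem isSimpleGroup {G : Type*} [Group G] [Finite G] {M : Type*} [Group M] [Finite M]
    [IsSimpleGroup M] (hM : Nat.card M = 7920) (h : Nat.card G = 7920)
    (hnse : {c : ℕ | 0 < c ∧ ∃ n : ℕ, c = Nat.card {g : G // orderOf g = n}} =
      {c : ℕ | 0 < c ∧ ∃ n : ℕ, c = Nat.card {g : M // orderOf g = n}}) :
    IsSimpleGroup G := by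
  classical
  have hval : ∀ n v : ℕ, Nat.card {g : G // orderOf g = n} = v → 0 < v →
      v = 1 ∨ 165 ∣ v ∨ 440 ∣ v ∨ 1584 ∣ v ∨ v = 1440 := by
    intro n v hv hpos
    obtain ⟨-, k, hk⟩ := (hnse ▸ (⟨hpos, n, hv.symm⟩ : v ∈ {c : ℕ | 0 < c ∧
      ∃ n : ℕ, c = Nat.card {g : G // orderOf g = n}}) : v ∈ {c : ℕ | 0 < c ∧
      ∃ n : ℕ, c = Nat.card {g : M // orderOf g = n}})
    rw [hk]
    exact count_cases hM (hk ▸ hpos)
  have : Fact (Nat.Prime 11) := ⟨by norm_num⟩
  have h11 : ∀ P : Sylow 11 G, Nat.card P = 11 := fun P => by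
    simpa using card_sylow_of_card_eq (k := 1) (m := 720) (by rw [h]; norm_num) (by norm_num) P
  obtain ⟨P0⟩ := (inferInstance : Nonempty (Sylow 11 G))
  have hdiv : Nat.card (Sylow 11 G) ∣ 720 := by
    rw [← index_sylow_of_card_eq (k := 1) (m := 720) (by rw [h]; norm_num) (by norm_num) P0]
    exact P0.card_dvd_index
  have hmod := card_sylow_modEq_one 11 G
  rw [Nat.ModEq] at hmod
  have hn : Nat.card (Sylow 11 G) = 144 := by
    have hv := hval 11 _ (card_orderOf_eq_prime h11)
      (Nat.mul_pos Nat.card_pos (by norm_num))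
    exact (show ∀ d ∈ Nat.divisors 720, d % 11 = 1 → (d * (11 - 1) = 1 ∨ 165 ∣ d * (11 - 1) ∨
      440 ∣ d * (11 - 1) ∨ 1584 ∣ d * (11 - 1) ∨ d * (11 - 1) = 1440) → d = 144 from by
      decide +kernel) _ (Nat.mem_divisors.2 ⟨hdiv, by norm_num⟩) hmod hv
  have hN : ∀ P : Sylow 11 G, Nat.card (normalizer ((P : Subgroup G) : Set G)) = 55 := fun P => by
    have := card_normalizer_eq hn P
    rw [h] at this
    omega
  -- no element of order 55
  have h55 : ∀ g : G, orderOf g ≠ 55 := by
    intro g0 hg0
    have hcyc : ∀ P : Sylow 11 G,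
        Nat.card {g : normalizer ((P : Subgroup G) : Set G) // orderOf g = 55} = 40 := by
      intro P
      obtain ⟨Q, hQ, -⟩ := exists_unique_sylow_mem (g := g0 ^ 5) (p := 11)
        (by rw [orderOf_pow' _ (by norm_num), hg0]; norm_num) h11
      obtain ⟨u, rfl⟩ := MulAction.exists_smul_eq G Q P
      have hgu : u * g0 * u⁻¹ ∈ normalizer (((u • Q : Sylow 11 G) : Subgroup G) : Set G) := by
        refine centralizer_le_normalizer' _ ?_
        rw [eq_zpowers_of_mem (h11 (u • Q)) (g := u * g0 ^ 5 * u⁻¹)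
          (by rw [Sylow.coe_subgroup_smul]; exact ⟨_, hQ, by simp⟩) (fun e => by
            rw [conj_eq_one_iff] at e
            have := orderOf_pow' g0 (n := 5) (by norm_num)
            rw [e, orderOf_one, hg0] at this
            norm_num at this), CfsgLib.Sporadic.M11.centralizer_zpowers, mem_centralizer_singleton_iff]
        simp only [← conj_pow]
        exact ((Commute.refl (u * g0 * u⁻¹)).pow_right 5).eq
      have hcy : IsCyclic (normalizer (((u • Q : Sylow 11 G) : Subgroup G) : Set G)) :=
        isCyclic_of_orderOf_eq_card ⟨_, hgu⟩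
          (by rw [Subgroup.orderOf_mk, ← MulAut.conj_apply, MulEquiv.orderOf_eq, hg0, hN])
      have := Fintype.ofFinite (normalizer (((u • Q : Sylow 11 G) : Subgroup G) : Set G))
      rw [Nat.card_eq_fintype_card, Fintype.card_subtype]
      rw [IsCyclic.card_orderOf_eq_totient (by rw [← Nat.card_eq_fintype_card, hN])]
      rfl
    let f : (Σ P : Sylow 11 G, {g : normalizer ((P : Subgroup G) : Set G) // orderOf g = 55}) →
        {g : G // orderOf g = 55} := fun a => ⟨a.2.1.1, by rw [Subgroup.orderOf_coe]; exact a.2.2⟩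
    have hmem : ∀ (P : Sylow 11 G) (g : normalizer ((P : Subgroup G) : Set G)), orderOf g = 55 →
        (g : G) ^ 5 ∈ (P : Subgroup G) := by
      intro P g hg
      have hpg : IsPGroup 11 (zpowers ((g : G) ^ 5)) := IsPGroup.of_card (n := 1) (by
        rw [Nat.card_zpowers, orderOf_pow' _ (by norm_num), Subgroup.orderOf_coe, hg]; norm_num)
      have h2 : (g : G) ^ 5 ∈ zpowers ((g : G) ^ 5) ⊓ (P : Subgroup G) :=
        hpg.inf_normalizer_sylow P ▸ Subgroup.mem_inf.mpr ⟨mem_zpowers _, pow_mem g.2 5⟩
      exact h2.2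
    have hf : Function.Bijective f := by
      constructor
      · rintro ⟨P, ⟨⟨a, ha⟩, ha'⟩⟩ ⟨R, ⟨⟨b, hb⟩, hb'⟩⟩ e
        obtain rfl : a = b := congrArg Subtype.val e
        obtain rfl : P = R := (exists_unique_sylow_mem (g := a ^ 5) (p := 11) (by
          rw [orderOf_pow' _ (by norm_num)]
          rw [Subgroup.orderOf_mk] at ha'
          rw [ha']; norm_num) h11).unique (hmem P _ ha') (hmem R _ hb')
        rfl
      · rintro ⟨g, hg⟩
        obtain ⟨P, hP, -⟩ := exists_unique_sylow_mem (g := g ^ 5) (p := 11)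
          (by rw [orderOf_pow' _ (by norm_num), hg]; norm_num) h11
        have hgN : g ∈ normalizer ((P : Subgroup G) : Set G) := by
          refine centralizer_le_normalizer' _ ?_
          rw [eq_zpowers_of_mem (h11 P) hP (fun e => by
            have := orderOf_pow' g (n := 5) (by norm_num)
            rw [e, orderOf_one, hg] at this
            norm_num at this), CfsgLib.Sporadic.M11.centralizer_zpowers, mem_centralizer_singleton_iff]
          exact ((Commute.refl g).pow_right 5).eq
        exact ⟨⟨P, ⟨⟨g, hgN⟩, by rw [Subgroup.orderOf_mk, hg]⟩⟩, rfl⟩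
    have := Fintype.ofFinite (Sylow 11 G)
    have hcard := (Nat.card_congr (Equiv.ofBijective f hf)).symm
    rw [Nat.card_sigma, Finset.sum_congr rfl (fun P _ => hcyc P), Finset.sum_const, smul_eq_mul,
      Finset.card_univ, ← Nat.card_eq_fintype_card, hn] at hcard
    have := hval 55 _ hcard (by norm_num)
    norm_num at this
  -- so 11 is isolated in the prime graph
  refine Cfsg.Agent.S2490.result h ⟨{11}, ⟨11, rfl, by norm_num, by rw [h]; norm_num⟩,
    ⟨2, by simp, Nat.prime_two, by rw [h]; norm_num⟩, ?_⟩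
  rintro a rfl b hb ha hbp - hbd ⟨g, hg⟩
  have hb11 : b ≠ 11 := fun e => hb (by simp [e])
  have hy : orderOf (g ^ b) = 11 := by
    rw [orderOf_pow' _ hbp.ne_zero, hg, Nat.gcd_eq_right (dvd_mul_left b 11),
      Nat.mul_div_cancel _ hbp.pos]
  obtain ⟨P, hP, -⟩ := exists_unique_sylow_mem hy h11
  have hgN : g ∈ normalizer ((P : Subgroup G) : Set G) := by
    refine centralizer_le_normalizer' _ ?_
    rw [eq_zpowers_of_mem (h11 P) hP (fun e => by rw [e, orderOf_one] at hy; omega),
      CfsgLib.Sporadic.M11.centralizer_zpowers, mem_centralizer_singleton_iff]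
    exact ((Commute.refl g).pow_right b).eq
  have := orderOf_dvd_natCard (⟨g, hgN⟩ : normalizer ((P : Subgroup G) : Set G))
  rw [Subgroup.orderOf_mk, hg, hN] at this
  have hb5 : b ∣ 5 := (Nat.mul_dvd_mul_iff_left (by norm_num : 0 < 11)).1 this
  obtain rfl := (Nat.prime_dvd_prime_iff_eq hbp (by norm_num)).1 hb5
  exact h55 g (by rw [hg])

/-- A group of the order and the counts of elements by order of the smallest Mathieu group is
simple of that order. -/
theorem isM11_of_nse {G : Type*} [Group G] [Finite G]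
    (hcard : Nat.card G = Nat.card ↥Cfsg.Spor.M11)
    (hnse : {c : ℕ | 0 < c ∧ ∃ n : ℕ, c = Nat.card {g : G // orderOf g = n}} =
      {c : ℕ | 0 < c ∧ ∃ n : ℕ, c = Nat.card {g : ↥Cfsg.Spor.M11 // orderOf g = n}}) :
    Cfsg.IsM11 G ∧ Cfsg.IsM11 ↥Cfsg.Spor.M11 := by
  have hs := CfsgLib.Golay.isSimpleGroup_sporM11
  have hM := CfsgLib.Golay.natCard_sporM11
  exact ⟨⟨isSimpleGroup hM (hcard.trans hM) hnse, hcard.trans hM⟩, hs, hM⟩

end CfsgLib.Recog.NSEEleven
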