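import Cfsg.Agent.Lib.Blocks.DefectZeroVanish
import Cfsg.Agent.Lib.Characters.Ito
import Cfsg.Agent.Lib.Characters.Decomp
import Cfsg.Agent.Lib.Characters.Values
import Cfsg.Agent.Lib.Chars17.Constituents

/-!
# Consequences of a prescribed multiset of character degrees

Perfectness from a single linear character, and non-existence of an element outside the
kernel of column orthogonality: if all non-principal characters either vanish at `g ≠ 1` or
have degree divisible by `k ≥ 2`, we get a contradiction.
-/

set_option autoImplicit false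
set_option linter.style.haveILetI false

noncomputable section

namespace CfsgLib.Recog.DegreeMultiset

open Cfsg CfsgLib.Characters CfsgLib.Chars17 CfsgLib.CharIto
open scoped ComplexConjugate

/-- A bijection between irreducible characters preserving degrees. -/
theorem exists_degree_equiv {G H : Type*} [Group G] [Finite G] [Group H] [Finite H]
    (h : ∀ d : ℕ, Nat.card {χ : IrrCharacter G // (χ : G → ℂ) 1 = (d : ℂ)} =
      Nat.card {χ : IrrCharacter H // (χ : H → ℂ) 1 = (d : ℂ)}) :
    ∃ e : IrrCharacter G ≃ IrrCharacter H,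
      ∀ χ, charDegree ((e χ) : H → ℂ) = charDegree (χ : G → ℂ) := by
  classical
  have hG : ∀ (χ : IrrCharacter G) (d : ℕ),
      charDegree (χ : G → ℂ) = d ↔ (χ : G → ℂ) 1 = (d : ℂ) := fun χ d => by
    rw [← cast_irrDegree χ, Nat.cast_inj]
  have hH : ∀ (χ : IrrCharacter H) (d : ℕ),
      charDegree (χ : H → ℂ) = d ↔ (χ : H → ℂ) 1 = (d : ℂ) := fun χ d => by
    rw [← cast_irrDegree χ, Nat.cast_inj]
  have f : ∀ d : ℕ, {χ : IrrCharacter G // charDegree (χ : G → ℂ) = d} ≃
      {χ : IrrCharacter H // charDegree (χ : H → ℂ) = d} := fun d =>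
    ((Equiv.subtypeEquivRight fun χ => hG χ d).trans
      ((Finite.equivFinOfCardEq (h d)).trans (Finite.equivFin _).symm)).trans
      (Equiv.subtypeEquivRight fun χ => (hH χ d).symm)
  exact ⟨Equiv.ofFiberEquiv f, fun χ => Equiv.ofFiberEquiv_map f χ⟩

/-- A linear character is trivial on a perfect group. -/
theorem eq_principal_of_perfect {H : Type*} [Group H] (hp : commutator H = ⊤)
    (χ : IrrCharacter H) (hd : charDegree (χ : H → ℂ) = 1) : χ = principalIrr H := by
  have hc := irr_isCharacter χ
  have h1 : (χ : H → ℂ) 1 = 1 := by rw [← cast_irrDegree χ, hd, Nat.cast_one]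
  refine Subtype.ext (funext fun g => ?_)
  have hg : g ∈ (linearHom hc h1).ker :=
    Abelianization.commutator_subset_ker _ (hp ▸ Subgroup.mem_top g)
  rw [principalIrr_apply, ← coe_linearHom hc h1 g, MonoidHom.mem_ker.1 hg, Units.val_one]

/-- A group whose only linear character is principal is perfect. -/
theorem commutator_eq_top_of_unique {G : Type*} [Group G] [Finite G]
    (h : ∀ χ : IrrCharacter G, charDegree (χ : G → ℂ) = 1 → χ = principalIrr G) :
    commutator G = ⊤ := by
  by_contra hne
  haveI : Nontrivial (G ⧸ commutator G) := QuotientGroup.nontrivial_iff.2 hne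
  haveI : IsMulCommutative (G ⧸ commutator G) :=
    inferInstanceAs (IsMulCommutative (Abelianization G))
  obtain ⟨η, hη⟩ := exists_nontrivial_irr (G := G ⧸ commutator G)
  have hd : charDegree (η : G ⧸ commutator G → ℂ) = 1 := by
    have h1 := degree_one_of_comm η.2
    rw [← cast_irrDegree η] at h1
    exact_mod_cast h1
  refine hη (Subtype.ext (funext fun x => ?_))
  obtain ⟨g, rfl⟩ := QuotientGroup.mk_surjective x
  have := congrArg (fun χ : IrrCharacter G => (χ : G → ℂ) g)
    (h (infl (commutator G) η) (Eq.trans (by simp only [charDegree, infl_apply, QuotientGroup.mk_one]) hd))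
  simpa [infl_apply] using this

variable {G : Type*} [Group G] [Finite G]

/-- Column orthogonality with the identity. -/
theorem sum_degree_mul_eq_zero {g : G} (hg : g ≠ 1) :
    ∑ χ : IrrCharacter G, (charDegree (χ : G → ℂ) : ℂ) * (χ : G → ℂ) g = 0 := by
  classical
  have h := column_orth g 1
  rw [if_neg (fun hc => hg (isConj_one_right.1 hc.symm))] at h
  rw [← h]
  refine Finset.sum_congr rfl fun χ _ => ?_
  rw [conj_irr_one, ← cast_irrDegree, mul_comm]

/-- If the non-principal characters not vanishing at `g ≠ 1` all have degree divisible by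
`k ≥ 2`, column orthogonality gives a contradiction. -/
theorem column_absurd {g : G} (hg : g ≠ 1) {k : ℕ} (hk : 2 ≤ k)
    (h : ∀ χ : IrrCharacter G, χ ≠ principalIrr G →
      (χ : G → ℂ) g = 0 ∨ k ∣ charDegree (χ : G → ℂ)) : False := by
  classical
  have h0 := sum_degree_mul_eq_zero hg
  rw [← Finset.add_sum_erase _ _ (Finset.mem_univ (principalIrr G))] at h0
  have hterm : ∀ χ ∈ Finset.univ.erase (principalIrr G), ∃ A : ℂ, IsIntegral ℤ A ∧
      (charDegree (χ : G → ℂ) : ℂ) * (χ : G → ℂ) g = (k : ℂ) * A := by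
    intro χ hχ
    rcases h χ (Finset.ne_of_mem_erase hχ) with h1 | ⟨c, hc⟩
    · exact ⟨0, isIntegral_zero, by rw [h1, mul_zero, mul_zero]⟩
    · exact ⟨(c : ℂ) * (χ : G → ℂ) g,
        (show IsIntegral ℤ (c : ℂ) by simpa using (isIntegral_algebraMap (R := ℤ) (A := ℂ) (x := (c : ℤ)))).mul (isIntegral_of_isCharacter (irr_isCharacter χ) g),
        by rw [hc, Nat.cast_mul, mul_assoc]⟩
  choose! A hA hAeq using hterm
  rw [Finset.sum_congr rfl hAeq, ← Finset.mul_sum] at h0
  have hd1 : charDegree (principalIrr G : G → ℂ) = 1 := by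
    have := cast_irrDegree (principalIrr G)
    rw [principalIrr_apply] at this
    exact_mod_cast this
  rw [hd1, principalIrr_apply, Nat.cast_one, one_mul] at h0
  have hk0 : (k : ℂ) ≠ 0 := Nat.cast_ne_zero.2 (by omega)
  set S := ∑ χ ∈ Finset.univ.erase (principalIrr G), A χ with hS
  have hint : IsIntegral ℤ ((1 : ℕ) / (k : ℂ) : ℂ) := by
    have hS' : IsIntegral ℤ (-S) := (IsIntegral.sum _ hA).neg
    have : ((1 : ℕ) / (k : ℂ) : ℂ) = -S := by
      rw [Nat.cast_one, div_eq_iff hk0]
      linear_combination h0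
    rwa [this]
  have := Nat.le_of_dvd one_pos (nat_dvd_of_isIntegral_div (by omega) hint)
  omega

/-- The vanishing criterion in the form used below. -/
theorem vanish_of_ordProj_dvd {r : ℕ} (hr : r.Prime) {a b : ℕ} (hab : Nat.card G = a * b)
    (hb : ¬ r ∣ b) (χ : IrrCharacter G) (ha : a ∣ charDegree (χ : G → ℂ)) {g : G}
    (hg : r ∣ orderOf g) : (χ : G → ℂ) g = 0 := by
  haveI : Fact r.Prime := ⟨hr⟩
  haveI : Fintype G := Fintype.ofFinite G
  refine CfsgLib.DefectZeroVanish.vanish_of_defect_zero χ (dvd_trans ?_ ha) hg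
  refine Nat.Coprime.dvd_of_dvd_mul_right (Nat.Coprime.pow_left _ ((hr.coprime_iff_not_dvd).2 hb)) ?_
  rw [← hab]
  exact Nat.ordProj_dvd _ _

end CfsgLib.Recog.DegreeMultiset
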