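import Mathlib
import Cfsg.Agent.Lib.Recog.PermSpectrum
import Cfsg.Agent.Lib.Recog.Isospectral

/-!
The group `2^6 : A₈` on the even part of the permutation module modulo the constants has the
element orders of `S₈`, hence so do groups of arbitrarily large order.
-/

set_option autoImplicit false
set_option maxRecDepth 100000

namespace CfsgLib.Recog.AffineAltEight

/-- The common spectrum. -/
def spec : List ℕ := [1, 2, 3, 4, 5, 6, 7, 8, 10, 12, 15]

theorem range_orderOf_perm_eight :
    Set.range (orderOf : Equiv.Perm (Fin 8) → ℕ) = {k | k ∈ spec} := by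
  apply Set.Subset.antisymm
  · rintro _ ⟨g, rfl⟩
    have h := CfsgLib.Recog.orderOf_perm_mem_cycleData (Fintype.card_fin 8) g
    have key : ∀ x ∈ CfsgLib.Recog.cycleData 8 8, x.1 ∈ spec := by decide +kernel
    exact key _ h
  · have hmk : ∀ m : Multiset ℕ, m.sum ≤ 8 → (∀ a ∈ m, 2 ≤ a) →
        m.lcm ∈ Set.range (orderOf : Equiv.Perm (Fin 8) → ℕ) := by
      intro m hs h2
      obtain ⟨g, hg⟩ := (Equiv.Perm.exists_with_cycleType_iff (Fin 8)).2
        ⟨by rwa [Fintype.card_fin], h2⟩
      exact ⟨g, by rw [← hg, Equiv.Perm.lcm_cycleType]⟩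
    intro k hk
    simp only [spec, Set.mem_setOf_eq, List.mem_cons, List.not_mem_nil, or_false] at hk
    rcases hk with rfl | rfl | rfl | rfl | rfl | rfl | rfl | rfl | rfl | rfl | rfl
    · exact hmk 0 (by simp) (by simp)
    · exact hmk {2} (by decide) (by decide)
    · exact hmk {3} (by decide) (by decide)
    · exact hmk {4} (by decide) (by decide)
    · exact hmk {5} (by decide) (by decide)
    · exact hmk {6} (by decide) (by decide)
    · exact hmk {7} (by decide) (by decide)
    · exact hmk {8} (by decide) (by decide)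
    · exact hmk {5, 2} (by decide) (by decide)
    · exact hmk {4, 3} (by decide) (by decide)
    · exact hmk {5, 3} (by decide) (by decide)

/-- The even vectors. -/
def E : AddSubgroup (Fin 8 → ZMod 2) where
  carrier := {v | ∑ i, v i = 0}
  zero_mem' := by simp
  add_mem' := fun {a b} ha hb => by
    simp only [Set.mem_setOf_eq, Pi.add_apply, Finset.sum_add_distrib] at *
    rw [ha, hb, add_zero]
  neg_mem' := fun {a} ha => by
    simp only [Set.mem_setOf_eq, Pi.neg_apply, Finset.sum_neg_distrib] at *
    rw [ha, neg_zero]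

instance : DecidablePred (· ∈ E) := fun v => decidable_of_iff (∑ i, v i = 0) Iff.rfl

theorem perm_mem (σ : Equiv.Perm (Fin 8)) {v : Fin 8 → ZMod 2} (hv : v ∈ E) :
    (fun i => v (σ⁻¹ i)) ∈ E := by
  show ∑ i, v (σ⁻¹ i) = 0
  rw [Equiv.sum_comp σ⁻¹ v]
  exact hv

/-- Permutation of coordinates. -/
def act : alternatingGroup (Fin 8) →* MulAut (Multiplicative E) where
  toFun σ :=
    { toFun := fun v => Multiplicative.ofAdd ⟨_, perm_mem (σ : Equiv.Perm (Fin 8)) v.toAdd.2⟩
      invFun := fun v => Multiplicative.ofAdd ⟨_, perm_mem (σ : Equiv.Perm (Fin 8))⁻¹ v.toAdd.2⟩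
      left_inv := fun v => Subtype.ext (funext fun i => by
        show (v.toAdd.1) ((σ : Equiv.Perm (Fin 8))⁻¹ ((σ : Equiv.Perm (Fin 8))⁻¹⁻¹ i)) = _
        simp; rfl)
      right_inv := fun v => Subtype.ext (funext fun i => by
        show (v.toAdd.1) ((σ : Equiv.Perm (Fin 8))⁻¹⁻¹ ((σ : Equiv.Perm (Fin 8))⁻¹ i)) = _
        simp; rfl)
      map_mul' := fun _ _ => rfl }
  map_one' := MulEquiv.ext fun _ => rfl
  map_mul' σ τ := MulEquiv.ext fun v => Subtype.ext (funext fun i => by
    show (v.toAdd.1) (((σ * τ : alternatingGroup (Fin 8)) : Equiv.Perm (Fin 8))⁻¹ i) = _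
    rw [Subgroup.coe_mul, mul_inv_rev]
    rfl)

/-- The extension `2^7 : A₈`. -/
abbrev M := SemidirectProduct (Multiplicative E) (alternatingGroup (Fin 8)) act

instance : Finite M := Finite.of_equiv _ SemidirectProduct.equivProd.symm

/-- The all-ones vector. -/
def ones : E := ⟨fun _ => 1, by show ∑ _ : Fin 8, (1 : ZMod 2) = 0; decide⟩

theorem two_nsmul_eq_zero (v : E) : v + v = 0 :=
  Subtype.ext (funext fun i => CharTwo.add_self_eq_zero (v.1 i))

/-- The central subgroup to factor out. -/
def Z : Subgroup M where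
  carrier := {x | x.right = 1 ∧ (x.left.toAdd = 0 ∨ x.left.toAdd = ones)}
  one_mem' := ⟨rfl, Or.inl rfl⟩
  mul_mem' := by
    rintro x y ⟨hx, hx'⟩ ⟨hy, hy'⟩
    refine ⟨by rw [SemidirectProduct.mul_right, hx, hy, one_mul], ?_⟩
    rw [SemidirectProduct.mul_left, hx, map_one, MulAut.one_apply, toAdd_mul]
    rcases hx' with e | e <;> rcases hy' with e' | e' <;>
      simp [e, e', two_nsmul_eq_zero]
  inv_mem' := by
    rintro x ⟨hx, hx'⟩
    refine ⟨by rw [SemidirectProduct.inv_right, hx, inv_one], ?_⟩
    rw [SemidirectProduct.inv_left, hx, inv_one, map_one, MulAut.one_apply, toAdd_inv,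
      neg_eq_of_add_eq_zero_right (two_nsmul_eq_zero x.left.toAdd)]
    exact hx'

instance : Z.Normal := by
  refine ⟨fun x ⟨hx, hx'⟩ g => ⟨by simp [hx], ?_⟩⟩
  have : (g * x * g⁻¹).left.toAdd = (act g.right x.left).toAdd := by
    simp only [SemidirectProduct.mul_left, SemidirectProduct.inv_left, SemidirectProduct.mul_right,
      hx, mul_one, toAdd_mul]
    rw [← MulAut.mul_apply, ← map_mul, mul_inv_cancel, map_one, MulAut.one_apply, toAdd_inv]
    abel
  rw [this]
  rcases hx' with e | e
  · exact Or.inl (by rw [show x.left = 1 from toAdd_eq_zero.1 e, map_one, toAdd_one])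
  · refine Or.inr (Subtype.ext (funext fun i => ?_))
    show x.left.toAdd.1 _ = _
    rw [e]
    rfl

/-- The group `2^6 : A₈`. -/
abbrev G := M ⧸ Z

theorem left_sq (v : Multiplicative E) : v * v = 1 := two_nsmul_eq_zero v.toAdd

theorem conj_fix {c : Equiv.Perm (Fin 8)}
    (hc : ∀ w : Fin 8 → ZMod 2, ∑ i, w i = 0 → (∀ i, w (c i) = w i) → ∀ i, w i = w 0)
    {σ : Equiv.Perm (Fin 8)} (hσ : σ.cycleType = c.cycleType) (w : Fin 8 → ZMod 2)
    (hw : ∑ i, w i = 0) (hfix : ∀ i, w (σ i) = w i) : ∀ i, w i = w 0 := by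
  obtain ⟨π, hπ⟩ := isConj_iff.1 ((Equiv.Perm.isConj_iff_cycleType_eq).2 hσ.symm)
  have h := hc (fun i => w (π i)) (by rw [Equiv.sum_comp π w]; exact hw) fun i => by
    have : π (c i) = σ (π i) := by rw [← hπ]; simp
    rw [this, hfix]
  intro i
  have h1 := h (π⁻¹ i)
  have h2 := h (π⁻¹ 0)
  simp only [Equiv.Perm.inv_def, Equiv.apply_symm_apply] at h1 h2
  rw [h1, h2]

theorem orderOf_mem (x : G) : orderOf x ∈ spec := by
  obtain ⟨x, rfl⟩ := QuotientGroup.mk_surjective x
  have hk := CfsgLib.Recog.orderOf_alternating_mem_cycleData x.right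
  set k := orderOf x.right with hkdef
  have hright : ∀ j, (x ^ j).right = x.right ^ j := fun j =>
    map_pow (SemidirectProduct.rightHom : M →* _) x j
  have hr1 : (x ^ k).right = 1 := by rw [hright, pow_orderOf_eq_one]
  have key : ∀ a ∈ CfsgLib.Recog.cycleData 8 8, a.2 = 0 →
      a.1 = 7 ∨ a.1 = 15 ∨ ∀ d, d ≤ 2 * a.1 → d ∣ 2 * a.1 → d ∈ spec := by decide +kernel
  have hsq : orderOf (QuotientGroup.mk x : G) ∣ 2 * k := by
    refine orderOf_dvd_of_pow_eq_one ?_
    rw [← QuotientGroup.mk_pow, mul_comm, pow_mul, QuotientGroup.eq_one_iff]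
    refine ⟨by rw [pow_two, SemidirectProduct.mul_right, hr1, one_mul], Or.inl ?_⟩
    rw [pow_two, SemidirectProduct.mul_left, hr1, map_one, MulAut.one_apply, left_sq]
    rfl
  have hmain : k = 7 ∨ k = 15 → orderOf (QuotientGroup.mk x : G) ∣ k := by
    intro hk'
    refine orderOf_dvd_of_pow_eq_one ?_
    rw [← QuotientGroup.mk_pow, QuotientGroup.eq_one_iff]
    refine ⟨hr1, ?_⟩
    set w := (x ^ k).left with hw
    have hc : act x.right w = w := by
      have h1 := congrArg (fun z : M => z.left) (Commute.self_pow x k).eq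
      simp only [SemidirectProduct.mul_left, hr1, map_one, MulAut.one_apply] at h1
      rw [mul_comm (x ^ k).left x.left] at h1
      exact mul_left_cancel h1
    set σ : Equiv.Perm (Fin 8) := (x.right : Equiv.Perm (Fin 8))
    have hfix : ∀ i, w.toAdd.1 (σ i) = w.toAdd.1 i := fun i => by
      have h1 := congrFun (congrArg (fun z : Multiplicative E => z.toAdd.1) hc) (σ i)
      rw [← h1]
      show w.toAdd.1 (σ⁻¹ (σ i)) = _
      simp
    have hord : orderOf σ = k := by rw [hkdef, Subgroup.orderOf_coe]
    have hconst : ∀ i, w.toAdd.1 i = w.toAdd.1 0 := by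
      have hs : σ.cycleType.sum ≤ 8 := by
        rw [Equiv.Perm.sum_cycleType]
        exact (Finset.card_le_univ _).trans (by simp)
      have hl := Equiv.Perm.lcm_cycleType σ
      rw [hord] at hl
      have hmem : ∀ a ∈ σ.cycleType, 2 ≤ a ∧ a ∣ k ∧ a ≤ 8 := fun a ha =>
        ⟨Equiv.Perm.two_le_of_mem_cycleType ha, hl ▸ Multiset.dvd_lcm ha,
          (Multiset.le_sum_of_mem ha).trans hs⟩
      rcases hk' with e | e
      · have ht : σ.cycleType = ({7} : Multiset ℕ) := by
          have h7 : ∀ a ∈ σ.cycleType, a = 7 := fun a ha => by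
            obtain ⟨h1, h2, -⟩ := hmem a ha
            rw [e] at h2
            rcases (Nat.dvd_prime (by norm_num)).1 h2 with r | r <;> omega
          have hrep := Multiset.eq_replicate_card.2 h7
          rw [hrep, Multiset.sum_replicate, smul_eq_mul] at hs
          have hne : Multiset.card σ.cycleType ≠ 0 := fun h0 => by
            rw [Multiset.card_eq_zero.1 h0, Multiset.lcm_zero] at hl; omega
          rw [hrep, show Multiset.card σ.cycleType = 1 by omega]
          rfl
        exact conj_fix (c := c[1, 2, 3, 4, 5, 6, 7]) (by decide +kernel)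
          (ht.trans (by decide +kernel)) _ w.toAdd.2 hfix
      · have ht : σ.cycleType = ({5, 3} : Multiset ℕ) := by
          rw [e] at hl hmem
          have h35 : ∀ a ∈ σ.cycleType, a = 3 ∨ a = 5 := fun a ha => by
            obtain ⟨h1, h2, h3⟩ := hmem a ha
            interval_cases a <;> omega
          have h5 : (5 : ℕ) ∈ σ.cycleType := by
            by_contra h
            have : σ.cycleType.lcm ∣ 3 := Multiset.lcm_dvd.2 fun a ha =>
              (((h35 a ha).resolve_right fun r => h (r ▸ ha))).dvd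
            rw [hl] at this
            omega
          have h3 : (3 : ℕ) ∈ σ.cycleType := by
            by_contra h
            have : σ.cycleType.lcm ∣ 5 := Multiset.lcm_dvd.2 fun a ha =>
              (((h35 a ha).resolve_left fun r => h (r ▸ ha))).dvd
            rw [hl] at this
            omega
          obtain ⟨m, hm⟩ := Multiset.exists_cons_of_mem h5
          rw [hm, Multiset.sum_cons] at hs
          rw [hm] at h35 h3
          have h3' : (3 : ℕ) ∈ m := by simpa using h3
          obtain ⟨m', rfl⟩ := Multiset.exists_cons_of_mem h3'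
          rw [Multiset.sum_cons] at hs
          have : m' = 0 := by
            refine Multiset.eq_zero_of_forall_notMem fun a ha => ?_
            have := h35 a (by simp [ha])
            have := Multiset.le_sum_of_mem ha
            omega
          rw [hm, this]
          rfl
        exact conj_fix (c := c[0, 1, 2, 3, 4] * c[5, 6, 7]) (by decide +kernel)
          (ht.trans (by decide +kernel)) _ w.toAdd.2 hfix
    rcases (show ∀ a : ZMod 2, a = 0 ∨ a = 1 by decide) (w.toAdd.1 0) with h0 | h0
    · exact Or.inl (Subtype.ext (funext fun i => (hconst i).trans h0))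
    · exact Or.inr (Subtype.ext (funext fun i => (hconst i).trans h0))
  rcases key _ hk rfl with h | h | h
  · have h' := hmain (Or.inl h)
    rw [show k = 7 from h] at h'
    rcases (Nat.dvd_prime (by norm_num)).1 h' with r | r <;> simp [r, spec]
  · have h' := hmain (Or.inr h)
    rw [show k = 15 from h] at h'
    have := Nat.le_of_dvd (by norm_num) h'
    revert h' this
    generalize orderOf (QuotientGroup.mk x : G) = d
    intro h' this
    interval_cases d <;> simp_all [spec]
  · exact h _ (Nat.le_of_dvd (by have := orderOf_pos x.right; omega) hsq) hsq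

/-- An element from a vector and an even permutation. -/
def elt (v : Fin 8 → ZMod 2) (hv : v ∈ E) (σ : Equiv.Perm (Fin 8))
    (hσ : Equiv.Perm.sign σ = 1) : M :=
  ⟨Multiplicative.ofAdd ⟨v, hv⟩, ⟨σ, Equiv.Perm.mem_alternatingGroup.2 hσ⟩⟩

/-- Membership in `Z`, computably. -/
def inZ (x : M) : Bool := decide (x.right = 1) && (decide (x.left.toAdd = 0) || decide (x.left.toAdd = ones))

theorem inZ_iff (x : M) : inZ x = true ↔ x ∈ Z := by
  simp [inZ]
  rfl

theorem orderOf_mk_eq (x : M) (n : ℕ) (hn : 0 < n) (h1 : inZ (x ^ n) = true)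
    (h2 : (List.range n).all (fun m => m == 0 || !inZ (x ^ m)) = true) :
    orderOf (QuotientGroup.mk x : G) = n := by
  rw [orderOf_eq_iff hn]
  refine ⟨by rw [← QuotientGroup.mk_pow, QuotientGroup.eq_one_iff, ← inZ_iff]; exact h1,
    fun m hm hm0 e => ?_⟩
  rw [← QuotientGroup.mk_pow, QuotientGroup.eq_one_iff, ← inZ_iff] at e
  have := List.all_eq_true.1 h2 m (List.mem_range.2 hm)
  simp [e] at this
  omega

theorem range_orderOf : Set.range (orderOf : G → ℕ) = {k | k ∈ spec} := by
  apply Set.Subset.antisymm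
  · rintro _ ⟨x, rfl⟩
    exact orderOf_mem x
  · suffices ∀ K ∈ [7, 8, 10, 12, 15], ∃ x : G, orderOf x = K by
      intro k hk
      obtain ⟨K, hK, hkK⟩ : ∃ K ∈ [7, 8, 10, 12, 15], k ∣ K := by
        simp only [spec, Set.mem_setOf_eq, List.mem_cons, List.not_mem_nil, or_false] at hk
        rcases hk with rfl | rfl | rfl | rfl | rfl | rfl | rfl | rfl | rfl | rfl | rfl <;> decide
      obtain ⟨x, rfl⟩ := this K hK
      exact ⟨_, orderOf_pow_orderOf_div (orderOf_pos x).ne' hkK⟩
    intro K hK
    simp only [List.mem_cons, List.not_mem_nil, or_false] at hK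
    rcases hK with rfl | rfl | rfl | rfl | rfl
    · exact ⟨_, orderOf_mk_eq (elt 0 (by decide +kernel) c[0, 1, 2, 3, 4, 5, 6] (by decide +kernel)) 7
        (by norm_num) (by decide +kernel) (by decide +kernel)⟩
    · exact ⟨_, orderOf_mk_eq (elt ![1, 0, 0, 0, 0, 0, 1, 0] (by decide +kernel)
        (c[0, 1, 2, 3] * c[4, 5]) (by decide +kernel)) 8 (by norm_num) (by decide +kernel) (by decide +kernel)⟩
    · exact ⟨_, orderOf_mk_eq (elt ![0, 0, 0, 0, 0, 1, 1, 0] (by decide +kernel)
        c[0, 1, 2, 3, 4] (by decide +kernel)) 10 (by norm_num) (by decide +kernel) (by decide +kernel)⟩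
    · exact ⟨_, orderOf_mk_eq (elt ![1, 0, 0, 1, 0, 0, 0, 0] (by decide +kernel)
        (c[0, 1, 2] * c[3, 4] * c[5, 6]) (by decide +kernel)) 12 (by norm_num) (by decide +kernel) (by decide +kernel)⟩
    · exact ⟨_, orderOf_mk_eq (elt 0 (by decide +kernel)
        (c[0, 1, 2, 3, 4] * c[5, 6, 7]) (by decide +kernel)) 15 (by norm_num) (by decide +kernel) (by decide +kernel)⟩

/-- Groups of arbitrarily large order with the spectrum of `S₈`. -/
theorem exists_large (N : ℕ) : ∃ (H : Type) (_ : Group H) (_ : Fintype H), N < Fintype.card H ∧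
    Set.range (orderOf : H → ℕ) = {k | k ∈ spec} := by
  let i : Multiplicative E →* G := (QuotientGroup.mk' Z).comp SemidirectProduct.inl
  haveI hn : i.range.Normal := by
    rw [MonoidHom.range_comp]
    have : (SemidirectProduct.inl : Multiplicative E →* M).range.Normal := by
      rw [SemidirectProduct.range_inl_eq_ker_rightHom]; infer_instance
    exact this.map _ (QuotientGroup.mk'_surjective Z)
  have hne : i.range ≠ ⊥ := by
    intro hb
    let v : Multiplicative E := Multiplicative.ofAdd
      ⟨![1, 1, 0, 0, 0, 0, 0, 0], by decide +kernel⟩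
    have hm : i v ∈ i.range := ⟨_, rfl⟩
    rw [hb, Subgroup.mem_bot] at hm
    have hz : (SemidirectProduct.inl v : M) ∈ Z := (QuotientGroup.eq_one_iff _).1 hm
    rw [← inZ_iff] at hz
    exact absurd hz (by decide +kernel)
  haveI : Group.IsSolvable (Multiplicative E) := Group.isSolvable_of_comm mul_comm
  rw [← range_orderOf]
  exact CfsgLib.Recog.exists_large_isospectral i.range hne
    (Group.isSolvable_of_surjective (f := i.rangeRestrict) i.rangeRestrict_surjective) N

end CfsgLib.Recog.AffineAltEight
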