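import Mathlib
import Cfsg.Agent.Lib.Recog.Isospectral
import Cfsg.Agent.Lib.Recog.PermSpectrum

/-!
The affine group F² ⋊ SL(2,F) over the field with four elements is isospectral to A₆.
-/

namespace CfsgLib.Recog.AffineFour

open Polynomial

variable (F : Type*) [Field F]

/-- The matrices of SL(3,F) with last row (0,0,1). -/
def affineSet : Set (Matrix.SpecialLinearGroup (Fin 3) F) :=
  {M | (M : Matrix (Fin 3) (Fin 3) F) 2 0 = 0 ∧ (M : Matrix (Fin 3) (Fin 3) F) 2 1 = 0 ∧
    (M : Matrix (Fin 3) (Fin 3) F) 2 2 = 1}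

variable {F}

theorem row_of_mem {M : Matrix.SpecialLinearGroup (Fin 3) F}
    (hM : M ∈ Subgroup.closure (affineSet F)) :
    (M : Matrix (Fin 3) (Fin 3) F) 2 0 = 0 ∧ (M : Matrix (Fin 3) (Fin 3) F) 2 1 = 0 ∧
      (M : Matrix (Fin 3) (Fin 3) F) 2 2 = 1 := by
  induction hM using Subgroup.closure_induction with
  | mem x hx => exact hx
  | one => simp
  | mul a b _ _ ha hb =>
    simp [Matrix.mul_apply, Fin.sum_univ_three, ha.1, ha.2.1, ha.2.2, hb.1, hb.2.1, hb.2.2]
  | inv a _ ha =>
    have hkey : ∀ k, ((a⁻¹ : Matrix.SpecialLinearGroup (Fin 3) F) : Matrix (Fin 3) (Fin 3) F) 2 k =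
        (1 : Matrix (Fin 3) (Fin 3) F) 2 k := by
      intro k
      have h : ((a * a⁻¹ : Matrix.SpecialLinearGroup (Fin 3) F) : Matrix (Fin 3) (Fin 3) F) 2 k =
          (1 : Matrix (Fin 3) (Fin 3) F) 2 k := by rw [mul_inv_cancel]; simp
      rw [Matrix.SpecialLinearGroup.coe_mul] at h
      simp only [Matrix.mul_apply, Fin.sum_univ_three, ha.1, ha.2.1, ha.2.2] at h
      simpa using h
    exact ⟨by rw [hkey]; simp, by rw [hkey]; simp, by rw [hkey]; simp⟩

theorem cubic_eq_zero {M : Matrix.SpecialLinearGroup (Fin 3) F}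
    (hM : M ∈ Subgroup.closure (affineSet F)) [CharP F 2] :
    aeval (M : Matrix (Fin 3) (Fin 3) F)
      ((X ^ 2 + C ((M : Matrix (Fin 3) (Fin 3) F) 0 0 + (M : Matrix (Fin 3) (Fin 3) F) 1 1) * X + 1) *
        (X + 1)) = 0 := by
  obtain ⟨h0, h1, h2⟩ := row_of_mem hM
  have h2F : (2 : F) = 0 := CharTwo.two_eq_zero
  have hdet : (M : Matrix (Fin 3) (Fin 3) F).det = 1 := M.2
  rw [Matrix.det_fin_three, h0, h1, h2] at hdet
  simp only [map_mul, map_add, map_pow, aeval_X, aeval_C, map_one]
  ext i j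
  fin_cases i <;> fin_cases j <;>
    simp [Matrix.mul_apply, Fin.sum_univ_three, pow_two, Algebra.algebraMap_eq_smul_one, h0, h1, h2,
      Matrix.smul_apply] <;>
    grind

theorem pow_eq_one_cases [Fintype F] (hF : Fintype.card F = 4)
    {M : Matrix.SpecialLinearGroup (Fin 3) F} (hM : M ∈ Subgroup.closure (affineSet F)) :
    M ^ 4 = 1 ∨ M ^ 3 = 1 ∨ M ^ 5 = 1 := by
  haveI : Fact (Nat.Prime 2) := ⟨Nat.prime_two⟩
  haveI : CharP F 2 := charP_of_card_eq_prime_pow (f := 2) (by norm_num [hF])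
  have h2F : (2 : F[X]) = 0 := CharTwo.two_eq_zero
  set t := (M : Matrix (Fin 3) (Fin 3) F) 0 0 + (M : Matrix (Fin 3) (Fin 3) F) 1 1 with ht
  have hf := cubic_eq_zero hM
  rw [← ht] at hf
  have key : ∀ (k : ℕ) (Q : F[X]), X ^ k + 1 = Q * ((X ^ 2 + C t * X + 1) * (X + 1)) → M ^ k = 1 := by
    intro k Q hQ
    have hh := congrArg (aeval (M : Matrix (Fin 3) (Fin 3) F)) hQ
    rw [map_mul, hf, mul_zero, map_add, map_pow, aeval_X, map_one] at hh
    apply Subtype.ext
    rw [Matrix.SpecialLinearGroup.coe_pow, Matrix.SpecialLinearGroup.coe_one, eq_neg_of_add_eq_zero_left hh]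
    exact CharTwo.neg_eq 1
  have ht4 : t * (t - 1) * (t ^ 2 + t + 1) = 0 := by
    linear_combination (sub_eq_zero.2 (show t ^ 4 = t by rw [← hF]; exact FiniteField.pow_card t))
  rcases mul_eq_zero.1 ht4 with h | h
  · rcases mul_eq_zero.1 h with h | h
    · refine Or.inl (key 4 (X + 1) ?_)
      rw [h, map_zero]
      linear_combination (-X ^ 2 - X ^ 3 - X) * h2F
    · refine Or.inr (Or.inl (key 3 1 ?_))
      rw [sub_eq_zero.1 h, map_one]
      linear_combination (-X ^ 2 - X) * h2F
  · refine Or.inr (Or.inr (key 5 (X ^ 2 + C (t + 1) * X + 1) ?_))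
    have hC : C t ^ 2 + C t + 1 = (0 : F[X]) := by
      rw [← map_pow, ← map_add, ← map_one C, ← map_add, h, map_zero]
    rw [map_add, map_one]
    grind

theorem range_orderOf_affine [Fintype F] (hF : Fintype.card F = 4) :
    Set.range (orderOf : Subgroup.closure (affineSet F) → ℕ) = {k | k ∈ [1, 2, 3, 4, 5]} := by
  haveI : Fact (Nat.Prime 2) := ⟨Nat.prime_two⟩
  haveI : Fact (Nat.Prime 3) := ⟨Nat.prime_three⟩
  haveI : Fact (Nat.Prime 5) := ⟨Nat.prime_five⟩
  haveI : CharP F 2 := charP_of_card_eq_prime_pow (f := 2) (by norm_num [hF])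
  apply Set.Subset.antisymm
  · rintro _ ⟨⟨M, hM⟩, rfl⟩
    rw [Subgroup.orderOf_mk]
    have hd : orderOf M ∣ 4 ∨ orderOf M ∣ 3 ∨ orderOf M ∣ 5 := by
      rcases pow_eq_one_cases hF hM with h | h | h
      exacts [Or.inl (orderOf_dvd_of_pow_eq_one h), Or.inr (Or.inl (orderOf_dvd_of_pow_eq_one h)),
        Or.inr (Or.inr (orderOf_dvd_of_pow_eq_one h))]
    revert hd
    generalize orderOf M = d
    intro hd
    have hle : d ≤ 5 := by
      rcases hd with h | h | h <;> have := Nat.le_of_dvd (by norm_num) h <;> omega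
    have h0 : d ≠ 0 := by
      rintro rfl
      simp at hd
    interval_cases d <;> first | exact absurd rfl h0 | decide
  · have hw : ∃ w : F, w ^ 2 + w + 1 = 0 := by
      classical
      obtain ⟨w, -, hw⟩ := Finset.exists_mem_notMem_of_card_lt_card (s := ({0, 1} : Finset F))
        (t := Finset.univ) (by rw [Finset.card_univ, hF]; exact lt_of_le_of_lt Finset.card_le_two (by norm_num))
      simp only [Finset.mem_insert, Finset.mem_singleton, not_or] at hw
      refine ⟨w, ?_⟩
      have h4 : w * (w - 1) * (w ^ 2 + w + 1) = 0 := by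
        linear_combination (sub_eq_zero.2 (show w ^ 4 = w by rw [← hF]; exact FiniteField.pow_card w))
      exact (mul_eq_zero.1 h4).resolve_left (mul_ne_zero hw.1 (sub_ne_zero.2 hw.2))
    obtain ⟨w, hw⟩ := hw
    have mk : ∀ (A : Matrix (Fin 3) (Fin 3) F), A.det = 1 → A 2 0 = 0 → A 2 1 = 0 → A 2 2 = 1 →
        ∃ M : Subgroup.closure (affineSet F), ((M : Matrix.SpecialLinearGroup (Fin 3) F) :
          Matrix (Fin 3) (Fin 3) F) = A :=
      fun A hA a b c => ⟨⟨⟨A, hA⟩, Subgroup.subset_closure ⟨a, b, c⟩⟩, rfl⟩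
    intro k hk
    change k ∈ [1, 2, 3, 4, 5] at hk
    fin_cases hk
    · exact ⟨1, orderOf_one⟩
    · obtain ⟨M, hM⟩ := mk !![1, 1, 0; 0, 1, 0; 0, 0, 1] (by simp [Matrix.det_fin_three]) rfl rfl rfl
      refine ⟨M, orderOf_eq_prime ?_ ?_⟩
      · apply Subtype.ext; apply Subtype.ext
        ext i j
        fin_cases i <;> fin_cases j <;>
          simp [hM, pow_two, Matrix.mul_apply, Fin.sum_univ_three, CharTwo.add_self_eq_zero]
      · intro h
        have := congrFun (congrFun hM 0) 1
        simp [h] at this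
    · obtain ⟨M, hM⟩ := mk !![0, 1, 0; 1, 1, 0; 0, 0, 1]
        (by simp [Matrix.det_fin_three, CharTwo.neg_eq]) rfl rfl rfl
      refine ⟨M, orderOf_eq_prime ?_ ?_⟩
      · apply Subtype.ext; apply Subtype.ext
        ext i j
        fin_cases i <;> fin_cases j <;>
          simp [hM, pow_succ, Matrix.mul_apply, Fin.sum_univ_three, CharTwo.add_self_eq_zero]
      · intro h
        have := congrFun (congrFun hM 0) 1
        simp [h] at this
    · obtain ⟨M, hM⟩ := mk !![1, 1, 0; 0, 1, 1; 0, 0, 1] (by simp [Matrix.det_fin_three]) rfl rfl rfl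
      refine ⟨M, orderOf_eq_prime_pow (p := 2) (n := 1) ?_ ?_⟩
      · intro h
        have := congrFun (congrFun (congrArg (fun x : Subgroup.closure (affineSet F) =>
          ((x : Matrix.SpecialLinearGroup (Fin 3) F) : Matrix (Fin 3) (Fin 3) F)) h) 0) 2
        simp [hM, pow_two, Matrix.mul_apply, Fin.sum_univ_three] at this
      · apply Subtype.ext; apply Subtype.ext
        ext i j
        fin_cases i <;> fin_cases j <;>
          simp [hM, pow_succ, Matrix.mul_apply, Fin.sum_univ_three, CharTwo.add_self_eq_zero]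
    · obtain ⟨M, hM⟩ := mk !![0, 1, 0; 1, w, 0; 0, 0, 1]
        (by simp [Matrix.det_fin_three, CharTwo.neg_eq]) rfl rfl rfl
      refine ⟨M, orderOf_eq_prime ?_ ?_⟩
      · apply Subtype.ext; apply Subtype.ext
        ext i j
        have h2 : (2 : F) = 0 := CharTwo.two_eq_zero
        fin_cases i <;> fin_cases j <;>
          simp [hM, pow_succ, Matrix.mul_apply, Fin.sum_univ_three] <;> grind
      · intro h
        have := congrFun (congrFun hM 0) 1
        simp [h] at this

/-- The upper left 2×2 block. -/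
def blockHom : Subgroup.closure (affineSet F) →* Matrix (Fin 2) (Fin 2) F where
  toFun M := Matrix.of fun i j =>
    ((M : Matrix.SpecialLinearGroup (Fin 3) F) : Matrix (Fin 3) (Fin 3) F) i.castSucc j.castSucc
  map_one' := by ext i j; fin_cases i <;> fin_cases j <;> simp
  map_mul' := fun A B => by
    obtain ⟨h0, h1, -⟩ := row_of_mem B.2
    ext i j
    fin_cases i <;> fin_cases j <;> simp [Matrix.mul_apply, Fin.sum_univ_three, h0, h1]

theorem exists_large_isospectral_alternating_six (N : ℕ) :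
    ∃ (H : Type) (_ : Group H) (_ : Fintype H), N < Fintype.card H ∧
      Set.range (orderOf : H → ℕ) = Set.range (orderOf : alternatingGroup (Fin 6) → ℕ) := by
  haveI : Fact (Nat.Prime 2) := ⟨Nat.prime_two⟩
  let F := GaloisField 2 2
  letI : Fintype F := Fintype.ofFinite F
  have hF : Fintype.card F = 4 := by rw [← Nat.card_eq_fintype_card, GaloisField.card 2 2 (by norm_num)]; norm_num
  rw [range_orderOf_alternating_six, ← range_orderOf_affine (F := F) hF]
  refine exists_large_isospectral_of_exponent (MonoidHom.ker (blockHom (F := F))) ?_ Nat.prime_two ?_ N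
  · intro hbot
    let T : Matrix.SpecialLinearGroup (Fin 3) F :=
      ⟨!![1, 0, 1; 0, 1, 0; 0, 0, 1], by simp [Matrix.det_fin_three]⟩
    have hT : T ∈ Subgroup.closure (affineSet F) := Subgroup.subset_closure ⟨rfl, rfl, rfl⟩
    have hmem : (⟨T, hT⟩ : Subgroup.closure (affineSet F)) ∈ MonoidHom.ker (blockHom (F := F)) := by
      rw [MonoidHom.mem_ker]
      ext i j; fin_cases i <;> fin_cases j <;> simp [blockHom, T]
    rw [hbot, Subgroup.mem_bot] at hmem
    have := congrFun (congrFun (congrArg (fun x : Subgroup.closure (affineSet F) =>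
      ((x : Matrix.SpecialLinearGroup (Fin 3) F) : Matrix (Fin 3) (Fin 3) F)) hmem) 0) 2
    simp [T] at this
  · intro x hx
    rw [MonoidHom.mem_ker] at hx
    have e00 := congrFun (congrFun hx 0) 0
    have e01 := congrFun (congrFun hx 0) 1
    have e10 := congrFun (congrFun hx 1) 0
    have e11 := congrFun (congrFun hx 1) 1
    simp [blockHom] at e00 e01 e10 e11
    obtain ⟨h0, h1, h2⟩ := row_of_mem x.2
    apply Subtype.ext; apply Subtype.ext
    ext i j
    fin_cases i <;> fin_cases j <;>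
      simp [pow_two, Matrix.mul_apply, Fin.sum_univ_three, e00, e01, e10, e11, h0, h1, h2,
        CharTwo.add_self_eq_zero]

end CfsgLib.Recog.AffineFour
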