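import Mathlib

/-!
Permutations of prime order: a normal form.
-/

set_option autoImplicit false

namespace CfsgLib.Recog.PrimeOrderPerm

open Equiv

/-- The model permutation with `j` cycles of length `r` and `f` fixed points. -/
def shiftPerm (j r f : ℕ) : Perm ((Fin j × ZMod r) ⊕ Fin f) :=
  Equiv.sumCongr (Equiv.prodCongr (Equiv.refl _) (Equiv.addRight 1)) (Equiv.refl _)

@[simp] theorem shiftPerm_inl (j r f : ℕ) (c : Fin j) (x : ZMod r) :
    shiftPerm j r f (Sum.inl (c, x)) = Sum.inl (c, x + 1) := rfl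

@[simp] theorem shiftPerm_inr (j r f : ℕ) (y : Fin f) :
    shiftPerm j r f (Sum.inr y) = Sum.inr y := rfl

theorem shiftPerm_pow_inl (j r f : ℕ) (c : Fin j) (x : ZMod r) (n : ℕ) :
    (shiftPerm j r f ^ n) (Sum.inl (c, x)) = Sum.inl (c, x + n) := by
  induction n with
  | zero => simp
  | succ n ih => rw [pow_succ', Perm.mul_apply, ih, shiftPerm_inl, Nat.cast_succ, add_assoc]

theorem shiftPerm_pow_inr (j r f : ℕ) (y : Fin f) (n : ℕ) :
    (shiftPerm j r f ^ n) (Sum.inr y) = Sum.inr y := by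
  induction n with
  | zero => simp
  | succ n ih => rw [pow_succ', Perm.mul_apply, ih, shiftPerm_inr]

theorem orderOf_shiftPerm {j r f : ℕ} (hr : r.Prime) (hj : 1 ≤ j) :
    orderOf (shiftPerm j r f) = r := by
  have : Fact r.Prime := ⟨hr⟩
  refine orderOf_eq_prime ?_ ?_
  · refine Equiv.ext fun p => ?_
    rcases p with ⟨c, x⟩ | y
    · simp [shiftPerm_pow_inl]
    · simp [shiftPerm_pow_inr]
  · intro h
    have := congrArg (fun g : Perm _ => g (Sum.inl (⟨0, hj⟩, (0 : ZMod r)))) h
    simp at this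

theorem card_model (j r f : ℕ) [NeZero r] :
    Fintype.card ((Fin j × ZMod r) ⊕ Fin f) = j * r + f := by
  simp [ZMod.card]

theorem cycleType_eq_of_card_support {α β : Type*} [Fintype α] [DecidableEq α] [Fintype β]
    [DecidableEq β] {r : ℕ} (hr : r.Prime) (σ : Perm α) (τ : Perm β) (hσ : orderOf σ = r)
    (hτ : orderOf τ = r) (h : σ.support.card = τ.support.card) :
    σ.cycleType = τ.cycleType := by
  obtain ⟨n, hn⟩ := Perm.cycleType_prime_order (σ := σ) (by rwa [hσ])
  obtain ⟨m, hm⟩ := Perm.cycleType_prime_order (σ := τ) (by rwa [hτ])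
  rw [← Perm.sum_cycleType, ← Perm.sum_cycleType, hn, hm] at h
  simp [hσ, hτ, hr.ne_zero] at h
  rw [hn, hm, hσ, hτ, h]

theorem support_shiftPerm_card {j r f : ℕ} [NeZero r] [Fact (1 < r)] :
    (shiftPerm j r f).support.card = j * r := by
  have : (shiftPerm j r f).support =
      (Finset.univ : Finset (Fin j × ZMod r)).map ⟨Sum.inl, Sum.inl_injective⟩ := by
    ext p
    rcases p with ⟨c, x⟩ | y <;> simp [Perm.mem_support]
  simp [this, ZMod.card]

/-- Normal form of a permutation of prime order. -/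
theorem exists_equiv_shiftPerm {α : Type*} [Fintype α] [DecidableEq α] {r : ℕ} (hr : r.Prime)
    (σ : Perm α) (hσ : orderOf σ = r) :
    ∃ (j f : ℕ) (e : α ≃ (Fin j × ZMod r) ⊕ Fin f), 1 ≤ j ∧ j * r + f = Fintype.card α ∧
      ∀ x, e (σ x) = shiftPerm j r f (e x) := by
  have : Fact r.Prime := ⟨hr⟩
  have : Fact (1 < r) := ⟨hr.one_lt⟩
  obtain ⟨n, hn⟩ := Perm.cycleType_prime_order (σ := σ) (by rwa [hσ])
  set j := n + 1
  have hs : σ.support.card = j * r := by
    rw [← Perm.sum_cycleType, hn, hσ, Multiset.sum_replicate, smul_eq_mul]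
  have hle : j * r ≤ Fintype.card α := hs ▸ σ.support.card_le_univ
  let f := Fintype.card α - j * r
  let e₀ : α ≃ (Fin j × ZMod r) ⊕ Fin f :=
    Fintype.equivOfCardEq (by rw [card_model]; omega)
  have h0 : 1 ≤ j := by omega
  let σ' : Perm ((Fin j × ZMod r) ⊕ Fin f) := e₀.permCongrHom σ
  have hσ' : orderOf σ' = r :=
    (orderOf_injective e₀.permCongrHom.toMonoidHom e₀.permCongrHom.injective σ).trans hσ
  have hconj : IsConj σ' (shiftPerm j r f) := by
    rw [Perm.isConj_iff_cycleType_eq]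
    refine cycleType_eq_of_card_support hr _ _ hσ' (orderOf_shiftPerm hr h0) ?_
    rw [support_shiftPerm_card, ← hs]
    have : σ'.support = σ.support.map e₀.toEmbedding := by
      ext p
      obtain ⟨x, rfl⟩ := e₀.surjective p
      simp [σ', Perm.mem_support]
    rw [this, Finset.card_map]
  obtain ⟨c, hc⟩ := isConj_iff.1 hconj
  refine ⟨j, f, e₀.trans c, h0, by omega, fun x => ?_⟩
  rw [← hc]
  simp [σ', Perm.mul_apply]

/-- Every shape of a permutation of prime order occurs. -/
theorem exists_perm_shape {α : Type*} [Fintype α] {j r f : ℕ} (hr : r.Prime) (hj : 1 ≤ j)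
    (hn : j * r + f = Fintype.card α) :
    ∃ (σ : Perm α) (e : α ≃ (Fin j × ZMod r) ⊕ Fin f), orderOf σ = r ∧
      ∀ x, e (σ x) = shiftPerm j r f (e x) := by
  have : NeZero r := ⟨hr.ne_zero⟩
  let e : α ≃ (Fin j × ZMod r) ⊕ Fin f := Fintype.equivOfCardEq (by rw [card_model, hn])
  refine ⟨e.symm.permCongrHom (shiftPerm j r f), e, ?_, fun x => by simp⟩
  exact (orderOf_injective e.symm.permCongrHom.toMonoidHom e.symm.permCongrHom.injective _).trans
    (orderOf_shiftPerm hr hj)

/-- The fixed subsets of the model permutation. -/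
theorem card_invariant_finset {j r f : ℕ} [NeZero r]
    (s : Finset ((Fin j × ZMod r) ⊕ Fin f)) (hs : ∀ p ∈ s, shiftPerm j r f p ∈ s) :
    ∃ i ≤ j, i * r ≤ s.card ∧ s.card ≤ i * r + f := by
  classical
  let A : Finset (Fin j) := Finset.univ.filter fun c => Sum.inl (c, (0 : ZMod r)) ∈ s
  refine ⟨A.card, (Finset.card_le_univ A).trans_eq (Fintype.card_fin j), ?_⟩
  have hpow : ∀ (n : ℕ) p, p ∈ s → (shiftPerm j r f ^ n) p ∈ s := by
    intro n
    induction n with
    | zero => simp
    | succ n ih =>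
      intro p hp
      rw [pow_succ', Perm.mul_apply]
      exact hs _ (ih p hp)
  have h : s.toLeft = A ×ˢ (Finset.univ : Finset (ZMod r)) := by
    ext ⟨c, x⟩
    simp only [Finset.mem_toLeft, Finset.mem_product, Finset.mem_univ, and_true, A,
      Finset.mem_filter, true_and]
    constructor
    · intro hx
      have := hpow (-x).val _ hx
      rwa [shiftPerm_pow_inl, ZMod.natCast_zmod_val, add_neg_cancel] at this
    · intro hx
      have := hpow x.val _ hx
      rwa [shiftPerm_pow_inl, ZMod.natCast_zmod_val, zero_add] at this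
  have h1 := Finset.card_toLeft_add_card_toRight (u := s)
  rw [h, Finset.card_product, Finset.card_univ, ZMod.card] at h1
  have h2 := Finset.card_le_univ s.toRight
  simp at h2
  omega

theorem exists_invariant_finset {j r f i k : ℕ} [NeZero r] (hi : i ≤ j) (h1 : i * r ≤ k)
    (h2 : k ≤ i * r + f) :
    ∃ s : Finset ((Fin j × ZMod r) ⊕ Fin f),
      s.card = k ∧ s.image (shiftPerm j r f) = s := by
  obtain ⟨A, -, hA⟩ := Finset.exists_subset_card_eq (s := (Finset.univ : Finset (Fin j)))
    (n := i) (by simpa using hi)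
  obtain ⟨B, -, hB⟩ := Finset.exists_subset_card_eq (s := (Finset.univ : Finset (Fin f)))
    (n := k - i * r) (by simp; omega)
  refine ⟨(A ×ˢ Finset.univ).disjSum B, ?_, ?_⟩
  · simp [hA, hB, ZMod.card]; omega
  · refine Finset.eq_of_subset_of_card_le ?_ (by
      rw [Finset.card_image_of_injective _ (Equiv.injective _)])
    intro p hp
    obtain ⟨q, hq, rfl⟩ := Finset.mem_image.1 hp
    rcases q with ⟨c, x⟩ | y <;> simpa using hq

/-- The criterion for fixing a `k`-subset. -/
theorem fixes_subset_iff {n j r f k : ℕ} [NeZero r] (σ : Perm (Fin n))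
    (e : Fin n ≃ (Fin j × ZMod r) ⊕ Fin f) (he : ∀ x, e (σ x) = shiftPerm j r f (e x)) :
    (∃ s : Finset (Fin n), s.card = k ∧ s.image σ = s) ↔
      ∃ i ≤ j, i * r ≤ k ∧ k ≤ i * r + f := by
  constructor
  · rintro ⟨s, rfl, hs⟩
    have := card_invariant_finset (s.map e.toEmbedding) (fun p hp => by
      obtain ⟨x, hx, rfl⟩ := Finset.mem_map.1 hp
      refine Finset.mem_map.2 ⟨σ x, ?_, he x⟩
      rw [← hs]
      exact Finset.mem_image_of_mem _ hx)
    simpa using this
  · rintro ⟨i, hi, h1, h2⟩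
    obtain ⟨t, ht, ht'⟩ := exists_invariant_finset hi h1 h2
    refine ⟨t.map e.symm.toEmbedding, by simpa using ht, ?_⟩
    refine Finset.eq_of_subset_of_card_le ?_ (by
      rw [Finset.card_image_of_injective _ (Equiv.injective _)])
    intro p hp
    obtain ⟨q, hq, rfl⟩ := Finset.mem_image.1 hp
    obtain ⟨u, hu, rfl⟩ := Finset.mem_map.1 hq
    refine Finset.mem_map.2 ⟨shiftPerm j r f u, ?_, ?_⟩
    · rw [← ht']
      exact Finset.mem_image_of_mem _ hu
    · apply e.injective
      simp [he]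

end CfsgLib.Recog.PrimeOrderPerm
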