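import Cfsg.Agent.Lib.Sylvester.Main
import Cfsg.Agent.Lib.Recog.PrimeOrderPerm
import Cfsg.Agent.Lib.Schur.AutAlternating
import Cfsg.Agent.S0713

/-!
For a proper subgroup `K` of `A_m` whose large orbit, if any, has its whole stabiliser in `K`, some
element of order `r`, the largest prime divisor of the index, has no conjugate in `K`.
-/

set_option autoImplicit false

open Equiv MulAction
open scoped Pointwise

namespace CfsgLib.Recog.AltDerangement

variable {m : ℕ}

theorem pow_two_not_dvd_factorial {r : ℕ} (hr : r.Prime) (h : m < 2 * r) :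
    ¬ r ^ 2 ∣ m.factorial := by
  intro hd
  rw [hr.pow_dvd_iff_le_factorization m.factorial_ne_zero] at hd
  have hm : Nat.log r m < 2 := Nat.log_lt_of_lt_pow' (by norm_num) (by nlinarith [hr.two_le])
  rw [Nat.factorization_factorial hr hm, show Finset.Ico 1 2 = {1} from rfl,
    Finset.sum_singleton, pow_one] at hd
  have := (Nat.div_lt_iff_lt_mul hr.pos).2 h
  omega

theorem period_le_ncard {M X : Type*} [Group M] [MulAction M X] {g : M} {x : X} {S : Set X}
    (hS : S.Finite) (h : ∀ i : ℕ, g ^ i • x ∈ S) : MulAction.period g x ≤ S.ncard := by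
  have key : ∀ a b : ℕ, a ≤ b → b < MulAction.period g x → g ^ a • x = g ^ b • x → a = b := by
    intro a b hab hb he
    have : g ^ (b - a) • x = x := by
      refine MulAction.injective (g ^ a) ?_
      show g ^ a • g ^ (b - a) • x = g ^ a • x
      rw [← mul_smul, ← pow_add, Nat.add_sub_cancel' hab, he]
    have hd' := MulAction.pow_smul_eq_iff_period_dvd.1 this
    have := Nat.eq_zero_of_dvd_of_lt hd' (by omega)
    omega
  have := hS.to_subtype
  have hinj : Function.Injective fun i : Fin (MulAction.period g x) => (⟨g ^ (i : ℕ) • x, h i⟩ : S) := by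
    intro i j e
    have e' : g ^ (i : ℕ) • x = g ^ (j : ℕ) • x := congrArg Subtype.val e
    rcases le_total (i : ℕ) j with hij | hij
    · exact Fin.ext (key _ _ hij j.2 e')
    · exact Fin.ext (key _ _ hij i.2 e'.symm).symm
  have := Nat.card_le_card_of_injective _ hinj
  rwa [Nat.card_fin, Nat.card_coe_set_eq] at this

/-- A transitive group with an element of prime order more than half the degree is primitive. -/
theorem preprimitive_of_orderOf {K : Subgroup (Perm (Fin m))} [IsPretransitive K (Fin m)]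
    {σ : Perm (Fin m)} (hσ : σ ∈ K) {p : ℕ} (hp : p.Prime) (ho : orderOf σ = p) (hpm : m < 2 * p) :
    IsPreprimitive K (Fin m) := by
  classical
  constructor
  intro B hB
  by_contra htriv
  simp only [IsTrivialBlock, not_or] at htriv
  obtain ⟨hns, hnu⟩ := htriv
  have hne : B.Nonempty := (Set.not_subsingleton_iff.1 hns).nonempty
  have hmul := hB.ncard_block_mul_ncard_orbit_eq hne
  rw [Nat.card_fin] at hmul
  have hd : 2 ≤ B.ncard := (Set.one_lt_ncard_iff_nontrivial).2 (Set.not_subsingleton_iff.1 hns)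
  have horb : (orbit K B).ncard < p := by nlinarith
  -- every translate is fixed
  have hfix : ∀ g : K, (⟨σ, hσ⟩ : K) • g • B = g • B := by
    intro g
    have hper : MulAction.period (⟨σ, hσ⟩ : K) (g • B) ∣ p := by
      have := MulAction.period_dvd_orderOf (⟨σ, hσ⟩ : K) (g • B)
      rwa [Subgroup.orderOf_mk, ho] at this
    rcases (Nat.dvd_prime hp).1 hper with h | h
    · exact MulAction.period_eq_one_iff.1 h
    · exfalso
      have := period_le_ncard (g := (⟨σ, hσ⟩ : K)) (x := g • B) (S := orbit K B) (Set.toFinite _)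
        fun i => by rw [← mul_smul]; exact mem_orbit _ _
      omega
  have hσ1 : σ ≠ 1 := fun h => hp.one_lt.ne (by rw [← ho, h, orderOf_one])
  obtain ⟨x, hx⟩ : ∃ x, σ x ≠ x := by
    by_contra! hc
    exact hσ1 (Equiv.ext hc)
  obtain ⟨b, hb⟩ := hne
  obtain ⟨g, hg⟩ := exists_smul_eq K b x
  have hxB : x ∈ g • B := hg ▸ Set.smul_mem_smul_set hb
  have hmem : ∀ i : ℕ, (σ ^ i) x ∈ g • B := by
    intro i
    induction i with
    | zero => simpa using hxB
    | succ i ih =>
      rw [pow_succ', Perm.mul_apply, ← hfix g]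
      exact Set.smul_mem_smul_set (a := (⟨σ, hσ⟩ : K)) ih
  have hperx : MulAction.period σ x = p := by
    rcases (Nat.dvd_prime hp).1 (ho ▸ MulAction.period_dvd_orderOf σ x) with h | h
    · exact absurd (MulAction.period_eq_one_iff.1 h) hx
    · exact h
  have := period_le_ncard (g := σ) (x := x) (S := g • B) (Set.toFinite _)
    fun i => by rw [Perm.smul_def]; exact hmem i
  rw [hperx, Set.ncard_smul_set] at this
  have h2 : 2 ≤ (orbit K B).ncard := by
    by_contra h
    have h0 : (orbit K B).ncard = 1 := by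
      rcases Nat.eq_zero_or_pos (orbit K B).ncard with h0 | h0
      · rw [h0, mul_zero] at hmul; omega
      · omega
    rw [h0, mul_one] at hmul
    exact hnu (Set.eq_of_subset_of_ncard_le (Set.subset_univ B) (by rw [Set.ncard_univ, Nat.card_fin, hmul]) (Set.toFinite _))
  nlinarith

/-- Even permutations move sets of size at least two to all sets of that size. -/
theorem exists_alternating_image {Δ Δ' : Finset (Fin m)} (h : Δ'.card = Δ.card) (h2 : 2 ≤ Δ.card) :
    ∃ a ∈ alternatingGroup (Fin m), Δ.image a = Δ' := by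
  classical
  obtain ⟨σ, hσ⟩ : ∃ σ : Perm (Fin m), Δ.image σ = Δ' := by
    let e : {x // x ∈ Δ} ≃ {x // x ∈ Δ'} := Finset.equivOfCardEq h.symm
    refine ⟨e.extendSubtype, Finset.eq_of_subset_of_card_le (fun y hy => ?_)
      (by rw [Finset.card_image_of_injective _ (Equiv.injective _), h])⟩
    obtain ⟨x, hx, rfl⟩ := Finset.mem_image.1 hy
    exact e.extendSubtype_mem x hx
  rcases Int.units_eq_one_or (Perm.sign σ) with hs | hs
  · exact ⟨σ, Perm.mem_alternatingGroup.2 hs, hσ⟩
  · obtain ⟨u, hu, v, hv, huv⟩ := Finset.one_lt_card.1 h2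
    refine ⟨σ * swap u v, Perm.mem_alternatingGroup.2 (by rw [map_mul, hs, Perm.sign_swap huv]; rfl), ?_⟩
    rw [← hσ, Perm.coe_mul, ← Finset.image_image]
    congr 1
    refine Finset.eq_of_subset_of_card_le (fun y hy => ?_)
      (by rw [Finset.card_image_of_injective _ (Equiv.injective _)])
    obtain ⟨x, hx, rfl⟩ := Finset.mem_image.1 hy
    rw [swap_apply_def]
    split_ifs <;> assumption

/-- The index of the stabiliser of a set. -/
theorem index_stabilizer_set {Δ : Finset (Fin m)} (h2 : 2 ≤ Δ.card) :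
    (stabilizer ↥(alternatingGroup (Fin m)) Δ).index = m.choose Δ.card := by
  classical
  rw [index_stabilizer]
  have : orbit ↥(alternatingGroup (Fin m)) Δ = {s : Finset (Fin m) | s.card = Δ.card} := by
    ext s
    constructor
    · rintro ⟨a, rfl⟩
      exact Finset.card_smul_finset _ _
    · intro hs
      obtain ⟨a, ha, he⟩ := exists_alternating_image hs h2
      exact ⟨⟨a, ha⟩, by rw [← he]; rfl⟩
  rw [this, Set.ncard_eq_toFinset_card', show ({s : Finset (Fin m) | s.card = Δ.card}.toFinset) =
    Finset.powersetCard Δ.card Finset.univ by ext s; simp [Finset.mem_powersetCard],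
    Finset.card_powersetCard, Finset.card_univ, Fintype.card_fin]

theorem main (hm : 5 ≤ m) (K : Subgroup ↥(alternatingGroup (Fin m))) {r : ℕ} (hr : r.Prime)
    (hrd : r ∣ K.index) (hmax : ∀ s : ℕ, s.Prime → s ∣ K.index → s ≤ r)
    (hbig : m = 6 ∨ ∀ x : Fin m, m < 2 * (orbit ↥K x).ncard → orbit ↥K x ≠ Set.univ →
      stabilizer ↥(alternatingGroup (Fin m)) (orbit ↥K x) ≤ K) :
    ∃ x : ↥(alternatingGroup (Fin m)), orderOf x = r ∧ ∀ a, a * x * a⁻¹ ∉ K := by
  classical
  have : Nontrivial (Fin m) := Fin.nontrivial_iff_two_le.2 (by omega)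
  have hAcard : 2 * Nat.card (alternatingGroup (Fin m)) = m.factorial := by
    rw [two_mul_nat_card_alternatingGroup, Nat.card_perm, Nat.card_fin]
  have hmul : Nat.card K * K.index = Nat.card (alternatingGroup (Fin m)) := K.card_mul_index
  have hrA : r ∣ Nat.card (alternatingGroup (Fin m)) := by rw [← hmul]; exact hrd.mul_left _
  rcases lt_or_ge m (2 * r) with hbigr | hsmallr
  · obtain ⟨x, hx⟩ := exists_prime_orderOf_dvd_card' (hp := ⟨hr⟩) r hrA
    refine ⟨x, hx, fun a ha => pow_two_not_dvd_factorial hr hbigr ?_⟩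
    have h1 : r ∣ Nat.card K := by
      have h := Subgroup.orderOf_dvd_natCard K ha
      rwa [← MulAut.conj_apply, (MulAut.conj a).orderOf_eq, hx] at h
    rw [← hAcard, ← hmul, sq]
    exact Dvd.dvd.mul_left (Nat.mul_dvd_mul h1 hrd) 2
  by_contra hno
  have hconj : ∀ x : (alternatingGroup (Fin m)), orderOf x = r → ∃ a, a * x * a⁻¹ ∈ K := fun x hx =>
    not_forall_not.1 fun h => hno ⟨x, hx, h⟩
  have hKtop : K ≠ ⊤ := fun h => by
    rw [h, Subgroup.index_top] at hrd
    exact hr.one_lt.ne' (Nat.dvd_one.1 hrd)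
  -- a cycle of prime length more than half the degree
  obtain ⟨p, hp, hp1, hp2⟩ := Nat.exists_prime_lt_and_le_two_mul (m / 2) (by omega)
  have hpn : ¬ p ∣ K.index := fun h => absurd (hmax p hp h) (by omega)
  have hpK : p ∣ Nat.card K := by
    have h : p ∣ 2 * Nat.card (alternatingGroup (Fin m)) := hAcard ▸ hp.dvd_factorial.2 (by omega)
    rw [← hmul] at h
    rcases hp.dvd_mul.1 h with h | h
    · exact absurd (Nat.le_of_dvd two_pos h) (by omega)
    · exact (hp.dvd_mul.1 h).resolve_right hpn
  obtain ⟨σ, hσ⟩ := exists_prime_orderOf_dvd_card' (hp := ⟨hp⟩) p hpK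
  have hσ' : orderOf ((σ : (alternatingGroup (Fin m))) : Perm (Fin m)) = p := by
    rw [Subgroup.orderOf_coe, Subgroup.orderOf_coe, hσ]
  set K' : Subgroup (Perm (Fin m)) := K.map (alternatingGroup (Fin m)).subtype with hK'
  have hσK : ((σ : (alternatingGroup (Fin m))) : Perm (Fin m)) ∈ K' := ⟨σ, σ.2, rfl⟩
  have hKA : ∀ {g : Perm (Fin m)} (hg : g ∈ (alternatingGroup (Fin m))), g ∈ K' → (⟨g, hg⟩ : (alternatingGroup (Fin m))) ∈ K := by
    rintro g hg ⟨k, hk, rfl⟩
    exact hk
  by_cases htr : IsPretransitive K' (Fin m)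
  · have hprim := preprimitive_of_orderOf hσK hp hσ' (by omega)
    have finish_ : (alternatingGroup (Fin m)) ≤ K' → False := fun hle => hKtop (eq_top_iff.2 fun g _ => hKA g.2 (hle g.2))
    by_cases hr2 : r = 2
    · -- then a three-cycle has a conjugate in `K`
      have h3 : ¬ 3 ∣ K.index := fun h => by
        have := hmax 3 Nat.prime_three h
        omega
      obtain ⟨u, v, w, huv, huw, hvw⟩ : ∃ u v w : Fin m, u ≠ v ∧ u ≠ w ∧ v ≠ w :=
        ⟨⟨0, by omega⟩, ⟨1, by omega⟩, ⟨2, by omega⟩, by simp, by simp, by simp⟩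
      have hc3 := Perm.isThreeCycle_swap_mul_swap_same huv huw hvw
      set t : (alternatingGroup (Fin m)) := ⟨swap u v * swap u w, hc3.mem_alternatingGroup⟩
      have : Fact (Nat.Prime 3) := ⟨Nat.prime_three⟩
      have hcardt : Nat.card (Subgroup.zpowers t) = 3 := by
        rw [Nat.card_zpowers, ← Subgroup.orderOf_coe]; exact hc3.orderOf
      have hP : IsPGroup 3 (Subgroup.zpowers t) := IsPGroup.of_card (n := 1) (by rw [hcardt, pow_one])
      obtain ⟨q, hq⟩ := hP.nonempty_fixed_point_of_prime_not_dvd_card (α := ↥(alternatingGroup (Fin m)) ⧸ K)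
        (by rwa [← Subgroup.index_eq_card])
      obtain ⟨a, rfl⟩ := QuotientGroup.mk_surjective q
      have h : ((t * a : (alternatingGroup (Fin m))) : (alternatingGroup (Fin m)) ⧸ K) = (a : (alternatingGroup (Fin m)) ⧸ K) := hq ⟨t, Subgroup.mem_zpowers t⟩
      rw [eq_comm, QuotientGroup.eq] at h
      refine finish_ (Perm.alternatingGroup_le_of_isPreprimitive_of_isThreeCycle_mem hprim
        (g := (↑(a⁻¹ * (t * a)) : Perm (Fin m))) ?_ ⟨_, h, rfl⟩)
      show Perm.cycleType _ = _
      rw [Subgroup.coe_mul, Subgroup.coe_mul, Subgroup.coe_inv, ← mul_assoc,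
        show ((a : Perm (Fin m))⁻¹ * (t : Perm (Fin m)) * (a : Perm (Fin m))) =
          (a : Perm (Fin m))⁻¹ * (t : Perm (Fin m)) * ((a : Perm (Fin m))⁻¹)⁻¹ by rw [inv_inv],
        Perm.cycleType_conj]
      exact hc3
    · -- then an `r`-cycle has a conjugate in `K`
      have hr3 : 3 ≤ r := by have := hr.two_le; omega
      let c : Perm (Fin m) := Fin.cycleRange ⟨r - 1, by omega⟩
      have hcm : NeZero m := ⟨by omega⟩
      have hct : c.cycleType = {r} := by
        rw [Fin.cycleType_cycleRange (by intro h; have := congrArg Fin.val h; simp at this; omega)]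
        simp only [Multiset.singleton_inj]
        omega
      have hco : orderOf c = r := by rw [← Perm.lcm_cycleType, hct, Multiset.lcm_singleton, normalize_eq]
      have hcA : c ∈ (alternatingGroup (Fin m)) := by
        rw [Perm.mem_alternatingGroup, Perm.sign_of_cycleType, hct]
        have hodd : Odd r := hr.odd_of_ne_two hr2
        simp only [Multiset.sum_singleton, Multiset.card_singleton]
        exact Even.neg_one_pow (hodd.add_odd odd_one)
      obtain ⟨a, ha⟩ := hconj ⟨c, hcA⟩ (by rw [← Subgroup.orderOf_coe]; exact hco)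
      have hct' : ((a : Perm (Fin m)) * c * (a : Perm (Fin m))⁻¹).cycleType = {r} := by
        rw [Perm.cycleType_conj, hct]
      refine finish_ (Cfsg.Agent.S0713.result K' hprim hr (by rw [Fintype.card_fin]; exact hm) ?_
        (Perm.card_cycleType_eq_one.1 (hct'.symm ▸ Multiset.card_singleton r :))
        ((Perm.sum_cycleType _).symm.trans (hct'.symm ▸ Multiset.sum_singleton r :)) ⟨_, ha, rfl⟩)
      rw [Fintype.card_fin]
      omega
  · -- intransitive: the large orbit
    obtain ⟨z, hz⟩ : ∃ z, ((σ : (alternatingGroup (Fin m))) : Perm (Fin m)) z ≠ z := by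
      by_contra! hc
      exact hp.one_lt.ne (by rw [← hσ', show ((σ : (alternatingGroup (Fin m))) : Perm (Fin m)) = 1 from Equiv.ext hc, orderOf_one])
    set D := orbit ↥K z with hD
    have hpD : p ≤ D.ncard := by
      have h := period_le_ncard (g := σ) (x := z) (S := D) (Set.toFinite _) fun i => mem_orbit _ _
      rcases (Nat.dvd_prime hp).1 (hσ ▸ MulAction.period_dvd_orderOf σ z) with e | e
      · exact absurd (MulAction.period_eq_one_iff.1 e) hz
      · omega
    have hDu : D ≠ Set.univ := fun h => htr ⟨fun a b => by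
      obtain ⟨k₁, h₁⟩ := (h ▸ Set.mem_univ a : a ∈ D)
      obtain ⟨k₂, h₂⟩ := (h ▸ Set.mem_univ b : b ∈ D)
      refine ⟨⟨_, (k₂ * k₁⁻¹ : K).1, (k₂ * k₁⁻¹ : K).2, rfl⟩, ?_⟩
      show (k₂ * k₁⁻¹) • a = b
      rw [← h₁, ← h₂, mul_smul, inv_smul_smul]⟩
    set Δ := D.toFinset with hΔ
    have hΔc : Δ.card = D.ncard := (Set.ncard_eq_toFinset_card' D).symm
    have hklt : Δ.card < m := by
      rw [hΔc]
      have := Set.ncard_lt_ncard (Set.ssubset_univ_iff.2 hDu) (Set.toFinite _)
      rwa [Set.ncard_univ, Nat.card_fin] at this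
    have hle : K ≤ stabilizer ↥(alternatingGroup (Fin m)) Δ := by
      intro g hg
      rw [mem_stabilizer_iff]
      refine Finset.eq_of_subset_of_card_le (fun y hy => ?_) (by rw [Finset.card_smul_finset])
      obtain ⟨x, hx, rfl⟩ := Finset.mem_smul_finset.1 hy
      rw [hΔ, Set.mem_toFinset] at hx ⊢
      obtain ⟨k, rfl⟩ := hx
      exact ⟨⟨g, hg⟩ * k, mul_smul _ _ _⟩
    set k := m - Δ.card with hk
    have hch : (stabilizer ↥(alternatingGroup (Fin m)) Δ).index = m.choose k := by
      rw [index_stabilizer_set (by omega), hk, Nat.choose_symm hklt.le]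
    have hCn : m.choose k ∣ K.index := hch ▸ Subgroup.index_dvd_of_le hle
    obtain ⟨s, hs, hks, hsd⟩ := CfsgLib.Sylvester.exists_prime_gt_dvd_choose (n := m) (k := k)
      (by omega) (by omega)
    have hkr : k < r := lt_of_lt_of_le hks (hmax s hs (hsd.trans hCn))
    have hrC : r ∣ m.choose k := by
      rcases hbig with h6 | h
      · subst h6
        obtain rfl : p = 5 := by
          rcases (show p = 4 ∨ p = 5 ∨ p = 6 by omega) with e | e | e
          · exact absurd (e ▸ hp) (by norm_num)
          · exact e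
          · exact absurd (e ▸ hp) (by norm_num)
        have hk1 : k = 1 := by omega
        rw [hk1, Nat.choose_one_right]
        rcases (show r = 2 ∨ r = 3 by have := hr.two_le; omega) with rfl | rfl <;> norm_num
      · have hst : stabilizer ↥(alternatingGroup (Fin m)) Δ ≤ K := by
          refine le_trans (fun g hg => ?_) (h z (by rw [← hD]; omega) hDu)
          rw [mem_stabilizer_iff] at hg ⊢
          rw [← hD, show D = (Δ : Set (Fin m)) from (Set.coe_toFinset D).symm, ← Finset.coe_smul_finset, hg]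
        rw [← hch, le_antisymm hst hle]
        exact hrd
    obtain ⟨j, hj, hjr⟩ : ∃ j < k, r ∣ m - j := by
      have h1 : r ∣ m.descFactorial k := by
        rw [Nat.descFactorial_eq_factorial_mul_choose]; exact hrC.mul_left _
      rw [Nat.descFactorial_eq_prod_range] at h1
      obtain ⟨j, hj, hjr⟩ := (hr.prime.dvd_finsetProd_iff _).1 h1
      exact ⟨j, Finset.mem_range.1 hj, hjr⟩
    have hmod : m % r < k := by
      obtain ⟨c, hc⟩ := hjr
      rw [show m = j + r * c by omega, Nat.add_mul_mod_self_left, Nat.mod_eq_of_lt (by omega)]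
      exact hj
    have : NeZero r := ⟨hr.ne_zero⟩
    obtain ⟨x, ex, hox, hex⟩ := PrimeOrderPerm.exists_perm_shape (α := Fin m) (j := m / r) (f := m % r)
      hr ((Nat.le_div_iff_mul_le hr.pos).2 (by omega)) (by rw [Fintype.card_fin]; exact Nat.div_add_mod' m r)
    have hxA : x ∈ (alternatingGroup (Fin m)) := by
      rw [Perm.mem_alternatingGroup]
      by_cases hr2 : r = 2
      · subst hr2
        have hk1 : k = 1 := by omega
        rw [hk1, Nat.choose_one_right] at hCn
        obtain ⟨e, he⟩ : ∃ e, m = 2 ^ e := ⟨_, (Nat.eq_prime_pow_of_unique_prime_dvd (by omega) fun hd hdm =>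
          le_antisymm (hmax _ hd (hdm.trans hCn)) hd.two_le)⟩
        have h4 : 4 ∣ m := by
          rcases (show e < 2 ∨ 2 ≤ e by omega) with e2 | e2
          · have := Nat.pow_le_pow_right (show 0 < 2 by norm_num) (show e ≤ 1 by omega)
            omega
          · rw [he]; exact pow_dvd_pow 2 e2
        obtain ⟨i, hi⟩ := Perm.cycleType_prime_order (σ := x) (hox.symm ▸ Nat.prime_two)
        have hsupp : x.support = Finset.univ := Finset.eq_univ_of_forall fun y => by
          rw [Perm.mem_support]
          intro hy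
          have h := hex y
          rw [hy] at h
          rcases hey : ex y with ⟨c, d⟩ | d
          · rw [hey, PrimeOrderPerm.shiftPerm_inl] at h
            simp at h
          · exact absurd d.2 (by omega)
        have hsum := Perm.sum_cycleType x
        rw [hi, hsupp, Finset.card_univ, Fintype.card_fin, Multiset.sum_replicate, hox, smul_eq_mul] at hsum
        rw [Perm.sign_of_cycleType, hi, Multiset.sum_replicate, Multiset.card_replicate, hox, smul_eq_mul]
        obtain ⟨q, hq⟩ := h4
        exact Even.neg_one_pow ⟨3 * q, by omega⟩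
      · rcases Int.units_eq_one_or (Perm.sign x) with h | h
        · exact h
        · have h1 := congrArg Perm.sign (pow_orderOf_eq_one x)
          rw [hox, map_pow, h, (hr.odd_of_ne_two hr2).neg_one_pow, map_one] at h1
          exact absurd h1 (by decide)
    obtain ⟨a, ha⟩ := hconj ⟨x, hxA⟩ (by rw [← Subgroup.orderOf_coe]; exact hox)
    have hfixΔ : (⟨x, hxA⟩ : (alternatingGroup (Fin m))) • (a⁻¹ • Δ) = a⁻¹ • Δ := by
      have := mem_stabilizer_iff.1 (hle ha)
      rwa [mul_smul, mul_smul, ← eq_inv_smul_iff] at this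
    have hcompl : ((a⁻¹ • Δ)ᶜ).image x = (a⁻¹ • Δ)ᶜ := by
      refine Finset.eq_of_subset_of_card_le (fun y hy => ?_)
        (by rw [Finset.card_image_of_injective _ x.injective])
      obtain ⟨w, hw, rfl⟩ := Finset.mem_image.1 hy
      rw [Finset.mem_compl] at hw ⊢
      intro hxw
      rw [← hfixΔ] at hxw
      obtain ⟨v, hv, hvx⟩ := Finset.mem_smul_finset.1 hxw
      exact hw (x.injective hvx ▸ hv)
    obtain ⟨i, -, h1, h2⟩ := (PrimeOrderPerm.fixes_subset_iff x ex hex).1
      ⟨(a⁻¹ • Δ)ᶜ, rfl, hcompl⟩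
    rw [Finset.card_compl, Finset.card_smul_finset, Fintype.card_fin, ← hk] at h1 h2
    rcases Nat.eq_zero_or_pos i with rfl | hi
    · omega
    · have := Nat.le_mul_of_pos_left r hi
      omega

end CfsgLib.Recog.AltDerangement
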