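import Mathlib
import Cfsg.Agent.Lib.Recog.Isospectral

/-!
Two or more primes dividing the group order to the first power, pairwise non-adjacent in the prime graph,
force a simple section (and non-solvability).
-/

namespace CfsgLib.Recog

open scoped Pointwise

variable {G : Type*} [Group G] [Finite G]

theorem exists_mul_orderOf_of_normalizes {p q : ℕ} (hp : p.Prime) (hq : q.Prime) (hpq : p ≠ q)
    (R : Subgroup G) (hR : Nat.card R = p) (y : G) (hy : orderOf y = q)
    (hyR : y ∈ Subgroup.normalizer (R : Set G)) (hdvd : ¬ q ∣ p - 1) :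
    ∃ g : G, orderOf g = p * q := by
  haveI : Fact p.Prime := ⟨hp⟩
  haveI : IsCyclic R := isCyclic_of_prime_card hR
  obtain ⟨x, hx⟩ := exists_prime_orderOf_dvd_card' (G := R) p (by rw [hR])
  set φ : MulAut R := R.normalizerMonoidHom ⟨y, hyR⟩ with hφ
  have h1 : orderOf φ ∣ q := by
    have := orderOf_map_dvd R.normalizerMonoidHom ⟨y, hyR⟩
    rwa [Subgroup.orderOf_mk, hy] at this
  have h2 : orderOf φ ∣ p - 1 := by
    refine (orderOf_dvd_natCard φ).trans ?_
    rw [IsCyclic.card_mulAut, hR, Nat.totient_prime hp]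
  have h3 : φ = 1 := by
    rw [← orderOf_eq_one_iff]
    exact Nat.eq_one_of_dvd_coprimes ((hq.coprime_iff_not_dvd).2 hdvd) h1 h2
  have hc : Commute y (x : G) := by
    have h4 : ((φ x : R) : G) = (x : G) := by rw [h3]; rfl
    have h5 : y * x * y⁻¹ = (x : G) := h4
    exact mul_inv_eq_iff_eq_mul.1 h5
  refine ⟨(x : G) * y, ?_⟩
  rw [hc.symm.orderOf_mul_eq_mul_orderOf_of_coprime
    (by rw [orderOf_submonoid, hx, hy]; exact (Nat.coprime_primes hp hq).2 hpq), orderOf_submonoid, hx, hy]

/-- Frattini argument: if `p` divides the order of the normal subgroup `H` exactly once, then so does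
every non-adjacent `q`. -/
theorem dvd_card_of_frattini {p q : ℕ} (hp : p.Prime) (hq : q.Prime) (hpq : p ≠ q)
    (H : Subgroup G) [H.Normal] (hpH : p ∣ Nat.card H) (hp2 : ¬ p ^ 2 ∣ Nat.card G)
    (hqG : q ∣ Nat.card G) (hne : ∀ g : G, orderOf g ≠ p * q) (hdvd : ¬ q ∣ p - 1) :
    q ∣ Nat.card H := by
  haveI : Fact p.Prime := ⟨hp⟩
  haveI : Fact q.Prime := ⟨hq⟩
  by_contra hqH
  obtain ⟨P⟩ : Nonempty (Sylow p H) := inferInstance
  have hfr := Sylow.normalizer_sup_eq_top P
  set R : Subgroup G := (P : Subgroup H).map H.subtype with hRdef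
  have hR : Nat.card R = p := by
    rw [hRdef, Subgroup.card_map_of_injective H.subtype_injective, P.card_eq_multiplicity]
    have h1 : (Nat.card H).factorization p = 1 := by
      apply le_antisymm
      · by_contra hcon
        apply hp2
        exact (((hp.pow_dvd_iff_le_factorization Nat.card_pos.ne').2 (by omega : 2 ≤ _))).trans
          (Subgroup.card_subgroup_dvd_card H)
      · exact hp.factorization_pos_of_dvd Nat.card_pos.ne' hpH
    rw [h1, pow_one]
  set K := Subgroup.normalizer (R : Set G)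
  have hcard : Nat.card G ∣ Nat.card K * Nat.card H := by
    rw [← Subgroup.card_mul_index H]
    rw [mul_comm (Nat.card K)]
    refine Nat.mul_dvd_mul_left _ ?_
    calc H.index = H.relIndex K := by
          rw [← Subgroup.relIndex_top_right, ← hfr, sup_comm, Subgroup.relIndex_sup_left]
      _ ∣ Nat.card K := Subgroup.relIndex_dvd_card H K
  have hqK : q ∣ Nat.card K := (hq.dvd_mul.1 (hqG.trans hcard)).resolve_right hqH
  obtain ⟨y, hy⟩ := exists_prime_orderOf_dvd_card' (G := K) q hqK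
  obtain ⟨g, hg⟩ := exists_mul_orderOf_of_normalizes hp hq hpq R hR (y : G) ((orderOf_submonoid y).trans hy) y.2 hdvd
  exact hne g hg

theorem relIndex_sup_of_le_normalizer (A B : Subgroup G) (hA : A ≤ Subgroup.normalizer (B : Set G)) :
    B.relIndex (A ⊔ B) = B.relIndex A := by
  haveI : (B.subgroupOf (A ⊔ B)).Normal :=
    Subgroup.normal_subgroupOf_of_le_normalizer (sup_le hA Subgroup.le_normalizer)
  have h := Subgroup.relIndex_sup_right (A.subgroupOf (A ⊔ B)) (B.subgroupOf (A ⊔ B))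
  rwa [← Subgroup.subgroupOf_sup le_sup_left le_sup_right, Subgroup.subgroupOf_self,
    Subgroup.relIndex_top_right, Subgroup.relIndex_subgroupOf le_sup_left] at h

theorem card_sup_coprime {r : ℕ} (hr : r.Prime) (A B : Subgroup G)
    (hA : A ≤ Subgroup.normalizer (B : Set G)) (hrA : ¬ r ∣ Nat.card A) (hrB : ¬ r ∣ Nat.card B) :
    ¬ r ∣ Nat.card (A ⊔ B : Subgroup G) := by
  intro h
  have h1 : Nat.card (A ⊔ B : Subgroup G) = Nat.card B * B.relIndex A := by
    have h2 : B.relIndex (A ⊔ B) = B.relIndex A := relIndex_sup_of_le_normalizer A B hA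
    have h3 := Subgroup.relIndex_mul_relIndex ⊥ B (A ⊔ B) bot_le le_sup_right
    rw [Subgroup.relIndex_bot_left, Subgroup.relIndex_bot_left, h2] at h3
    exact h3.symm
  rw [h1] at h
  rcases hr.dvd_mul.1 h with h | h
  · exact hrB h
  · exact hrA (h.trans (Subgroup.relIndex_dvd_card B A))

/-- Pairwise non-adjacent primes, each dividing the order once, all divide the order of one simple section. -/
theorem exists_simple_section (T : Set ℕ) (hT : ∀ p ∈ T, p.Prime ∧ p ∣ Nat.card G ∧ ¬ p ^ 2 ∣ Nat.card G)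
    (hadj : ∀ p ∈ T, ∀ q ∈ T, p ≠ q → (∀ g : G, orderOf g ≠ p * q) ∧ ¬ q ∣ p - 1)
    (h2 : ∃ p ∈ T, ∃ q ∈ T, p ≠ q) :
    ∃ (N H : Subgroup G) (_ : N.Normal), H.Normal ∧ N < H ∧
      IsSimpleGroup (↥H ⧸ N.subgroupOf H) ∧ ¬ IsMulCommutative (↥H ⧸ N.subgroupOf H) ∧
      ∀ p ∈ T, p ∣ Nat.card (↥H ⧸ N.subgroupOf H) := by
  obtain ⟨p₀, hp₀, q₀, hq₀, hne₀⟩ := h2
  -- a minimal normal subgroup meeting `T`
  let S : Set (Subgroup G) := {H | H.Normal ∧ ∃ p ∈ T, p ∣ Nat.card H}
  have hStop : (⊤ : Subgroup G) ∈ S :=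
    ⟨inferInstance, p₀, hp₀, by rw [Subgroup.card_top]; exact (hT p₀ hp₀).2.1⟩
  obtain ⟨H, hHS, hHmin⟩ := wellFounded_lt.has_min S ⟨⊤, hStop⟩
  obtain ⟨hHn, p₁, hp₁, hp₁H⟩ := hHS
  haveI := hHn
  have hall : ∀ p ∈ T, p ∣ Nat.card H := by
    intro p hp
    rcases eq_or_ne p₁ p with rfl | hne
    · exact hp₁H
    · exact dvd_card_of_frattini (hT p₁ hp₁).1 (hT p hp).1 hne H hp₁H (hT p₁ hp₁).2.2 (hT p hp).2.1
        (hadj p₁ hp₁ p hp hne).1 (hadj p₁ hp₁ p hp hne).2
  -- a maximal normal subgroup below it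
  let S' : Set (Subgroup G) := {N | N.Normal ∧ N < H}
  have hHbot : (⊥ : Subgroup G) < H := by
    rw [bot_lt_iff_ne_bot]
    rintro rfl
    rw [Subgroup.card_bot, Nat.dvd_one] at hp₁H
    exact (hT p₁ hp₁).1.one_lt.ne' hp₁H
  obtain ⟨N, hNS, hNmax⟩ := wellFounded_gt.has_min S' ⟨⊥, inferInstance, hHbot⟩
  obtain ⟨hNn, hNH⟩ := hNS
  haveI := hNn
  have hN0 : ∀ p ∈ T, ¬ p ∣ Nat.card N := fun p hp h => hHmin N ⟨hNn, p, hp, h⟩ hNH
  have hmax : ∀ L : Subgroup G, L.Normal → N < L → L ≤ H → L = H := by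
    intro L hL h1 h2
    by_contra hne
    exact hNmax L ⟨hL, lt_of_le_of_ne h2 hne⟩ h1
  have hdvdQ : ∀ p ∈ T, p ∣ Nat.card (↥H ⧸ N.subgroupOf H) := by
    intro p hp
    have h := hall p hp
    rw [← Subgroup.card_mul_index (N.subgroupOf H),
      Nat.card_congr (Subgroup.subgroupOfEquivOfLe hNH.le).toEquiv] at h
    exact ((hT p hp).1.dvd_mul.1 h).resolve_left (hN0 p hp)
  -- subgroups between, normalised by `H`
  let U : Set (Subgroup G) := {K | N < K ∧ K ≤ H ∧ H ≤ Subgroup.normalizer (K : Set G)}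
  have hsimpleU : ∀ K ∈ U, K = H := by
    have hp₀' := hT p₀ hp₀
    let c : G → G ≃* G := fun g => MulAut.conj g
    -- every member has order divisible by p₀
    have hdiv : ∀ K ∈ U, p₀ ∣ Nat.card K := by
      intro K hK
      by_contra hcon
      let W : Set (Subgroup G) := {L | L ≤ H ∧ H ≤ Subgroup.normalizer (L : Set G) ∧ ¬ p₀ ∣ Nat.card L}
      obtain ⟨L, hL, hLmax⟩ := wellFounded_gt.has_min W ⟨K, hK.2.1, hK.2.2, hcon⟩
      have habs : ∀ A ∈ W, A ≤ L := by
        intro A hA
        by_contra hle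
        refine hLmax (A ⊔ L) ⟨sup_le hA.1 hL.1, ?_, ?_⟩ (lt_of_le_not_ge le_sup_right
          (fun h => hle (le_sup_left.trans h)))
        · exact (le_inf hA.2.1 hL.2.1).trans (Subgroup.normalizer_inf_normalizer_le_normalizer_sup A L)
        · exact card_sup_coprime hp₀'.1 A L (hA.1.trans hL.2.1) hA.2.2 hL.2.2
      have hLn : L.Normal := by
        refine ⟨fun n hn g => ?_⟩
        refine habs (L.map (c g).toMonoidHom) ⟨?_, ?_, ?_⟩ ⟨n, hn, rfl⟩
        · rintro _ ⟨a, ha, rfl⟩
          exact hHn.conj_mem a (hL.1 ha) g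
        · intro h hh
          have h' : g⁻¹ * h * g ∈ Subgroup.normalizer (L : Set G) := hL.2.1 (by
            simpa using hHn.conj_mem h hh g⁻¹)
          have := Subgroup.le_normalizer_map (c g).toMonoidHom
            (Subgroup.mem_map_of_mem (c g).toMonoidHom h')
          simpa [c, MulAut.conj_apply, mul_assoc] using this
        · rw [Subgroup.card_map_of_injective (c g).injective]; exact hL.2.2
      have hKL : K ≤ L := habs K ⟨hK.2.1, hK.2.2, hcon⟩
      have hLH : L = H := hmax L hLn (hK.1.trans_le hKL) hL.1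
      exact hL.2.2 (hLH ▸ hall p₀ hp₀)
    intro K₀ hK₀
    obtain ⟨K, hKK, hKmin⟩ := wellFounded_lt.has_min {K ∈ U | K ≤ K₀} ⟨K₀, hK₀, le_rfl⟩
    obtain ⟨hK, hKle⟩ := hKK
    suffices K = H from le_antisymm hK₀.2.1 (this ▸ hKle)
    refine hmax K ⟨fun n hn g => ?_⟩ hK.1 hK.2.1
    by_contra hout
    set K' := K.map (c g).toMonoidHom with hK'
    have hK'U : K' ∈ U := by
      refine ⟨lt_of_le_of_ne ?_ ?_, ?_, ?_⟩
      · intro x hx
        exact ⟨g⁻¹ * x * g, hK.1.le (by simpa using hNn.conj_mem x hx g⁻¹), by simp [c, mul_assoc]⟩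
      · intro h
        have hc1 : Nat.card K' = Nat.card K := Subgroup.card_map_of_injective (c g).injective
        have hlt : Nat.card N < Nat.card K := by
          refine lt_of_le_of_ne (Subgroup.card_le_of_le hK.1.le) fun he => hK.1.ne ?_
          exact Subgroup.eq_of_le_of_card_ge hK.1.le he.ge
        rw [← h] at hc1
        omega
      · rintro _ ⟨a, ha, rfl⟩
        exact hHn.conj_mem a (hK.2.1 ha) g
      · intro h hh
        have h' : g⁻¹ * h * g ∈ Subgroup.normalizer (K : Set G) := hK.2.2 (by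
          simpa using hHn.conj_mem h hh g⁻¹)
        have := Subgroup.le_normalizer_map (c g).toMonoidHom
          (Subgroup.mem_map_of_mem (c g).toMonoidHom h')
        simpa [c, hK', MulAut.conj_apply, mul_assoc] using this
    have hinf : K ⊓ K' = N := by
      by_contra hne
      have hlt : N < K ⊓ K' := lt_of_le_of_ne (le_inf hK.1.le hK'U.1.le) (Ne.symm hne)
      have hU : K ⊓ K' ∈ U := by
        refine ⟨hlt, inf_le_left.trans hK.2.1, ?_⟩
        exact (le_inf hK.2.2 hK'U.2.2).trans Subgroup.inf_normalizer_le_normalizer_inf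
      have heq : K ⊓ K' = K := by
        by_contra h
        exact hKmin _ ⟨hU, inf_le_left.trans hKle⟩ (lt_of_le_of_ne inf_le_left h)
      have hle : K ≤ K' := inf_eq_left.1 heq
      have : K = K' := Subgroup.eq_of_le_of_card_ge hle
        (Subgroup.card_map_of_injective (c g).injective).le
      exact hout (this.symm ▸ (⟨n, hn, rfl⟩ : g * n * g⁻¹ ∈ K'))
    have h2 : p₀ ^ 2 ∣ Nat.card (K ⊔ K' : Subgroup G) := by
      have hnorm : K ≤ Subgroup.normalizer (K' : Set G) := hK.2.1.trans hK'U.2.2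
      have h3 := Subgroup.relIndex_mul_relIndex ⊥ K' (K ⊔ K') bot_le le_sup_right
      rw [Subgroup.relIndex_bot_left, Subgroup.relIndex_bot_left,
        relIndex_sup_of_le_normalizer K K' hnorm] at h3
      rw [← h3, pow_two]
      refine Nat.mul_dvd_mul (hdiv K' hK'U) ?_
      have h4 := hdiv K hK
      have h5 := Subgroup.relIndex_mul_relIndex ⊥ (K ⊓ K') K bot_le inf_le_left
      rw [Subgroup.relIndex_bot_left, Subgroup.relIndex_bot_left, Subgroup.inf_relIndex_left,
        hinf] at h5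
      rw [← h5] at h4
      exact (hp₀'.1.dvd_mul.1 h4).resolve_left (hN0 p₀ hp₀)
    exact hp₀'.2.2 (h2.trans (Subgroup.card_subgroup_dvd_card _))
  refine ⟨N, H, hNn, hHn, hNH, ?_, ?_, hdvdQ⟩
  · haveI : Nontrivial (↥H ⧸ N.subgroupOf H) := by
      rw [← Finite.one_lt_card_iff_nontrivial]
      exact lt_of_lt_of_le (hT p₀ hp₀).1.one_lt (Nat.le_of_dvd Nat.card_pos (hdvdQ p₀ hp₀))
    refine ⟨fun Q hQ => ?_⟩
    set L : Subgroup H := Q.comap (QuotientGroup.mk' (N.subgroupOf H)) with hLdef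
    have hNL : N.subgroupOf H ≤ L := fun x hx => by
      rw [hLdef, Subgroup.mem_comap, QuotientGroup.mk'_apply, (QuotientGroup.eq_one_iff x).2 hx]
      exact one_mem Q
    by_cases hbot : L.map H.subtype = N
    · left
      rw [eq_bot_iff]
      intro x hx
      obtain ⟨y, rfl⟩ := QuotientGroup.mk'_surjective (N.subgroupOf H) x
      rw [Subgroup.mem_bot, QuotientGroup.mk'_apply, QuotientGroup.eq_one_iff, Subgroup.mem_subgroupOf,
        ← hbot]
      exact ⟨y, hx, rfl⟩
    · right
      have hLn : H ≤ Subgroup.normalizer (L.map H.subtype : Set G) := by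
        haveI : L.Normal := hQ.comap _
        intro h hh
        have := Subgroup.le_normalizer_map H.subtype (H := L)
          ⟨⟨h, hh⟩, by rw [Subgroup.normalizer_eq_top]; trivial, rfl⟩
        simpa using this
      have hmem : L.map H.subtype ∈ U := by
        refine ⟨lt_of_le_of_ne ?_ (Ne.symm hbot), Subgroup.map_subtype_le _, hLn⟩
        intro x hx
        exact ⟨⟨x, hNH.le hx⟩, hNL hx, rfl⟩
      have htop := hsimpleU _ hmem
      rw [eq_top_iff]
      intro x _
      obtain ⟨y, rfl⟩ := QuotientGroup.mk'_surjective (N.subgroupOf H) x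
      have : (y : G) ∈ L.map H.subtype := htop.symm ▸ y.2
      obtain ⟨z, hz, hzy⟩ := this
      rw [show z = y from Subtype.ext hzy] at hz
      exact hz
  · intro hcomm
    haveI : IsSimpleGroup (↥H ⧸ N.subgroupOf H) → (Nat.card (↥H ⧸ N.subgroupOf H)).Prime := fun h => by
      letI : CommGroup (↥H ⧸ N.subgroupOf H) :=
        { (inferInstance : Group (↥H ⧸ N.subgroupOf H)) with mul_comm := hcomm.is_comm.comm }
      exact IsSimpleGroup.prime_card
    obtain ⟨a, ha⟩ := exists_prime_orderOf_dvd_card' (G := ↥H ⧸ N.subgroupOf H) p₀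
      (hp := ⟨(hT p₀ hp₀).1⟩) (hdvdQ p₀ hp₀)
    obtain ⟨b, hb⟩ := exists_prime_orderOf_dvd_card' (G := ↥H ⧸ N.subgroupOf H) q₀
      (hp := ⟨(hT q₀ hq₀).1⟩) (hdvdQ q₀ hq₀)
    have hab : orderOf (a * b) = p₀ * q₀ := by
      rw [(show Commute a b from hcomm.is_comm.comm a b).orderOf_mul_eq_mul_orderOf_of_coprime
        (by rw [ha, hb]; exact (Nat.coprime_primes (hT p₀ hp₀).1 (hT q₀ hq₀).1).2 hne₀), ha, hb]
    obtain ⟨y, hy⟩ := QuotientGroup.mk'_surjective (N.subgroupOf H) (a * b)
    have hdvd : p₀ * q₀ ∣ orderOf (y : G) := by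
      rw [orderOf_submonoid, ← hab, ← hy]; exact orderOf_map_dvd _ y
    exact (hadj p₀ hp₀ q₀ hq₀ hne₀).1 _
      (orderOf_pow_orderOf_div (orderOf_pos (y : G)).ne' hdvd)

/-- A solvable group cannot have two such non-adjacent primes. -/
theorem not_isSolvable_of_two_primes {p q a : ℕ} (hp : p.Prime) (hq : q.Prime) (hpq : p ≠ q)
    (hqp : ¬ q ∣ p - 1) (hpqi : ∀ i, 1 ≤ i → i ≤ a → ¬ p ∣ q ^ i - 1) :
    ∀ (n : ℕ) (G : Type*) [Group G] [Finite G], Nat.card G = n → p ∣ n → ¬ p ^ 2 ∣ n → q ∣ n →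
      ¬ q ^ (a + 1) ∣ n → (∀ g : G, orderOf g ≠ p * q) → ¬ Group.IsSolvable G := by
  intro n
  induction n using Nat.strong_induction_on with
  | _ n ih =>
    intro G _ _ hn hpn hp2 hqn hqa hne hsolv
    subst hn
    haveI : Fact p.Prime := ⟨hp⟩
    haveI : Fact q.Prime := ⟨hq⟩
    haveI := hsolv
    have htop : (⊤ : Subgroup G) ≠ ⊥ := by
      intro h
      have h1 : Nat.card (⊤ : Subgroup G) = 1 := by rw [h, Subgroup.card_bot]
      rw [Subgroup.card_top] at h1
      rw [h1, Nat.dvd_one] at hpn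
      exact hp.one_lt.ne' hpn
    obtain ⟨V, r, hVn, -, hV, hr, hexp, -⟩ :=
      exists_normal_prime_exponent (⊤ : Subgroup G) htop inferInstance
    haveI := hVn
    haveI : Fact r.Prime := ⟨hr⟩
    have hPG : IsPGroup r V := fun x => ⟨1, Subtype.ext (by simpa using hexp x x.2)⟩
    obtain ⟨i, hi⟩ := IsPGroup.iff_card.1 hPG
    have hi0 : 1 ≤ i := by
      rcases Nat.eq_zero_or_pos i with h | h
      · exact absurd ((Subgroup.one_lt_card_iff_ne_bot V).2 hV) (by rw [hi, h, pow_zero]; omega)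
      · exact h
    have hVG := Subgroup.card_subgroup_dvd_card V
    by_cases hrp : r = p
    · subst hrp
      have h1 : i = 1 := by
        by_contra h
        exact hp2 ((pow_dvd_pow r (by omega : 2 ≤ i)).trans (hi ▸ hVG))
      obtain ⟨y, hy⟩ := exists_prime_orderOf_dvd_card' (G := G) q hqn
      obtain ⟨g, hg⟩ := exists_mul_orderOf_of_normalizes hp hq hpq V (by rw [hi, h1, pow_one]) y hy
        (by rw [Subgroup.normalizer_eq_top]; trivial) hqp
      exact hne g hg
    by_cases hrq : r = q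
    · subst hrq
      have hia : i ≤ a := by
        by_contra h
        exact hqa ((pow_dvd_pow r (by omega : a + 1 ≤ i)).trans (hi ▸ hVG))
      obtain ⟨y, hy⟩ := exists_prime_orderOf_dvd_card' (G := G) p hpn
      let P := Subgroup.zpowers y
      have hP : IsPGroup p P := IsPGroup.of_card (n := 1) (by rw [pow_one, Nat.card_zpowers, hy])
      letI : MulAction P V := MulAction.compHom V ((MulAut.conjNormal (H := V)).comp P.subtype)
      haveI : Fintype V := Fintype.ofFinite V
      have hmod := hP.card_modEq_card_fixedPoints V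
      have hex : ∃ v : V, v ≠ 1 ∧ v ∈ MulAction.fixedPoints P V := by
        by_contra h
        push Not at h
        have hfp : MulAction.fixedPoints P V = {1} := by
          ext v
          refine ⟨fun hv => ?_, fun hv => ?_⟩
          · by_contra hv1; exact h v hv1 hv
          · rw [Set.mem_singleton_iff] at hv; subst hv
            intro g
            exact map_one ((MulAut.conjNormal (H := V)) (g : G))
        rw [Nat.card_congr (Equiv.setCongr hfp), hi, show Nat.card ({1} : Set V) = 1 by simp] at hmod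
        have h1 : p ∣ r ^ i - 1 := (Nat.modEq_iff_dvd' (Nat.one_le_pow _ _ hr.pos)).1 hmod.symm
        exact hpqi i hi0 hia h1
      obtain ⟨v, hv1, hv⟩ := hex
      have hc : Commute y (v : G) := by
        have h := congrArg Subtype.val (hv ⟨y, Subgroup.mem_zpowers y⟩)
        exact mul_inv_eq_iff_eq_mul.1 (h : y * (v : G) * y⁻¹ = v)
      have hov : orderOf (v : G) = r :=
        orderOf_eq_prime (hexp v v.2) (fun h => hv1 (Subtype.ext h))
      refine hne (y * v) ?_
      rw [hc.orderOf_mul_eq_mul_orderOf_of_coprime (by rw [hy, hov]; exact (Nat.coprime_primes hp hr).2 hpq),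
        hy, hov]
    have hcard : Nat.card G = Nat.card (G ⧸ V) * r ^ i := by
      rw [← hi]; exact Subgroup.card_eq_card_quotient_mul_card_subgroup V
    have hlt : Nat.card (G ⧸ V) < Nat.card G := by
      rw [hcard]
      exact lt_mul_of_one_lt_right Nat.card_pos (Nat.one_lt_pow (by omega) hr.one_lt)
    have hco : ∀ (x k : ℕ), x.Prime → x ≠ r → x ^ k ∣ Nat.card G → x ^ k ∣ Nat.card (G ⧸ V) := by
      intro x k hx hxr h
      rw [hcard] at h
      exact (Nat.Coprime.pow k i ((Nat.coprime_primes hx hr).2 hxr)).dvd_of_dvd_mul_right h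
    refine ih _ hlt (G ⧸ V) rfl ?_ ?_ ?_ ?_ ?_ inferInstance
    · simpa using hco p 1 hp (Ne.symm hrp) (by simpa using hpn)
    · exact fun h => hp2 (h.trans (hcard ▸ dvd_mul_right _ _))
    · simpa using hco q 1 hq (Ne.symm hrq) (by simpa using hqn)
    · exact fun h => hqa (h.trans (hcard ▸ dvd_mul_right _ _))
    · intro x hx
      obtain ⟨y, rfl⟩ := QuotientGroup.mk'_surjective V x
      have hdvd : p * q ∣ orderOf y := hx ▸ orderOf_map_dvd _ y
      exact hne _ (orderOf_pow_orderOf_div (orderOf_pos y).ne' hdvd)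

end CfsgLib.Recog
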