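import Mathlib

/-!
Two primes in `(n/2, n]` for `n ≥ 11`.
-/

namespace CfsgLib.Recog

theorem centralBinom_le_of_single_prime (m p : ℕ) (hm : 2 < m)
    (h : ∀ x : ℕ, x.Prime → m < x → x ≤ 2 * m → x = p) :
    m.centralBinom ≤ (2 * m) * ((2 * m) ^ Nat.sqrt (2 * m) * 4 ^ (2 * m / 3)) := by
  classical
  have m2_pos : 1 ≤ 2 * m := by omega
  let f : ℕ → ℕ := fun x => x ^ m.centralBinom.factorization x
  have hf2 : ∀ x, f x ≤ 2 * m := fun x => Nat.pow_factorization_choose_le (by omega)
  have hne : ∀ x, f x ≠ 1 → x.Prime := fun x hx => by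
    by_contra hnp
    exact hx (by simp [f, Nat.factorization_eq_zero_of_not_prime _ hnp])
  rw [← m.prod_pow_factorization_centralBinom]
  change ∏ x ∈ Finset.range (2 * m + 1), f x ≤ _
  rw [← Finset.prod_filter_mul_prod_filter_not (Finset.range (2 * m + 1)) (fun x => 2 * m / 3 < x)]
  apply mul_le_mul'
  · have hsingle : ∀ x ∈ (Finset.range (2 * m + 1)).filter (fun x => 2 * m / 3 < x), x ≠ p → f x = 1 := by
      intro x hx hxp
      rw [Finset.mem_filter, Finset.mem_range] at hx
      by_contra hfx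
      have hx' := hne x hfx
      rcases le_or_gt x m with h1 | h1
      · refine hfx ?_
        have h3 : 2 * m < 3 * x := by omega
        simp [f, Nat.factorization_centralBinom_of_two_mul_self_lt_three_mul hm h1 h3]
      · exact hxp (h x hx' h1 (by omega))
    calc _ ≤ ∏ x ∈ (Finset.range (2 * m + 1)).filter (fun x => 2 * m / 3 < x), (if x = p then 2 * m else 1) := by
          refine Finset.prod_le_prod' fun x hx => ?_
          by_cases hxp : x = p
          · simp [hxp, hf2]
          · simp [hxp, hsingle x hx hxp]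
      _ ≤ 2 * m := by
          rw [Finset.prod_ite_eq']
          split_ifs <;> omega
  · let S := {x ∈ Finset.range (2 * m / 3 + 1) | Nat.Prime x}
    have hS : ∏ x ∈ (Finset.range (2 * m + 1)).filter (fun x => ¬ 2 * m / 3 < x), f x = ∏ x ∈ S, f x := by
      refine (Finset.prod_subset ?_ ?_).symm
      · intro x hx
        simp only [S, Finset.mem_filter, Finset.mem_range] at hx ⊢
        omega
      · intro x hx hxS
        by_contra hfx
        simp only [S, Finset.mem_filter, Finset.mem_range] at hx hxS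
        exact hxS ⟨by omega, hne x hfx⟩
    rw [hS, ← Finset.prod_filter_mul_prod_filter_not S (· ≤ Nat.sqrt (2 * m))]
    apply mul_le_mul'
    · refine (Finset.prod_le_prod' fun x _ => hf2 x).trans ?_
      rw [Finset.prod_const]
      refine pow_right_mono₀ m2_pos ((Finset.card_le_card (t := Finset.Icc 1 (Nat.sqrt (2 * m)))
        fun x hx => ?_).trans (by rw [Nat.card_Icc, Nat.add_sub_cancel]))
      obtain ⟨h1, h2⟩ := Finset.mem_filter.1 hx
      exact Finset.mem_Icc.mpr ⟨(Finset.mem_filter.1 h1).2.one_lt.le, h2⟩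
    · refine le_trans ?_ (primorial_le_four_pow (2 * m / 3))
      refine (Finset.prod_le_prod' fun x hx => (?_ : f x ≤ x)).trans ?_
      · obtain ⟨h1, h2⟩ := Finset.mem_filter.1 hx
        refine (pow_right_mono₀ (Finset.mem_filter.1 h1).2.one_lt.le ?_).trans (pow_one x).le
        exact Nat.factorization_choose_le_one (Nat.sqrt_lt'.mp <| not_le.1 h2)
      refine Finset.prod_le_prod_of_subset_of_one_le' (Finset.filter_subset _ _) ?_
      exact fun x hx _ => (Finset.mem_filter.1 hx).2.one_lt.le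

theorem pow_two_inequality : ∀ k : ℕ, 7 ≤ k → 12 * k + 14 ≤ 2 ^ k := by
  intro k hk
  induction k, hk using Nat.le_induction with
  | base => norm_num
  | succ k hk ih => rw [pow_succ]; omega

theorem two_primes_inequality {m : ℕ} (hm : 8192 ≤ m) :
    m * ((2 * m) * ((2 * m) ^ Nat.sqrt (2 * m) * 4 ^ (2 * m / 3))) ≤ 4 ^ m := by
  set s := Nat.sqrt (2 * m) with hs
  have hs128 : 128 ≤ s := by rw [hs, Nat.le_sqrt]; omega
  set k := Nat.log 2 s with hk
  have hk7 : 7 ≤ k := Nat.le_log_of_pow_le (by norm_num) (by simpa using hs128)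
  have hks : 2 ^ k ≤ s := Nat.pow_log_le_self 2 (by omega)
  have hsk : s < 2 ^ (k + 1) := Nat.lt_pow_succ_log_self (by norm_num) s
  have h2m : 2 * m ≤ 2 ^ (2 * k + 2) := by
    have h1 : 2 * m < (s + 1) ^ 2 := Nat.lt_succ_sqrt' _
    have h2 : (s + 1) ^ 2 ≤ (2 ^ (k + 1)) ^ 2 := Nat.pow_le_pow_left hsk 2
    rw [← pow_mul] at h2
    rw [show 2 * k + 2 = (k + 1) * 2 by ring]
    omega
  have hexp : (2 * k + 2) * (s + 2) + 2 * (2 * m / 3) ≤ 2 * m := by
    have h1 := pow_two_inequality k hk7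
    have h2 : 12 * k + 14 ≤ s := h1.trans hks
    have h3 : s * s ≤ 2 * m := Nat.sqrt_le _
    have h4 : (2 * k + 2) * (s + 2) * 3 ≤ s * s := by
      nlinarith [Nat.mul_le_mul_right s h2]
    omega
  calc m * ((2 * m) * ((2 * m) ^ s * 4 ^ (2 * m / 3)))
      ≤ (2 * m) * ((2 * m) * ((2 * m) ^ s * 4 ^ (2 * m / 3))) := Nat.mul_le_mul_right _ (by omega)
    _ = (2 * m) ^ (s + 2) * 2 ^ (2 * (2 * m / 3)) := by rw [pow_mul]; norm_num; ring
    _ ≤ (2 ^ (2 * k + 2)) ^ (s + 2) * 2 ^ (2 * (2 * m / 3)) :=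
        Nat.mul_le_mul_right _ (Nat.pow_le_pow_left h2m _)
    _ = 2 ^ ((2 * k + 2) * (s + 2) + 2 * (2 * m / 3)) := by rw [← pow_mul, ← pow_add]
    _ ≤ 2 ^ (2 * m) := Nat.pow_le_pow_right (by norm_num) hexp
    _ = 4 ^ m := by rw [pow_mul]; norm_num

theorem two_primes_step {m : ℕ} (a b c : ℕ) (hb : b.Prime) (hc : c.Prime) (hbc : b < c)
    (hcov : c ≤ 2 * a)
    (H : m < a → ∃ p q : ℕ, p.Prime ∧ q.Prime ∧ m < p ∧ p < q ∧ q ≤ 2 * m) (h : m < b) :
    ∃ p q : ℕ, p.Prime ∧ q.Prime ∧ m < p ∧ p < q ∧ q ≤ 2 * m := by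
  by_cases hma : m < a
  · exact H hma
  · exact ⟨b, c, hb, hc, h, hbc, by omega⟩

theorem two_primes_large {m : ℕ} (hm : 8192 ≤ m) :
    ∃ p q : ℕ, p.Prime ∧ q.Prime ∧ m < p ∧ p < q ∧ q ≤ 2 * m := by
  obtain ⟨p, hp, hmp, hp2⟩ := Nat.exists_prime_lt_and_le_two_mul m (by omega)
  by_contra hcon
  have h : ∀ x : ℕ, x.Prime → m < x → x ≤ 2 * m → x = p := by
    intro x hx hmx hx2
    rcases lt_trichotomy x p with h | h | h
    · exact absurd ⟨x, p, hx, hp, hmx, h, hp2⟩ hcon
    · exact h
    · exact absurd ⟨p, x, hp, hx, hmp, h, hx2⟩ hcon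
  have h1 := Nat.four_pow_lt_mul_centralBinom m (by omega)
  have h2 := centralBinom_le_of_single_prime m p (by omega) h
  exact absurd (lt_of_lt_of_le h1 ((Nat.mul_le_mul_left m h2).trans (two_primes_inequality hm)))
    (lt_irrefl _)


theorem two_primes (m : ℕ) (hm : 6 ≤ m) :
    ∃ p q : ℕ, p.Prime ∧ q.Prime ∧ m < p ∧ p < q ∧ q ≤ 2 * m := by
  rcases le_or_gt 8192 m with h | h
  · exact two_primes_large h
  replace h : m < 9733 := h.trans_le (by norm_num1)
  revert h
  refine two_primes_step 4871 9733 9739 (by norm_num1) (by norm_num1) (by norm_num1) (by norm_num1) ?_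
  refine two_primes_step 2441 4871 4877 (by norm_num1) (by norm_num1) (by norm_num1) (by norm_num1) ?_
  refine two_primes_step 1229 2441 2447 (by norm_num1) (by norm_num1) (by norm_num1) (by norm_num1) ?_
  refine two_primes_step 617 1229 1231 (by norm_num1) (by norm_num1) (by norm_num1) (by norm_num1) ?_
  refine two_primes_step 311 617 619 (by norm_num1) (by norm_num1) (by norm_num1) (by norm_num1) ?_
  refine two_primes_step 157 311 313 (by norm_num1) (by norm_num1) (by norm_num1) (by norm_num1) ?_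
  refine two_primes_step 83 157 163 (by norm_num1) (by norm_num1) (by norm_num1) (by norm_num1) ?_
  refine two_primes_step 47 83 89 (by norm_num1) (by norm_num1) (by norm_num1) (by norm_num1) ?_
  refine two_primes_step 29 47 53 (by norm_num1) (by norm_num1) (by norm_num1) (by norm_num1) ?_
  refine two_primes_step 17 29 31 (by norm_num1) (by norm_num1) (by norm_num1) (by norm_num1) ?_
  refine two_primes_step 11 17 19 (by norm_num1) (by norm_num1) (by norm_num1) (by norm_num1) ?_
  refine two_primes_step 7 11 13 (by norm_num1) (by norm_num1) (by norm_num1) (by norm_num1) ?_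
  refine two_primes_step 6 7 11 (by norm_num1) (by norm_num1) (by norm_num1) (by norm_num1) ?_
  intro h
  omega

theorem two_primes_half (n : ℕ) (hn : 11 ≤ n) :
    ∃ p q : ℕ, p.Prime ∧ q.Prime ∧ p < q ∧ n < 2 * p ∧ q ≤ n := by
  rcases eq_or_lt_of_le hn with h | h
  · exact ⟨7, 11, by norm_num1, by norm_num1, by omega, by omega, by omega⟩
  · obtain ⟨p, q, hp, hq, h1, h2, h3⟩ := two_primes (n / 2) (by omega)
    exact ⟨p, q, hp, hq, h2, by omega, by omega⟩

end CfsgLib.Recog
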