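import Mathlib
import Cfsg.Agent.Lib.Recog.PrimeSection
import Cfsg.Agent.Lib.Recog.TwoPrimes

/-!
Large primes in the order and the prime graph of the alternating group.
-/

namespace CfsgLib.Recog

theorem two_mul_card_alternatingGroup_fin {n : ℕ} (hn : 2 ≤ n) :
    2 * Nat.card (alternatingGroup (Fin n)) = Nat.factorial n := by
  haveI : Nontrivial (Fin n) := Fin.nontrivial_iff_two_le.2 hn
  rw [two_mul_nat_card_alternatingGroup, Nat.card_perm, Nat.card_fin]

theorem factorization_card_alternating {n p : ℕ} (hn : 2 ≤ n) (hp : p.Prime) (hp2 : p ≠ 2) :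
    (Nat.card (alternatingGroup (Fin n))).factorization p = (Nat.factorial n).factorization p := by
  rw [← two_mul_card_alternatingGroup_fin hn, Nat.factorization_mul (by norm_num) Nat.card_pos.ne']
  simp [Nat.prime_two.factorization, Ne.symm hp2]

theorem large_prime_card_alternating {n p : ℕ} (hp : p.Prime) (h3 : 3 ≤ p) (h1 : n < 2 * p) (h2 : p ≤ n) :
    p ∣ Nat.card (alternatingGroup (Fin n)) ∧ ¬ p ^ 2 ∣ Nat.card (alternatingGroup (Fin n)) := by
  haveI := Fact.mk hp
  have hlog : Nat.log p n < 2 := Nat.log_lt_of_lt_pow (by omega) (by nlinarith)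
  have h := padicValNat_factorial (p := p) (n := n) (b := 2) hlog
  rw [show Finset.Ico 1 2 = {1} by decide, Finset.sum_singleton, pow_one,
    Nat.div_eq_of_lt_le (k := 1) (by omega) (by omega), ← Nat.factorization_def _ hp,
    ← factorization_card_alternating (by omega) hp (by omega)] at h
  rw [hp.pow_dvd_iff_le_factorization Nat.card_pos.ne', hp.dvd_iff_one_le_factorization Nat.card_pos.ne']
  omega

theorem exists_part_of_dvd_lcm {p : ℕ} (hp : p.Prime) {m : Multiset ℕ} (h : p ∣ m.lcm) :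
    ∃ a ∈ m, p ∣ a := by
  induction m using Multiset.induction_on with
  | empty => simp [hp.one_lt.ne'] at h
  | cons a s ih =>
    rw [Multiset.lcm_cons, lcm_eq_nat_lcm] at h
    rcases hp.dvd_mul.1 (h.trans (Nat.lcm_dvd_mul a s.lcm)) with h | h
    · exact ⟨a, Multiset.mem_cons_self _ _, h⟩
    · obtain ⟨b, hb, hpb⟩ := ih h
      exact ⟨b, Multiset.mem_cons_of_mem hb, hpb⟩

theorem not_orderOf_mul_alternating {n p q : ℕ} (hp : p.Prime) (hq : q.Prime) (hpq : p ≠ q)
    (h : n < p + q) (g : alternatingGroup (Fin n)) : orderOf g ≠ p * q := by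
  intro hg
  rw [← Subgroup.orderOf_coe, ← Equiv.Perm.lcm_cycleType] at hg
  obtain ⟨a, ha, hpa⟩ := exists_part_of_dvd_lcm hp (hg ▸ dvd_mul_right p q)
  obtain ⟨b, hb, hqb⟩ := exists_part_of_dvd_lcm hq (hg ▸ dvd_mul_left q p)
  have hle : (g : Equiv.Perm (Fin n)).cycleType.sum ≤ n := by
    rw [Equiv.Perm.sum_cycleType]; exact (Finset.card_le_univ _).trans_eq (Fintype.card_fin n)
  have ha2 := Equiv.Perm.two_le_of_mem_cycleType ha
  have hb2 := Equiv.Perm.two_le_of_mem_cycleType hb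
  by_cases hab : a = b
  · subst hab
    have h1 := Multiset.le_sum_of_mem ha
    have h2 : p * q ≤ a :=
      Nat.le_of_dvd (by omega) (((Nat.coprime_primes hp hq).2 hpq).mul_dvd_of_dvd_of_dvd hpa hqb)
    have h3 : p + q ≤ p * q := Nat.add_le_mul hp.two_le hq.two_le
    omega
  · obtain ⟨t, ht⟩ := Multiset.exists_cons_of_mem ha
    rw [ht, Multiset.mem_cons] at hb
    have hbt := hb.resolve_left (Ne.symm hab)
    rw [ht, Multiset.sum_cons] at hle
    have h1 := Multiset.le_sum_of_mem hbt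
    have h2 := Nat.le_of_dvd (by omega) hpa
    have h3 := Nat.le_of_dvd (by omega) hqb
    omega

theorem not_orderOf_mul_of_isospectral {G : Type*} [Group G] {n p q : ℕ}
    (hspec : Set.range (orderOf : G → ℕ) = Set.range (orderOf : alternatingGroup (Fin n) → ℕ))
    (hp : p.Prime) (hq : q.Prime) (hpq : p ≠ q) (h : n < p + q) (g : G) : orderOf g ≠ p * q := by
  intro hg
  obtain ⟨x, hx⟩ : p * q ∈ Set.range (orderOf : alternatingGroup (Fin n) → ℕ) := hspec ▸ ⟨g, hg⟩
  exact not_orderOf_mul_alternating hp hq hpq h x hx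

theorem not_dvd_pred_of_half {n p q : ℕ} (hp : p.Prime) (hq : q.Prime) (hpn : p ≤ n) (hqn : n < 2 * q)
    (h3 : 3 ≤ p) (hq3 : 3 ≤ q) : ¬ q ∣ p - 1 := by
  intro h
  obtain ⟨k, hk⟩ := h
  have hk1 : k = 1 := by
    rcases k with _ | _ | k
    · omega
    · rfl
    · have : 2 * q ≤ q * (k + 1 + 1) := by nlinarith
      omega
  subst hk1
  obtain ⟨a, ha⟩ := hp.odd_of_ne_two (by omega)
  obtain ⟨b, hb⟩ := hq.odd_of_ne_two (by omega)
  omega

theorem not_isSolvable_of_alternating_data {G : Type*} [Group G] [Finite G] (n p q a : ℕ)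
    (hcard : Nat.card G = Nat.card (alternatingGroup (Fin n)))
    (hspec : Set.range (orderOf : G → ℕ) = Set.range (orderOf : alternatingGroup (Fin n) → ℕ))
    (hp : p.Prime) (hq : q.Prime) (hp3 : 3 ≤ p) (hq3 : 3 ≤ q) (hpq : p ≠ q)
    (hnp : n < 2 * p) (hpn : p ≤ n) (hqn : q ≤ n) (hsum : n < p + q) (hqp : ¬ q ∣ p - 1)
    (hqa : ¬ q ^ (a + 1) ∣ Nat.factorial n) (hpqi : ∀ i, 1 ≤ i → i ≤ a → ¬ p ∣ q ^ i - 1) :
    ¬ Group.IsSolvable G := by
  obtain ⟨h1, h2⟩ := large_prime_card_alternating hp hp3 hnp hpn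
  have hdiv := Dvd.intro_left 2 (two_mul_card_alternatingGroup_fin (n := n) (by omega))
  refine not_isSolvable_of_two_primes hp hq hpq hqp hpqi _ G rfl (hcard ▸ h1) (hcard ▸ h2) ?_ ?_
    (not_orderOf_mul_of_isospectral hspec hp hq hpq hsum)
  · have h : q ∣ Nat.factorial n := (hq.dvd_factorial).2 hqn
    rw [← two_mul_card_alternatingGroup_fin (n := n) (by omega), ← hcard] at h
    exact (hq.dvd_mul.1 h).resolve_left (fun h => by have := Nat.le_of_dvd (by norm_num) h; omega)
  · exact fun h => hqa ((hcard ▸ h).trans hdiv)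

end CfsgLib.Recog
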