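import Cfsg.Agent.Lib.Recog.MatList

/-!
The group 2.S5 of order 240 acting without fixed points on the 4-dimensional space over the field with 7 elements.
-/

namespace CfsgLib.Recog.TwoSFive

open MatList

/-- First generator. -/
def ga : List ℕ := [0, 0, 6, 0, 0, 0, 0, 6, 1, 0, 0, 0, 0, 1, 0, 0]
/-- Its inverse. -/
def gai : List ℕ := [0, 0, 1, 0, 0, 0, 0, 1, 6, 0, 0, 0, 0, 6, 0, 0]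
/-- Second generator. -/
def gb : List ℕ := [6, 3, 6, 3, 3, 1, 3, 1, 5, 1, 3, 0, 1, 2, 0, 4]
/-- Its inverse. -/
def gbi : List ℕ := [1, 6, 6, 3, 6, 6, 3, 1, 1, 2, 1, 4, 2, 6, 4, 6]

/-- All elements. -/
def elems : List (List ℕ) :=
  [[1,0,0,0,0,1,0,0,0,0,1,0,0,0,0,1],
  [0,0,6,0,0,0,0,6,1,0,0,0,0,1,0,0],
  [6,3,6,3,3,1,3,1,5,1,3,0,1,2,0,4],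
  [6,0,0,0,0,6,0,0,0,0,6,0,0,0,0,6],
  [6,3,1,4,3,1,4,6,3,0,2,6,0,4,6,5],
  [2,6,4,0,6,5,0,3,6,3,6,3,3,1,3,1],
  [1,5,0,5,2,1,2,0,6,5,0,2,2,6,5,0],
  [0,0,1,0,0,0,0,1,6,0,0,0,0,6,0,0],
  [1,4,1,4,4,6,4,6,2,6,4,0,6,5,0,3],
  [4,0,5,1,0,3,1,2,6,3,1,4,3,1,4,6],
  [0,5,6,2,2,0,5,6,0,2,1,2,5,0,5,1],
  [5,2,6,2,5,5,5,6,6,2,3,5,5,6,2,3],
  [1,2,0,5,5,1,2,0,1,5,0,5,2,1,2,0],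
  [5,4,0,0,4,2,0,0,4,6,2,3,6,3,3,5],
  [1,4,6,3,4,6,3,1,4,0,5,1,0,3,1,2],
  [5,1,3,0,1,2,0,4,1,4,1,4,4,6,4,6],
  [6,2,0,2,5,6,5,0,1,2,0,5,5,1,2,0],
  [6,2,2,5,5,6,2,2,3,5,1,5,2,3,2,1],
  [0,5,6,5,2,0,2,6,0,5,6,2,2,0,5,6],
  [0,0,2,3,0,0,3,5,2,3,3,1,3,5,1,4],
  [1,5,4,2,2,1,5,4,5,2,6,2,5,5,5,6],
  [5,1,5,6,1,2,6,2,6,0,2,3,0,1,3,5],
  [5,6,5,4,6,2,4,2,6,5,2,5,5,1,5,5],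
  [3,1,5,4,1,4,4,2,5,4,0,0,4,2,0,0],
  [0,5,0,5,2,0,2,0,6,5,6,2,2,6,5,6],
  [3,0,2,6,0,4,6,5,1,4,6,3,4,6,3,1],
  [0,2,1,5,5,0,2,1,0,5,6,5,2,0,2,6],
  [2,5,1,5,2,2,2,1,1,5,4,2,2,1,5,4],
  [6,5,0,2,2,6,5,0,6,2,0,2,5,6,5,0],
  [2,3,0,0,3,5,0,0,3,1,5,4,1,4,4,2],
  [4,2,6,2,5,4,5,6,6,2,2,5,5,6,2,2],
  [5,6,2,6,6,2,6,5,2,3,1,0,3,5,0,6],
  [5,4,2,1,4,2,1,5,2,5,1,2,5,5,2,6],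
  [5,4,4,6,4,2,6,3,0,0,2,3,0,0,3,5],
  [0,5,0,2,2,0,5,0,6,2,1,2,5,6,5,1],
  [1,4,6,5,4,6,5,1,1,4,1,6,4,6,6,6],
  [1,0,5,4,0,6,4,2,5,1,5,6,1,2,6,2],
  [6,1,6,5,6,6,2,6,2,0,2,6,0,2,1,2],
  [1,2,5,2,2,6,2,2,5,6,5,4,6,2,4,2],
  [1,5,6,5,2,1,2,6,0,5,0,2,2,0,5,0],
  [0,6,0,2,1,0,5,0,3,0,1,1,0,3,6,1],
  [1,2,1,5,5,1,2,1,0,5,0,5,2,0,2,0],
  [6,1,1,4,1,1,4,6,6,5,6,3,5,1,3,1],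
  [1,5,5,2,2,1,5,5,4,2,6,2,5,4,5,6],
  [0,2,1,2,5,0,5,1,0,2,1,5,5,0,2,1],
  [0,0,5,4,0,0,4,2,5,4,4,6,4,2,6,3],
  [6,2,3,5,5,6,2,3,2,5,1,5,2,2,2,1],
  [2,6,2,1,6,5,1,5,1,0,5,4,0,6,4,2],
  [2,1,2,3,1,5,3,5,1,2,5,2,2,6,2,2],
  [4,6,2,3,6,3,3,5,2,3,0,0,3,5,0,0],
  [0,2,0,2,5,0,5,0,1,2,1,5,5,1,2,1],
  [6,5,6,3,5,1,3,1,1,6,6,3,6,6,3,1],
  [5,4,6,0,4,2,0,1,5,6,2,6,6,2,6,5],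
  [6,5,1,6,2,6,1,1,2,6,5,0,1,2,0,5],
  [5,2,6,5,2,2,5,1,5,4,2,1,4,2,1,5],
  [6,5,6,2,2,6,5,6,0,2,0,2,5,0,5,0],
  [0,2,0,1,5,0,6,0,1,1,4,0,6,1,0,4],
  [1,4,1,6,4,6,6,6,6,3,1,2,3,1,2,6],
  [6,3,6,1,3,1,1,1,1,4,6,5,4,6,5,1],
  [1,0,5,3,0,1,4,5,5,3,3,2,4,5,5,3],
  [5,0,5,1,0,5,6,5,6,1,6,5,6,6,2,6],
  [3,2,1,6,2,4,6,6,0,4,3,0,4,0,0,4],
  [4,2,1,6,5,4,1,1,1,6,0,3,1,1,4,0],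
  [0,2,0,5,5,0,2,0,1,5,6,5,2,1,2,6],
  [4,0,1,4,0,3,4,6,0,6,4,2,6,0,2,3],
  [4,0,6,6,0,4,1,6,0,6,0,2,1,0,5,0],
  [0,3,4,0,3,0,0,3,3,2,1,6,2,4,6,6],
  [6,3,4,0,3,1,0,3,3,5,0,6,5,4,6,0],
  [1,2,1,4,2,6,4,6,6,1,1,4,1,1,4,6],
  [3,5,1,5,2,3,2,1,1,5,5,2,2,1,5,5],
  [2,1,5,1,1,5,1,2,5,4,6,0,4,2,0,1],
  [2,3,5,6,3,5,6,2,5,2,6,5,2,2,5,1],
  [2,3,3,1,3,5,1,4,0,0,5,4,0,0,4,2],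
  [6,3,1,2,3,1,2,6,6,3,6,1,3,1,1,1],
  [6,0,2,3,0,1,3,5,2,6,2,1,6,5,1,5],
  [1,6,1,2,1,1,5,1,5,0,5,1,0,5,6,5],
  [6,5,2,5,5,1,5,5,2,1,2,3,1,5,3,5],
  [6,2,1,2,5,6,5,1,0,2,0,5,5,0,2,0],
  [0,1,0,5,6,0,2,0,4,0,6,6,0,4,1,6],
  [1,6,6,3,6,6,3,1,1,2,1,4,2,6,4,6],
  [5,3,6,0,4,5,0,6,3,2,2,4,5,3,3,2],
  [5,1,2,0,6,5,0,2,6,5,1,6,2,6,1,1],
  [1,6,4,5,6,6,5,3,3,0,0,3,0,4,3,0],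
  [1,6,3,5,1,1,2,3,0,3,6,1,4,0,6,6],
  [1,4,3,0,4,6,0,4,4,2,0,1,2,3,1,0],
  [6,6,3,0,1,6,0,3,0,2,0,1,5,0,6,0],
  [4,0,0,4,0,3,4,0,1,6,4,5,6,6,5,3],
  [2,4,4,5,3,2,2,4,1,0,5,3,0,1,4,5],
  [6,1,5,5,1,1,5,2,6,3,3,5,3,1,5,4],
  [0,4,6,6,4,0,6,1,1,1,0,4,1,6,4,0],
  [1,6,0,3,1,1,4,0,3,5,6,1,2,3,6,6],
  [6,1,0,4,6,6,3,0,4,2,1,6,5,4,1,1],
  [6,0,0,1,0,1,1,0,0,4,6,5,4,0,5,1],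
  [0,1,3,5,1,0,5,4,4,0,1,4,0,3,4,6],
  [0,3,6,0,4,0,0,6,6,0,0,4,0,6,3,0],
  [6,6,5,3,6,1,3,2,6,1,3,0,1,1,0,4],
  [4,5,6,1,5,3,1,1,0,3,4,0,3,0,0,3],
  [5,0,6,0,0,5,0,6,5,0,2,0,0,5,0,2],
  [4,2,0,1,2,3,1,0,6,3,4,0,3,1,0,3],
  [1,0,0,3,0,1,4,0,0,3,6,0,4,0,0,6],
  [2,4,1,0,3,2,0,1,4,5,5,3,2,4,4,5],
  [2,3,1,0,3,5,0,6,2,1,5,1,1,5,1,2],
  [1,2,6,1,5,1,6,6,5,1,2,0,6,5,0,2],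
  [2,5,1,2,5,5,2,6,2,3,5,6,3,5,6,2],
  [0,5,0,6,2,0,1,0,6,6,3,0,1,6,0,3],
  [6,0,2,4,0,6,3,2,2,4,4,5,3,2,2,4],
  [2,0,2,6,0,2,1,2,1,6,1,2,1,1,5,1],
  [3,5,6,1,2,3,6,6,6,1,0,4,6,6,3,0],
  [3,0,6,3,0,4,3,1,0,1,3,5,1,0,5,4],
  [3,0,1,1,0,3,6,1,0,1,0,5,6,0,2,0],
  [0,4,3,0,4,0,0,4,4,5,6,1,5,3,1,1],
  [4,5,5,3,2,4,4,5,5,3,6,0,4,5,0,6],
  [5,5,1,6,5,2,6,6,3,5,1,4,5,4,4,6],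
  [6,6,0,3,6,1,3,0,0,4,6,6,4,0,6,1],
  [0,3,6,1,4,0,6,6,6,1,4,2,6,6,5,4],
  [0,4,1,6,3,0,1,1,1,6,3,5,1,1,2,3],
  [0,1,1,0,1,0,0,6,6,5,0,3,5,1,3,0],
  [3,5,0,6,5,4,6,0,1,4,3,0,4,6,0,4],
  [6,0,0,4,0,6,3,0,0,4,1,0,3,0,0,1],
  [5,3,1,1,3,2,1,6,3,0,1,6,0,4,6,6],
  [6,1,3,2,1,1,2,4,4,0,0,4,0,3,4,0],
  [6,0,2,0,0,6,0,2,2,0,2,0,0,2,0,2],
  [1,4,4,2,4,6,2,3,6,1,5,5,1,1,5,2],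
  [0,2,1,1,5,0,6,1,0,1,4,0,6,0,0,4],
  [0,6,3,0,1,0,0,3,0,2,1,1,5,0,6,1],
  [0,3,1,2,3,0,2,6,6,0,0,1,0,1,1,0],
  [6,6,5,4,1,6,3,5,2,6,5,6,1,2,1,5],
  [6,1,2,0,6,6,0,2,6,5,2,6,2,6,1,2],
  [6,1,3,0,1,1,0,4,1,1,2,4,1,6,4,5],
  [1,6,4,0,6,6,0,3,6,6,5,3,6,1,3,2],
  [2,6,1,1,1,2,6,1,5,6,2,3,1,5,4,2],
  [2,0,5,0,0,2,0,5,5,0,6,0,0,5,0,6],
  [4,2,6,3,2,3,3,1,5,5,1,6,5,2,6,6],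
  [5,0,6,1,0,5,6,6,5,1,6,5,6,5,2,6],
  [0,4,1,0,3,0,0,1,1,0,0,3,0,1,4,0],
  [4,0,6,1,0,3,1,1,5,3,1,1,3,2,1,6],
  [3,2,2,4,5,3,3,2,2,4,1,0,3,2,0,1],
  [2,2,6,1,2,5,1,1,4,2,6,3,2,3,3,1],
  [2,6,5,0,1,2,0,5,1,2,6,1,5,1,6,6],
  [6,1,4,2,6,6,5,4,0,4,1,6,3,0,1,1],
  [1,1,4,0,6,1,0,4,0,5,0,6,2,0,1,0],
  [3,0,0,3,0,4,3,0,6,1,3,2,1,1,2,4],
  [5,3,3,2,4,5,5,3,6,0,2,4,0,6,3,2],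
  [1,6,2,2,6,6,2,5,1,4,4,2,4,6,2,3],
  [0,3,1,1,3,0,1,6,6,6,0,3,6,1,3,0],
  [1,0,0,6,0,6,6,0,0,3,1,2,3,0,2,6],
  [0,6,4,2,6,0,2,3,3,0,6,3,0,4,3,1],
  [1,1,2,4,1,6,4,5,1,6,4,0,6,6,0,3],
  [2,0,1,0,0,2,0,1,2,0,5,0,0,2,0,5],
  [1,1,0,5,6,1,2,0,4,0,0,6,0,4,1,0],
  [3,0,0,1,0,3,6,0,1,1,0,5,6,1,2,0],
  [1,2,0,4,2,6,4,0,0,1,1,0,1,0,0,6],
  [5,4,1,1,3,5,6,1,5,6,5,1,1,5,6,5],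
  [2,0,1,6,0,2,1,1,2,6,1,2,1,2,5,1],
  [3,0,1,6,0,4,6,6,2,4,6,6,4,5,6,1],
  [1,1,5,1,6,1,6,5,2,3,2,1,4,2,6,2],
  [5,0,5,0,0,5,0,5,6,0,2,0,0,6,0,2],
  [6,3,3,5,3,1,5,4,1,6,2,2,6,6,2,5],
  [1,2,5,1,5,1,6,5,6,1,2,0,6,6,0,2],
  [0,5,6,6,2,0,1,6,0,6,3,0,1,0,0,3],
  [4,6,0,4,6,3,4,0,1,1,4,6,1,6,6,3],
  [5,1,2,1,6,5,6,2,6,6,5,4,1,6,3,5],
  [5,5,2,6,5,2,6,5,2,5,1,1,5,5,1,6],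
  [5,2,6,6,2,2,6,1,5,5,2,6,5,2,6,5],
  [2,1,5,4,6,2,3,5,2,6,1,1,1,2,6,1],
  [6,2,6,5,2,1,5,1,5,1,3,1,1,2,1,4],
  [0,0,3,5,0,0,5,4,4,2,1,5,2,3,5,6],
  [5,1,6,5,6,5,2,6,2,0,1,6,0,2,1,1],
  [2,6,1,2,1,2,5,1,5,0,6,1,0,5,6,6],
  [1,1,5,2,1,6,2,2,5,1,5,5,1,2,5,2],
  [2,4,6,6,4,5,6,1,4,0,6,1,0,3,1,1],
  [3,5,1,4,5,4,4,6,2,2,6,1,2,5,1,1],
  [6,6,0,2,1,6,5,0,3,0,0,1,0,3,6,0],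
  [1,1,0,4,1,6,4,0,0,3,1,1,3,0,1,6],
  [0,6,6,0,6,0,0,1,1,2,0,4,2,6,4,0],
  [1,0,5,0,0,1,0,5,5,0,5,0,0,5,0,5],
  [0,1,4,0,6,0,0,4,0,5,6,6,2,0,1,6],
  [0,4,6,5,4,0,5,1,1,0,0,6,0,6,6,0],
  [1,1,2,3,6,1,4,2,5,1,2,1,6,5,6,2],
  [1,6,5,0,1,1,0,5,1,2,5,1,5,1,6,5],
  [5,1,6,6,6,5,1,6,2,1,5,4,6,2,3,5],
  [5,0,2,0,0,5,0,2,2,0,1,0,0,2,0,1],
  [0,4,3,1,4,0,1,4,4,6,6,6,6,3,6,1],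
  [2,1,2,6,6,2,1,2,5,4,1,1,3,5,6,1],
  [2,6,2,2,6,5,2,5,1,1,5,2,1,6,2,2],
  [6,6,2,5,6,1,5,5,2,6,2,2,6,5,2,5],
  [5,4,5,6,3,5,1,5,1,1,5,1,6,1,6,5],
  [6,5,1,5,5,1,5,6,3,1,2,6,1,4,6,5],
  [3,5,0,0,5,4,0,0,1,5,3,5,5,6,5,4],
  [6,5,2,6,2,6,1,2,1,6,5,0,1,1,0,5],
  [6,6,3,1,6,1,1,4,4,6,0,4,6,3,4,0],
  [2,6,5,6,1,2,1,5,1,1,2,3,6,1,4,2],
  [3,5,6,2,5,4,2,1,0,0,3,5,0,0,5,4],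
  [2,2,5,1,2,5,1,2,5,2,6,6,2,2,6,1],
  [4,5,0,6,2,4,1,0,0,6,0,0,1,0,0,0],
  [2,6,4,6,6,5,6,3,6,2,6,5,2,1,5,1],
  [5,6,2,2,1,5,5,2,5,0,2,1,0,5,6,2],
  [2,0,5,6,0,2,1,5,5,6,2,2,1,5,5,2],
  [0,1,4,5,6,0,2,4,0,0,0,6,0,0,1,0],
  [6,6,2,6,1,6,1,2,5,4,5,6,3,5,1,5],
  [4,0,0,6,0,4,1,0,6,6,0,2,1,6,5,0],
  [6,5,0,3,5,1,3,0,0,6,6,0,6,0,0,1],
  [2,3,6,6,4,2,1,6,2,1,2,6,6,2,1,2],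
  [2,0,2,0,0,2,0,2,1,0,5,0,0,1,0,5],
  [3,1,0,3,1,4,3,0,6,6,3,1,6,1,1,4],
  [2,5,1,1,5,5,1,6,2,2,5,1,2,5,1,2],
  [5,6,2,3,1,5,4,2,5,1,6,6,6,5,1,6],
  [1,5,1,2,5,6,2,6,2,6,4,6,6,5,6,3],
  [0,0,4,2,0,0,2,3,3,5,6,2,5,4,2,1],
  [3,1,1,1,1,4,1,6,0,4,3,1,4,0,1,4],
  [5,6,5,1,1,5,6,5,2,3,6,6,4,2,1,6],
  [6,2,4,2,2,1,2,3,3,5,0,0,5,4,0,0],
  [5,1,5,5,1,2,5,2,6,6,2,5,6,1,5,5],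
  [0,6,3,2,1,0,5,3,0,0,0,1,0,0,6,0],
  [4,6,5,1,6,3,1,2,6,5,1,5,5,1,5,6],
  [2,2,2,1,5,2,6,2,2,1,2,0,6,2,0,2],
  [5,6,5,0,1,5,0,5,2,2,2,1,5,2,6,2],
  [4,2,1,5,2,3,5,6,0,0,4,2,0,0,2,3],
  [0,1,0,0,6,0,0,0,4,5,0,6,2,4,1,0],
  [5,1,3,1,1,2,1,4,1,5,1,2,5,6,2,6],
  [2,3,2,1,4,2,6,2,6,6,2,6,1,6,1,2],
  [2,1,5,5,6,2,2,5,2,0,5,6,0,2,1,5],
  [3,1,4,6,1,4,6,3,4,6,4,6,6,3,6,3],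
  [0,0,0,1,0,0,6,0,0,1,4,5,6,0,2,4],
  [1,2,6,2,2,6,2,1,4,6,5,1,6,3,1,2],
  [0,3,4,6,3,0,6,3,3,1,1,1,1,4,1,6],
  [4,2,0,0,2,3,0,0,6,2,4,2,2,1,2,3],
  [1,1,4,6,1,6,6,3,3,1,0,3,1,4,3,0],
  [3,2,0,1,5,3,6,0,0,1,0,0,6,0,0,0],
  [5,0,2,1,0,5,6,2,2,1,5,5,6,2,2,5],
  [1,5,3,5,5,6,5,4,4,2,0,0,2,3,0,0],
  [0,0,0,6,0,0,1,0,0,6,3,2,1,0,5,3],
  [3,1,2,6,1,4,6,5,1,2,6,2,2,6,2,1],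
  [5,5,5,6,2,5,1,5,5,6,5,0,1,5,0,5],
  [4,6,4,6,6,3,6,3,4,6,3,1,6,3,1,4],
  [3,1,3,1,1,4,1,4,3,1,4,6,1,4,6,3],
  [4,6,6,6,6,3,6,1,0,3,4,6,3,0,6,3],
  [2,1,2,0,6,2,0,2,5,5,5,6,2,5,1,5],
  [0,6,0,0,1,0,0,0,3,2,0,1,5,3,6,0],
  [4,6,3,1,6,3,1,4,3,1,3,1,1,4,1,4]]

/-- Minus the identity. -/
def negOne : List ℕ := (oneL 4).map (fun x => x * 6)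

/-- Add lists entrywise modulo 7. -/
def addL (a b : List ℕ) : List ℕ := List.zipWith (fun x y => (x + y) % 7) a b

/-- The test: a power is minus one, or the element has order 1, 3 or 5 (with the cyclotomic equation). -/
def good (a : List ℕ) : Bool :=
  (a == oneL 4) || (a == negOne) || (powL 7 4 a 2 == negOne) || (powL 7 4 a 3 == negOne) ||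
    (powL 7 4 a 4 == negOne) || (powL 7 4 a 5 == negOne) || (powL 7 4 a 6 == negOne) ||
    (addL (addL (powL 7 4 a 2) a) (oneL 4) == List.replicate 16 0) ||
    (addL (addL (addL (addL (powL 7 4 a 4) (powL 7 4 a 3)) (powL 7 4 a 2)) a) (oneL 4) == List.replicate 16 0)

theorem elems_good : elems.all good = true := by decide +kernel

theorem elems_closed :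
    elems.all (fun l => elems.contains (mulL 7 4 ga l) && elems.contains (mulL 7 4 gb l)) = true := by
  decide +kernel

end CfsgLib.Recog.TwoSFive
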