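import Mathlib
import Cfsg.Agent.Lib.Recog.Isospectral
import Cfsg.Agent.Lib.Recog.PermSpectrum
import Cfsg.Agent.Lib.Recog.TwoSFive

/-!
A group (7⁴ × 3^120) ⋊ 2.S5 with the element orders of the alternating group of degree 10.
-/

namespace CfsgLib.Recog.TenIso

open MatList TwoSFive

/-- GL(4,7). -/
abbrev GL47 := Matrix.GeneralLinearGroup (Fin 4) (ZMod 7)

/-- First generator. -/
def uA : GL47 := unitL 7 4 ga gai (by decide +kernel) (by decide +kernel)
/-- Second generator. -/
def uB : GL47 := unitL 7 4 gb gbi (by decide +kernel) (by decide +kernel)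

/-- The group of order 240. -/
def grpH : Subgroup GL47 := Subgroup.closure {uA, uB}

/-- The matrix of an element. -/
abbrev mat (g : grpH) : Matrix (Fin 4) (Fin 4) (ZMod 7) := ((g : GL47) : Matrix (Fin 4) (Fin 4) (ZMod 7))

theorem mat_mul (g h : grpH) : mat (g * h) = mat g * mat h := rfl

theorem mat_pow (g : grpH) (k : ℕ) : mat (g ^ k) = mat g ^ k := by simp [mat]

theorem mat_inj {g h : grpH} (e : mat g = mat h) : g = h := Subtype.ext (Units.ext e)

theorem mem_A : uA ∈ grpH := Subgroup.subset_closure (Set.mem_insert _ _)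

theorem mem_B : uB ∈ grpH := Subgroup.subset_closure (Set.mem_insert_of_mem _ rfl)

/-- The generators inside the group. -/
def eA : grpH := ⟨uA, mem_A⟩
/-- The generators inside the group. -/
def eB : grpH := ⟨uB, mem_B⟩

/-- Minus one. -/
def zz : grpH := eA ^ 2

theorem toMat_negOne : toMat 7 4 negOne = -1 := by decide +kernel

theorem mat_eA : mat eA = toMat 7 4 ga := rfl

theorem mat_eB : mat eB = toMat 7 4 gb := rfl

theorem mat_zz : mat zz = -1 := by
  rw [zz, mat_pow, mat_eA, ← toMat_powL, ← toMat_negOne]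
  congr 1

theorem zz_comm (g : grpH) : zz * g = g * zz := by
  apply mat_inj
  rw [mat_mul, mat_mul, mat_zz]
  simp

theorem toMat_addL (a b : List ℕ) (ha : a.length = 16) (hb : b.length = 16) :
    toMat 7 4 (addL a b) = toMat 7 4 a + toMat 7 4 b := by
  ext i j
  have hl := index_lt i j
  simp only [toMat, Matrix.of_apply, Matrix.add_apply, addL, List.getD_eq_getElem?_getD]
  rw [List.getElem?_eq_getElem (by simp [ha, hb]; omega), List.getElem?_eq_getElem (by omega),
    List.getElem?_eq_getElem (by omega)]
  simp [ZMod.natCast_mod]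

theorem mulL_length (a b : List ℕ) : (mulL 7 4 a b).length = 16 := by simp [mulL]

theorem powL_length (a : List ℕ) (k : ℕ) : (powL 7 4 a k).length = 16 := by
  cases k with
  | zero => rfl
  | succ k => exact mulL_length _ _

theorem addL_length (a b : List ℕ) (ha : a.length = 16) (hb : b.length = 16) : (addL a b).length = 16 := by
  simp [addL, ha, hb]

theorem elems_length : ∀ l ∈ elems, l.length = 16 := by decide +kernel

theorem classify (g : grpH) :
    g = 1 ∨ (∃ k, 1 ≤ k ∧ k ≤ 6 ∧ g ^ k = zz) ∨ (mat g ^ 2 + mat g + 1 = 0) ∨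
      (mat g ^ 4 + mat g ^ 3 + mat g ^ 2 + mat g + 1 = 0) := by
  obtain ⟨l, hl, he⟩ := mem_list_of_mem_closure (A := uA) (B := uB) (ga := ga) (gb := gb) rfl rfl elems
    (by decide +kernel) (fun l hl => by
      have h := List.all_eq_true.1 elems_closed l hl
      simpa using h) g.2
  change mat g = _ at he
  have hlen := elems_length l hl
  have hz : ∀ k, powL 7 4 l k = negOne → g ^ k = zz := by
    intro k hk
    apply mat_inj
    rw [mat_pow, he, ← toMat_powL, hk, mat_zz, toMat_negOne]
  have h := List.all_eq_true.1 elems_good l hl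
  simp only [good, Bool.or_eq_true, beq_iff_eq] at h
  rcases h with (((((((h | h) | h) | h) | h) | h) | h) | h) | h
  · left
    apply mat_inj
    rw [he, h, toMat_oneL]
    rfl
  · right; left
    refine ⟨1, le_rfl, by norm_num, ?_⟩
    apply mat_inj
    rw [pow_one, he, h, mat_zz, toMat_negOne]
  · exact Or.inr (Or.inl ⟨2, by norm_num, by norm_num, hz 2 h⟩)
  · exact Or.inr (Or.inl ⟨3, by norm_num, by norm_num, hz 3 h⟩)
  · exact Or.inr (Or.inl ⟨4, by norm_num, by norm_num, hz 4 h⟩)
  · exact Or.inr (Or.inl ⟨5, by norm_num, by norm_num, hz 5 h⟩)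
  · exact Or.inr (Or.inl ⟨6, by norm_num, by norm_num, hz 6 h⟩)
  · right; right; left
    have h' := congrArg (toMat 7 4) h
    rw [toMat_addL _ _ (addL_length _ _ (powL_length _ _) hlen) (by rfl), toMat_addL _ _ (powL_length _ _) hlen,
      toMat_powL, toMat_oneL, ← he] at h'
    rw [h']
    decide +kernel
  · right; right; right
    have h' := congrArg (toMat 7 4) h
    rw [toMat_addL _ _ (addL_length _ _ (addL_length _ _ (addL_length _ _ (powL_length _ _) (powL_length _ _))
        (powL_length _ _)) hlen) (by rfl),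
      toMat_addL _ _ (addL_length _ _ (addL_length _ _ (powL_length _ _) (powL_length _ _)) (powL_length _ _)) hlen,
      toMat_addL _ _ (addL_length _ _ (powL_length _ _) (powL_length _ _)) (powL_length _ _),
      toMat_addL _ _ (powL_length _ _) (powL_length _ _),
      toMat_powL, toMat_powL, toMat_powL, toMat_oneL, ← he] at h'
    rw [h']
    decide +kernel

/-- An element fixing a nonzero vector is trivial. -/
theorem fpf {g : grpH} {v : Fin 4 → ZMod 7} (hv : Matrix.mulVec (mat g) v = v) (hg : g ≠ 1) : v = 0 := by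
  have hk : ∀ k : ℕ, Matrix.mulVec (mat g ^ k) v = v := by
    intro k
    induction k with
    | zero => simp
    | succ k ih => rw [pow_succ, ← Matrix.mulVec_mulVec, hv, ih]
  have key : ∀ c a : ZMod 7, c ≠ 0 → c * a = 0 → a = 0 := by decide +kernel
  have hz : ∀ (c : ZMod 7), c ≠ 0 → c • v = 0 → v = 0 := fun c hc h => funext fun i => key c _ hc (congrFun h i)
  rcases classify g with h | ⟨k, -, -, h⟩ | h | h
  · exact absurd h hg
  · apply hz 2 (by decide)
    have := hk k
    rw [← mat_pow, h, mat_zz, Matrix.neg_mulVec, Matrix.one_mulVec] at this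
    rw [two_smul]
    nth_rewrite 1 [← this]
    exact neg_add_cancel v
  · apply hz 3 (by decide)
    have := congrArg (fun M => Matrix.mulVec M v) h
    simp only [Matrix.add_mulVec, hk, hv, Matrix.one_mulVec, Matrix.zero_mulVec] at this
    rw [← this]
    funext i
    simp only [Pi.smul_apply, Pi.add_apply, smul_eq_mul]
    ring
  · apply hz 5 (by decide)
    have := congrArg (fun M => Matrix.mulVec M v) h
    simp only [Matrix.add_mulVec, hk, hv, Matrix.one_mulVec, Matrix.zero_mulVec] at this
    rw [← this]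
    funext i
    simp only [Pi.smul_apply, Pi.add_apply, smul_eq_mul]
    ring

theorem pow_three_or_five {g : grpH} :
    (mat g ^ 2 + mat g + 1 = 0 → g ^ 3 = 1) ∧
      (mat g ^ 4 + mat g ^ 3 + mat g ^ 2 + mat g + 1 = 0 → g ^ 5 = 1) := by
  constructor
  · intro h
    apply mat_inj
    rw [mat_pow]
    have h2 : mat g ^ 3 - 1 = (mat g - 1) * (mat g ^ 2 + mat g + 1) := by noncomm_ring
    rw [h, mul_zero, sub_eq_zero] at h2
    exact h2
  · intro h
    apply mat_inj
    rw [mat_pow]
    have h2 : mat g ^ 5 - 1 = (mat g - 1) * (mat g ^ 4 + mat g ^ 3 + mat g ^ 2 + mat g + 1) := by noncomm_ring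
    rw [h, mul_zero, sub_eq_zero] at h2
    exact h2

/-- Functions on the group that change sign under minus one. -/
def oddFun : AddSubgroup (grpH → ZMod 3) where
  carrier := {f | ∀ h, f (zz * h) = - f h}
  add_mem' := fun {a b} ha hb h => by simp [ha h, hb h, add_comm]
  zero_mem' := fun h => by simp
  neg_mem' := fun {a} ha h => by simp [ha h]

theorem translate_mem (g : grpH) {f : grpH → ZMod 3} (hf : f ∈ oddFun) :
    (fun h => f (g⁻¹ * h)) ∈ oddFun := by
  intro h
  change f (g⁻¹ * (zz * h)) = -f (g⁻¹ * h)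
  rw [← mul_assoc, ← zz_comm, mul_assoc]
  exact hf _

/-- The module. -/
abbrev Mod := (Fin 4 → ZMod 7) × oddFun

/-- The action on the module, one element. -/
def actFun (g : grpH) : Multiplicative Mod → Multiplicative Mod := fun x =>
  Multiplicative.ofAdd (Matrix.mulVec (mat g) x.toAdd.1,
    ⟨fun h => (x.toAdd.2 : grpH → ZMod 3) (g⁻¹ * h), translate_mem g x.toAdd.2.2⟩)

theorem actFun_mul (g h : grpH) (x : Multiplicative Mod) : actFun (g * h) x = actFun g (actFun h x) := by
  simp [actFun, mat_mul, Matrix.mulVec_mulVec, mul_assoc]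

theorem actFun_one (x : Multiplicative Mod) : actFun 1 x = x := by
  simp [actFun, mat]

/-- The action as automorphisms. -/
def act : grpH →* MulAut (Multiplicative Mod) where
  toFun g :=
    { toFun := actFun g
      invFun := actFun g⁻¹
      left_inv := fun x => by rw [← actFun_mul, inv_mul_cancel, actFun_one]
      right_inv := fun x => by rw [← actFun_mul, mul_inv_cancel, actFun_one]
      map_mul' := fun x y => by
        simp only [actFun, toAdd_mul, ← ofAdd_add, Prod.fst_add, Prod.snd_add, Matrix.mulVec_add]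
        rfl }
  map_one' := MulEquiv.ext actFun_one
  map_mul' g h := MulEquiv.ext (actFun_mul g h)

/-- The group. -/
abbrev Big := Multiplicative Mod ⋊[act] grpH

theorem exp21 (x : Multiplicative Mod) : x ^ 21 = 1 := by
  apply Multiplicative.toAdd.injective
  rw [toAdd_pow, toAdd_one]
  refine Prod.ext (funext fun i => ?_) (Subtype.ext (funext fun h => ?_))
  · simp only [Prod.smul_fst, Pi.smul_apply, Prod.fst_zero, Pi.zero_apply, nsmul_eq_mul]
    rw [show ((21 : ℕ) : ZMod 7) = 0 from by decide, zero_mul]
  · simp only [Prod.smul_snd, AddSubmonoidClass.coe_nsmul, Pi.smul_apply, Prod.snd_zero,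
      ZeroMemClass.coe_zero, Pi.zero_apply, nsmul_eq_mul]
    rw [show ((21 : ℕ) : ZMod 3) = 0 from by decide, zero_mul]

theorem pow_orderOf_fixed (x : Big) :
    act x.right (x ^ orderOf x.right).left = (x ^ orderOf x.right).left := by
  have h : x * x ^ orderOf x.right = x ^ orderOf x.right * x := ((Commute.refl x).pow_right _).eq
  have hr : (x ^ orderOf x.right).right = 1 := by
    have := map_pow SemidirectProduct.rightHom x (orderOf x.right)
    simpa [pow_orderOf_eq_one] using this
  have h' := congrArg SemidirectProduct.left h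
  rw [SemidirectProduct.mul_left, SemidirectProduct.mul_left, hr, map_one, MulAut.one_apply] at h'
  rwa [mul_comm x.left, mul_left_inj] at h'

theorem pow_orderOf_right (x : Big) : (x ^ orderOf x.right).right = 1 := by
  have := map_pow SemidirectProduct.rightHom x (orderOf x.right)
  simpa [pow_orderOf_eq_one] using this

theorem orderOf_dvd_list (x : Big) :
    orderOf x ∣ 21 ∨ orderOf x ∣ 9 ∨ orderOf x ∣ 15 ∨ orderOf x ∣ 8 ∨ orderOf x ∣ 10 ∨ orderOf x ∣ 12 := by
  by_cases hx : x.right = 1
  · left
    apply orderOf_dvd_of_pow_eq_one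
    have : x = SemidirectProduct.inl x.left := by
      exact SemidirectProduct.ext rfl hx
    rw [this, ← map_pow, exp21, map_one]
  set P := (x ^ orderOf x.right).left with hP
  have hP1 : P.toAdd.1 = 0 := by
    refine fpf (g := x.right) ?_ hx
    exact congrArg (fun y : Multiplicative Mod => y.toAdd.1) (pow_orderOf_fixed x)
  have hfix : ∀ k, act (x.right ^ k) P = P := by
    intro k
    induction k with
    | zero => simp
    | succ k ih => rw [pow_succ, map_mul, MulAut.mul_apply, pow_orderOf_fixed x, ih]
  have hpow3 : (x ^ orderOf x.right) ^ 3 = 1 := by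
    have h1 : x ^ orderOf x.right = SemidirectProduct.inl P := by
      exact SemidirectProduct.ext rfl (pow_orderOf_right x)
    rw [h1, ← map_pow]
    refine (congrArg _ ?_).trans (map_one _)
    apply Multiplicative.toAdd.injective
    rw [toAdd_pow, toAdd_one]
    refine Prod.ext (by simp [hP1]) (Subtype.ext (funext fun h => ?_))
    simp only [Prod.smul_snd, AddSubmonoidClass.coe_nsmul, Pi.smul_apply, Prod.snd_zero,
      ZeroMemClass.coe_zero, Pi.zero_apply, nsmul_eq_mul]
    rw [show ((3 : ℕ) : ZMod 3) = 0 from by decide, zero_mul]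
  rcases classify x.right with h | ⟨k, hk1, hk6, h⟩ | h | h
  · exact absurd h hx
  · have hx2 : x.right ^ (2 * k) = 1 := by
      rw [mul_comm, pow_mul, h]
      apply mat_inj
      rw [mat_pow, mat_zz, neg_one_sq]
      rfl
    have hPone : x ^ orderOf x.right = 1 := by
      have hz : act zz P = P := by rw [← h]; exact hfix k
      have h2 : P.toAdd.2 = 0 := by
        apply Subtype.ext; funext y
        have e : (P.toAdd.2 : grpH → ZMod 3) (zz⁻¹ * y) = (P.toAdd.2 : grpH → ZMod 3) y :=
          congrArg (fun w : Multiplicative Mod => (w.toAdd.2 : grpH → ZMod 3) y) hz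
        have e2 := P.toAdd.2.2 (zz⁻¹ * y)
        rw [mul_inv_cancel_left, e] at e2
        have key : ∀ a : ZMod 3, a = -a → a = 0 := by decide
        exact key _ e2
      refine SemidirectProduct.ext ?_ (pow_orderOf_right x)
      exact Multiplicative.toAdd.injective (Prod.ext hP1 h2)
    have hd : orderOf x ∣ 2 * k := orderOf_dvd_of_pow_eq_one (by
      obtain ⟨c, hc⟩ := orderOf_dvd_of_pow_eq_one hx2
      rw [hc, pow_mul, hPone, one_pow])
    interval_cases k
    · exact Or.inr (Or.inr (Or.inr (Or.inl (hd.trans (by norm_num)))))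
    · exact Or.inr (Or.inr (Or.inr (Or.inl (hd.trans (by norm_num)))))
    · exact Or.inr (Or.inr (Or.inr (Or.inr (Or.inr (hd.trans (by norm_num))))))
    · exact Or.inr (Or.inr (Or.inr (Or.inl hd)))
    · exact Or.inr (Or.inr (Or.inr (Or.inr (Or.inl hd))))
    · exact Or.inr (Or.inr (Or.inr (Or.inr (Or.inr hd))))
  · refine Or.inr (Or.inl (orderOf_dvd_of_pow_eq_one ?_))
    obtain ⟨c, hc⟩ := orderOf_dvd_of_pow_eq_one (pow_three_or_five.1 h)
    rw [show (9 : ℕ) = orderOf x.right * c * 3 by rw [← hc], pow_mul, pow_mul, ← pow_mul, mul_comm c 3,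
      pow_mul, hpow3, one_pow]
  · refine Or.inr (Or.inr (Or.inl (orderOf_dvd_of_pow_eq_one ?_)))
    obtain ⟨c, hc⟩ := orderOf_dvd_of_pow_eq_one (pow_three_or_five.2 h)
    rw [show (15 : ℕ) = orderOf x.right * c * 3 by rw [← hc], pow_mul, pow_mul, ← pow_mul, mul_comm c 3,
      pow_mul, hpow3, one_pow]

theorem orderOf_of_list {g : grpH} {n : ℕ} (hn : 0 < n) (l : List ℕ) (hg : mat g = toMat 7 4 l)
    (h1 : toMat 7 4 (powL 7 4 l n) = 1)
    (h2 : ∀ d : Fin n, 0 < (d : ℕ) → toMat 7 4 (powL 7 4 l d) ≠ 1) : orderOf g = n := by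
  rw [orderOf_eq_iff hn]
  refine ⟨?_, fun m hm hm0 he => h2 ⟨m, hm⟩ hm0 ?_⟩
  · apply mat_inj
    rw [mat_pow, hg, ← toMat_powL, h1]
    rfl
  · rw [toMat_powL, ← hg, ← mat_pow, he]
    rfl

/-- The delta function at the identity, made odd. -/
def oddDelta : oddFun :=
  ⟨fun h => if h = 1 then 1 else if h = zz then -1 else 0, by
    have hzz : zz * zz = 1 := by apply mat_inj; rw [mat_mul, mat_zz, neg_one_mul, neg_neg]; rfl
    have hz1 : zz ≠ 1 := by
      intro e
      have := congrArg (fun g => mat g 0 0) e
      simp only [mat_zz] at this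
      exact absurd this (by decide +kernel)
    intro h
    change (if zz * h = 1 then (1 : ZMod 3) else if zz * h = zz then -1 else 0) =
      -(if h = 1 then (1 : ZMod 3) else if h = zz then -1 else 0)
    by_cases ha : h = 1
    · subst ha; simp [hz1]
    by_cases hb : h = zz
    · subst hb; simp [hzz, hz1]
    have hc : zz * h ≠ 1 := fun e => hb (by rw [← one_mul h, ← hzz, mul_assoc, e, mul_one])
    have hd : zz * h ≠ zz := fun e => ha (mul_left_cancel (e.trans (mul_one zz).symm))
    simp [ha, hb, hc, hd]⟩

theorem range_orderOf_big :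
    Set.range (orderOf : Big → ℕ) = {k | k ∈ [1, 2, 3, 4, 5, 6, 7, 8, 9, 10, 12, 15, 21]} := by
  apply Set.Subset.antisymm
  · rintro _ ⟨x, rfl⟩
    have h := orderOf_dvd_list x
    have hpos : orderOf x ≠ 0 := by
      intro h0
      rw [h0] at h
      simp at h
    revert h hpos
    generalize orderOf x = d
    intro h hd
    have hle : d ≤ 21 := by
      rcases h with h | h | h | h | h | h <;> have := Nat.le_of_dvd (by norm_num) h <;> omega
    interval_cases d <;> first | exact absurd rfl hd | (revert h; decide)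
  · have hdvd : ∀ {m n : ℕ}, (∃ x : Big, orderOf x = n) → m ∣ n → m ∈ Set.range (orderOf : Big → ℕ) := by
      intro m n ⟨x, hx⟩ hm
      subst hx
      have hpos : orderOf x ≠ 0 := by
        intro h0
        have h := orderOf_dvd_list x
        rw [h0] at h
        simp at h
      exact ⟨x ^ (orderOf x / m), orderOf_pow_orderOf_div hpos hm⟩
    have hinr : ∀ {n : ℕ} (g : grpH), orderOf g = n → ∃ x : Big, orderOf x = n := fun g hg =>
      ⟨SemidirectProduct.inr g, (orderOf_injective _ SemidirectProduct.inr_injective g).trans hg⟩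
    have w8 : ∃ x : Big, orderOf x = 8 := hinr (eB * eA) <| orderOf_of_list (by norm_num) (mulL 7 4 gb ga)
      (by rw [mat_mul, mat_eA, mat_eB, toMat_mulL]) (by decide +kernel) (by decide +kernel)
    have w10 : ∃ x : Big, orderOf x = 10 := hinr (eB * (eB * (eB * (eA * (eB * eA))))) <|
      orderOf_of_list (by norm_num) (mulL 7 4 gb (mulL 7 4 gb (mulL 7 4 gb (mulL 7 4 ga (mulL 7 4 gb ga)))))
      (by simp only [mat_mul, mat_eA, mat_eB, toMat_mulL]) (by decide +kernel) (by decide +kernel)
    have w12 : ∃ x : Big, orderOf x = 12 := hinr eB <| orderOf_of_list (by norm_num) gb mat_eB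
      (by decide +kernel) (by decide +kernel)
    have w21 : ∃ x : Big, orderOf x = 21 := by
      let v : Fin 4 → ZMod 7 := fun _ => 1
      refine ⟨SemidirectProduct.inl (Multiplicative.ofAdd ((v, oddDelta) : Mod)), ?_⟩
      rw [orderOf_injective _ SemidirectProduct.inl_injective, orderOf_ofAdd_eq_addOrderOf, Prod.addOrderOf_mk]
      have h70 : ((7 : ℕ) • (1 : ZMod 7)) = 0 := by decide
      have h10 : (1 : ZMod 7) ≠ 0 := by decide
      have h30 : ((3 : ℕ) : ZMod 3) = 0 := by decide
      haveI : Fact (Nat.Prime 7) := ⟨by norm_num⟩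
      haveI : Fact (Nat.Prime 3) := ⟨Nat.prime_three⟩
      have a : addOrderOf v = 7 := addOrderOf_eq_prime (funext fun i => h70)
        (fun e => h10 (congrFun e 0))
      have b : addOrderOf oddDelta = 3 := addOrderOf_eq_prime
        (by apply Subtype.ext; funext h; simp only [AddSubmonoidClass.coe_nsmul, Pi.smul_apply, nsmul_eq_mul]
            rw [h30, zero_mul]; rfl)
        (fun e => by
          have := congrFun (congrArg Subtype.val e) 1
          simp [oddDelta] at this)
      rw [a, b]; rfl
    -- elements of order 9 and 15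
    have wmix : ∀ (r : ℕ) (g : grpH), r = 3 ∨ r = 5 → orderOf g = r → ∃ x : Big, orderOf x = r * 3 := by
      intro r g hr hg
      have hzz2 : zz * zz = 1 := by apply mat_inj; rw [mat_mul, mat_zz, neg_one_mul, neg_neg]; rfl
      have hnz : ∀ i : ℕ, i < r → i ≠ 0 → g ^ i ≠ 1 ∧ g ^ i ≠ zz := by
        intro i hi hi0
        have h1 : g ^ i ≠ 1 := fun e => by
          have := Nat.le_of_dvd (Nat.pos_of_ne_zero hi0) (hg ▸ orderOf_dvd_of_pow_eq_one e)
          omega
        refine ⟨h1, fun e => ?_⟩
        have h2 : g ^ (2 * i) = 1 := by rw [mul_comm, pow_mul, e, pow_two, hzz2]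
        have h3 : r ∣ 2 * i := hg ▸ orderOf_dvd_of_pow_eq_one h2
        have h4 : r ∣ i := by
          rcases hr with rfl | rfl
          · exact (Nat.Coprime.dvd_of_dvd_mul_left (by norm_num) h3)
          · exact (Nat.Coprime.dvd_of_dvd_mul_left (by norm_num) h3)
        have := Nat.le_of_dvd (Nat.pos_of_ne_zero hi0) h4
        omega
      let x : Big := ⟨Multiplicative.ofAdd ((0, oddDelta) : Mod), g⟩
      refine ⟨x, ?_⟩
      have hr0 : 0 < r := by rcases hr with rfl | rfl <;> norm_num
      have hformula : ∀ m : ℕ, ((x ^ m).left.toAdd.2 : grpH → ZMod 3) 1 =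
          ∑ i ∈ Finset.range m, (oddDelta : grpH → ZMod 3) (g ^ i)⁻¹ ∧ (x ^ m).right = g ^ m := by
        intro m
        induction m with
        | zero => simp
        | succ m ih =>
          refine ⟨?_, by rw [pow_succ, SemidirectProduct.mul_right, ih.2, pow_succ]⟩
          rw [pow_succ, SemidirectProduct.mul_left, ih.2, toAdd_mul, Prod.snd_add, AddSubgroup.coe_add,
            Pi.add_apply, Finset.sum_range_succ, ih.1]
          congr 1
          change (oddDelta : grpH → ZMod 3) ((g ^ m)⁻¹ * 1) = _
          rw [mul_one]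
      have hsum : ∑ i ∈ Finset.range r, (oddDelta : grpH → ZMod 3) (g ^ i)⁻¹ = 1 := by
        rw [Finset.sum_eq_single 0]
        · simp [oddDelta]
        · intro i hi hi0
          obtain ⟨a, b⟩ := hnz i (Finset.mem_range.1 hi) hi0
          have hb' : (g ^ i)⁻¹ ≠ zz := fun e => b (by
            rw [← inv_inv (g ^ i), e]; exact inv_eq_of_mul_eq_one_right hzz2)
          simp [oddDelta, a, hb']
        · intro h; exact absurd (Finset.mem_range.2 hr0) h
      have hxr : x ^ r ≠ 1 := by
        intro e
        have := (hformula r).1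
        rw [e, hsum] at this
        simp at this
      have hxd : orderOf x ∣ r * 3 := by
        apply orderOf_dvd_of_pow_eq_one
        have hh : x ^ r = SemidirectProduct.inl (x ^ r).left := by
          exact SemidirectProduct.ext rfl (by rw [(hformula r).2, ← hg, pow_orderOf_eq_one]; rfl)
        rw [pow_mul, hh, ← map_pow]
        refine (congrArg _ ?_).trans (map_one _)
        apply Multiplicative.toAdd.injective
        rw [toAdd_pow, toAdd_one]
        refine Prod.ext ?_ (Subtype.ext (funext fun h => ?_))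
        · have hv : ∀ m : ℕ, (x ^ m).left.toAdd.1 = 0 := by
            intro m
            induction m with
            | zero => simp
            | succ m ih =>
              rw [pow_succ, SemidirectProduct.mul_left, toAdd_mul, Prod.fst_add, ih, zero_add]
              exact Matrix.mulVec_zero (mat (x ^ m).right)
          simp [hv r]
        · simp only [Prod.smul_snd, AddSubmonoidClass.coe_nsmul, Pi.smul_apply, Prod.snd_zero,
            ZeroMemClass.coe_zero, Pi.zero_apply, nsmul_eq_mul]
          rw [show ((3 : ℕ) : ZMod 3) = 0 from by decide, zero_mul]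
      have hrd : r ∣ orderOf x := hg ▸ orderOf_map_dvd SemidirectProduct.rightHom x
      obtain ⟨c, hc⟩ := hrd
      rw [hc] at hxd
      rcases (Nat.dvd_prime Nat.prime_three).1 (Nat.dvd_of_mul_dvd_mul_left hr0 hxd) with rfl | rfl
      · rw [mul_one] at hc
        exact absurd (hc ▸ pow_orderOf_eq_one x) hxr
      · exact hc
    have w9 : ∃ x : Big, orderOf x = 9 := wmix 3 (eA * (eA * (eB * eB))) (Or.inl rfl) <|
      orderOf_of_list (by norm_num) (mulL 7 4 ga (mulL 7 4 ga (mulL 7 4 gb gb)))
      (by simp only [mat_mul, mat_eA, mat_eB, toMat_mulL]) (by decide +kernel) (by decide +kernel)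
    have w15 : ∃ x : Big, orderOf x = 15 := wmix 5 (eA * (eA * (eB * (eB * (eB * (eA * (eB * eA))))))) (Or.inr rfl) <|
      orderOf_of_list (by norm_num)
      (mulL 7 4 ga (mulL 7 4 ga (mulL 7 4 gb (mulL 7 4 gb (mulL 7 4 gb (mulL 7 4 ga (mulL 7 4 gb ga)))))))
      (by simp only [mat_mul, mat_eA, mat_eB, toMat_mulL]) (by decide +kernel) (by decide +kernel)
    intro k hk
    change k ∈ [1, 2, 3, 4, 5, 6, 7, 8, 9, 10, 12, 15, 21] at hk
    fin_cases hk
    exacts [hdvd w8 (by norm_num), hdvd w8 (by norm_num), hdvd w9 (by norm_num), hdvd w8 (by norm_num),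
      hdvd w10 (by norm_num), hdvd w12 (by norm_num), hdvd w21 (by norm_num), hdvd w8 dvd_rfl,
      hdvd w9 dvd_rfl, hdvd w10 dvd_rfl, hdvd w12 dvd_rfl, hdvd w15 dvd_rfl, hdvd w21 dvd_rfl]

theorem exists_large_isospectral_alternating_ten (N : ℕ) :
    ∃ (H : Type) (_ : Group H) (_ : Fintype H), N < Fintype.card H ∧
      Set.range (orderOf : H → ℕ) = Set.range (orderOf : alternatingGroup (Fin 10) → ℕ) := by
  haveI : Finite Mod := inferInstance
  haveI : Finite (Multiplicative Mod) := inferInstanceAs (Finite Mod)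
  haveI : Finite Big := Finite.of_equiv _ SemidirectProduct.equivProd.symm
  rw [range_orderOf_alternating_ten, ← range_orderOf_big]
  let φ := (SemidirectProduct.inl : Multiplicative Mod →* Big)
  haveI : φ.range.Normal := by
    rw [SemidirectProduct.range_inl_eq_ker_rightHom]; infer_instance
  refine exists_large_isospectral φ.range ?_ ?_ N
  · intro hbot
    have hm : φ (Multiplicative.ofAdd ((fun _ => 1, 0) : Mod)) ∈ φ.range := ⟨_, rfl⟩
    rw [hbot, Subgroup.mem_bot, ← map_one φ] at hm
    have := congrArg (fun w : Multiplicative Mod => w.toAdd.1 0) (SemidirectProduct.inl_injective hm)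
    exact absurd this (by decide)
  · exact Group.isSolvable_of_comm fun a b => by
      obtain ⟨x, hx⟩ := a.2
      obtain ⟨y, hy⟩ := b.2
      apply Subtype.ext
      rw [Subgroup.coe_mul, Subgroup.coe_mul, ← hx, ← hy, ← map_mul, ← map_mul, mul_comm]

end CfsgLib.Recog.TenIso
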