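import Cfsg.Agent.Lib.Recog.ClassSizesPSLTwo
import Cfsg.Agent.S2507
import Cfsg.Agent.S2508

/-!
The numerical properties of the class sizes of `PSL(2, q)`.
-/

set_option autoImplicit false

namespace CfsgLib.Recog.ClassSizesPSLTwo

universe u

variable {G : Type u} [Group G] [Finite G]

/-- `Sizes` from the explicit set of class sizes `{1, A} ∪ q X`. -/
theorem Sizes.of_values {p f q A d : ℕ} (hp : p.Prime) (hf : 1 ≤ f) (hq : q = p ^ f) (hd : d ≤ 2)
    (hdq : d < q) (hdA : d * A = q ^ 2 - 1) (hco : Nat.Coprime q A) (hA : 1 < A) (X : Finset ℕ)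
    (hX : X.Nonempty) (hXA : ∀ x ∈ X, x ∣ A ∧ 1 < x ∧ x < A)
    (hrange : ∀ n, (∃ g : G, cs g = n) ↔ n = 1 ∨ n = A ∨ ∃ x ∈ X, n = q * x)
    (hcop : ∀ r : ℕ, r.Prime → r ∣ A → ∃ x ∈ X, ¬ r ∣ x)
    (hmult : ∀ x ∈ X, ∀ y ∈ X, x ∣ y → y = x ∨ (y = 2 * x ∧ p ≠ 2)) :
    Sizes G p f q A d := by
  have hpq : p ∣ q := hq ▸ dvd_pow_self p (by omega)
  have hnA : ¬ p ∣ A := fun h => hp.not_dvd_one (hco ▸ Nat.dvd_gcd hpq h)
  have hqA : ¬ q ∣ A := fun h => hnA (hpq.trans h)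
  have hq1 : 1 < q := by rw [hq]; exact Nat.one_lt_pow (by omega) hp.one_lt
  have big : ∀ g : G, q ∣ cs g → ∃ x ∈ X, cs g = q * x := by
    intro g hg
    rcases (hrange _).1 ⟨g, rfl⟩ with h | h | h
    · rw [h, Nat.dvd_one] at hg; omega
    · exact absurd (h ▸ hg) hqA
    · exact h
  refine ⟨hp, hf, hq, hd, hdq, hdA, hnA, hA, (hrange A).2 (Or.inr (Or.inl rfl)), ?_, fun g => ?_,
    fun g r hr hrd => ?_, fun r hr hrA => ?_, fun g g' hg hdvd => ?_⟩
  · obtain ⟨x, hx⟩ := hX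
    obtain ⟨g, hg⟩ := (hrange (q * x)).2 (Or.inr (Or.inr ⟨x, hx, rfl⟩))
    exact ⟨g, hg ▸ dvd_mul_right q x⟩
  · rcases (hrange _).1 ⟨g, rfl⟩ with h | h | ⟨x, hx, h⟩
    · exact Or.inl h
    · exact Or.inr (Or.inl h)
    · obtain ⟨hxA, hx1, hxlt⟩ := hXA x hx
      refine Or.inr (Or.inr ⟨h ▸ dvd_mul_right q x, fun hA' => ?_, fun hp' => ?_, fun e => ?_⟩)
      · rw [h] at hA'
        have := Nat.le_of_dvd (by omega) (hco.symm.dvd_of_dvd_mul_left hA')
        omega
      · rw [h, hq, pow_succ] at hp'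
        exact hnA ((Nat.dvd_of_mul_dvd_mul_left (pow_pos hp.pos f) hp').trans hxA)
      · rw [h] at e
        have := Nat.eq_of_mul_eq_mul_left (by omega : 0 < q) (e.trans (mul_one q).symm)
        omega
  · rcases (hrange _).1 ⟨g, rfl⟩ with h | h | ⟨x, hx, h⟩
    · exact absurd (h ▸ hrd) hr.not_dvd_one
    · exact dvd_mul_of_dvd_right (h ▸ hrd) q
    · exact (h ▸ hrd).trans (Nat.mul_dvd_mul_left q (hXA x hx).1)
  · obtain ⟨x, hx, hrx⟩ := hcop r hr hrA
    obtain ⟨g, hg⟩ := (hrange (q * x)).2 (Or.inr (Or.inr ⟨x, hx, rfl⟩))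
    refine ⟨g, hg ▸ dvd_mul_right q x, fun h => ?_⟩
    rcases hr.dvd_mul.1 (hg ▸ h) with h | h
    · exact hr.not_dvd_one (hco ▸ Nat.dvd_gcd h hrA)
    · exact hrx h
  · obtain ⟨x, hx, e⟩ := big g hg
    obtain ⟨y, hy, e'⟩ := big g' (hg.trans hdvd)
    rw [e, e'] at hdvd
    rcases hmult x hx y hy (Nat.dvd_of_mul_dvd_mul_left (by omega) hdvd) with h | ⟨h, h2⟩
    · exact Or.inl (by rw [e, e', h])
    · exact Or.inr ⟨by rw [e, e', h]; ring, h2⟩

set_option maxHeartbeats 800000 in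
/-- Odd `q`. -/
theorem sizes_odd {F : Type*} [Field F] [Fintype F] (hodd : ¬ 2 ∣ Fintype.card F)
    (h7 : 7 ≤ Fintype.card F)
    (h : Set.range (fun g : G => (Subgroup.centralizer ({g} : Set G)).index) = Set.range (fun g : (Matrix.ProjectiveSpecialLinearGroup (Fin 2) F) => (Subgroup.centralizer ({g} : Set (Matrix.ProjectiveSpecialLinearGroup (Fin 2) F))).index)) :
    ∃ p f : ℕ, p ≠ 2 ∧ Sizes G p f (Fintype.card F) ((Fintype.card F ^ 2 - 1) / 2) 2 := by
  classical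
  obtain ⟨p, hp⟩ := CharP.exists F
  obtain ⟨f, hpp, hcard⟩ := FiniteField.card F p
  have hp2 : p ≠ 2 := by
    rintro rfl
    exact hodd (hcard ▸ dvd_pow_self 2 f.pos.ne')
  refine ⟨p, f, hp2, ?_⟩
  obtain ⟨S1, S3⟩ := Cfsg.Agent.S2508.result hodd h7
  set q := Fintype.card F with hq
  obtain ⟨a, ha⟩ : ∃ a, q = 2 * a + 1 := ⟨q / 2, by omega⟩
  -- `m` is the odd one of `a`, `a + 1`, and `e` the other one
  obtain ⟨m, e, hm, hme, hrange⟩ : ∃ m e : ℕ, Odd m ∧ ((m = a ∧ e = a + 1) ∨ (m = a + 1 ∧ e = a)) ∧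
      ∀ n, (∃ g : G, cs g = n) ↔
        n = 1 ∨ n = (q ^ 2 - 1) / 2 ∨ ∃ x ∈ ({m, 2 * m, 2 * e} : Finset ℕ), n = q * x := by
    have e1 : q + 1 = 2 * (a + 1) := by omega
    have e2 : q - 1 = 2 * a := by omega
    rcases (show q % 4 = 1 ∨ q % 4 = 3 by omega) with h4 | h4
    · refine ⟨a + 1, a, ⟨a / 2, by omega⟩, Or.inr ⟨rfl, rfl⟩, fun n => ?_⟩
      have hs := Set.ext_iff.1 (h.trans (S1 h4)) n
      simp only [Set.mem_range, Set.mem_insert_iff, Set.mem_singleton_iff, e1, e2] at hs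
      rw [hs, show q * (2 * (a + 1)) / 2 = q * (a + 1) by rw [mul_left_comm]; omega]
      simp only [Finset.mem_insert, Finset.mem_singleton, exists_eq_or_imp, exists_eq_left]
      tauto
    · refine ⟨a, a + 1, ⟨a / 2, by omega⟩, Or.inl ⟨rfl, rfl⟩, fun n => ?_⟩
      have hs := Set.ext_iff.1 (h.trans (S3 h4)) n
      simp only [Set.mem_range, Set.mem_insert_iff, Set.mem_singleton_iff, e1, e2] at hs
      rw [hs, show q * (2 * a) / 2 = q * a by rw [mul_left_comm]; omega]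
      simp only [Finset.mem_insert, Finset.mem_singleton, exists_eq_or_imp, exists_eq_left]
      tauto
  have hA : (q ^ 2 - 1) / 2 = 2 * (m * e) := by
    have : q ^ 2 = 4 * (m * e) + 1 := by
      rcases hme with ⟨rfl, rfl⟩ | ⟨rfl, rfl⟩ <;> rw [ha] <;> ring
    omega
  have hm3 : 3 ≤ m := by obtain ⟨k, hk⟩ := hm; omega
  have he3 : 3 ≤ e := by omega
  have hqme : q = m + e := by omega
  have hcop : Nat.Coprime m e := by
    rcases hme with ⟨rfl, rfl⟩ | ⟨rfl, rfl⟩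
    · simp
    · simp
  rw [hA]
  have hme9 : 9 ≤ m * e := Nat.mul_le_mul hm3 he3
  refine Sizes.of_values hpp f.pos hcard le_rfl (by omega) ?_ ?_ (by omega) {m, 2 * m, 2 * e}
    ⟨m, by simp⟩ ?_ (hA ▸ hrange) ?_ ?_
  · have : q ^ 2 = 4 * (m * e) + 1 := by
      rcases hme with ⟨rfl, rfl⟩ | ⟨rfl, rfl⟩ <;> rw [ha] <;> ring
    omega
  · refine Nat.Coprime.mul_right ?_ (Nat.Coprime.mul_right ?_ ?_)
    · exact (Nat.coprime_two_right).2 (Nat.odd_iff.2 (by omega))
    · rw [hqme, Nat.coprime_self_add_left]; exact hcop.symm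
    · rw [hqme, Nat.coprime_add_self_left]; exact hcop
  · intro x hx
    simp only [Finset.mem_insert, Finset.mem_singleton] at hx
    rcases hx with rfl | rfl | rfl
    · exact ⟨⟨2 * e, by ring⟩, by omega, by nlinarith⟩
    · exact ⟨⟨e, by ring⟩, by omega, by nlinarith⟩
    · exact ⟨⟨m, by ring⟩, by omega, by nlinarith⟩
  · intro r hr hrA
    by_cases hr2 : r = 2
    · exact ⟨m, by simp, fun hd => by obtain ⟨k, hk⟩ := hm; subst hr2; omega⟩
    rcases hr.dvd_mul.1 hrA with hd | hd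
    · exact absurd ((Nat.prime_dvd_prime_iff_eq hr Nat.prime_two).1 hd) hr2
    rcases hr.dvd_mul.1 hd with hd' | hd'
    · refine ⟨2 * e, by simp, fun h2e => ?_⟩
      rcases hr.dvd_mul.1 h2e with h2 | h2
      · exact hr2 ((Nat.prime_dvd_prime_iff_eq hr Nat.prime_two).1 h2)
      · exact hr.not_dvd_one (hcop ▸ Nat.dvd_gcd hd' h2)
    · exact ⟨m, by simp, fun hm' => hr.not_dvd_one (hcop ▸ Nat.dvd_gcd hm' hd')⟩
  · intro x hx y hy hxy
    simp only [Finset.mem_insert, Finset.mem_singleton] at hx hy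
    rcases hx with hx | hx | hx <;> rcases hy with hy | hy | hy <;> rw [hx, hy] at hxy <;>
      rw [hx, hy]
    · exact Or.inl rfl
    · exact Or.inr ⟨rfl, hp2⟩
    · exfalso
      have := Nat.le_of_dvd (by norm_num) (hcop.dvd_of_dvd_mul_right hxy)
      omega
    · have := Nat.le_of_dvd (by omega) hxy; omega
    · exact Or.inl rfl
    · exfalso
      have h1 := Nat.dvd_of_mul_dvd_mul_left (by norm_num) hxy
      exact absurd (Nat.eq_one_of_dvd_coprimes hcop dvd_rfl h1) (by omega)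
    · exfalso
      have := Nat.eq_one_of_dvd_coprimes hcop ((dvd_mul_left e 2).trans hxy) dvd_rfl
      omega
    · exfalso
      have h1 := Nat.dvd_of_mul_dvd_mul_left (by norm_num) hxy
      exact absurd (Nat.eq_one_of_dvd_coprimes hcop h1 dvd_rfl) (by omega)
    · exact Or.inl rfl

/-- Even `q`. -/
theorem sizes_even {F : Type*} [Field F] [Fintype F] (h2 : 2 ∣ Fintype.card F)
    (h4 : 4 ≤ Fintype.card F)
    (h : Set.range (fun g : G => (Subgroup.centralizer ({g} : Set G)).index) = Set.range (fun g : (Matrix.ProjectiveSpecialLinearGroup (Fin 2) F) => (Subgroup.centralizer ({g} : Set (Matrix.ProjectiveSpecialLinearGroup (Fin 2) F))).index)) :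
    ∃ f : ℕ, Sizes G 2 f (Fintype.card F) (Fintype.card F ^ 2 - 1) 1 := by
  classical
  obtain ⟨p, hp⟩ := CharP.exists F
  obtain ⟨f, hpp, hcard⟩ := FiniteField.card F p
  obtain rfl : p = 2 :=
    ((Nat.prime_dvd_prime_iff_eq Nat.prime_two hpp).1 (Nat.prime_two.dvd_of_dvd_pow (hcard ▸ h2))).symm
  refine ⟨f, ?_⟩
  have S := Cfsg.Agent.S2507.result h2 h4
  set q := Fintype.card F with hq
  obtain ⟨b, hb⟩ : ∃ b, q = b + 1 := ⟨q - 1, by omega⟩
  have hA : q ^ 2 - 1 = b * (b + 2) := by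
    have : q ^ 2 = b * (b + 2) + 1 := by rw [hb]; ring
    omega
  have hodd : Odd b := Nat.odd_iff.2 (by omega)
  have hcop : Nat.Coprime b (b + 2) := by
    rw [Nat.coprime_self_add_right]
    exact Nat.coprime_two_right.2 hodd
  have hrange : ∀ n, (∃ g : G, cs g = n) ↔
      n = 1 ∨ n = q ^ 2 - 1 ∨ ∃ x ∈ ({b, b + 2} : Finset ℕ), n = q * x := by
    intro n
    have hs := Set.ext_iff.1 (h.trans S) n
    simp only [Set.mem_range, Set.mem_insert_iff, Set.mem_singleton_iff,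
      show q - 1 = b by omega, show q + 1 = b + 2 by omega] at hs
    rw [hs]
    simp only [Finset.mem_insert, Finset.mem_singleton, exists_eq_or_imp, exists_eq_left]
    tauto
  have hb3 : 3 ≤ b := by omega
  have hbb : 15 ≤ b * (b + 2) := by nlinarith
  refine Sizes.of_values hpp f.pos hcard (by norm_num) (by omega) (one_mul _) ?_ (by omega) {b, b + 2}
    ⟨b, by simp⟩ ?_ hrange ?_ ?_
  · rw [hA, hb]
    refine Nat.Coprime.mul_right ?_ ?_
    · rw [Nat.coprime_self_add_left]; exact Nat.coprime_one_left b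
    · rw [show b + 2 = 1 + (b + 1) by omega, Nat.coprime_add_self_right]
      exact Nat.coprime_one_right _
  · intro x hx
    simp only [Finset.mem_insert, Finset.mem_singleton] at hx
    rw [hA]
    rcases hx with rfl | rfl
    · exact ⟨dvd_mul_right _ _, by omega, by nlinarith⟩
    · exact ⟨dvd_mul_left _ _, by omega, by nlinarith⟩
  · intro r hr hrA
    rw [hA] at hrA
    rcases hr.dvd_mul.1 hrA with hd | hd
    · exact ⟨b + 2, by simp, fun hd' => hr.not_dvd_one (hcop ▸ Nat.dvd_gcd hd hd')⟩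
    · exact ⟨b, by simp, fun hd' => hr.not_dvd_one (hcop ▸ Nat.dvd_gcd hd' hd)⟩
  · intro x hx y hy hxy
    simp only [Finset.mem_insert, Finset.mem_singleton] at hx hy
    left
    rcases hx with hx | hx <;> rcases hy with hy | hy <;> rw [hx, hy] at hxy <;> rw [hx, hy]
    · exact absurd (Nat.eq_one_of_dvd_coprimes hcop dvd_rfl hxy) (by omega)
    · exact absurd (Nat.le_of_dvd (by omega) hxy) (by omega)

end CfsgLib.Recog.ClassSizesPSLTwo
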