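import Mathlib

/-!
Colour tables on `Fin N` and a bound for the automorphisms of the underlying graph: the number of
patterns of a base times `N`, once the base is shown to determine everything.
-/

set_option autoImplicit false

namespace CfsgLib.Recog.CommutingGraph

/-- The colour of `(i, j)` stored in four bits. -/
def colour (N M i j : ℕ) : ℕ := (M >>> (4 * (i * N + j))) % 16

/-- Adjacency read off the colour. -/
def adj (N M i j : ℕ) : Bool := Nat.ble 8 (colour N M i j) && !(Nat.beq (colour N M i j) 15)

/-- The intended colour: adjacency and the number of common neighbours. -/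
def colourSpec (N M i j : ℕ) : ℕ :=
  if Nat.beq i j then 15
  else (if adj N M i j then 8 else 0) +
    (List.range N).countP fun k => adj N M i k && adj N M j k

/-- The automorphisms of the graph. -/
def autGraph (N M : ℕ) : Subgroup (Equiv.Perm (Fin N)) where
  carrier := {σ | ∀ i j : Fin N, adj N M (σ i) (σ j) = adj N M i j}
  one_mem' := fun _ _ => rfl
  mul_mem' := fun {a b} ha hb i j => (ha (b i) (b j)).trans (hb i j)
  inv_mem' := fun {a} ha i j => by
    have h := ha (a⁻¹ i) (a⁻¹ j)
    simp only [Equiv.Perm.inv_def, Equiv.apply_symm_apply] at h ⊢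
    exact h.symm

theorem colourSpec_inv {N M : ℕ} {σ : Equiv.Perm (Fin N)} (hσ : σ ∈ autGraph N M) (i j : Fin N) :
    colourSpec N M (σ i) (σ j) = colourSpec N M i j := by
  have key : ∀ a b : Fin N, (List.range N).countP (fun k => adj N M a k && adj N M b k) =
      (List.finRange N).countP fun k : Fin N => adj N M a k && adj N M b k := by
    intro a b
    rw [← List.map_coe_finRange_eq_range, List.countP_map]
    rfl
  have hb : Nat.beq (σ i : ℕ) (σ j : ℕ) = Nat.beq (i : ℕ) (j : ℕ) := by
    by_cases h : i = j
    · subst h; simp
    · have h1 : ¬ ((σ i : ℕ) = (σ j : ℕ)) := fun e => h (σ.injective (Fin.ext e))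
      have h2 : ¬ ((i : ℕ) = (j : ℕ)) := fun e => h (Fin.ext e)
      rw [Bool.eq_false_iff.2 (fun e => h1 (Nat.eq_of_beq_eq_true e)),
        Bool.eq_false_iff.2 (fun e => h2 (Nat.eq_of_beq_eq_true e))]
  unfold colourSpec
  rw [hb, hσ i j, key, key, ← List.Perm.countP_eq _ (Equiv.Perm.map_finRange_perm σ),
    List.countP_map]
  congr 1
  congr 1
  exact List.countP_congr fun k _ => by simp only [Function.comp_apply]; rw [hσ i k, hσ j k]

/-- All tuples of the pattern of a prefix of `base`. -/
def extend (N M : ℕ) (base : List ℕ) : ℕ → List (List ℕ)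
  | 0 => [[]]
  | k + 1 => (extend N M base k).flatMap fun t =>
      ((List.range N).filter fun x =>
        (if Nat.beq k 0 then Nat.beq x (base.getD 0 0) else true) &&
          (List.range k).all fun i =>
            Nat.beq (colour N M x (t.getD i 0)) (colour N M (base.getD k 0) (base.getD i 0))).map
        fun x => t ++ [x]

/-- One step of the closure: the entry `(x, known)` says `x` is the only vertex with its colours
towards `known`. -/
def closeStep (N M : ℕ) (e : ℕ × List ℕ) : Bool :=
  (List.range N).all fun y => Nat.beq y e.1 ||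
    !(e.2.all fun b => Nat.beq (colour N M y b) (colour N M e.1 b))

/-- The closure certificate. -/
def closes (N M : ℕ) : List (ℕ × List ℕ) → List ℕ → Bool
  | [], known => (List.range N).all fun x => known.contains x
  | e :: r, known => e.2.all (fun b => known.contains b) && Nat.blt e.1 N && closeStep N M e &&
      closes N M r (e.1 :: known)

theorem fixed_of_closes {N M : ℕ} (hcol : ∀ i j : Fin N, colour N M i j = colourSpec N M i j)
    {σ : Equiv.Perm (Fin N)} (hσ : σ ∈ autGraph N M) :
    ∀ (steps : List (ℕ × List ℕ)) (known : List ℕ), closes N M steps known = true →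
      (∀ i : Fin N, (i : ℕ) ∈ known → σ i = i) → (∀ b ∈ known, b < N) → σ = 1 := by
  intro steps
  induction steps with
  | nil =>
    intro known h hfix _
    ext i
    simp only [closes, List.all_eq_true, List.mem_range, List.contains_iff_mem] at h
    rw [hfix i (h i i.2)]; rfl
  | cons e r ih =>
    intro known h hfix hlt
    simp only [closes, Bool.and_eq_true, List.all_eq_true, List.contains_iff_mem] at h
    obtain ⟨⟨⟨hk, hx⟩, hstep⟩, hrest⟩ := h
    have hx' : e.1 < N := by simpa using hx
    have hfx : σ ⟨e.1, hx'⟩ = ⟨e.1, hx'⟩ := by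
      simp only [closeStep, List.all_eq_true, List.mem_range, Bool.or_eq_true, Bool.not_eq_true',
        List.all_eq_false] at hstep
      rcases hstep (σ ⟨e.1, hx'⟩ : Fin N) (σ _).2 with h1 | ⟨b, hb, hne⟩
      · exact Fin.ext (Nat.eq_of_beq_eq_true h1)
      · exfalso
        apply hne
        have hbN := hlt b (hk b hb)
        have hσb := hfix ⟨b, hbN⟩ (hk b hb)
        have := colourSpec_inv hσ ⟨e.1, hx'⟩ ⟨b, hbN⟩
        rw [← hcol, ← hcol, hσb] at this
        simp only at this
        rw [this]
        exact Nat.beq_refl _
    refine ih _ hrest (fun i hi => ?_) fun b hb => ?_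
    · rcases List.mem_cons.1 hi with h1 | h1
      · obtain rfl : i = ⟨e.1, hx'⟩ := Fin.ext h1
        exact hfx
      · exact hfix i h1
    · rcases List.mem_cons.1 hb with h1 | h1
      · exact h1 ▸ hx'
      · exact hlt b h1

theorem mem_extend {N M : ℕ} (hcol : ∀ i j : Fin N, colour N M i j = colourSpec N M i j)
    {σ : Equiv.Perm (Fin N)} (hσ : σ ∈ autGraph N M) (base : List (Fin N))
    (hfix : ∀ h : 0 < base.length, σ base[0] = base[0]) :
    ∀ k ≤ base.length, (base.take k).map (fun b => (σ b : ℕ)) ∈
      extend N M (base.map Fin.val) k := by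
  intro k
  induction k with
  | zero => intro _; simp [extend]
  | succ k ih =>
    intro hk
    rw [extend, List.mem_flatMap]
    refine ⟨_, ih (by omega), List.mem_map.2 ⟨(σ base[k] : ℕ), List.mem_filter.2 ⟨?_, ?_⟩, ?_⟩⟩
    · exact List.mem_range.2 (σ _).2
    · rw [Bool.and_eq_true]
      refine ⟨?_, List.all_eq_true.2 fun i hi => ?_⟩
      · rcases Nat.eq_zero_or_pos k with rfl | h0
        · have h1 : ((base.map Fin.val).getD 0 0) = (base[0] : ℕ) := by
            rw [List.getD_eq_getElem _ _ (by simp; omega), List.getElem_map]
          rw [if_pos (Nat.beq_refl 0), h1, hfix (by omega)]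
          exact Nat.beq_refl _
        · rw [if_neg]
          intro e
          have := Nat.eq_of_beq_eq_true e
          omega
      · rw [List.mem_range] at hi
        rw [List.getD_eq_getElem _ _ (by simp; omega), List.getD_eq_getElem _ _ (by simp; omega),
          List.getD_eq_getElem _ _ (by simp; omega), List.getElem_map, List.getElem_map,
          List.getElem_map, List.getElem_take, hcol, hcol, colourSpec_inv hσ]
        exact Nat.beq_refl _
    · rw [List.take_add_one, List.map_append, List.getElem?_eq_getElem (by omega)]
      rfl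

/-- The bound for the automorphism group. -/
theorem card_autGraph_le {N M : ℕ} (hcol : ∀ i j : Fin N, colour N M i j = colourSpec N M i j)
    (base : List ℕ) (hb0 : base ≠ []) (hb : base.all (fun b => Nat.blt b N) = true)
    (steps : List (ℕ × List ℕ))
    (hsteps : closes N M steps base = true) :
    Nat.card (autGraph N M) ≤ N * (extend N M base base.length).length := by
  classical
  have hlt : ∀ b ∈ base, b < N := fun b h => by
    simpa using List.all_eq_true.1 hb b h
  set bF : List (Fin N) := base.pmap (fun b h => (⟨b, h⟩ : Fin N)) hlt with hbF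
  have hmap : bF.map Fin.val = base := by
    rw [hbF, List.map_pmap, List.pmap_eq_map]; simp
  have hlen : bF.length = base.length := by rw [hbF, List.length_pmap]
  have h0 : 0 < bF.length := by
    rw [hlen]; exact List.length_pos_iff.2 hb0
  set A := autGraph N M
  set v := bF[0]
  rw [← Subgroup.index_mul_card (MulAction.stabilizer A v), MulAction.index_stabilizer]
  refine Nat.mul_le_mul ?_ ?_
  · exact (Set.ncard_le_card _).trans (by simp)
  · let g : MulAction.stabilizer A v → {t // t ∈ extend N M base base.length} := fun σ =>
      ⟨bF.map (fun b => (((σ : A) : Equiv.Perm (Fin N)) b : ℕ)), by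
        have := mem_extend hcol ((σ : A)).2 bF (fun _ => σ.2) bF.length le_rfl
        rwa [List.take_length, hmap, hlen] at this⟩
    have hg : Function.Injective g := by
      intro σ τ e
      have e' : bF.map (fun b => (((σ : A) : Equiv.Perm (Fin N)) b : ℕ)) =
          bF.map (fun b => (((τ : A) : Equiv.Perm (Fin N)) b : ℕ)) := congrArg Subtype.val e
      have h1 : ((τ : A) : Equiv.Perm (Fin N))⁻¹ * ((σ : A) : Equiv.Perm (Fin N)) = 1 := by
        refine fixed_of_closes hcol (A.mul_mem (A.inv_mem (τ : A).2) (σ : A).2) steps base hsteps
          (fun i hi => ?_) hlt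
        have hiF : i ∈ bF := by
          rw [hbF, List.mem_pmap]
          exact ⟨i, hi, rfl⟩
        have h2 := Fin.ext (List.map_inj_left.1 e' i hiF)
        rw [Equiv.Perm.mul_apply, h2, Equiv.Perm.inv_def, Equiv.symm_apply_apply]
      exact Subtype.ext (Subtype.ext (inv_mul_eq_one.1 h1).symm)
    refine (Nat.card_le_card_of_injective g hg).trans ?_
    rw [Nat.card_eq_fintype_card]
    refine le_trans (le_of_eq ?_) (List.toFinset_card_le (extend N M base base.length))
    exact Fintype.card_of_subtype _ fun x => List.mem_toFinset

end CfsgLib.Recog.CommutingGraph
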