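import Cfsg.Agent.Lib.Recog.CommutingGraphMElevenData
import Cfsg.Agent.Lib.FusionMathieu.Groups
import Cfsg.Agent.Lib.Schur.OutM11Data

/-! The commuting graph facts of `M₁₁`. -/

set_option autoImplicit false
set_option maxRecDepth 100000

namespace CfsgLib.Recog.CommutingGraph.MEleven

open Cfsg CfsgLib.Golay CfsgLib.Schur.OutM11

/-- The encoding by image lists. -/
def encoding : Enc (↥Cfsg.Spor.M11) CfsgLib.Golay.comp where
  enc := fun g => toList g.1
  inj := fun a b h => Subtype.ext (toList_injective h)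
  mul := fun a b => toList_mul a.1 b.1

theorem mem_gens (l : List ℕ) (hl : l ∈ cert.gens) : ∃ g : Cfsg.Spor.M11, encoding.enc g = l := by
  have key : ∀ σ : Equiv.Perm GolayPt, toList σ = l → CfsgLib.FusionMathieu.inG11 l = true →
      ∃ g : Cfsg.Spor.M11, encoding.enc g = l := fun σ h1 h2 =>
    ⟨⟨σ, (CfsgLib.FusionMathieu.mem_M11_iff σ).2 (h1 ▸ h2)⟩, h1⟩
  simp only [cert, List.mem_cons, List.not_mem_nil, or_false] at hl
  rcases hl with rfl | rfl | rfl | rfl | rfl | rfl
  · exact key genA (by decide +kernel) (by decide +kernel)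
  · exact key genB (by decide +kernel) (by decide +kernel)
  · exact key genC (by decide +kernel) (by decide +kernel)
  · exact key genA⁻¹ (by decide +kernel) (by decide +kernel)
  · exact key genB⁻¹ (by decide +kernel) (by decide +kernel)
  · exact key genC⁻¹ (by decide +kernel) (by decide +kernel)

theorem facts : Nonempty (Facts (↥Cfsg.Spor.M11) cert.N cert.c cert.table) := by
  refine facts_of_checks encoding cert ?_ mem_gens ?_ ?_ ?_ ?_ ?_ ?_ ?_ ?_ ?_ ?_ ?_ ?_
  · show toList (1 : Equiv.Perm GolayPt) = cert.e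
    rw [toList_one]; decide +kernel
  · rw [CfsgLib.FusionMathieu.card_M11]; rfl
  · rw [CfsgLib.FusionMathieu.card_M11]; rfl
  all_goals decide +kernel

end CfsgLib.Recog.CommutingGraph.MEleven
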