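import Mathlib
import Cfsg.Agent.Lib.Recog.CommutingGraphAut

/-!
A group with the commuting graph of a group `G` is `G`, when a class of involutions `T` of `G` is
cut out by its centraliser order and the graph on `T` has at most `2|G|` automorphisms; the
hypotheses are tested on an encoding of `G` by lists.
-/

set_option autoImplicit false
set_option linter.style.haveILetI false

namespace CfsgLib.Recog.CommutingGraph

open scoped commutatorElement

/-- Everything the check needs. -/
structure Cert where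
  N : ℕ
  c : ℕ
  a : ℕ
  m : ℕ
  e : List ℕ
  t : List ℕ
  gens : List (List ℕ)
  cls : List (List ℕ)
  perms : List (List ℕ)
  par : List (ℕ × ℕ)
  prog : List (ℕ × ℕ)
  cent : List ℕ
  syl : List ℕ
  table : ℕ
  base : List ℕ
  steps : List (ℕ × List ℕ)
  comms : List (ℕ × ℕ)
  ginv : List ℕ

/-- The elements produced by the straight line program. -/
def runOps (op : List ℕ → List ℕ → List ℕ) : List (ℕ × ℕ) → List (List ℕ) → List (List ℕ)
  | [], acc => acc
  | (a, b) :: r, acc => runOps op r (acc ++ [op (acc.getD a []) (acc.getD b [])])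

namespace Cert

variable (op : List ℕ → List ℕ → List ℕ) (d : Cert)

def stack : List (List ℕ) := runOps op d.prog d.gens

def kList : List (List ℕ) := d.cent.map fun i => (d.stack op).getD i []

def sList : List (List ℕ) := d.syl.map fun i => (d.kList op).getD i []

def perm (s i : ℕ) : ℕ := (d.perms.getD s []).getD i 0

def progOk : Bool :=
  let rec go : List (ℕ × ℕ) → ℕ → Bool
    | [], _ => true
    | (a, b) :: r, n => Nat.blt a n && Nat.blt b n && go r (n + 1)
  go d.prog d.gens.length

def chkShape : Bool :=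
  d.progOk && d.cent.all (fun i => Nat.blt i (d.stack op).length) &&
    d.syl.all (fun i => Nat.blt i d.cent.length) &&
    Nat.beq d.cls.length d.N && Nat.blt 0 d.N && (d.cls.getD 0 [] == d.t) && !(d.t == d.e) &&
    decide d.cls.Nodup && decide (d.kList op).Nodup && Nat.beq d.cent.length d.c &&
    decide (d.sList op).Nodup && Nat.beq d.syl.length (2 ^ d.a) && d.base.all (fun b => Nat.blt b d.N) &&
    !d.base.isEmpty && Nat.beq (d.c % 2 ^ d.a) 0 && Nat.beq (d.m % 2) 1

def chkPar : Bool :=
  (List.range (d.N - 1)).all fun j =>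
    Nat.ble (d.par.getD j (0, 0)).1 j && Nat.blt (d.par.getD j (0, 0)).2 d.gens.length &&
      Nat.beq (d.perm (d.par.getD j (0, 0)).2 (d.par.getD j (0, 0)).1) (j + 1)

def chkPerm : Bool :=
  (List.range d.gens.length).all fun s => (List.range d.N).all fun i =>
    Nat.blt (d.perm s i) d.N && Nat.blt (d.ginv.getD s 0) d.gens.length &&
      (op (d.gens.getD s []) (d.gens.getD (d.ginv.getD s 0) []) == d.e) &&
      (op (op (d.gens.getD s []) (d.cls.getD i [])) (d.gens.getD (d.ginv.getD s 0) []) ==
        d.cls.getD (d.perm s i) [])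

def chkEquiv : Bool :=
  (List.range d.gens.length).all fun s => (List.range d.N).all fun i => (List.range d.N).all fun j =>
    Nat.beq (colour d.N d.table (d.perm s i) (d.perm s j)) (colour d.N d.table i j)

def chkRow : Bool :=
  (List.range d.N).all fun j =>
    Nat.beq (colour d.N d.table 0 j) (colourSpec d.N d.table 0 j) &&
      (adj d.N d.table 0 j ==
        (!(Nat.beq 0 j) && (op d.t (d.cls.getD j []) == op (d.cls.getD j []) d.t)))

def chkCent : Bool :=
  (d.kList op).all fun x => op x d.t == op d.t x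

def chkSyl : Bool :=
  let S := d.sList op
  S.contains d.t && S.contains d.e && S.all (fun x => S.all fun y => S.contains (op x y)) &&
    (d.kList op).all fun x => x == d.e || x == d.t || !(S.all fun y => op x y == op y x)

def chkSep : Bool :=
  (d.kList op).all fun x => x == d.e || !(d.cls.all fun y => op x y == op y x)

def chkAut : Bool :=
  closes d.N d.table d.steps d.base &&
    Nat.ble (d.N * (extend d.N d.table d.base d.base.length).length) (2 * (2 ^ d.a * d.m))

def chkPerfect : Bool :=
  let St := d.stack op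
  Nat.beq d.comms.length d.gens.length && (List.range d.gens.length).all fun s =>
    let x := St.getD (d.comms.getD s (0, 0)).1 []
    let y := St.getD (d.comms.getD s (0, 0)).2 []
    Nat.blt (d.comms.getD s (0, 0)).1 St.length && Nat.blt (d.comms.getD s (0, 0)).2 St.length &&
      (op (d.gens.getD s []) (op y x) == op x y)

end Cert

universe u v

variable {G : Type u} [Group G]

/-- An encoding by lists. -/
structure Enc (G : Type u) [Group G] (op : List ℕ → List ℕ → List ℕ) where
  enc : G → List ℕ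
  inj : Function.Injective enc
  mul : ∀ x y : G, enc (x * y) = op (enc x) (enc y)

theorem inImg_runOps {op : List ℕ → List ℕ → List ℕ} (E : Enc G op) (H : Subgroup G) :
    ∀ (P : List (ℕ × ℕ)) (acc : List (List ℕ)), Cert.progOk.go P acc.length = true →
      (∀ l ∈ acc, ∃ g ∈ H, E.enc g = l) → ∀ l ∈ runOps op P acc, ∃ g ∈ H, E.enc g = l := by
  intro P
  induction P with
  | nil => intro acc _ h; exact h
  | cons x r ih =>
    obtain ⟨a, b⟩ := x
    intro acc hok h
    simp only [Cert.progOk.go, Bool.and_eq_true] at hok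
    obtain ⟨⟨ha, hb⟩, hr⟩ := hok
    have ha' : a < acc.length := by simpa using ha
    have hb' : b < acc.length := by simpa using hb
    refine ih _ (by rw [List.length_append]; exact hr) fun l hl => ?_
    rcases List.mem_append.1 hl with h1 | h1
    · exact h l h1
    · rw [List.mem_singleton] at h1
      obtain ⟨g, hg, hge⟩ := h _ (List.getElem_mem ha')
      obtain ⟨k, hk, hke⟩ := h _ (List.getElem_mem hb')
      refine ⟨g * k, mul_mem hg hk, ?_⟩
      rw [h1, E.mul, hge, hke, List.getD_eq_getElem _ _ ha', List.getD_eq_getElem _ _ hb']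

theorem conj_mem {X : Type*} [Group X] {N c : ℕ} {U : Fin N → X}
    (h : ∀ x : X, x ∈ Set.range U ↔ x ≠ 1 ∧ Nat.card (Subgroup.centralizer ({x} : Set X)) = c)
    (g : X) (i : Fin N) :
    g * U i * g⁻¹ ≠ 1 ∧ Nat.card (Subgroup.centralizer ({g * U i * g⁻¹} : Set X)) = c := by
  obtain ⟨h1, h2⟩ := (h (U i)).1 ⟨i, rfl⟩
  refine ⟨fun e => h1 (conj_eq_one_iff.1 e), ?_⟩
  rw [← h2]
  refine Nat.card_congr (Equiv.subtypeEquiv (MulAut.conj g⁻¹).toEquiv fun z => ?_)
  rw [Subgroup.mem_centralizer_singleton_iff, Subgroup.mem_centralizer_singleton_iff,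
    MulEquiv.toEquiv_eq_coe, EquivLike.coe_coe, MulAut.conj_apply, inv_inv]
  constructor <;> intro h
  · calc g⁻¹ * z * g * U i = g⁻¹ * (z * (g * U i * g⁻¹)) * g := by group
      _ = g⁻¹ * (g * U i * g⁻¹ * z) * g := by rw [h]
      _ = U i * (g⁻¹ * z * g) := by group
  · calc z * (g * U i * g⁻¹) = g * ((g⁻¹ * z * g) * U i) * g⁻¹ := by group
      _ = g * (U i * (g⁻¹ * z * g)) * g⁻¹ := by rw [h]
      _ = g * U i * g⁻¹ * z := by group

/-- Conjugation on a stable family gives a faithful action by automorphisms of its graph. -/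
theorem conjHom_injective {X : Type*} [Group X] {N M : ℕ} (U : Fin N → X)
    (hU : Function.Injective U) (hstab : ∀ g i, g * U i * g⁻¹ ∈ Set.range U)
    (hadj : ∀ i j : Fin N, adj N M i j = true ↔ i ≠ j ∧ Commute (U i) (U j))
    (hsep : ∀ x : X, (∀ i, Commute x (U i)) → x = 1) :
    ∃ φ : X →* autGraph N M, Function.Injective φ := by
  choose π hπ using hstab
  have hmul : ∀ g h i, π (g * h) i = π g (π h i) := fun g h i => hU (by
    rw [hπ, hπ, hπ]; group)
  have hone : ∀ i, π 1 i = i := fun i => hU (by rw [hπ]; group)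
  let e : X → Equiv.Perm (Fin N) := fun g =>
    ⟨π g, π g⁻¹, fun i => by rw [← hmul, inv_mul_cancel, hone],
      fun i => by rw [← hmul, mul_inv_cancel, hone]⟩
  have hmem : ∀ g, e g ∈ autGraph N M := by
    intro g i j
    rw [Bool.eq_iff_iff, hadj, hadj]
    refine and_congr (e g).injective.ne_iff ?_
    show Commute (U (π g i)) (U (π g j)) ↔ _
    rw [hπ, hπ]
    refine ⟨fun h => ?_, fun h => h.conj g⟩
    have := h.conj g⁻¹
    simpa [mul_assoc] using this
  refine ⟨{ toFun := fun g => ⟨e g, hmem g⟩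
            map_one' := Subtype.ext (Equiv.ext hone)
            map_mul' := fun g h => Subtype.ext (Equiv.ext (hmul g h)) }, ?_⟩
  rw [injective_iff_map_eq_one]
  intro g hg
  refine hsep g fun i => ?_
  have h : π g i = i := DFunLike.congr_fun (congrArg Subtype.val hg) i
  have := hπ g i
  rw [h] at this
  exact (mul_inv_eq_iff_eq_mul.1 this.symm)

/-- What the checks give. -/
structure Facts (G : Type u) [Group G] (N c M : ℕ) where
  T : Fin N → G
  inj : Function.Injective T
  range_iff : ∀ g : G, g ∈ Set.range T ↔ g ≠ 1 ∧ Nat.card (Subgroup.centralizer ({g} : Set G)) = c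
  sep : ∀ g : G, (∀ i, Commute g (T i)) → g = 1
  adj_iff : ∀ i j : Fin N, adj N M i j = true ↔ i ≠ j ∧ Commute (T i) (T j)
  card_aut : Nat.card (autGraph N M) ≤ 2 * Nat.card G
  perfect : commutator G = ⊤

/-- The checks give the facts. -/
theorem facts_of_checks [Finite G] {op : List ℕ → List ℕ → List ℕ} (E : Enc G op) (d : Cert)
    (hone : E.enc 1 = d.e) (hgens : ∀ l ∈ d.gens, ∃ g : G, E.enc g = l)
    (hcard : Nat.card G = d.N * d.c) (hcard2 : Nat.card G = 2 ^ d.a * d.m)
    (h1 : d.chkShape op = true) (h2 : d.chkPar = true) (h3 : d.chkPerm op = true)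
    (h4 : d.chkEquiv = true) (h5 : d.chkRow op = true) (h6 : d.chkCent op = true)
    (h7 : d.chkSyl op = true) (h8 : d.chkSep op = true) (h9 : d.chkAut = true)
    (h10 : d.chkPerfect op = true) :
    Nonempty (Facts G d.N d.c d.table) := by
  classical
  set N := d.N with hN
  set M := d.table with hM
  simp only [Cert.chkShape, Bool.and_eq_true, decide_eq_true_eq, Bool.not_eq_true',
    List.all_eq_true, beq_iff_eq, beq_eq_false_iff_ne] at h1
  obtain ⟨⟨⟨⟨⟨⟨⟨⟨⟨⟨⟨⟨⟨⟨⟨hok, hcentlt⟩, hsyllt⟩, hlen⟩, hN0⟩, ht0⟩, hte⟩, hclsnd⟩, hknd⟩, hclen⟩,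
    hsnd⟩, hslen⟩, hblt⟩, hbne⟩, hcmod⟩, hmodd⟩ := h1
  have hlen' : d.cls.length = N := Nat.eq_of_beq_eq_true hlen
  have hclen' : d.cent.length = d.c := Nat.eq_of_beq_eq_true hclen
  have hslen' : d.syl.length = 2 ^ d.a := Nat.eq_of_beq_eq_true hslen
  have hN0' : 0 < N := by simpa using hN0
  set H := Subgroup.closure {g : G | E.enc g ∈ d.gens} with hH
  have hstack : ∀ l ∈ d.stack op, ∃ g ∈ H, E.enc g = l := by
    refine inImg_runOps E H d.prog d.gens hok fun l hl => ?_
    obtain ⟨g, hg⟩ := hgens l hl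
    exact ⟨g, Subgroup.subset_closure (show E.enc g ∈ d.gens from hg ▸ hl), hg⟩
  have hk : ∀ l ∈ d.kList op, ∃ g ∈ H, E.enc g = l := by
    intro l hl
    obtain ⟨i, hi, rfl⟩ := List.mem_map.1 hl
    have hi' : i < (d.stack op).length := by simpa using hcentlt i hi
    rw [List.getD_eq_getElem _ _ hi']
    exact hstack _ (List.getElem_mem hi')
  have hs : ∀ l ∈ d.sList op, l ∈ d.kList op := by
    intro l hl
    obtain ⟨i, hi, rfl⟩ := List.mem_map.1 hl
    have hi' : i < (d.kList op).length := by
      rw [Cert.kList, List.length_map]; simpa using hsyllt i hi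
    rw [List.getD_eq_getElem _ _ hi']
    exact List.getElem_mem hi'
  simp only [Cert.chkSyl, Bool.and_eq_true, List.all_eq_true, Bool.or_eq_true, beq_iff_eq,
    List.contains_iff_mem, Bool.not_eq_true', List.all_eq_false] at h7
  obtain ⟨⟨⟨hSt, hSe⟩, hSmul⟩, hSK⟩ := h7
  obtain ⟨t, -, ht⟩ := hk _ (hs _ hSt)
  have hcomm : ∀ x y : G, Commute x y ↔ op (E.enc x) (E.enc y) = op (E.enc y) (E.enc x) := by
    intro x y
    rw [← E.mul, ← E.mul]
    exact ⟨fun h => congrArg E.enc h.eq, fun h => E.inj h⟩
  -- the generators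
  have hgen : ∀ s < d.gens.length, ∃ g ∈ H, E.enc g = d.gens.getD s [] := by
    intro s hs
    rw [List.getD_eq_getElem _ _ hs]
    obtain ⟨g, hg⟩ := hgens _ (List.getElem_mem hs)
    exact ⟨g, Subgroup.subset_closure (show E.enc g ∈ d.gens from hg ▸ List.getElem_mem hs), hg⟩
  simp only [Cert.chkPerm, List.all_eq_true, List.mem_range, Bool.and_eq_true, beq_iff_eq] at h3
  have hstep : ∀ s < d.gens.length, ∀ (g x : G) (i : ℕ), i < N → E.enc g = d.gens.getD s [] →
      E.enc x = d.cls.getD i [] → E.enc (g * x * g⁻¹) = d.cls.getD (d.perm s i) [] := by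
    intro s hs g x i hi hg hx
    obtain ⟨⟨⟨-, hlt⟩, heq1⟩, heq⟩ := h3 s hs i hi
    have hlt' : d.ginv.getD s 0 < d.gens.length := by simpa using hlt
    obtain ⟨g', -, hg'⟩ := hgen _ hlt'
    have hgg : g * g' = 1 := E.inj (by rw [E.mul, hg, hg', heq1, hone])
    rw [inv_eq_of_mul_eq_one_right hgg, E.mul, E.mul, hg, hx, hg', heq]
  simp only [Cert.chkPar, List.all_eq_true, List.mem_range, Bool.and_eq_true] at h2
  have hreach : ∀ j, ∀ k ≤ j, k < N → ∃ g ∈ H, E.enc (g * t * g⁻¹) = d.cls.getD k [] := by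
    intro j
    induction j with
    | zero => intro k hk _; exact ⟨1, one_mem H, by rw [Nat.le_zero.1 hk, ht0, ← ht]; simp⟩
    | succ j ih =>
      intro k hk hkN
      rcases Nat.lt_or_ge k (j + 1) with h | h
      · exact ih k (by omega) hkN
      · obtain rfl : k = j + 1 := by omega
        obtain ⟨⟨hp1, hp2⟩, hp3⟩ := h2 j (by omega)
        have hp1' : (d.par.getD j (0, 0)).1 ≤ j := by simpa using hp1
        have hp2' : (d.par.getD j (0, 0)).2 < d.gens.length := by simpa using hp2
        obtain ⟨y, hy, hye⟩ := ih _ hp1' (by omega)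
        obtain ⟨g', hg'H, hg'⟩ := hgen _ hp2'
        refine ⟨g' * y, mul_mem hg'H hy, ?_⟩
        rw [← Nat.eq_of_beq_eq_true hp3, ← hstep _ hp2' g' _ _ (by omega) hg' hye]
        congr 1
        group
  choose c₀ hc₀H hc₀ using fun i : Fin N => hreach i i le_rfl i.2
  set T : Fin N → G := fun i => c₀ i * t * (c₀ i)⁻¹ with hTdef
  have hTe : ∀ i, E.enc (T i) = d.cls.getD i [] := hc₀
  have hTinj : Function.Injective T := by
    intro i j h
    have h' := congrArg E.enc h
    rw [hTe, hTe, List.getD_eq_getElem _ _ (by omega), List.getD_eq_getElem _ _ (by omega)] at h'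
    exact Fin.ext ((hclsnd.getElem_inj_iff).1 h')
  -- the centraliser of `t`
  simp only [Cert.chkCent, List.all_eq_true, beq_iff_eq] at h6
  have hKlen : (d.kList op).length = d.c := by rw [Cert.kList, List.length_map, hclen']
  choose kG hkGH hkG using fun i : Fin (d.kList op).length => hk _ (List.getElem_mem i.2)
  have hkinj : Function.Injective kG := by
    intro i j h
    have h' := congrArg E.enc h
    rw [hkG, hkG] at h'
    exact Fin.ext ((hknd.getElem_inj_iff).1 h')
  have hkcomm : ∀ i, Commute (kG i) t := by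
    intro i
    rw [hcomm, hkG, ht]
    exact h6 _ (List.getElem_mem i.2)
  -- counting inside a subgroup containing the witnesses
  have count : ∀ U : Subgroup G, (∀ i, kG i ∈ U) → (∀ i, c₀ i ∈ U) →
      U = ⊤ ∧ Nat.card (Subgroup.centralizer ({t} : Set G) ⊓ U : Subgroup G) = d.c ∧
        ∀ g ∈ U, ∃ i, g * t * g⁻¹ = T i := by
    intro U hU1 hU2
    set C := Subgroup.centralizer ({t} : Set G) ⊓ U with hC
    have hCge : d.c ≤ Nat.card C := by
      rw [← hKlen, ← Nat.card_fin (d.kList op).length]
      exact Nat.card_le_card_of_injective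
        (fun i => (⟨kG i, Subgroup.mem_centralizer_singleton_iff.2 (hkcomm i).eq, hU1 i⟩ : C))
        fun i j h => hkinj (congrArg Subtype.val h)
    -- `U ⊇ ⊔ cosets c₀ i * C`
    let φ : Fin N × C → U := fun x =>
      ⟨c₀ x.1 * (x.2 : G), mul_mem (hU2 x.1) x.2.2.2⟩
    have hφ : Function.Injective φ := by
      rintro ⟨i, x⟩ ⟨j, y⟩ h
      have h' : c₀ i * (x : G) = c₀ j * y := congrArg Subtype.val h
      have hT : ∀ (i : Fin N) (x : C), (c₀ i * (x : G)) * t * (c₀ i * (x : G))⁻¹ = T i := by
        intro i x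
        have hx : (x : G) * t = t * x := Subgroup.mem_centralizer_singleton_iff.1 x.2.1
        calc (c₀ i * (x : G)) * t * (c₀ i * (x : G))⁻¹
            = c₀ i * ((x : G) * t) * (x : G)⁻¹ * (c₀ i)⁻¹ := by group
          _ = T i := by rw [hx, hTdef]; group
      obtain rfl : i = j := hTinj (by rw [← hT i x, h', hT j y])
      exact Prod.ext rfl (Subtype.ext (mul_left_cancel h'))
    have hle := Nat.card_le_card_of_injective φ hφ
    rw [Nat.card_prod, Nat.card_fin] at hle
    have hUle : Nat.card U ≤ Nat.card G := Subgroup.card_le_card_group U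
    have hge : N * d.c ≤ N * Nat.card C := Nat.mul_le_mul_left _ hCge
    have hUc : Nat.card U = Nat.card G := by omega
    have hCc : Nat.card C = d.c := Nat.eq_of_mul_eq_mul_left hN0' (by omega)
    refine ⟨Subgroup.eq_top_of_card_eq U hUc, hCc, fun g hg => ?_⟩
    obtain ⟨⟨i, x⟩, hix⟩ := ((Nat.bijective_iff_injective_and_card φ).2
      ⟨hφ, by rw [Nat.card_prod, Nat.card_fin, hCc]; omega⟩).2 ⟨g, hg⟩
    have hx : (x : G) * t = t * x := Subgroup.mem_centralizer_singleton_iff.1 x.2.1
    refine ⟨i, ?_⟩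
    rw [← show c₀ i * (x : G) = g from congrArg Subtype.val hix]
    calc (c₀ i * (x : G)) * t * (c₀ i * (x : G))⁻¹
        = c₀ i * ((x : G) * t) * (x : G)⁻¹ * (c₀ i)⁻¹ := by group
      _ = T i := by rw [hx, hTdef]; group
  have hHtop : H = ⊤ := (count H hkGH hc₀H).1
  obtain ⟨-, hCcard, horbit⟩ := count ⊤ (fun _ => Subgroup.mem_top _) fun _ => Subgroup.mem_top _
  rw [inf_top_eq] at hCcard
  set C := Subgroup.centralizer ({t} : Set G) with hC
  have hCmem : ∀ g : G, Commute g t → E.enc g ∈ d.kList op := by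
    intro g hg
    obtain ⟨i, hi⟩ := ((Nat.bijective_iff_injective_and_card
      (fun i => (⟨kG i, Subgroup.mem_centralizer_singleton_iff.2 (hkcomm i).eq⟩ : C))).2
      ⟨fun i j h => hkinj (congrArg Subtype.val h), by rw [Nat.card_fin, hKlen, hCcard]⟩).2
      ⟨g, Subgroup.mem_centralizer_singleton_iff.2 hg.eq⟩
    have e : kG i = g := congrArg Subtype.val hi
    rw [← e, hkG i]
    exact List.getElem_mem i.2
  -- `t` is not `1`
  have htne : t ≠ 1 := fun e => hte (by rw [← hone, ← e, ht])
  have hconjcard : ∀ g y : G,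
      Nat.card (Subgroup.centralizer ({g * y * g⁻¹} : Set G)) =
        Nat.card (Subgroup.centralizer ({y} : Set G)) := by
    intro g y
    refine Nat.card_congr (Equiv.subtypeEquiv (MulAut.conj g⁻¹).toEquiv fun z => ?_)
    rw [Subgroup.mem_centralizer_singleton_iff, Subgroup.mem_centralizer_singleton_iff,
      MulEquiv.toEquiv_eq_coe, EquivLike.coe_coe, MulAut.conj_apply, inv_inv]
    constructor <;> intro h
    · calc g⁻¹ * z * g * y = g⁻¹ * (z * (g * y * g⁻¹)) * g := by group
        _ = g⁻¹ * (g * y * g⁻¹ * z) * g := by rw [h]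
        _ = y * (g⁻¹ * z * g) := by group
    · calc z * (g * y * g⁻¹) = g * ((g⁻¹ * z * g) * y) * g⁻¹ := by group
        _ = g * (y * (g⁻¹ * z * g)) * g⁻¹ := by rw [h]
        _ = g * y * g⁻¹ * z := by group
  -- the Sylow subgroup inside `C`
  haveI : Fact (Nat.Prime 2) := ⟨Nat.prime_two⟩
  have hSlen : (d.sList op).length = 2 ^ d.a := by rw [Cert.sList, List.length_map, hslen']
  let Sm : Submonoid G :=
    { carrier := {g | E.enc g ∈ d.sList op}
      one_mem' := by simp only [Set.mem_setOf_eq]; rw [hone]; exact hSe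
      mul_mem' := fun {x y} hx hy => by
        simp only [Set.mem_setOf_eq] at hx hy ⊢
        rw [E.mul]; exact hSmul _ hx _ hy }
  let S : Subgroup G :=
    { Sm with
      inv_mem' := fun {x} hx => by
        show x⁻¹ ∈ Sm
        rw [inv_eq_of_mul_eq_one_right (show x * x ^ (orderOf x - 1) = 1 by
          rw [← pow_succ', Nat.sub_add_cancel (orderOf_pos x), pow_orderOf_eq_one])]
        exact pow_mem hx _ }
  have hSmem : ∀ g : G, g ∈ S ↔ E.enc g ∈ d.sList op := fun g => Iff.rfl
  choose sG hsG using fun i : Fin (d.sList op).length =>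
    (hk _ (hs _ (List.getElem_mem i.2))).imp fun g h => h.2
  have hScard : Nat.card S = 2 ^ d.a := by
    rw [← hSlen, ← Nat.card_fin (d.sList op).length]
    refine (Nat.card_congr (Equiv.ofBijective
      (fun i => (⟨sG i, (hSmem _).2 (hsG i ▸ List.getElem_mem i.2)⟩ : S)) ⟨?_, ?_⟩)).symm
    · intro i j h
      have h' := congrArg (fun z : S => E.enc (z : G)) h
      simp only [hsG] at h'
      exact Fin.ext ((hsnd.getElem_inj_iff).1 h')
    · rintro ⟨g, hg⟩
      obtain ⟨i, hi, hie⟩ := List.getElem_of_mem ((hSmem g).1 hg)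
      exact ⟨⟨i, hi⟩, Subtype.ext (E.inj ((hsG _).trans hie))⟩
  have hm2 : ¬ 2 ∣ d.m := by
    intro h
    have := Nat.eq_of_beq_eq_true hmodd
    omega
  have hfac : (Nat.card G).factorization 2 = d.a := by
    rw [hcard2, Nat.factorization_mul (by positivity) (by rintro e; exact hm2 (e ▸ dvd_zero 2)),
      Finsupp.add_apply, Nat.prime_two.factorization_pow, Finsupp.single_eq_same,
      Nat.factorization_eq_zero_of_not_dvd hm2, add_zero]
  set SP : Sylow 2 G := Sylow.ofCard S (by rw [hScard, hfac]) with hSP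
  -- an element with centraliser of order `c`
  have hcdvd : 2 ^ d.a ∣ d.c := Nat.dvd_of_mod_eq_zero (Nat.eq_of_beq_eq_true hcmod)
  have hrange : ∀ g : G, g ∈ Set.range T ↔
      g ≠ 1 ∧ Nat.card (Subgroup.centralizer ({g} : Set G)) = d.c := by
    intro g
    constructor
    · rintro ⟨i, rfl⟩
      exact ⟨fun e => htne (conj_eq_one_iff.1 e), by rw [hTdef, hconjcard, hCcard]⟩
    · rintro ⟨hg1, hgc⟩
      obtain ⟨Q, hQ⟩ := Sylow.exists_subgroup_card_pow_prime 2 (n := d.a)
        (G := Subgroup.centralizer ({g} : Set G)) (hgc ▸ hcdvd)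
      set Q' := Q.map (Subgroup.centralizer ({g} : Set G)).subtype with hQ'
      have hQ'c : Nat.card Q' = 2 ^ d.a :=
        (Subgroup.card_map_of_injective (Subgroup.subtype_injective _)).trans hQ
      obtain ⟨x, hx⟩ := MulAction.exists_smul_eq G (Sylow.ofCard Q' (by rw [hQ'c, hfac])) SP
      have hall : ∀ y ∈ S, Commute (x * g * x⁻¹) y := by
        intro y hy
        have hy' : y ∈ ((x • (Sylow.ofCard Q' (by rw [hQ'c, hfac]) : Sylow 2 G) : Sylow 2 G) :
            Subgroup G) := by rw [hx]; exact hy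
        obtain ⟨z, hz, hzy⟩ := hy'
        obtain ⟨⟨w, hw⟩, -, rfl⟩ := hz
        have hwg : w * g = g * w := Subgroup.mem_centralizer_singleton_iff.1 hw
        have hy2 : x * w * x⁻¹ = y := hzy
        show x * g * x⁻¹ * y = y * (x * g * x⁻¹)
        rw [← hy2]
        calc x * g * x⁻¹ * (x * w * x⁻¹) = x * (g * w) * x⁻¹ := by group
          _ = x * (w * g) * x⁻¹ := by rw [hwg]
          _ = x * w * x⁻¹ * (x * g * x⁻¹) := by group
      have htS : t ∈ S := (hSmem t).2 (ht ▸ hSt)
      have hxt : x * g * x⁻¹ = t := by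
        rcases hSK _ (hCmem _ (hall t htS)) with (h | h) | ⟨y, hy, hne⟩
        · exact absurd (conj_eq_one_iff.1 (E.inj (h.trans hone.symm))) hg1
        · exact E.inj (h.trans ht.symm)
        · exfalso
          obtain ⟨w, -, rfl⟩ := hk _ (hs _ hy)
          have := (hcomm _ _).1 (hall w ((hSmem w).2 hy))
          simp [this] at hne
      obtain ⟨i, hi⟩ := horbit x⁻¹ (Subgroup.mem_top _)
      exact ⟨i, by rw [← hi, ← hxt]; group⟩
  -- separation
  simp only [Cert.chkSep, List.all_eq_true, Bool.or_eq_true, beq_iff_eq, Bool.not_eq_true',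
    List.all_eq_false] at h8
  have hT0 : T ⟨0, hN0'⟩ = t := E.inj (by rw [hTe, ht0, ht])
  have hsep : ∀ g : G, (∀ i, Commute g (T i)) → g = 1 := by
    intro g hg
    rcases h8 _ (hCmem g (hT0 ▸ hg ⟨0, hN0'⟩)) with h | ⟨y, hy, hne⟩
    · exact E.inj (h.trans hone.symm)
    · exfalso
      obtain ⟨i, hi, rfl⟩ := List.getElem_of_mem hy
      have h' := (hcomm _ _).1 (hg ⟨i, by omega⟩)
      rw [hTe, List.getD_eq_getElem _ _ hi] at h'
      simp [h'] at hne
  -- the generators permute the class and the colours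
  simp only [Cert.chkEquiv, List.all_eq_true, List.mem_range] at h4
  simp only [Cert.chkRow, List.all_eq_true, List.mem_range, Bool.and_eq_true, beq_iff_eq] at h5
  have hprop : ∀ j, ∀ k ≤ j, ∀ hkN : k < N, ∀ i : Fin N,
      colour N M k i = colourSpec N M k i ∧
        (adj N M k i = true ↔ (⟨k, hkN⟩ : Fin N) ≠ i ∧ Commute (T ⟨k, hkN⟩) (T i)) := by
    intro j
    induction j with
    | zero =>
      intro k hk hkN i
      obtain rfl := Nat.le_zero.1 hk
      refine ⟨Nat.eq_of_beq_eq_true (h5 i i.2).1, ?_⟩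
      rw [(h5 i i.2).2, hcomm, hTe, hTe, ht0, Bool.and_eq_true, Bool.not_eq_true',
        beq_iff_eq, Ne, Fin.ext_iff]
      refine and_congr ⟨fun h e => ?_, fun h => ?_⟩ Iff.rfl
      · rw [show (i : ℕ) = 0 from e.symm] at h; simp at h
      · exact Bool.eq_false_iff.2 fun e => h (Nat.eq_of_beq_eq_true e)
    | succ j ih =>
      intro k hk hkN i
      rcases Nat.lt_or_ge k (j + 1) with h | h
      · exact ih k (by omega) hkN i
      obtain rfl : k = j + 1 := by omega
      obtain ⟨⟨hp1, hp2⟩, hp3⟩ := h2 j (by omega)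
      set s := (d.par.getD j (0, 0)).2
      set p := (d.par.getD j (0, 0)).1
      have hp1' : p ≤ j := by simpa using hp1
      have hp2' : s < d.gens.length := by simpa using hp2
      obtain ⟨g, -, hg⟩ := hgen _ hp2'
      let π : Fin N → Fin N := fun i =>
        ⟨d.perm s i, by simpa using (h3 s hp2' i i.2).1.1.1⟩
      have hπT : ∀ i, T (π i) = g * T i * g⁻¹ := fun i =>
        E.inj ((hTe (π i)).trans (hstep s hp2' g (T i) i i.2 hg (hTe i)).symm)
      have hπ : Function.Bijective π := Finite.injective_iff_bijective.1 fun a b e => hTinj (by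
        have := congrArg T e
        rw [hπT, hπT] at this
        exact mul_left_cancel (mul_right_cancel this))
      have hcol : ∀ a b : Fin N, colour N M (π a) (π b) = colour N M a b := fun a b =>
        Nat.eq_of_beq_eq_true (h4 s hp2' a a.2 b b.2)
      have hπA : Equiv.ofBijective π hπ ∈ autGraph N M := fun a b => by
        show adj N M (π a) (π b) = adj N M a b
        simp only [adj, hcol]
      obtain ⟨i', rfl⟩ := hπ.2 i
      have hk' : (⟨j + 1, hkN⟩ : Fin N) = π ⟨p, by omega⟩ :=
        Fin.ext (Nat.eq_of_beq_eq_true hp3).symm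
      obtain ⟨e1, e2⟩ := ih p hp1' (by omega) i'
      rw [hk']
      have e1' : colour N M (π ⟨p, by omega⟩) (π i') = colourSpec N M (π ⟨p, by omega⟩) (π i') := by
        rw [hcol]
        refine e1.trans ?_
        exact (colourSpec_inv hπA ⟨p, by omega⟩ i').symm
      refine ⟨by rw [show (j + 1 : ℕ) = (π ⟨p, by omega⟩ : ℕ) from congrArg Fin.val hk']; exact e1', ?_⟩
      have e3 : adj N M (j + 1) (π i') = adj N M p i' := by
        rw [show (j + 1 : ℕ) = (π ⟨p, by omega⟩ : ℕ) from congrArg Fin.val hk']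
        exact hπA ⟨p, by omega⟩ i'
      rw [e3, e2, hπT, hπT]
      refine and_congr hπ.1.ne_iff.symm ⟨fun h => h.conj g, fun h => ?_⟩
      have := h.conj g⁻¹
      simpa [mul_assoc] using this
  have hcol : ∀ i j : Fin N, colour N M i j = colourSpec N M i j := fun i j =>
    (hprop i i le_rfl i.2 j).1
  refine ⟨⟨T, hTinj, hrange, hsep, fun i j => (hprop i i le_rfl i.2 j).2, ?_, ?_⟩⟩
  · simp only [Cert.chkAut, Bool.and_eq_true, Nat.ble_eq] at h9
    rw [hcard2]
    refine (card_autGraph_le hcol d.base ?_ (List.all_eq_true.2 hblt) d.steps h9.1).trans h9.2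
    intro e; rw [e] at hbne; simp at hbne
  · simp only [Cert.chkPerfect, Bool.and_eq_true, List.all_eq_true, List.mem_range,
      beq_iff_eq] at h10
    rw [eq_top_iff, ← hHtop, hH, Subgroup.closure_le]
    intro g hg
    obtain ⟨s, hs', hse⟩ := List.getElem_of_mem (show E.enc g ∈ d.gens from hg)
    obtain ⟨⟨ha, hb⟩, heq⟩ := h10.2 s hs'
    have ha' : (d.comms.getD s (0, 0)).1 < (d.stack op).length := by simpa using ha
    have hb' : (d.comms.getD s (0, 0)).2 < (d.stack op).length := by simpa using hb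
    obtain ⟨x, -, hx⟩ := hstack _ (List.getElem_mem ha')
    obtain ⟨y, -, hy⟩ := hstack _ (List.getElem_mem hb')
    rw [List.getD_eq_getElem _ _ hs', hse, List.getD_eq_getElem _ _ ha', ← hx,
      List.getD_eq_getElem _ _ hb', ← hy, ← E.mul, ← E.mul, ← E.mul] at heq
    have e : g = ⁅x, y⁆ := by
      rw [commutatorElement_def, eq_mul_inv_iff_mul_eq, eq_mul_inv_iff_mul_eq, mul_assoc]
      exact E.inj heq
    rw [SetLike.mem_coe, e]
    exact Subgroup.commutator_mem_commutator (Subgroup.mem_top x) (Subgroup.mem_top y)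

/-- A group with the commuting graph of `G` on nonidentity elements is `G`. -/
theorem iso_of_facts [Finite G] {N c M : ℕ} (F : Facts G N c M) {H : Type v} [Group H] [Finite H]
    (f : {h : H // h ≠ 1} ≃ {g : G // g ≠ 1})
    (hf : ∀ x y : {h : H // h ≠ 1}, (x : H) * y = y * x ↔ ((f x : G) * f y = f y * f x)) :
    Nonempty (H ≃* G) := by
  classical
  let F' : H ≃ G :=
    (Equiv.sumCompl fun h : H => h = 1).symm.trans
      ((Equiv.sumCongr ⟨fun _ => ⟨1, rfl⟩, fun _ => ⟨1, rfl⟩, fun x => Subtype.ext x.2.symm,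
        fun x => Subtype.ext x.2.symm⟩ f).trans (Equiv.sumCompl fun g : G => g = 1))
  have hF1 : F' 1 = 1 := by simp [F', Equiv.sumCompl_symm_apply_of_pos]
  have hFne : ∀ (x : H) (hx : x ≠ 1), F' x = f ⟨x, hx⟩ := fun x hx => by
    simp [F', Equiv.sumCompl_symm_apply_of_neg, hx]
  have hFc : ∀ x y : H, Commute x y ↔ Commute (F' x) (F' y) := by
    intro x y
    by_cases hx : x = 1
    · subst hx; simp [hF1]
    by_cases hy : y = 1
    · subst hy; simp [hF1]
    rw [hFne x hx, hFne y hy]
    exact hf ⟨x, hx⟩ ⟨y, hy⟩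
  have hFcard : ∀ x : H, Nat.card (Subgroup.centralizer ({x} : Set H)) =
      Nat.card (Subgroup.centralizer ({F' x} : Set G)) := fun x =>
    Nat.card_congr (Equiv.subtypeEquiv F' fun y => by
      rw [Subgroup.mem_centralizer_singleton_iff, Subgroup.mem_centralizer_singleton_iff]
      exact hFc y x)
  set U : Fin N → H := fun i => F'.symm (F.T i) with hU
  have hFU : ∀ i, F' (U i) = F.T i := fun i => F'.apply_symm_apply _
  have hUrange : ∀ x : H, x ∈ Set.range U ↔
      x ≠ 1 ∧ Nat.card (Subgroup.centralizer ({x} : Set H)) = c := by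
    intro x
    have hne : F' x ≠ 1 ↔ x ≠ 1 := by rw [← hF1]; exact F'.injective.ne_iff
    rw [hFcard, ← hne, ← F.range_iff (F' x)]
    constructor
    · rintro ⟨i, rfl⟩; exact ⟨i, (hFU i).symm⟩
    · rintro ⟨i, hi⟩; exact ⟨i, by rw [hU]; simp [hi]⟩
  set A := autGraph N M
  have repG := conjHom_injective F.T F.inj
    (fun g i => ((F.range_iff _).2 (conj_mem F.range_iff g i))) F.adj_iff F.sep
  have repH := conjHom_injective U (fun i j h => F.inj (by rw [← hFU i, ← hFU j, h]))
    (fun g i => ((hUrange _).2 (conj_mem hUrange g i)))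
    (fun i j => (F.adj_iff i j).trans (and_congr Iff.rfl
      (by rw [hFc, hFU, hFU])))
    (fun x hx => F'.injective (by
      rw [hF1]
      exact F.sep _ fun i => by rw [← hFU i]; exact (hFc _ _).1 (hx i)))
  obtain ⟨φ, hφ⟩ := repG
  obtain ⟨ψ, hψ⟩ := repH
  have hcard : Nat.card ψ.range = Nat.card G := by
    rw [← Nat.card_congr (MonoidHom.ofInjective hψ).toEquiv, Nat.card_congr F']
  have hsmall : ψ.range.index ≤ 2 := by
    have h1 := ψ.range.index_mul_card
    have h2 := F.card_aut
    rw [hcard] at h1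
    have h3 : 0 < Nat.card G := Nat.card_pos
    by_contra h
    have : 3 * Nat.card G ≤ ψ.range.index * Nat.card G := Nat.mul_le_mul_right _ (by omega)
    omega
  have hle : φ.range ≤ ψ.range := by
    rw [MonoidHom.range_eq_map, ← F.perfect, commutator_def, Subgroup.map_commutator,
      Subgroup.commutator_le]
    intro a _ b _
    have hpos : ψ.range.index ≠ 0 := Subgroup.index_ne_zero_of_finite
    rcases (show ψ.range.index = 1 ∨ ψ.range.index = 2 by omega) with h | h
    · rw [Subgroup.index_eq_one.1 h]; exact Subgroup.mem_top _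
    · rw [commutatorElement_def, Subgroup.mul_mem_iff_of_index_two h,
        Subgroup.mul_mem_iff_of_index_two h, Subgroup.mul_mem_iff_of_index_two h,
        inv_mem_iff, inv_mem_iff]
      tauto
  have heq : φ.range = ψ.range := Subgroup.eq_of_le_of_card_ge hle (by
    rw [hcard, ← Nat.card_congr (MonoidHom.ofInjective hφ).toEquiv])
  exact ⟨(MonoidHom.ofInjective hψ).trans
    ((MulEquiv.subgroupCongr heq.symm).trans (MonoidHom.ofInjective hφ).symm)⟩

end CfsgLib.Recog.CommutingGraph
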