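import Mathlib

/-!
Smallest groups with element orders `{1, p, q}` and a normal Sylow `p`-subgroup.
-/

set_option autoImplicit false

namespace CfsgLib.Recog.CriticalPair

/-- Element orders `{1, p, q}` and a normal `p`-subgroup of index prime to `p`. -/
def Good (p q : ℕ) (G : Type*) [Group G] : Prop :=
  Set.range (orderOf : G → ℕ) = {1, p, q} ∧
    ∃ N : Subgroup G, N.Normal ∧ IsPGroup p N ∧ ¬ p ∣ N.index

theorem Good.congr {p q : ℕ} {G G' : Type*} [Group G] [Group G'] (h : Good p q G) (e : G ≃* G') :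
    Good p q G' := by
  obtain ⟨h1, N, hN, hP, hidx⟩ := h
  refine ⟨?_, N.map e.toMonoidHom, hN.map _ e.surjective, hP.map _, ?_⟩
  · rw [← h1]
    ext n
    exact ⟨fun ⟨x, hx⟩ => ⟨e.symm x, by rw [← hx, MulEquiv.orderOf_eq]⟩,
      fun ⟨x, hx⟩ => ⟨e x, by rw [← hx, MulEquiv.orderOf_eq]⟩⟩
  · rwa [Subgroup.index_map_of_bijective e.bijective]

/-- The action of units of a ring on its additive group. -/
def unitsMulAut (K : Type*) [Ring K] : Kˣ →* MulAut (Multiplicative K) where
  toFun u :=
    { toFun := fun v => Multiplicative.ofAdd ((u : K) * v.toAdd)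
      invFun := fun v => Multiplicative.ofAdd ((u⁻¹ : Kˣ) * v.toAdd)
      left_inv := fun v => by simp
      right_inv := fun v => by simp
      map_mul' := fun v w => by simp [mul_add] }
  map_one' := by ext v; simp
  map_mul' u u' := by ext v; simp [mul_assoc]

theorem exists_good (p q : ℕ) (hp : p.Prime) (hq : q.Prime) (hpq : p ≠ q) :
    ∃ (G : Type) (_ : Group G) (_ : Finite G), Good p q G := by
  classical
  have : Fact p.Prime := ⟨hp⟩
  have : Fact q.Prime := ⟨hq⟩
  let K := GaloisField p (q - 1)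
  have hq1 : q - 1 ≠ 0 := by have := hq.two_le; omega
  have : Fintype K := Fintype.ofFinite K
  have hcard : Fintype.card K = p ^ (q - 1) := by
    rw [← Nat.card_eq_fintype_card, GaloisField.card p _ hq1]
  have hdvd : q ∣ Fintype.card Kˣ := by
    rw [Fintype.card_units, hcard]
    have := Nat.ModEq.pow_totient ((Nat.coprime_primes hp hq).2 hpq)
    rw [Nat.totient_prime hq] at this
    exact (Nat.modEq_iff_dvd' (Nat.one_le_pow _ _ hp.pos)).1 this.symm
  obtain ⟨ζ, hζ⟩ := exists_prime_orderOf_dvd_card q hdvd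
  let C : Subgroup Kˣ := Subgroup.zpowers ζ
  let G₀ := Multiplicative K ⋊[(unitsMulAut K).comp C.subtype] C
  have hfin : Finite G₀ := Finite.of_equiv _ SemidirectProduct.equivProd.symm
  refine ⟨G₀, inferInstance, hfin, ?_, (SemidirectProduct.rightHom : G₀ →* C).ker,
    inferInstance, ?_, ?_⟩
  · have hC : Nat.card C = q := by rw [Nat.card_zpowers, hζ]
    refine Set.Subset.antisymm ?_ ?_
    · rintro _ ⟨⟨v, c⟩, rfl⟩
      by_cases hc : c = 1
      · subst hc
        have h1 : orderOf (⟨v, 1⟩ : G₀) = orderOf v :=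
          orderOf_injective (SemidirectProduct.inl : Multiplicative K →* G₀)
            SemidirectProduct.inl_injective v
        have h2 : v ^ p = 1 := by
          rw [← ofAdd_toAdd v, ← ofAdd_nsmul, nsmul_eq_mul, CharP.cast_eq_zero, zero_mul]; simp
        rw [h1]
        rcases (Nat.dvd_prime hp).1 (orderOf_dvd_of_pow_eq_one h2) with h | h <;> simp [h]
      · have hne : (1 : K) - ((c : Kˣ) : K) ≠ 0 := by
          rw [sub_ne_zero]
          exact fun h => hc (Subtype.ext (Units.ext h.symm))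
        set w : Multiplicative K := Multiplicative.ofAdd (v.toAdd / (1 - ((c : Kˣ) : K)))
        have hconj : (⟨v, c⟩ : G₀) =
            SemidirectProduct.inl w * SemidirectProduct.inr c * (SemidirectProduct.inl w)⁻¹ := by
          apply SemidirectProduct.ext
          · apply Multiplicative.toAdd.injective
            rw [SemidirectProduct.mul_left, SemidirectProduct.mul_left, SemidirectProduct.mul_right,
              ← map_inv, SemidirectProduct.left_inl, SemidirectProduct.left_inl,
              SemidirectProduct.left_inr, SemidirectProduct.right_inl, SemidirectProduct.right_inr]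
            simp [w, unitsMulAut]
            have h0 := div_mul_cancel₀ v.toAdd hne
            linear_combination -h0
          · simp
        have hord : orderOf c = q :=
          orderOf_eq_prime ((congrArg (c ^ ·) hC.symm).trans pow_card_eq_one') hc
        rw [hconj, ← MulAut.conj_apply, MulEquiv.orderOf_eq,
          orderOf_injective _ SemidirectProduct.inr_injective, hord]
        simp
    · intro n hn
      simp only [Set.mem_insert_iff, Set.mem_singleton_iff] at hn
      rcases hn with h | h | h <;> rw [h]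
      · exact ⟨1, orderOf_one⟩
      · refine ⟨SemidirectProduct.inl (Multiplicative.ofAdd 1), ?_⟩
        rw [orderOf_injective _ SemidirectProduct.inl_injective, orderOf_ofAdd_eq_addOrderOf]
        exact CharP.eq K (CharP.addOrderOf_one K) inferInstance
      · refine ⟨SemidirectProduct.inr ⟨ζ, Subgroup.mem_zpowers ζ⟩, ?_⟩
        rw [orderOf_injective _ SemidirectProduct.inr_injective, Subgroup.orderOf_mk, hζ]
  · intro x
    refine ⟨1, ?_⟩
    obtain ⟨⟨v, c⟩, hx⟩ := x
    have hc : c = 1 := hx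
    subst hc
    refine Subtype.ext ?_
    have h2 : v ^ p = 1 := by
      rw [← ofAdd_toAdd v, ← ofAdd_nsmul, nsmul_eq_mul, CharP.cast_eq_zero, zero_mul]; simp
    rw [pow_one, SubmonoidClass.coe_pow, OneMemClass.coe_one]
    change (SemidirectProduct.inl v : G₀) ^ p = 1
    rw [← map_pow, h2, map_one]
  · rw [Subgroup.index_ker, MonoidHom.range_eq_top.2 SemidirectProduct.rightHom_surjective,
      Subgroup.card_top, Nat.card_zpowers, hζ]
    exact fun h => hpq ((Nat.prime_dvd_prime_iff_eq hp hq).1 h)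

/-- The data produced by minimality. -/
structure Minimal (p q : ℕ) (G : Type) [Group G] : Prop where
  good : Good p q G
  sub_eq_top : ∀ H : Subgroup G, p ∣ Nat.card H → q ∣ Nat.card H → H = ⊤
  normal_index : ∀ N : Subgroup G, N.Normal → N ≠ ⊥ → ¬ (p ∣ N.index ∧ q ∣ N.index)

theorem range_eq_of_dvd {p q : ℕ} (hp : p.Prime) (hq : q.Prime) {H : Type*} [Group H] [Finite H]
    (hsub : Set.range (orderOf : H → ℕ) ⊆ {1, p, q}) (h1 : p ∣ Nat.card H)
    (h2 : q ∣ Nat.card H) : Set.range (orderOf : H → ℕ) = {1, p, q} := by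
  have : Fact p.Prime := ⟨hp⟩
  have : Fact q.Prime := ⟨hq⟩
  refine hsub.antisymm ?_
  rintro n (rfl | rfl | rfl)
  · exact ⟨1, orderOf_one⟩
  · exact exists_prime_orderOf_dvd_card' _ h1
  · exact exists_prime_orderOf_dvd_card' _ h2

theorem exists_minimal (p q : ℕ) (hp : p.Prime) (hq : q.Prime) (hpq : p ≠ q) :
    ∃ (G : Type) (_ : Group G) (_ : Finite G), Minimal p q G := by
  classical
  let P : ℕ → Prop := fun n =>
    ∃ (G : Type) (_ : Group G) (_ : Finite G), Good p q G ∧ Nat.card G = n
  have hP : ∃ n, P n := by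
    obtain ⟨G, i1, i2, h⟩ := exists_good p q hp hq hpq
    exact ⟨_, G, i1, i2, h, rfl⟩
  obtain ⟨G, i1, i2, hG, hn⟩ := Nat.find_spec hP
  have hmin : ∀ (H : Type) [Group H] [Finite H], Good p q H → Nat.card G ≤ Nat.card H :=
    fun H _ _ hH => hn ▸ Nat.find_le (h := hP) ⟨H, inferInstance, inferInstance, hH, rfl⟩
  obtain ⟨N, hN, hNp, hidx⟩ := hG.2
  have hdvd : ∀ n ∈ ({1, p, q} : Set ℕ), n ∣ Nat.card G := by
    intro n hn'
    rw [← hG.1] at hn'
    obtain ⟨x, rfl⟩ := hn'
    exact orderOf_dvd_natCard x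
  refine ⟨G, i1, i2, ⟨hG, fun H hpH hqH => ?_, fun M hM hM1 hd => ?_⟩⟩
  · have hH : Good p q H := by
      refine ⟨range_eq_of_dvd hp hq ?_ hpH hqH, N.subgroupOf H, inferInstance,
        hNp.comap_subtype, fun hd => hidx (hd.trans ?_)⟩
      · rintro _ ⟨x, rfl⟩
        rw [← hG.1]
        exact ⟨x, Subgroup.orderOf_coe x⟩
      · exact Subgroup.relIndex_dvd_index_of_normal N H
    exact Subgroup.eq_top_of_le_card H (hmin H hH)
  · have hQ : Good p q (G ⧸ M) := by
      refine ⟨range_eq_of_dvd hp hq ?_ hd.1 hd.2, N.map (QuotientGroup.mk' M),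
        hN.map _ (QuotientGroup.mk'_surjective M), hNp.map _,
        fun h => hidx (h.trans (Subgroup.index_map_dvd N (QuotientGroup.mk'_surjective M)))⟩
      rintro _ ⟨y, rfl⟩
      obtain ⟨x, rfl⟩ := QuotientGroup.mk'_surjective M y
      have h1 := orderOf_map_dvd (QuotientGroup.mk' M) x
      have h2 : orderOf x ∈ Set.range (orderOf : G → ℕ) := ⟨x, rfl⟩
      rw [hG.1] at h2
      change orderOf (QuotientGroup.mk' M x) ∈ ({1, p, q} : Set ℕ)
      simp only [Set.mem_insert_iff, Set.mem_singleton_iff] at h2 ⊢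
      rcases h2 with h2 | h2 | h2 <;> rw [h2] at h1
      · exact Or.inl (Nat.dvd_one.1 h1)
      · rcases (Nat.dvd_prime hp).1 h1 with h | h <;> tauto
      · rcases (Nat.dvd_prime hq).1 h1 with h | h <;> tauto
    have h1 := hmin _ hQ
    have h2 := Subgroup.card_eq_card_quotient_mul_card_subgroup M
    have h3 : 1 < Nat.card M := Finite.one_lt_card_iff_nontrivial.2 (M.nontrivial_iff_ne_bot.2 hM1)
    have h4 : 0 < Nat.card (G ⧸ M) := Nat.card_pos
    have : Nat.card (G ⧸ M) * 2 ≤ Nat.card G := h2 ▸ Nat.mul_le_mul_left _ h3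
    omega

theorem not_good_both {p q : ℕ} (hp : p.Prime) (hq : q.Prime) (hpq : p ≠ q) {G : Type*} [Group G]
    [Finite G] (h1 : Good p q G) (h2 : Good q p G) : False := by
  have : Fact p.Prime := ⟨hp⟩
  have : Fact q.Prime := ⟨hq⟩
  obtain ⟨hs, N, hN, hNp, hNi⟩ := h1
  obtain ⟨-, M, hM, hMq, hMi⟩ := h2
  have key : ∀ (r : ℕ) [Fact r.Prime] (L : Subgroup G), ¬ r ∣ L.index →
      r ∈ Set.range (orderOf : G → ℕ) → ∃ x ∈ L, orderOf x = r := by
    intro r _ L hL ⟨x, hx⟩
    have hd : r ∣ Nat.card L * L.index := by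
      rw [Subgroup.card_mul_index, ← hx]; exact orderOf_dvd_natCard x
    obtain ⟨y, hy⟩ := exists_prime_orderOf_dvd_card' r
      (((Fact.out : r.Prime).dvd_mul.1 hd).resolve_right hL)
    exact ⟨y, y.2, by rw [Subgroup.orderOf_coe, hy]⟩
  obtain ⟨x, hxN, hx⟩ := key p N hNi (by rw [hs]; simp)
  obtain ⟨y, hyM, hy⟩ := key q M hMi (by rw [hs]; simp)
  have hc := Subgroup.commute_of_normal_of_disjoint N M hN hM
    (IsPGroup.disjoint_of_ne p q hpq N M hNp hMq) x y hxN hyM
  have h : orderOf (x * y) ∈ ({1, p, q} : Set ℕ) := hs ▸ ⟨x * y, rfl⟩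
  rw [hc.orderOf_mul_eq_mul_orderOf_of_coprime (by rw [hx, hy]; exact (Nat.coprime_primes hp hq).2 hpq),
    hx, hy] at h
  have h1 := hp.two_le
  have h2 := hq.two_le
  simp only [Set.mem_insert_iff, Set.mem_singleton_iff] at h
  rcases h with h | h | h <;> nlinarith

end CfsgLib.Recog.CriticalPair
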