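import Cfsg.Agent.Lib.Recog.CriticalPair

/-!
Products of minimal two-prime groups are critical for their spectrum.
-/

set_option autoImplicit false

namespace CfsgLib.Recog.CriticalProduct

open CfsgLib.Recog.CriticalPair

variable {s : ℕ} {p : Fin s → Fin 2 → ℕ}

/-- The set of products. -/
def prodSet (p : Fin s → Fin 2 → ℕ) : Set ℕ :=
  {m : ℕ | ∃ c : Fin s → ℕ, (∀ j, c j = 1 ∨ c j = p j 0 ∨ c j = p j 1) ∧ m = ∏ j, c j}

theorem eq_one_or_of_mem {j : Fin s} {i : Fin 2} {n : ℕ}
    (h : n ∈ ({1, p j i, p j (1 - i)} : Set ℕ)) : n = 1 ∨ ∃ i', n = p j i' := by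
  simp only [Set.mem_insert_iff, Set.mem_singleton_iff] at h
  rcases h with h | h | h
  · exact Or.inl h
  · exact Or.inr ⟨_, h⟩
  · exact Or.inr ⟨_, h⟩

section Product

variable (hp : ∀ j i, (p j i).Prime) (hinj : ∀ j i j' i', p j i = p j' i' → j = j' ∧ i = i')
variable {c : Fin s → Fin 2} {M : Fin s → Type} [∀ j, Group (M j)] [∀ j, Finite (M j)]
variable (hM : ∀ j, Minimal (p j (c j)) (p j (1 - c j)) (M j))
include hp hinj hM

theorem orderOf_comp (j : Fin s) (x : M j) : orderOf x = 1 ∨ ∃ i, orderOf x = p j i := by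
  have h : orderOf x ∈ Set.range (orderOf : M j → ℕ) := ⟨x, rfl⟩
  rw [(hM j).good.1] at h
  exact eq_one_or_of_mem h

theorem prime_dvd_card {j k : Fin s} {i : Fin 2} (h : p j i ∣ Nat.card (M k)) : j = k := by
  have : Fact (p j i).Prime := ⟨hp j i⟩
  obtain ⟨x, hx⟩ := exists_prime_orderOf_dvd_card' _ h
  rcases orderOf_comp hp hinj hM k x with h1 | ⟨i', h1⟩
  · exact absurd (hx.symm.trans h1) (hp j i).ne_one
  · exact (hinj _ _ _ _ (hx.symm.trans h1)).1

theorem coprime_card {j k : Fin s} (hjk : j ≠ k) :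
    (Nat.card (M j)).Coprime (Nat.card (M k)) := by
  refine Nat.coprime_of_dvd fun r hr h1 h2 => ?_
  have : Fact r.Prime := ⟨hr⟩
  obtain ⟨x, hx⟩ := exists_prime_orderOf_dvd_card' r h1
  rcases orderOf_comp hp hinj hM j x with h | ⟨i, h⟩
  · exact hr.ne_one (hx.symm.trans h)
  · exact hjk (prime_dvd_card hp hinj hM (i := i) (by rw [← h, hx]; exact h2))

theorem orderOf_eq_prod (x : (j : Fin s) → M j) : orderOf x = ∏ j, orderOf (x j) := by
  refine Nat.dvd_antisymm (orderOf_dvd_of_pow_eq_one ?_) ?_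
  · funext j
    rw [Pi.pow_apply, Pi.one_apply, ← orderOf_dvd_iff_pow_eq_one]
    exact Finset.dvd_prod_of_mem _ (Finset.mem_univ j)
  · refine Fintype.prod_dvd_of_isRelPrime ?_ fun j => orderOf_map_dvd (Pi.evalMonoidHom M j) x
    intro j k hjk
    exact Nat.coprime_iff_isRelPrime.1 <| Nat.Coprime.coprime_dvd_left (orderOf_dvd_natCard _)
      (Nat.Coprime.coprime_dvd_right (orderOf_dvd_natCard _) (coprime_card hp hinj hM hjk))

theorem range_orderOf_pi : Set.range (orderOf : ((j : Fin s) → M j) → ℕ) = prodSet p := by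
  ext m
  constructor
  · rintro ⟨x, rfl⟩
    refine ⟨fun j => orderOf (x j), fun j => ?_, orderOf_eq_prod hp hinj hM x⟩
    rcases orderOf_comp hp hinj hM j (x j) with h | ⟨i, h⟩
    · exact Or.inl h
    · right
      rcases (show i = 0 ∨ i = 1 by omega) with rfl | rfl
      · exact Or.inl h
      · exact Or.inr h
  · rintro ⟨d, hd, rfl⟩
    have : ∀ j, ∃ x : M j, orderOf x = d j := fun j => by
      change d j ∈ Set.range (orderOf : M j → ℕ)
      rw [(hM j).good.1]
      simp only [Set.mem_insert_iff, Set.mem_singleton_iff]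
      have := hd j
      rcases (show c j = 0 ∨ c j = 1 by omega) with h | h <;> rw [h] <;> simp <;> tauto
    choose x hx using this
    exact ⟨x, by rw [orderOf_eq_prod hp hinj hM]; simp [hx]⟩

theorem comp_orderOf {x : (j : Fin s) → M j} {j : Fin s} {i : Fin 2} (hx : orderOf x = p j i) :
    orderOf (x j) = p j i := by
  have h1 : ∀ k, k ≠ j → x k = 1 := by
    intro k hk
    by_contra hne
    have h2 : orderOf (x k) ∣ p j i := hx ▸ orderOf_map_dvd (Pi.evalMonoidHom M k) x
    rcases (Nat.dvd_prime (hp j i)).1 h2 with h | h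
    · exact hne (orderOf_eq_one_iff.1 h)
    · exact hk (prime_dvd_card hp hinj hM (h ▸ orderOf_dvd_natCard (x k))).symm
  rw [orderOf_eq_prod hp hinj hM, Finset.prod_eq_single j (fun k _ hk => by simp [h1 k hk])
    (by simp)] at hx
  exact hx

theorem single_prime_mem (j : Fin s) (i : Fin 2) : p j i ∈ prodSet p := by
  classical
  refine ⟨Function.update (fun _ => 1) j (p j i), fun k => ?_, ?_⟩
  · by_cases hk : k = j
    · subst hk
      rcases (show i = 0 ∨ i = 1 by omega) with rfl | rfl <;> simp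
    · simp [hk]
  · simp [Finset.prod_update_of_mem]

theorem critical (H : Subgroup ((j : Fin s) → M j)) (N : Subgroup H) [N.Normal]
    (hne : H ≠ ⊤ ∨ N ≠ ⊥) : Set.range (orderOf : (H ⧸ N) → ℕ) ≠ prodSet p := by
  classical
  intro heq
  have hidx : ∀ j i, p j i ∣ N.index := by
    intro j i
    obtain ⟨y, hy⟩ := heq.ge (single_prime_mem hp hinj hM j i)
    exact hy ▸ orderOf_dvd_natCard y
  have hH : H = ⊤ := by
    have hd : ∀ j i, p j i ∣ Nat.card (H.map (Pi.evalMonoidHom M j)) := by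
      intro j i
      have : Fact (p j i).Prime := ⟨hp j i⟩
      obtain ⟨h, hh⟩ := exists_prime_orderOf_dvd_card' (p j i)
        ((hidx j i).trans (Subgroup.index_dvd_card N))
      have hm : (h : (k : Fin s) → M k) j ∈ H.map (Pi.evalMonoidHom M j) :=
        Subgroup.mem_map_of_mem (Pi.evalMonoidHom M j) h.2
      rw [← comp_orderOf hp hinj hM (x := (h : (k : Fin s) → M k)) (j := j) (i := i)
        (by rw [Subgroup.orderOf_coe, hh]), ← Subgroup.orderOf_mk (H := H.map (Pi.evalMonoidHom M j)) _ hm]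
      exact orderOf_dvd_natCard _
    have hcard : ∀ j, Nat.card (M j) ∣ Nat.card H := fun j => by
      have := (hM j).sub_eq_top _ (hd j (c j)) (hd j (1 - c j))
      have h1 := Subgroup.card_map_dvd H (Pi.evalMonoidHom M j)
      rwa [this, Subgroup.card_top] at h1
    refine Subgroup.eq_top_of_le_card H ?_
    rw [Nat.card_pi]
    exact Nat.le_of_dvd Nat.card_pos (Fintype.prod_dvd_of_isRelPrime
      (fun j k hjk => Nat.coprime_iff_isRelPrime.1 (coprime_card hp hinj hM hjk)) hcard)
  have hN : N ≠ ⊥ := hne.resolve_left (not_not.2 hH)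
  subst hH
  set N' : Subgroup ((j : Fin s) → M j) := N.map (⊤ : Subgroup _).subtype
  have hN' : N'.Normal := ⟨by
    rintro _ ⟨n, hn, rfl⟩ g
    exact ⟨⟨g, trivial⟩ * n * ⟨g, trivial⟩⁻¹, Subgroup.Normal.conj_mem ‹_› n hn _, rfl⟩⟩
  have hidx' : ∀ j i, p j i ∣ N'.index := by
    intro j i
    rw [Subgroup.index_map_subtype, Subgroup.index_top, mul_one]
    exact hidx j i
  obtain ⟨n, hn, hn1⟩ : ∃ n ∈ N', n ≠ 1 := by
    obtain ⟨⟨n, hn⟩, hn'⟩ := Subgroup.ne_bot_iff_exists_ne_one.1 hN
    exact ⟨n.1, ⟨n, hn, rfl⟩, fun h => hn' (Subtype.ext (Subtype.ext h))⟩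
  obtain ⟨j, hj⟩ : ∃ j, n j ≠ 1 := Function.ne_iff.1 hn1
  set L := N'.map (Pi.evalMonoidHom M j)
  have hL : L.Normal := hN'.map _ (Function.surjective_eval j)
  have hL1 : L ≠ ⊥ := fun h => hj (by
    have : (Pi.evalMonoidHom M j) n ∈ L := Subgroup.mem_map_of_mem _ hn
    rwa [h, Subgroup.mem_bot] at this)
  have key : ∀ i, p j i ∣ L.index := by
    intro i
    set R := ∏ k ∈ Finset.univ.erase j, Nat.card (M k)
    have hcop : (p j i).Coprime R := Nat.Coprime.prod_right fun k hk =>
      (hp j i).coprime_iff_not_dvd.2 fun h =>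
        (Finset.mem_erase.1 hk).1 (prime_dvd_card hp hinj hM h).symm
    have hcopL : (Nat.card L).Coprime R := Nat.Coprime.prod_right fun k hk =>
      Nat.Coprime.coprime_dvd_left (Subgroup.card_subgroup_dvd_card L)
        (coprime_card hp hinj hM (Finset.mem_erase.1 hk).1.symm)
    have h1 : p j i * Nat.card L ∣ Nat.card (M j) * R := by
      rw [Finset.mul_prod_erase _ (fun k => Nat.card (M k)) (Finset.mem_univ j), ← Nat.card_pi,
        ← Subgroup.index_mul_card N']
      exact mul_dvd_mul (hidx' j i) (Subgroup.card_map_dvd _ _)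
    have h2 := (hcop.mul_left hcopL).dvd_of_dvd_mul_right h1
    rw [← Subgroup.index_mul_card L] at h2
    exact Nat.dvd_of_mul_dvd_mul_right Nat.card_pos h2
  exact (hM j).normal_index L hL hL1 ⟨key _, key _⟩

end Product

variable (hp : ∀ j i, (p j i).Prime) (hinj : ∀ j i j' i', p j i = p j' i' → j = j' ∧ i = i')
variable {c d : Fin s → Fin 2} {M M' : Fin s → Type} [∀ j, Group (M j)] [∀ j, Finite (M j)]
variable [∀ j, Group (M' j)] [∀ j, Finite (M' j)]
include hp hinj

theorem exists_injective (hM : ∀ j, Minimal (p j (c j)) (p j (1 - c j)) (M j))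
    (hM' : ∀ j, Minimal (p j (d j)) (p j (1 - d j)) (M' j))
    (e : ((j : Fin s) → M j) ≃* ((j : Fin s) → M' j)) (j : Fin s) :
    ∃ f : M j →* M' j, Function.Injective f := by
  classical
  refine ⟨(Pi.evalMonoidHom M' j).comp (e.toMonoidHom.comp (MonoidHom.mulSingle M j)),
    (injective_iff_map_eq_one _).2 fun x hx => ?_⟩
  by_contra hne
  have h0 : orderOf (MonoidHom.mulSingle M j x) = orderOf x :=
    orderOf_injective _ (Pi.mulSingle_injective j) x
  rcases orderOf_comp hp hinj hM j x with h | ⟨i, h⟩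
  · exact hne (orderOf_eq_one_iff.1 h)
  · have h1 := comp_orderOf hp hinj hM' (x := e (MonoidHom.mulSingle M j x))
      (j := j) (i := i) (by rw [MulEquiv.orderOf_eq, h0, h])
    have h2 : (e (MonoidHom.mulSingle M j x)) j = 1 := hx
    rw [h2, orderOf_one] at h1
    exact (hp j i).ne_one h1.symm

theorem eq_of_iso (hM : ∀ j, Minimal (p j (c j)) (p j (1 - c j)) (M j))
    (hM' : ∀ j, Minimal (p j (d j)) (p j (1 - d j)) (M' j))
    (e : ((j : Fin s) → M j) ≃* ((j : Fin s) → M' j)) : c = d := by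
  funext j
  by_contra hne
  obtain ⟨f, hf⟩ := exists_injective hp hinj hM hM' e j
  obtain ⟨g, hg⟩ := exists_injective hp hinj hM' hM e.symm j
  have hcard := le_antisymm (Nat.card_le_card_of_injective f hf) (Nat.card_le_card_of_injective g hg)
  have h := (hM j).good.congr
    (MulEquiv.ofBijective f ((Nat.bijective_iff_injective_and_card f).2 ⟨hf, hcard⟩))
  have hd : d j = 1 - c j := by omega
  have hd' : 1 - d j = c j := by omega
  have h' := (hM' j).good
  rw [hd] at h'
  rw [show 1 - (1 - c j) = c j by omega] at h'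
  exact not_good_both (hp _ _) (hp _ _)
    (fun heq => by have := (hinj _ _ _ _ heq).2; omega) h h'

end CfsgLib.Recog.CriticalProduct
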