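import Cfsg.Agent.Lib.Recog.OrdersFiveFrame
import Cfsg.Agent.Lib.Recog.AffineSL2
import Cfsg.Agent.Lib.PSL2.Icosahedral
import Cfsg.Agent.Lib.SLTwoFpf.Action
import Cfsg.Agent.Lib.ClassicalGroups.SmallIso
import Cfsg.Agent.Lib.Recognition.AffineEvenSL2

/-!
Groups with element orders at most five having an elementary abelian normal 2-subgroup with quotient
`A₅`: the extension splits, and in the irreducible case the group is affine.
-/

set_option autoImplicit false

namespace CfsgLib.Recog.CriticalSix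

open CfsgLib.PSL2
open scoped IsMulCommutative

variable {G : Type*} [Group G] [Finite G] {N : Subgroup G} [N.Normal]

/-- Elements of order three or five act without fixed points on a normal subgroup of exponent two. -/
theorem fixed_eq_one (hG : OrdersFive.Small G) (h2 : ∀ n ∈ N, n ^ 2 = 1) {s n : G}
    (hs : orderOf s = 3 ∨ orderOf s = 5) (hn : n ∈ N) (hc : Commute s n) : n = 1 := by
  by_contra hne
  have hn2 : orderOf n = 2 := orderOf_eq_prime (h2 n hn) hne
  rcases hG.eq_one_of_commute hc (by rcases hs with e | e <;> rw [e, hn2] <;> norm_num) with e | e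
  · subst e
    simp at hs
  · exact hne e

/-- Every element of the coset of such an element is conjugate to it under the normal subgroup. -/
theorem conj_eq_of_coset (hG : OrdersFive.Small G) (h2 : ∀ n ∈ N, n ^ 2 = 1) {s : G}
    (hs : orderOf s = 3 ∨ orderOf s = 5) {g : G} (hg : g * s⁻¹ ∈ N) :
    ∃ n ∈ N, n * s * n⁻¹ = g := by
  let f : N → N := fun n => ⟨(n : G) * (s * (n : G)⁻¹ * s⁻¹),
    N.mul_mem n.2 (‹N.Normal›.conj_mem _ (N.inv_mem n.2) s)⟩
  have hinj : Function.Injective f := by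
    intro m n h
    have e : (m : G) * (s * (m : G)⁻¹ * s⁻¹) = (n : G) * (s * (n : G)⁻¹ * s⁻¹) := congrArg Subtype.val h
    have hc : Commute s ((n : G)⁻¹ * m) := by
      show s * ((n : G)⁻¹ * m) = (n : G)⁻¹ * m * s
      calc s * ((n : G)⁻¹ * m) = (n : G)⁻¹ * ((n : G) * (s * (n : G)⁻¹ * s⁻¹)) * s * m := by group
        _ = (n : G)⁻¹ * ((m : G) * (s * (m : G)⁻¹ * s⁻¹)) * s * m := by rw [e]
        _ = _ := by group
    have h1 := fixed_eq_one hG h2 hs (N.mul_mem (N.inv_mem n.2) m.2) hc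
    exact Subtype.ext (inv_mul_eq_one.1 h1).symm
  obtain ⟨n, hn⟩ := Finite.injective_iff_surjective.1 hinj ⟨g * s⁻¹, hg⟩
  have e : (n : G) * (s * (n : G)⁻¹ * s⁻¹) = g * s⁻¹ := congrArg Subtype.val hn
  refine ⟨n, n.2, ?_⟩
  calc (n : G) * s * (n : G)⁻¹ = (n : G) * (s * (n : G)⁻¹ * s⁻¹) * s := by group
    _ = g := by rw [e]; group

theorem exists_inverted : ∃ S : alternatingGroup (Fin 5),
    S ^ 3 = 1 ∧ S ≠ 1 ∧ (icoX * icoY) * S * (icoX * icoY) = S⁻¹ := by decide +kernel

/-- The extension splits. -/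
theorem exists_section (hG : OrdersFive.Small G) (h2 : ∀ n ∈ N, n ^ 2 = 1)
    (e : G ⧸ N ≃* alternatingGroup (Fin 5)) :
    ∃ σ : alternatingGroup (Fin 5) →* G, ∀ a, e (σ a : G ⧸ N) = a := by
  let π : G →* alternatingGroup (Fin 5) := e.toMonoidHom.comp (QuotientGroup.mk' N)
  have hπs : Function.Surjective π := e.surjective.comp (QuotientGroup.mk'_surjective N)
  have hker : ∀ g, π g = 1 ↔ g ∈ N := fun g => by
    show e (g : G ⧸ N) = 1 ↔ _
    rw [EmbeddingLike.map_eq_one_iff, QuotientGroup.eq_one_iff]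
  have hord : ∀ (g : G) (p : ℕ), (p = 3 ∨ p = 5) → orderOf (π g) = p → orderOf g = p := by
    intro g p hp hg
    obtain ⟨h0, h5⟩ := hG g
    have hd : p ∣ orderOf g := hg ▸ orderOf_map_dvd π g
    obtain ⟨k, hk⟩ := hd
    rcases k with _ | _ | k
    · omega
    · omega
    · rw [hk] at h5
      rcases hp with rfl | rfl <;> omega
  -- an involution over `icoX * icoY`
  obtain ⟨S, hS3, hS1, hST⟩ := exists_inverted
  obtain ⟨s, rfl⟩ := hπs S
  have hso : orderOf s = 3 :=
    hord s 3 (Or.inl rfl) (orderOf_eq_prime (hp := ⟨Nat.prime_three⟩) hS3 hS1)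
  obtain ⟨g, hg⟩ := hπs (icoX * icoY)
  have hTT : icoX * icoY * (icoX * icoY) = 1 := by rw [← sq]; exact icoXY_pow
  obtain ⟨n, hn, hns⟩ := conj_eq_of_coset hG h2 (s := s⁻¹) (g := g * s * g⁻¹)
    (Or.inl (by rw [orderOf_inv, hso])) (by
      rw [← hker, map_mul, map_mul, map_mul, map_inv, map_inv, map_inv, hg,
        inv_eq_of_mul_eq_one_right hTT, hST, inv_inv, inv_mul_cancel])
  set t := n⁻¹ * g with htdef
  have hπt : π t = icoX * icoY := by rw [htdef, map_mul, map_inv, (hker n).2 hn, inv_one, one_mul, hg]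
  have hts : t * s * t⁻¹ = s⁻¹ := by
    calc t * s * t⁻¹ = n⁻¹ * (g * s * g⁻¹) * n := by rw [htdef]; group
      _ = s⁻¹ := by rw [← hns]; group
  have htt : t * t = 1 := by
    refine fixed_eq_one hG h2 (Or.inl hso) ((hker _).1 (by rw [map_mul, hπt, hTT])) ?_
    have : t * t * s * (t * t)⁻¹ = s := by
      calc t * t * s * (t * t)⁻¹ = t * (t * s * t⁻¹) * t⁻¹ := by group
        _ = (t * s * t⁻¹)⁻¹ := by rw [hts, ← conj_inv, hts]
        _ = s := by rw [hts, inv_inv]
    exact (mul_inv_eq_iff_eq_mul.1 this).symm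
  -- generators of a complement
  obtain ⟨a, ha⟩ := hπs icoX
  have hao : orderOf a = 3 := hord a 3 (Or.inl rfl)
    (by rw [ha]; exact orderOf_eq_prime (hp := ⟨Nat.prime_three⟩) icoX_pow icoX_ne)
  set b := a⁻¹ * t with hbdef
  have hπb : π b = icoY := by rw [hbdef, map_mul, map_inv, ha, hπt, inv_mul_cancel_left]
  have hbo : orderOf b = 5 := hord b 5 (Or.inr rfl)
    (by rw [hπb]; exact orderOf_eq_prime (hp := ⟨Nat.prime_five⟩) icoY_pow icoY_ne)
  set H := Subgroup.closure ({a, b} : Set G) with hH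
  have haH : a ∈ H := Subgroup.subset_closure (by simp)
  have hbH : b ∈ H := Subgroup.subset_closure (by simp)
  obtain ⟨-, hcard⟩ := CfsgLib.Icosahedral.finite_card_le_sixty (x := (⟨a, haH⟩ : H)) (y := ⟨b, hbH⟩)
    (Subtype.ext (by simp [← hao, pow_orderOf_eq_one]))
    (Subtype.ext (by simp [← hbo, pow_orderOf_eq_one]))
    (Subtype.ext (by simp [hbdef, sq, htt]))
    (by
      rw [eq_top_iff, ← Subgroup.closure_closure_coe_preimage]
      refine Subgroup.closure_mono ?_
      rintro ⟨z, hzH⟩ hz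
      simp only [Set.mem_preimage, Set.mem_insert_iff, Set.mem_singleton_iff] at hz ⊢
      rcases hz with rfl | rfl
      · exact Or.inl rfl
      · exact Or.inr rfl)
  let ψ : H →* alternatingGroup (Fin 5) := π.comp H.subtype
  have hψs : Function.Surjective ψ := by
    rw [← MonoidHom.range_eq_top, eq_top_iff, ← ico_generates, Subgroup.closure_le]
    rintro z (rfl | rfl)
    · exact ⟨⟨a, haH⟩, ha⟩
    · exact ⟨⟨b, hbH⟩, hπb⟩
  have hbij : Function.Bijective ψ := by
    refine (Nat.bijective_iff_surjective_and_card ψ).2 ⟨hψs, le_antisymm ?_ ?_⟩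
    · rw [card_alt_five]; exact hcard
    · exact Nat.card_le_card_of_surjective ψ hψs
  refine ⟨H.subtype.comp (MulEquiv.ofBijective ψ hbij).symm.toMonoidHom, fun c => ?_⟩
  exact (MulEquiv.ofBijective ψ hbij).apply_symm_apply c

/-- If the normal subgroup is minimal normal, the group is the affine group of dimension two over the
field with four elements. -/
theorem equiv_affine {F : Type*} [Field F] [Fintype F] (hF : Fintype.card F = 4)
    (hG : OrdersFive.Small G) [IsMulCommutative N] (h2 : ∀ n ∈ N, n ^ 2 = 1) (hN : N ≠ ⊥)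
    (hmin : ∀ M : Subgroup G, M.Normal → M ≤ N → M ≠ ⊥ → M = N)
    (e : G ⧸ N ≃* alternatingGroup (Fin 5)) (h3 : ∃ x : G, orderOf x = 3) :
    Nonempty (G ≃* Subgroup.closure (AffineFour.affineSet F)) := by
  classical
  haveI : Fact (Nat.Prime 2) := ⟨Nat.prime_two⟩
  haveI : CharP F 2 := charP_of_card_eq_prime_pow (f := 2) (by norm_num [hF])
  obtain ⟨e₀⟩ := CfsgLib.ClassicalGroups.psl_two_four_alternating (K := F) hF
  let eA : alternatingGroup (Fin 5) ≃* Matrix.SpecialLinearGroup (Fin 2) F :=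
    e₀.symm.trans CfsgLib.Recognition.AffineEven.pslEquiv
  let E : G ⧸ N ≃* Matrix.SpecialLinearGroup (Fin 2) F := e.trans eA
  obtain ⟨σ, hσ⟩ := exists_section hG h2 e
  let π : G →* Matrix.SpecialLinearGroup (Fin 2) F := E.toMonoidHom.comp (QuotientGroup.mk' N)
  let s : Matrix.SpecialLinearGroup (Fin 2) F →* G := σ.comp eA.symm.toMonoidHom
  have hπs : ∀ A, π (s A) = A := fun A => by
    show eA (e (σ (eA.symm A) : G ⧸ N)) = A
    rw [hσ, MulEquiv.apply_symm_apply]
  have hker : ∀ g, π g = 1 ↔ g ∈ N := fun g => by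
    show E (g : G ⧸ N) = 1 ↔ _
    rw [EmbeddingLike.map_eq_one_iff, QuotientGroup.eq_one_iff]
  obtain ⟨x, hx⟩ := h3
  have hNp : IsPGroup 2 N := fun n => ⟨1, Subtype.ext (by simpa using h2 n n.2)⟩
  obtain ⟨ρ, hfpf, hρ⟩ := CfsgLib.SLTwoFpf.exists_action N hNp
    (fun a ha => Subgroup.mem_centralizer_iff.2 fun b hb => by
      exact congrArg Subtype.val ((IsMulCommutative.is_comm (M := N)).comm ⟨b, hb⟩ ⟨a, ha⟩))
    E hx (fun a ha hfix =>
      fixed_eq_one hG h2 (Or.inl hx) ha (mul_inv_eq_iff_eq_mul.1 hfix))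
  obtain ⟨r, Ψ, hΨ⟩ := CfsgLib.SLTwoFpf.exists_natural (by rw [hF]) hfpf (k := 1) (fun v => by
    rw [pow_one, two_nsmul]
    exact congrArg Additive.ofMul (show v.toMul * v.toMul = 1 from Subtype.ext (by
      simpa [sq] using h2 _ v.toMul.2)))
  have hact : ∀ (g : G) (m : N) (i : Fin r),
      Ψ.symm (Additive.ofMul (⟨g * m * g⁻¹, ‹N.Normal›.conj_mem _ m.2 g⟩ : N)) i =
        (π g).1.mulVec (Ψ.symm (Additive.ofMul m) i) := by
    intro g m i
    have e1 : ρ (π g) (Additive.ofMul m) =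
        Additive.ofMul (⟨g * m * g⁻¹, ‹N.Normal›.conj_mem _ m.2 g⟩ : N) := by
      rw [show π g = E (g : G ⧸ N) from rfl, hρ]
      exact congrArg Additive.ofMul (Subtype.ext rfl)
    have e2 := hΨ (π g) (Ψ.symm (Additive.ofMul m))
    rw [AddEquiv.apply_symm_apply, e1] at e2
    rw [e2, AddEquiv.symm_apply_apply]
  -- a single natural module
  have hr0 : r ≠ 0 := by
    rintro rfl
    apply hN
    rw [Subgroup.eq_bot_iff_forall]
    intro n hn
    have : Ψ.symm (Additive.ofMul (⟨n, hn⟩ : N)) = Ψ.symm 0 := Subsingleton.elim _ _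
    exact congrArg Subtype.val (congrArg Additive.toMul (Ψ.symm.injective this))
  obtain rfl : r = 1 := by
    by_contra hr
    let i₀ : Fin r := ⟨0, by omega⟩
    let i₁ : Fin r := ⟨1, by omega⟩
    let K : Subgroup N :=
      { carrier := {m | Ψ.symm (Additive.ofMul m) i₀ = 0}
        one_mem' := by simp
        mul_mem' := fun {a b} ha hb => by simp_all [ofMul_mul]
        inv_mem' := fun {a} ha => by simp_all [ofMul_inv] }
    have hKn : (K.map N.subtype).Normal := ⟨by
      rintro _ ⟨m, hm, rfl⟩ g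
      exact ⟨⟨g * m * g⁻¹, ‹N.Normal›.conj_mem _ m.2 g⟩, by
        show Ψ.symm _ i₀ = 0
        rw [hact, show Ψ.symm (Additive.ofMul m) i₀ = 0 from hm, Matrix.mulVec_zero], rfl⟩⟩
    let m₁ : N := Additive.toMul (Ψ (Pi.single i₁ (fun _ => (1 : F))))
    let m₀ : N := Additive.toMul (Ψ (Pi.single i₀ (fun _ => (1 : F))))
    have hm₁ : Ψ.symm (Additive.ofMul m₁) = Pi.single i₁ (fun _ => (1 : F)) := Ψ.symm_apply_apply _
    have hm₀ : Ψ.symm (Additive.ofMul m₀) = Pi.single i₀ (fun _ => (1 : F)) := Ψ.symm_apply_apply _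
    have hne : i₀ ≠ i₁ := fun h => absurd (congrArg Fin.val h) (by norm_num [i₀, i₁])
    have h1K : m₁ ∈ K := by
      show Ψ.symm (Additive.ofMul m₁) i₀ = 0
      rw [hm₁, Pi.single_eq_of_ne hne]
    have hbot : K.map N.subtype ≠ ⊥ := by
      intro hb
      have hmem : (m₁ : G) ∈ K.map N.subtype := ⟨m₁, h1K, rfl⟩
      rw [hb, Subgroup.mem_bot] at hmem
      have h1 : m₁ = 1 := Subtype.ext hmem
      rw [h1, ofMul_one, map_zero] at hm₁
      have := congrFun (congrFun hm₁ i₁) 0
      simp at this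
    have := hmin _ hKn (Subgroup.map_subtype_le K) hbot
    have h0 : (m₀ : G) ∈ K.map N.subtype := this.symm ▸ m₀.2
    obtain ⟨m, hm, hme⟩ := h0
    have : Ψ.symm (Additive.ofMul m₀) i₀ = 0 := by
      rw [← Subtype.ext (show (m : G) = (m₀ : G) from hme)]; exact hm
    rw [hm₀, Pi.single_eq_same] at this
    exact one_ne_zero (congrFun this 0)
  -- the matrices
  let v : G → (Fin 2 → F) := fun g => Ψ.symm (Additive.ofMul (⟨g * (s (π g))⁻¹, (hker _).1 (by
    rw [map_mul, map_inv, hπs, mul_inv_cancel])⟩ : N)) 0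
  have hv_mul : ∀ g k, v (g * k) = v g + (π g).1.mulVec (v k) := by
    intro g k
    let nk : N := ⟨k * (s (π k))⁻¹, (hker _).1 (by rw [map_mul, map_inv, hπs, mul_inv_cancel])⟩
    let ng : N := ⟨g * (s (π g))⁻¹, (hker _).1 (by rw [map_mul, map_inv, hπs, mul_inv_cancel])⟩
    have e1 : (⟨g * k * (s (π (g * k)))⁻¹, (hker _).1 (by
        rw [map_mul (π) (g * k), map_inv, hπs, mul_inv_cancel])⟩ : N) =
        ng * ⟨s (π g) * nk * (s (π g))⁻¹, ‹N.Normal›.conj_mem _ nk.2 _⟩ := by
      apply Subtype.ext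
      show g * k * (s (π (g * k)))⁻¹ = g * (s (π g))⁻¹ * (s (π g) * (k * (s (π k))⁻¹) * (s (π g))⁻¹)
      rw [map_mul π, map_mul s, mul_inv_rev]
      group
    show Ψ.symm _ 0 = _
    rw [e1, ofMul_mul, map_add, Pi.add_apply, hact, hπs]
  have hdet : ∀ g, (!![(π g).1 0 0, (π g).1 0 1, v g 0; (π g).1 1 0, (π g).1 1 1, v g 1;
      0, 0, 1] : Matrix (Fin 3) (Fin 3) F).det = 1 := fun g => by
    have hd := (π g).2
    rw [Matrix.det_fin_two] at hd
    simp [Matrix.det_fin_three, hd]
  let f : G →* Matrix.SpecialLinearGroup (Fin 3) F := MonoidHom.mk' (fun g => ⟨_, hdet g⟩) (by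
    intro g k
    apply Subtype.ext
    show _ = (_ : Matrix (Fin 3) (Fin 3) F) * _
    ext i j
    fin_cases i <;> fin_cases j <;>
      simp [hv_mul, map_mul, Matrix.mul_apply, Fin.sum_univ_three, Matrix.mulVec, dotProduct,
        Fin.sum_univ_two] <;> ring)
  have hfval : ∀ g, (f g : Matrix (Fin 3) (Fin 3) F) =
      !![(π g).1 0 0, (π g).1 0 1, v g 0; (π g).1 1 0, (π g).1 1 1, v g 1; 0, 0, 1] := fun g => rfl
  have hinj : Function.Injective f := by
    rw [injective_iff_map_eq_one]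
    intro g hg
    have hM := congrArg Subtype.val hg
    rw [hfval] at hM
    have hp : π g = 1 := by
      apply Subtype.ext
      ext i j
      fin_cases i <;> fin_cases j
      · simpa using congrFun (congrFun hM 0) 0
      · simpa using congrFun (congrFun hM 0) 1
      · simpa using congrFun (congrFun hM 1) 0
      · simpa using congrFun (congrFun hM 1) 1
    have hv : v g = 0 := by
      ext i
      fin_cases i
      · simpa using congrFun (congrFun hM 0) 2
      · simpa using congrFun (congrFun hM 1) 2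
    have hv' : Ψ.symm (Additive.ofMul (⟨g * (s (π g))⁻¹, (hker _).1 (by
        rw [map_mul, map_inv, hπs, mul_inv_cancel])⟩ : N)) = Ψ.symm 0 := by
      rw [map_zero]
      ext i : 1
      rw [Subsingleton.elim i 0]
      exact hv
    have := congrArg Subtype.val (congrArg Additive.toMul (Ψ.symm.injective hv'))
    simpa [hp] using this
  have hrange : f.range = Subgroup.closure (AffineFour.affineSet F) := by
    refine le_antisymm ?_ ?_
    · rintro _ ⟨g, rfl⟩
      exact Subgroup.subset_closure ⟨by simp [hfval], by simp [hfval], by simp [hfval]⟩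
    · intro M hM
      obtain ⟨r0, r1, r2⟩ := AffineFour.row_of_mem hM
      have hdA : (!![M.1 0 0, M.1 0 1; M.1 1 0, M.1 1 1] : Matrix (Fin 2) (Fin 2) F).det = 1 := by
        have hd := M.2
        rw [Matrix.det_fin_three, r0, r1, r2] at hd
        rw [Matrix.det_fin_two_of]
        linear_combination hd
      let A : Matrix.SpecialLinearGroup (Fin 2) F := ⟨_, hdA⟩
      let m : N := Additive.toMul (Ψ (fun _ => ![M.1 0 2, M.1 1 2]))
      refine ⟨(m : G) * s A, ?_⟩
      have hpA : π ((m : G) * s A) = A := by rw [map_mul, (hker _).2 m.2, one_mul, hπs]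
      have hvA : v ((m : G) * s A) = ![M.1 0 2, M.1 1 2] := by
        have e1 : (⟨(m : G) * s A * (s (π ((m : G) * s A)))⁻¹, (hker _).1 (by
          rw [map_mul π ((m : G) * s A), map_inv, hπs, mul_inv_cancel])⟩ : N) = m :=
          Subtype.ext (by
            show (m : G) * s A * (s (π ((m : G) * s A)))⁻¹ = m
            rw [hpA, mul_inv_cancel_right])
        show Ψ.symm _ 0 = _
        rw [e1, show Ψ.symm (Additive.ofMul m) = fun _ => ![M.1 0 2, M.1 1 2] from
          Ψ.symm_apply_apply _]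
      apply Subtype.ext
      rw [hfval, hpA, hvA]
      ext i j
      fin_cases i <;> fin_cases j <;> simp [A, r0, r1, r2]
  exact ⟨(MonoidHom.ofInjective hinj).trans (MulEquiv.subgroupCongr hrange)⟩

end CfsgLib.Recog.CriticalSix
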