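import Cfsg.Agent.Lib.Recog.ReeCubeExtension

/-!
If the element orders of `R` are those in a set `O` together with the divisors of two numbers, and
there are arbitrarily large groups `L` with element-order set `O`, then `R × R × L` has the same
element orders as `R × R × R`.
-/

set_option autoImplicit false

namespace CfsgLib.Recog.CubeSpectrum

variable {R : Type*} [Group R] {L : Type*} [Group L]

/-- The spectrum of a product of three groups, as least common multiples. -/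
theorem mem_range_prod {A B C : Type*} [Group A] [Group B] [Group C] {d : ℕ} :
    d ∈ Set.range (orderOf : A × B × C → ℕ) ↔
      ∃ a b c, (∃ x : A, orderOf x = a) ∧ (∃ y : B, orderOf y = b) ∧ (∃ z : C, orderOf z = c) ∧
        d = a.lcm (b.lcm c) := by
  constructor
  · rintro ⟨⟨x, y, z⟩, rfl⟩
    exact ⟨_, _, _, ⟨x, rfl⟩, ⟨y, rfl⟩, ⟨z, rfl⟩, by rw [Prod.orderOf, Prod.orderOf]⟩
  · rintro ⟨a, b, c, ⟨x, rfl⟩, ⟨y, rfl⟩, ⟨z, rfl⟩, rfl⟩
    exact ⟨(x, y, z), by rw [Prod.orderOf, Prod.orderOf]⟩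

/-- The cube and the mixed product have the same spectrum. -/
theorem range_eq (O : Set ℕ) (E E' : ℕ)
    (hR : ∀ d, (∃ g : R, orderOf g = d) ↔ (d ∈ O ∨ d ∣ E ∨ d ∣ E'))
    (hL : Set.range (orderOf : L → ℕ) = O) :
    Set.range (orderOf : R × R × L → ℕ) = Set.range (orderOf : R × R × R → ℕ) := by
  have hL' : ∀ d, (∃ g : L, orderOf g = d) ↔ d ∈ O := fun d => by rw [← hL]; rfl
  have one : (1 : ℕ) ∈ O := (hL' 1).1 ⟨1, orderOf_one⟩
  ext d
  rw [mem_range_prod, mem_range_prod]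
  constructor
  · rintro ⟨a, b, c, ha, hb, hc, rfl⟩
    exact ⟨a, b, c, ha, hb, (hR c).2 (Or.inl ((hL' c).1 hc)), rfl⟩
  rintro ⟨a, b, c, ha, hb, hc, rfl⟩
  by_cases hcO : c ∈ O
  · exact ⟨a, b, c, ha, hb, (hL' c).2 hcO, rfl⟩
  by_cases hbO : b ∈ O
  · exact ⟨a, c, b, ha, hc, (hL' b).2 hbO, by rw [Nat.lcm_comm b c]⟩
  by_cases haO : a ∈ O
  · exact ⟨b, c, a, hb, hc, (hL' a).2 haO, by rw [Nat.lcm_comm a, Nat.lcm_assoc]⟩
  have hdiv : ∀ x, (∃ g : R, orderOf g = x) → x ∉ O → x ∣ E ∨ x ∣ E' := fun x hx hxO =>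
    ((hR x).1 hx).resolve_left hxO
  have join : ∀ x y, (x ∣ E ∧ y ∣ E) ∨ (x ∣ E' ∧ y ∣ E') → ∃ g : R, orderOf g = x.lcm y := by
    rintro x y (⟨h1, h2⟩ | ⟨h1, h2⟩)
    · exact (hR _).2 (Or.inr (Or.inl (Nat.lcm_dvd h1 h2)))
    · exact (hR _).2 (Or.inr (Or.inr (Nat.lcm_dvd h1 h2)))
  have h1 : (a ∣ E ∧ b ∣ E ∨ a ∣ E' ∧ b ∣ E') ∨ (a ∣ E ∧ c ∣ E ∨ a ∣ E' ∧ c ∣ E') ∨
      (b ∣ E ∧ c ∣ E ∨ b ∣ E' ∧ c ∣ E') := by
    rcases hdiv a ha haO with h | h <;> rcases hdiv b hb hbO with h' | h' <;>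
      rcases hdiv c hc hcO with h'' | h'' <;> simp [h, h', h'']
  rcases h1 with h | h | h
  · exact ⟨a.lcm b, c, 1, join a b h, hc, (hL' 1).2 one,
      by rw [Nat.lcm_one_right, Nat.lcm_assoc]⟩
  · exact ⟨a.lcm c, b, 1, join a c h, hb, (hL' 1).2 one,
      by rw [Nat.lcm_one_right, Nat.lcm_assoc, Nat.lcm_comm b c]⟩
  · exact ⟨a, b.lcm c, 1, ha, join b c h, (hL' 1).2 one, by rw [Nat.lcm_one_right]⟩

/-- The cube of the small Ree group, given its spectrum. -/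
theorem exists_large_cube [Finite R] {K : Type*} [Field K] [Fintype K] [CharP K 3]
    (hq : Fintype.card K % 4 = 3) (E E' : ℕ)
    (hR : ∀ d, (∃ g : R, orderOf g = d) ↔
      (d ∈ ReeCubeExtension.orders (Fintype.card K) ∨ d ∣ E ∨ d ∣ E')) (N : ℕ) :
    ∃ (H : Type) (_ : Group H) (_ : Fintype H), N < Fintype.card H ∧
      Set.range (orderOf : H → ℕ) = Set.range (orderOf : R × R × R → ℕ) := by
  obtain ⟨L, i1, i2, hN, hL⟩ := ReeCubeExtension.exists_large (F := K) hq N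
  let S := Shrink.{0} R
  have hS : ∀ d, (∃ g : S, orderOf g = d) ↔ (∃ g : R, orderOf g = d) := fun d =>
    ⟨fun ⟨g, hg⟩ => ⟨Shrink.mulEquiv g, by rw [MulEquiv.orderOf_eq, hg]⟩,
      fun ⟨g, hg⟩ => ⟨Shrink.mulEquiv.symm g, by rw [MulEquiv.orderOf_eq, hg]⟩⟩
  have : Finite S := Finite.of_equiv R (equivShrink.{0} R)
  let : Fintype S := Fintype.ofFinite S
  refine ⟨S × S × L, inferInstance, inferInstance, ?_, ?_⟩
  · rw [← Nat.card_eq_fintype_card, Nat.card_prod, Nat.card_prod, Nat.card_eq_fintype_card (α := L)]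
    have : 0 < Nat.card S := Nat.card_pos
    exact hN.trans_le (le_mul_of_one_le_of_le this (Nat.le_mul_of_pos_left _ this))
  · rw [range_eq (R := S) _ E E' (fun d => (hS d).trans (hR d)) hL]
    let e : S × S × S ≃* R × R × R :=
      Shrink.mulEquiv.prodCongr (Shrink.mulEquiv.prodCongr Shrink.mulEquiv)
    ext d
    exact ⟨fun ⟨g, hg⟩ => ⟨e g, by rw [MulEquiv.orderOf_eq, hg]⟩,
      fun ⟨g, hg⟩ => ⟨e.symm g, by rw [MulEquiv.orderOf_eq, hg]⟩⟩

theorem charP_three {K : Type*} [Field K] [Fintype K] {n : ℕ}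
    (hK : Fintype.card K = 3 ^ n) : CharP K 3 := by
  obtain ⟨p, hp⟩ := CharP.exists K
  obtain ⟨k, hprime, hk⟩ := FiniteField.card K p
  have hdvd : p ∣ 3 ^ n := hK ▸ hk ▸ dvd_pow_self p k.pos.ne'
  rwa [← (Nat.prime_dvd_prime_iff_eq hprime Nat.prime_three).1 (hprime.dvd_of_dvd_pow hdvd)]

theorem card_mod_four {K : Type*} [Fintype K] {m : ℕ}
    (hK : Fintype.card K = 3 ^ (2 * m + 1)) : Fintype.card K % 4 = 3 := by
  rw [hK, pow_succ, pow_mul, Nat.mul_mod, Nat.pow_mod]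
  norm_num

end CfsgLib.Recog.CubeSpectrum
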