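import Cfsg.Agent.Lib.Recog.DegreeMultisetBasic
import Cfsg.Agent.Lib.SL2Char.Projective
import Cfsg.Agent.Lib.Recog.ClassSizesPSLTwoSplit

/-!
# The character degrees of `PSL(2, q)`, `q ≡ 1 mod 4`
-/

set_option autoImplicit false
set_option linter.style.haveILetI false

noncomputable section

namespace CfsgLib.Recog.DegreeMultiset

open Cfsg CfsgLib.Characters CfsgLib.Chars17 CfsgLib.SL2Char

variable {F : Type*} [Field F] [Fintype F] [DecidableEq F]

local notation "SL2" => Matrix.SpecialLinearGroup (Fin 2) F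
local notation "PSL2" => Matrix.ProjectiveSpecialLinearGroup (Fin 2) F

omit [DecidableEq F] in
theorem eq_principal_psl (h4 : 4 ≤ Fintype.card F) (χ : IrrCharacter PSL2)
    (hd : charDegree (χ : PSL2 → ℂ) = 1) : χ = principalIrr PSL2 :=
  eq_principal_of_perfect (CfsgLib.Recog.ClassSizesPSLTwoSplit.psl_perfect h4).2.1 χ hd

theorem existsUnique_degree_card (p : ℕ) [Fact p.Prime] [CharP F p] (h4 : 4 ≤ Fintype.card F) :
    ∃! χ : IrrCharacter PSL2, charDegree (χ : PSL2 → ℂ) = Fintype.card F := by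
  obtain ⟨η, hη, hηd⟩ := Projective.exists_steinberg (F := F)
  refine ⟨η, hηd, fun χ hχ => infl_injective _ (Subtype.ext (Eq.trans ?_ hη.symm))⟩
  refine (Projective.eq_steinberg_of_dvd p h4 _ ?_).1
  rw [Projective.charDegree_infl, hχ]
  obtain ⟨n, -, hn⟩ := FiniteField.card F p
  exact hn ▸ dvd_pow_self p n.pos.ne'

theorem degree_cases_psl (h4 : Fintype.card F % 4 = 1) (χ : IrrCharacter PSL2) :
    charDegree (χ : PSL2 → ℂ) = 1 ∨ charDegree (χ : PSL2 → ℂ) = Fintype.card F ∨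
      charDegree (χ : PSL2 → ℂ) = Fintype.card F + 1 ∨
      charDegree (χ : PSL2 → ℂ) = Fintype.card F - 1 ∨
      2 * charDegree (χ : PSL2 → ℂ) = Fintype.card F + 1 := by
  classical
  obtain ⟨c, h, D⟩ := exists_dsData (show Odd (Fintype.card F) from Nat.odd_iff.2 (by omega))
  obtain ⟨α₀, θ₀, η₁, η₂, χ₁, χ₂, T⟩ := exists_table D
  have hd := Projective.charDegree_infl χ
  rcases T.deg_cases (infl (Subgroup.center SL2) χ) with
    ⟨-, e⟩ | ⟨-, e⟩ | ⟨-, e⟩ | ⟨-, e⟩ | ⟨-, e⟩ | ⟨hk, e⟩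
  · exact Or.inl (hd.symm.trans e)
  · exact Or.inr (Or.inl (hd.symm.trans e))
  · exact Or.inr (Or.inr (Or.inl (hd.symm.trans e)))
  · exact Or.inr (Or.inr (Or.inr (Or.inl (hd.symm.trans e))))
  · exact Or.inr (Or.inr (Or.inr (Or.inr (hd ▸ e))))
  · exfalso
    have hh : Odd h := by
      have := D.card_eq
      exact Nat.odd_iff.2 (by omega)
    have hz : (-1 : SL2) ∈ Subgroup.center SL2 := mem_center_iff.2 (Or.inr rfl)
    have hinfl : (infl (Subgroup.center SL2) χ : SL2 → ℂ) (-1) =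
        (infl (Subgroup.center SL2) χ : SL2 → ℂ) 1 := by
      rw [infl_apply, infl_apply, (QuotientGroup.eq_one_iff _).2 hz, QuotientGroup.mk_one]
    -- every constituent of the reducible discrete series is faithful
    have key : ∀ k : IrrCharacter SL2, ∃ s : ℤ, (s = 1 ∨ s = -1) ∧
        (k : SL2 → ℂ) (-1) = s * (k : SL2 → ℂ) 1 := by
      intro k
      obtain ⟨s, hs, e'⟩ := CfsgLib.Involutions.irr_central_involution_sign k hz
        (Subtype.ext (by simp) : (-1 : SL2) * -1 = 1)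
      exact ⟨s, hs, by simpa using e' 1⟩
    obtain ⟨s₁, hs₁, e₁⟩ := key χ₁
    obtain ⟨s₂, hs₂, e₂⟩ := key χ₂
    have hθ2 : θ₀ ^ 2 = 1 := (T.theta_sq θ₀).2 (Or.inr rfl)
    have hsum := congrFun T.chi_sum (-1)
    rw [dsFun_neg_one, zsign_theta0 D T.theta_ne hθ2, Pi.add_apply, e₁, e₂, hh.neg_one_pow,
      ← cast_irrDegree χ₁, ← cast_irrDegree χ₂] at hsum
    have hk₁ := T.chi_deg₁
    have hk₂ := T.chi_deg₂
    have hsum' : ((Fintype.card F : ℤ) - 1) * (-1) =
        s₁ * (charDegree (χ₁ : SL2 → ℂ) : ℤ) + s₂ * (charDegree (χ₂ : SL2 → ℂ) : ℤ) := by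
      exact_mod_cast hsum
    have hq : 5 ≤ Fintype.card F := by
      have := Fintype.one_lt_card (α := F)
      omega
    rcases hk with hk | hk
    · rw [hk, e₁, ← cast_irrDegree χ₁] at hinfl
      rcases hs₁ with rfl | rfl
      · rcases hs₂ with rfl | rfl <;> omega
      · norm_num at hinfl
        exact (neg_eq_self.1 hinfl |> Nat.cast_eq_zero.1 |> fun h0 => by omega)
    · rw [hk, e₂, ← cast_irrDegree χ₂] at hinfl
      rcases hs₂ with rfl | rfl
      · rcases hs₁ with rfl | rfl <;> omega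
      · norm_num at hinfl
        exact (neg_eq_self.1 hinfl |> Nat.cast_eq_zero.1 |> fun h0 => by omega)

end CfsgLib.Recog.DegreeMultiset
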