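import Cfsg.Agent.Lib.Recog.DegreeMultisetBasic
import Cfsg.Agent.S0731
import Cfsg.Agent.Lib.ClassicalGroups.SmallIso

/-!
# Groups with the character degrees of `PSL(2, q)`, `q = p ^ 2` odd

With `m = (q + 1) / 2`, column orthogonality and the vanishing of characters of defect zero show
that the centraliser of a non-trivial `p`-element is a Sylow `p`-subgroup.  Hence the `q + 1`
Sylow `p`-subgroups are permuted as a Zassenhaus group.
-/

set_option autoImplicit false
set_option linter.style.haveILetI false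

noncomputable section

namespace CfsgLib.Recog.DegreeMultiset

open Cfsg CfsgLib.Characters CfsgLib.Chars17 MulAction

variable {G : Type*} [Group G] [Finite G]

/-- The degrees of `PSL(2, p ^ 2)` and the resulting order. -/
structure SquareHyp (G : Type*) [Group G] (p m : ℕ) : Prop where
  prime : p.Prime
  ne_two : p ≠ 2
  two_m : 2 * m = p ^ 2 + 1
  card_eq : Nat.card G = p ^ 2 * ((p ^ 2 - 1) * m)
  unique_one : ∀ χ : IrrCharacter G, charDegree (χ : G → ℂ) = 1 → χ = principalIrr G
  exists_q : ∃ χ : IrrCharacter G, charDegree (χ : G → ℂ) = p ^ 2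
  cases : ∀ χ : IrrCharacter G, charDegree (χ : G → ℂ) = 1 ∨ charDegree (χ : G → ℂ) = p ^ 2 ∨
    charDegree (χ : G → ℂ) = p ^ 2 + 1 ∨ charDegree (χ : G → ℂ) = p ^ 2 - 1 ∨
    charDegree (χ : G → ℂ) = m

variable {p m : ℕ} (S : SquareHyp G p m)
include S

omit [Finite G] in
theorem SquareHyp.nine_le : 9 ≤ p ^ 2 := by
  have := S.prime.two_le
  have := S.ne_two
  calc 9 = 3 ^ 2 := rfl
    _ ≤ p ^ 2 := Nat.pow_le_pow_left (by omega) 2

omit [Finite G] in
theorem SquareHyp.m_mod : m % 2 = 1 := by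
  have hp : Odd p := S.prime.odd_of_ne_two S.ne_two
  obtain ⟨k, rfl⟩ := hp
  have h := S.two_m
  obtain ⟨l, hl⟩ : 2 ∣ k * (k + 1) := (Nat.even_mul_succ_self k).two_dvd
  rw [show (2 * k + 1) ^ 2 = 4 * (k * (k + 1)) + 1 by ring, hl] at h
  omega

omit [Finite G] in
theorem SquareHyp.p_not_dvd : ¬ p ∣ (p ^ 2 - 1) * m := by
  have hp := S.prime
  have hq : p ∣ p ^ 2 := dvd_pow_self p two_ne_zero
  intro h
  rcases hp.dvd_mul.1 h with h | h
  · have := S.nine_le
    have h1 := Nat.dvd_sub hq h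
    rw [show p ^ 2 - (p ^ 2 - 1) = 1 by omega] at h1
    exact hp.not_dvd_one h1
  · have h1 := Nat.dvd_sub (h.trans (dvd_mul_left m 2)) hq
    rw [S.two_m, Nat.add_sub_cancel_left] at h1
    exact hp.not_dvd_one h1

omit [Finite G] in
theorem SquareHyp.not_dvd_both {r : ℕ} (hr : r.Prime) (h1 : r ∣ p ^ 2 - 1) : ¬ r ∣ m := by
  intro h2
  have h3 := Nat.dvd_sub (h2.trans (dvd_mul_left m 2)) h1
  rw [S.two_m, show p ^ 2 + 1 - (p ^ 2 - 1) = 2 by have := S.nine_le; omega] at h3
  obtain rfl := (Nat.prime_dvd_prime_iff_eq hr Nat.prime_two).1 h3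
  have := S.m_mod
  omega

/-- A `p`-singular element is a `p`-element. -/
theorem SquareHyp.eq_p_of_dvd {g : G} (hg : g ≠ 1) (hp : p ∣ orderOf g) {r : ℕ} (hr : r.Prime)
    (hrg : r ∣ orderOf g) : r = p := by
  by_contra hne
  have hn : r ∣ p ^ 2 * ((p ^ 2 - 1) * m) := S.card_eq ▸ hrg.trans (orderOf_dvd_natCard g)
  have hrq : ¬ r ∣ p ^ 2 := fun h =>
    hne ((Nat.prime_dvd_prime_iff_eq hr S.prime).1 (hr.dvd_of_dvd_pow h))
  have hst : ∀ χ : IrrCharacter G, charDegree (χ : G → ℂ) = p ^ 2 → (χ : G → ℂ) g = 0 :=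
    fun χ hχ => vanish_of_ordProj_dvd S.prime (a := p ^ 2) (b := (p ^ 2 - 1) * m) S.card_eq
      S.p_not_dvd χ (hχ ▸ dvd_rfl) hp
  have h9 := S.nine_le
  rcases hr.dvd_mul.1 ((hr.dvd_mul.1 hn).resolve_left hrq) with h1 | h1
  · -- the characters of degree `q - 1` vanish as well
    refine column_absurd hg (show 2 ≤ m by have := S.two_m; omega) fun χ hχ => ?_
    rcases S.cases χ with h | h | h | h | h
    · exact absurd (S.unique_one χ h) hχ
    · exact Or.inl (hst χ h)
    · exact Or.inr ⟨2, by rw [h, ← S.two_m, mul_comm]⟩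
    · refine Or.inl (vanish_of_ordProj_dvd hr (a := p ^ 2 - 1) (b := p ^ 2 * m)
        (by rw [S.card_eq]; ring) ?_ χ (h ▸ dvd_rfl) hrg)
      exact fun h' => (hr.dvd_mul.1 h').elim hrq (S.not_dvd_both hr h1)
    · exact Or.inr (h ▸ dvd_rfl)
  · -- the characters of degree divisible by `m` vanish as well
    refine column_absurd hg (show 2 ≤ p ^ 2 - 1 by omega) fun χ hχ => ?_
    have hb : ¬ r ∣ p ^ 2 * (p ^ 2 - 1) :=
      fun h' => (hr.dvd_mul.1 h').elim hrq fun h'' => S.not_dvd_both hr h'' h1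
    have hcard : Nat.card G = m * (p ^ 2 * (p ^ 2 - 1)) := by rw [S.card_eq]; ring
    rcases S.cases χ with h | h | h | h | h
    · exact absurd (S.unique_one χ h) hχ
    · exact Or.inl (hst χ h)
    · exact Or.inl (vanish_of_ordProj_dvd hr hcard hb χ
        ⟨2, by rw [h, ← S.two_m, mul_comm]⟩ hrg)
    · exact Or.inr (h ▸ dvd_rfl)
    · exact Or.inl (vanish_of_ordProj_dvd hr hcard hb χ (h ▸ dvd_rfl) hrg)

theorem SquareHyp.card_sylow_group [Fact p.Prime] (P : Sylow p G) :
    Nat.card (P : Subgroup G) = p ^ 2 := by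
  rw [P.card_eq_multiplicity, S.card_eq, Nat.factorization_mul (by have := S.nine_le; omega)
    (Nat.mul_ne_zero (by have := S.nine_le; omega) (by have := S.m_mod; omega))]
  simp [Nat.factorization_eq_zero_of_not_dvd S.p_not_dvd, S.prime.factorization_pow]

theorem SquareHyp.comm [Fact p.Prime] (P : Sylow p G) : IsMulCommutative (P : Subgroup G) :=
  IsPGroup.isMulCommutative_of_card_eq_prime_sq (S.card_sylow_group P)

/-- The centraliser of a non-trivial element of a Sylow `p`-subgroup lies in it. -/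
theorem SquareHyp.mem_of_commute [Fact p.Prime] (P : Sylow p G) {x y : G}
    (hx : x ∈ (P : Subgroup G)) (hx1 : x ≠ 1) (hxy : Commute x y) : y ∈ (P : Subgroup G) := by
  have hC : IsPGroup p (Subgroup.centralizer ({x} : Set G)) := by
    intro z
    obtain ⟨j, hj⟩ := IsPGroup.iff_orderOf.1 P.isPGroup' ⟨x, hx⟩
    rw [← Subgroup.orderOf_coe] at hj
    have hj' : orderOf x = p ^ j := hj
    have hpx : p ∣ orderOf x := by
      rw [hj']
      refine dvd_pow_self p ?_
      rintro rfl
      exact hx1 (orderOf_eq_one_iff.1 (by simpa using hj'))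
    have hz : Commute x (z : G) := (Subgroup.mem_centralizer_singleton_iff.1 z.2).symm
    have hpow : ∀ r : ℕ, r.Prime → r ∣ orderOf (z : G) → r = p := by
      intro r hr hrz
      by_contra hne
      set w := (z : G) ^ (orderOf (z : G) / r) with hw
      have how : orderOf w = r := orderOf_pow_orderOf_div (orderOf_pos _).ne' hrz
      have hcop : Nat.Coprime (orderOf x) (orderOf w) := by
        rw [hj', how]
        exact ((Nat.coprime_primes S.prime hr).2 (Ne.symm hne)).pow_left _
      have hord := (hz.pow_right _ : Commute x w).orderOf_mul_eq_mul_orderOf_of_coprime hcop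
      refine hne (S.eq_p_of_dvd (g := x * w) ?_ (hord ▸ hpx.mul_right _) hr
        (by rw [hord, how]; exact dvd_mul_left _ _))
      intro h
      rw [h, orderOf_one] at hord
      exact hr.ne_one (how ▸ Nat.eq_one_of_mul_eq_one_left hord.symm)
    refine ⟨(orderOf (z : G)).primeFactorsList.length, Subtype.ext ?_⟩
    rw [Subgroup.coe_pow, Subgroup.coe_one]
    apply orderOf_dvd_iff_pow_eq_one.1
    rw [← Nat.eq_prime_pow_of_unique_prime_dvd (orderOf_pos _).ne'
      (fun {r} hr hd => hpow r hr hd)]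
  have hle : (P : Subgroup G) ≤ Subgroup.centralizer ({x} : Set G) := fun z hz =>
    Subgroup.mem_centralizer_singleton_iff.2
      (congrArg Subtype.val ((S.comm P).is_comm.comm ⟨z, hz⟩ ⟨x, hx⟩))
  rw [← P.is_maximal' hC hle]
  exact Subgroup.mem_centralizer_singleton_iff.2 hxy.symm.eq

theorem SquareHyp.ti [Fact p.Prime] {P Q : Sylow p G} {x : G} (hP : x ∈ (P : Subgroup G))
    (hQ : x ∈ (Q : Subgroup G)) (hx : x ≠ 1) : P = Q := by
  refine (Sylow.ext (Q.is_maximal' P.isPGroup' fun y hy => ?_))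
  exact S.mem_of_commute P hP hx
    (congrArg Subtype.val ((S.comm Q).is_comm.comm ⟨x, hQ⟩ ⟨y, hy⟩))

theorem SquareHyp.free [Fact p.Prime] {P R : Sylow p G} (hR : R ≠ P) {x : G}
    (hx : x ∈ (P : Subgroup G)) (hfix : x • R = R) : x = 1 := by
  by_contra hx1
  have hxN : x ∈ Subgroup.normalizer ((R : Subgroup G) : Set G) := by
    exact Sylow.smul_eq_iff_mem_normalizer.1 hfix
  have hxR : x ∈ (P : Subgroup G) ⊓ (R : Subgroup G) := by
    rw [← IsPGroup.inf_normalizer_sylow P.isPGroup' R]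
    exact ⟨hx, hxN⟩
  exact hR (S.ti hxR.1 hxR.2 hx1).symm

theorem SquareHyp.card_sylow [Fact p.Prime] : Nat.card (Sylow p G) = p ^ 2 + 1 := by
  classical
  haveI := Fintype.ofFinite (Sylow p G)
  obtain ⟨P⟩ := (inferInstance : Nonempty (Sylow p G))
  have hne : Nat.card (Sylow p G) ≠ 1 := by
    intro h1
    haveI : Subsingleton (Sylow p G) := (Nat.card_eq_one_iff_unique.1 h1).1
    haveI := Sylow.normal_of_subsingleton (P := P)
    obtain ⟨χ, hχ⟩ := S.exists_q
    obtain ⟨d, hd, hdvd⟩ := CfsgLib.CharIto.degree_dvd_index_of_abelian_normal χ.2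
      (P : Subgroup G) inferInstance
      (fun a ha b hb => congrArg Subtype.val ((S.comm P).is_comm.comm ⟨a, ha⟩ ⟨b, hb⟩))
    rw [← cast_irrDegree χ, hχ, Nat.cast_inj] at hd
    exact P.not_dvd_index ((dvd_pow_self p two_ne_zero).trans (hd ▸ hdvd))
  let X := {R : Sylow p G // R ≠ P}
  letI : MulAction (P : Subgroup G) X :=
    { smul := fun u R => ⟨(u : G) • (R : Sylow p G), fun h => R.2 (by
        have hu : (u : G) • P = P := Sylow.smul_eq_iff_mem_normalizer.2
          (Subgroup.le_normalizer u.2)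
        exact smul_left_cancel (u : G) (h.trans hu.symm))⟩
      one_smul := fun R => Subtype.ext (one_smul G (R : Sylow p G))
      mul_smul := fun u v R => Subtype.ext (mul_smul (u : G) (v : G) (R : Sylow p G)) }
  have hfree : ∀ R : X, stabilizer (P : Subgroup G) R = ⊥ := fun R =>
    (Subgroup.eq_bot_iff_forall _).2 fun u hu =>
      Subtype.ext (S.free R.2 u.2 (congrArg Subtype.val (mem_stabilizer_iff.1 hu)))
  have hdvd : p ^ 2 ∣ Nat.card X := by
    haveI := Fintype.ofFinite X
    rw [Nat.card_congr (selfEquivSigmaOrbitsQuotientStabilizer (P : Subgroup G) X), Nat.card_sigma]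
    refine Finset.dvd_sum fun ω _ => ?_
    rw [← Subgroup.index_eq_card, hfree, Subgroup.index_bot, S.card_sylow_group P]
  have hX : Nat.card X + 1 = Nat.card (Sylow p G) := by
    have hpos : 0 < Nat.card (Sylow p G) := Nat.card_pos
    rw [Nat.card_eq_fintype_card, Fintype.card_subtype_compl, Fintype.card_subtype_eq,
      ← Nat.card_eq_fintype_card]
    omega
  obtain ⟨k, hk⟩ := hdvd
  obtain ⟨e, he⟩ : Nat.card (Sylow p G) ∣ (p ^ 2 - 1) * m := by
    have h1 := P.card_dvd_index
    have h2 := (P : Subgroup G).card_mul_index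
    rw [S.card_sylow_group, S.card_eq] at h2
    exact (Nat.eq_of_mul_eq_mul_left (by have := S.nine_le; omega) h2) ▸ h1
  have h9 := S.nine_le
  have h2m := S.two_m
  generalize Nat.card (Sylow p G) = n at hne he hX
  generalize hq : p ^ 2 = q at hk he hX h9 h2m
  generalize Nat.card X = c at hk hX
  subst hk
  obtain ⟨a, rfl⟩ : ∃ a, q = a + 1 := ⟨q - 1, by omega⟩
  rw [Nat.add_sub_cancel] at he
  have hk1 : 1 ≤ k := Nat.one_le_iff_ne_zero.2 fun h0 => hne (by rw [← hX, h0, mul_zero])
  subst hX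
  -- `n e = (q - 1)(q + 1) / 2` and `n ≡ 1 mod q` give `2 e ≡ -1 mod q`
  have key : 2 * e * ((a + 1) * k + 1) + 1 = (a + 1) * (a + 1) := by
    have : a * (2 * m) + 1 = (a + 1) * (a + 1) := by rw [h2m]; ring
    rw [← this]
    have he2 := congrArg (2 * ·) he
    rw [show a * (2 * m) = 2 * (a * m) by ring, he2]
    ring
  have h1 : (a + 1) ∣ 2 * e + 1 := by
    have h3 : 2 * e * ((a + 1) * k) + (2 * e + 1) = (a + 1) * (a + 1) := by
      rw [← key]; ring
    exact (Nat.dvd_add_right (dvd_mul_of_dvd_right (dvd_mul_right _ k) _)).1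
      (h3 ▸ dvd_mul_right _ _)
  have h2 : a + 1 ≤ 2 * e + 1 := Nat.le_of_dvd (by omega) h1
  have h3 : 2 * e * ((a + 1) * k + 1) ≤ a * ((a + 1) + 1) := by
    have : (a + 1) * (a + 1) = a * ((a + 1) + 1) + 1 := by ring
    omega
  have h4 : 2 * e ≤ a := by
    have h5 : 2 * e * ((a + 1) + 1) ≤ 2 * e * ((a + 1) * k + 1) :=
      Nat.mul_le_mul le_rfl (Nat.add_le_add_right (Nat.le_mul_of_pos_right _ hk1) 1)
    exact Nat.le_of_mul_le_mul_right (h5.trans h3) (by omega)
  rw [show 2 * e = a by omega] at key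
  have : a * ((a + 1) * k + 1) = a * ((a + 1) + 1) := by
    have : (a + 1) * (a + 1) = a * ((a + 1) + 1) + 1 := by ring
    omega
  have := Nat.eq_of_mul_eq_mul_left (by omega) this
  omega

theorem SquareHyp.regular [Fact p.Prime] (P R T : Sylow p G) (hR : R ≠ P) (hT : T ≠ P) :
    ∃! u : (P : Subgroup G), (u : G) • R = T := by
  classical
  haveI := Fintype.ofFinite (Sylow p G)
  let f : ↥(P : Subgroup G) → {Q : Sylow p G // Q ≠ P} := fun u => ⟨(u : G) • R, fun h =>
    hR (smul_left_cancel (u : G) (h.trans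
      (Sylow.smul_eq_iff_mem_normalizer.2 (Subgroup.le_normalizer u.2)).symm))⟩
  have hinj : Function.Injective f := by
    intro u v e
    have e' : (u : G) • R = (v : G) • R := congrArg Subtype.val e
    have h1 := S.free hR (mul_mem (inv_mem v.2) u.2) (by rw [mul_smul, e', inv_smul_smul])
    exact Subtype.ext (inv_mul_eq_one.1 h1).symm
  have hbij : Function.Bijective f := (Nat.bijective_iff_injective_and_card f).2 ⟨hinj, by
    have h := S.card_sylow
    rw [S.card_sylow_group, Nat.card_eq_fintype_card (α := {Q : Sylow p G // Q ≠ P}),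
      Fintype.card_subtype_compl, Fintype.card_subtype_eq, ← Nat.card_eq_fintype_card, h]
    omega⟩
  obtain ⟨u, hu⟩ := hbij.2 ⟨T, hT⟩
  exact ⟨u, congrArg Subtype.val hu,
    fun v hv => hinj (Subtype.ext (hv.trans (congrArg Subtype.val hu).symm))⟩

theorem SquareHyp.triple [Fact p.Prime] (g : G) (a b c : Sylow p G) (hab : a ≠ b) (hbc : b ≠ c)
    (hac : a ≠ c) (ha : g • a = a) (hb : g • b = b) (hc : g • c = c) : g = 1 := by
  obtain ⟨u, hu, huniq⟩ := S.regular a b c hab.symm hac.symm
  have hgN : g ∈ Subgroup.normalizer ((a : Subgroup G) : Set G) :=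
    Sylow.smul_eq_iff_mem_normalizer.1 ha
  have hconj : g * u * g⁻¹ ∈ (a : Subgroup G) := (Subgroup.mem_normalizer_iff.1 hgN _).1 u.2
  have he := congrArg Subtype.val (huniq ⟨g * u * g⁻¹, hconj⟩ (by
    dsimp only
    rw [mul_smul, mul_smul, inv_smul_eq_iff.2 hb.symm, hu, hc]))
  have hu1 : (u : G) ≠ 1 := fun h => hbc (by rw [← hu, h, one_smul])
  exact S.free hab.symm
    (S.mem_of_commute a u.2 hu1 (mul_inv_eq_iff_eq_mul.1 he).symm) hb

theorem SquareHyp.zassenhaus [Fact p.Prime] : IsZassenhausGroup G (Sylow p G) := by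
  classical
  haveI := Fintype.ofFinite (Sylow p G)
  have h9 := S.nine_le
  have hcard : Fintype.card (Sylow p G) = p ^ 2 + 1 := by
    rw [← Nat.card_eq_fintype_card, S.card_sylow]
  have h3 : ∀ a b : Sylow p G, ∃ c, c ≠ a ∧ c ≠ b := by
    intro a b
    obtain ⟨c, hc⟩ := Finset.exists_mem_notMem_of_card_lt_card (t := (Finset.univ : Finset (Sylow p G)))
      (s := {a, b}) (lt_of_le_of_lt Finset.card_le_two (by rw [Finset.card_univ]; omega))
    simp only [Finset.mem_univ, Finset.mem_insert, Finset.mem_singleton, not_or, true_and] at hc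
    exact ⟨c, hc⟩
  refine ⟨⟨fun {g h} he => ?_⟩, ?_, fun g a b c hab hbc hac => S.triple g a b c hab hbc hac, ?_,
    fun N hN htr => ?_⟩
  · obtain ⟨a⟩ := (inferInstance : Nonempty (Sylow p G))
    obtain ⟨b, hb, -⟩ := h3 a a
    obtain ⟨c, hca, hcb⟩ := h3 a b
    have hfix : ∀ x : Sylow p G, (h⁻¹ * g) • x = x := fun x => by
      rw [mul_smul, he x, inv_smul_smul]
    exact (inv_mul_eq_one.1 (S.triple _ a b c hb.symm hcb.symm hca.symm
      (hfix a) (hfix b) (hfix c))).symm
  · refine MulAction.is_two_pretransitive_iff.2 fun {a b c d} hab hcd => ?_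
    obtain ⟨g, hg⟩ := MulAction.exists_smul_eq G a c
    obtain ⟨u, hu, -⟩ := S.regular c (g • b) d
      (fun h => hab (smul_left_cancel g (hg.trans h.symm))) (fun h => hcd h.symm)
    refine ⟨u * g, ?_, ?_⟩
    · rw [mul_smul, hg]
      exact Sylow.smul_eq_iff_mem_normalizer.2 (Subgroup.le_normalizer u.2)
    · rw [mul_smul]; exact hu
  · obtain ⟨a⟩ := (inferInstance : Nonempty (Sylow p G))
    obtain ⟨b, hb, -⟩ := h3 a a
    obtain ⟨g, hgN, hga⟩ : ∃ g ∈ Subgroup.normalizer ((a : Subgroup G) : Set G),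
        g ∉ (a : Subgroup G) := by
      by_contra hcon
      push Not at hcon
      have h1 := Subgroup.card_le_of_le hcon
      have h2 := (Subgroup.normalizer ((a : Subgroup G) : Set G)).card_mul_index
      rw [show (Subgroup.normalizer ((a : Subgroup G) : Set G)).index = Nat.card (Sylow p G) from
        (Sylow.card_eq_index_normalizer a).symm, S.card_sylow, S.card_eq] at h2
      rw [S.card_sylow_group] at h1
      have h4 := S.two_m
      generalize Nat.card (Subgroup.normalizer ((a : Subgroup G) : Set G)) = N at h1 h2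
      generalize p ^ 2 = q at *
      have h5 : N * (q + 1) ≤ q * (q + 1) := Nat.mul_le_mul_right _ h1
      have h6 : 2 * (q * ((q - 1) * m)) = q * ((q - 1) * (q + 1)) := by rw [← h4]; ring
      have h7 : 3 * (q * (q + 1)) ≤ q * ((q - 1) * (q + 1)) :=
        le_of_eq_of_le (by ring : _ = q * (3 * (q + 1)))
          (Nat.mul_le_mul le_rfl (Nat.mul_le_mul_right _ (by omega)))
      have : 0 < q * (q + 1) := by positivity
      omega
    have hga' : g • a = a := Sylow.smul_eq_iff_mem_normalizer.2 hgN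
    obtain ⟨u, hu, -⟩ := S.regular a b (g • b) hb (fun h => hb (smul_left_cancel g (h.trans hga'.symm)))
    refine ⟨(u : G)⁻¹ * g, fun h => hga ?_, a, b, hb.symm, ?_, ?_⟩
    · rw [← inv_mul_eq_one.1 h]; exact u.2
    · rw [mul_smul, hga', inv_smul_eq_iff]
      exact (Sylow.smul_eq_iff_mem_normalizer.2 (Subgroup.le_normalizer u.2)).symm
    · rw [mul_smul, inv_smul_eq_iff, hu]
  · -- no regular normal subgroup
    by_contra hcon
    push Not at hcon
    obtain ⟨a⟩ := (inferInstance : Nonempty (Sylow p G))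
    haveI := htr
    have hfix : ∀ x : N, x • a = a → x = 1 := fun x hx =>
      (Subgroup.eq_bot_iff_forall _).1 (hcon a) x hx
    have hNcard : Nat.card N = p ^ 2 + 1 := by
      rw [← S.card_sylow]
      refine Nat.card_eq_of_bijective (fun x : N => x • a) ⟨fun x y e => ?_, fun b => ?_⟩
      · exact (inv_mul_eq_one.1 (hfix (y⁻¹ * x) (by
          rw [mul_smul]; exact inv_smul_eq_iff.2 e))).symm
      · exact MulAction.exists_smul_eq N a b
    -- conjugation by `a` is semiregular, hence transitive, on the non-trivial elements of `N`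
    haveI : Fintype N := Fintype.ofFinite N
    have hdisj : ∀ x : G, x ∈ N → x ∈ (a : Subgroup G) → x = 1 := fun x hx hxa =>
      congrArg Subtype.val (hfix ⟨x, hx⟩
        (Sylow.smul_eq_iff_mem_normalizer.2 (Subgroup.le_normalizer hxa)))
    have hord : ∀ x y : N, x ≠ 1 → y ≠ 1 → orderOf y = orderOf x := by
      intro x y hx hy
      let f : ↥(a : Subgroup G) → {z : N // z ≠ 1} := fun u =>
        ⟨⟨(u : G) * x * (u : G)⁻¹, hN.conj_mem _ x.2 _⟩, fun h => hx (Subtype.ext
          (conj_eq_one_iff.1 (congrArg Subtype.val h)))⟩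
      have hinj : Function.Injective f := by
        intro u v e
        have e' : (u : G) * x * (u : G)⁻¹ = (v : G) * x * (v : G)⁻¹ :=
          congrArg (fun z : {z : N // z ≠ 1} => ((z : N) : G)) e
        have hcm : Commute ((v : G)⁻¹ * u) (x : G) := by
          have h1 := congrArg (fun t => (v : G)⁻¹ * t * (u : G)) e'
          simpa [Commute, SemiconjBy, mul_assoc] using h1
        refine Subtype.ext (inv_mul_eq_one.1 (by_contra fun h1 => hx (Subtype.ext ?_))).symm
        exact hdisj _ x.2 (S.mem_of_commute a (mul_mem (inv_mem v.2) u.2) h1 hcm)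
      have hbij : Function.Bijective f := (Nat.bijective_iff_injective_and_card f).2 ⟨hinj, by
        rw [S.card_sylow_group, Nat.card_eq_fintype_card, Fintype.card_subtype_compl,
          Fintype.card_subtype_eq, ← Nat.card_eq_fintype_card, hNcard]
        omega⟩
      obtain ⟨u, hu⟩ := hbij.2 ⟨y, hy⟩
      have : ((u : G) * x * (u : G)⁻¹) = (y : G) :=
        congrArg (fun z : {z : N // z ≠ 1} => ((z : N) : G)) hu
      rw [← Subgroup.orderOf_coe y, ← this, ← Subgroup.orderOf_coe x]
      exact (SemiconjBy.orderOf_eq (u : G) (by simp [SemiconjBy, mul_assoc])).symm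
    have h2 : 2 ∣ Nat.card N := hNcard ▸ ⟨m, S.two_m.symm⟩
    have hm1 : m ≠ 1 := by have := S.two_m; omega
    obtain ⟨r, hr, hrm⟩ := Nat.exists_prime_and_dvd hm1
    haveI : Fact r.Prime := ⟨hr⟩
    obtain ⟨x, hx⟩ := exists_prime_orderOf_dvd_card' (G := N) 2 h2
    obtain ⟨y, hy⟩ := exists_prime_orderOf_dvd_card' (G := N) r
      (hNcard ▸ S.two_m ▸ hrm.mul_left 2)
    have hx1 : x ≠ 1 := fun h => by rw [h, orderOf_one] at hx; omega
    have hy1 : y ≠ 1 := fun h => by rw [h, orderOf_one] at hy; exact hr.ne_one hy.symm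
    have := hord x y hx1 hy1
    rw [hx, hy] at this
    subst this
    have := S.m_mod
    omega

/-- The group is `PSL(2, K)` for a field `K` with `p ^ 2` elements. -/
theorem SquareHyp.recognition [Fact p.Prime] :
    ∃ (K : Type) (_ : Field K) (_ : Fintype K), Fintype.card K = p ^ 2 ∧
      Nonempty (G ≃* Matrix.ProjectiveSpecialLinearGroup (Fin 2) K) := by
  classical
  haveI := Fintype.ofFinite (Sylow p G)
  obtain ⟨P⟩ := (inferInstance : Nonempty (Sylow p G))
  have h9 := S.nine_le
  have hG : 2 * Nat.card G = p ^ 2 * ((p ^ 2 - 1) * (p ^ 2 + 1)) := by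
    rw [S.card_eq, ← S.two_m]; ring
  rcases Cfsg.Agent.S0731.result S.zassenhaus P (P : Subgroup G)
    (by rw [Sylow.stabilizer_eq_normalizer]; exact Subgroup.le_normalizer)
    (by rw [Sylow.stabilizer_eq_normalizer]; exact Subgroup.normal_in_normalizer)
    (S.comm P) (S.regular P) with ⟨ht, hstab⟩ | ⟨K, iF, iT, hchar, hiso⟩
  · exfalso
    haveI := ht
    have hle : 3 ≤ Fintype.card (Sylow p G) := by
      rw [← Nat.card_eq_fintype_card, S.card_sylow]; omega
    obtain ⟨t⟩ := Function.Embedding.nonempty_of_card_le (α := Fin 3) (β := Sylow p G)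
      (by simpa using hle)
    have hpre : MulAction.IsPretransitive G (Fin 3 ↪ Sylow p G) := ht
    haveI := hpre
    have h := (stabilizer G t).index_mul_card
    rw [hstab, Subgroup.card_bot, mul_one, ← hstab, MulAction.index_stabilizer_of_transitive G t,
      Nat.card_eq_fintype_card (α := Fin 3 ↪ Sylow p G), Fintype.card_embedding_eq,
      Fintype.card_fin, ← Nat.card_eq_fintype_card (α := Sylow p G), S.card_sylow] at h
    rw [← h] at hG
    simp only [Nat.descFactorial_succ, Nat.descFactorial_zero, mul_one, Nat.sub_zero,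
      show p ^ 2 + 1 - 1 = p ^ 2 by omega, show p ^ 2 + 1 - 2 = p ^ 2 - 1 by omega] at hG
    generalize p ^ 2 = q at *
    have hpos : 0 < q * ((q - 1) * (q + 1)) := Nat.mul_pos (by omega) (Nat.mul_pos (by omega) (by omega))
    have hh : (q - 1) * (q * (q + 1)) = q * ((q - 1) * (q + 1)) := by ring
    omega
  · refine ⟨K, iF, iT, ?_, hiso⟩
    obtain ⟨e⟩ := hiso
    have hK := CfsgLib.ClassicalGroups.card_psl_two_gcd (K := K)
    have hodd : Fintype.card K % 2 = 1 := FiniteField.odd_card_of_char_ne_two hchar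
    have hgcd : Nat.gcd 2 (Fintype.card K - 1) = 2 :=
      Nat.gcd_eq_left (Nat.dvd_of_mod_eq_zero (by omega))
    rw [hgcd, ← Nat.card_congr e.toEquiv, hG] at hK
    have hmono : StrictMonoOn (fun x : ℕ => x * (x ^ 2 - 1)) (Set.Ici 1) := by
      intro x hx y _ hxy
      have hx' : 1 ≤ x ^ 2 := Nat.one_le_pow _ _ hx
      have h1 : x ^ 2 < y ^ 2 := Nat.pow_lt_pow_left hxy two_ne_zero
      have h2 : x ^ 2 - 1 < y ^ 2 - 1 := by omega
      exact Nat.mul_lt_mul_of_le_of_lt hxy.le h2 (Nat.lt_of_le_of_lt (Nat.zero_le x) hxy)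
    refine (hmono.injOn (show 1 ≤ Fintype.card K by omega) (show 1 ≤ p ^ 2 by omega) ?_)
    show Fintype.card K * (Fintype.card K ^ 2 - 1) = p ^ 2 * ((p ^ 2) ^ 2 - 1)
    rw [← hK, mul_comm (p ^ 2 - 1), ← Nat.sq_sub_sq (p ^ 2) 1, one_pow]

end CfsgLib.Recog.DegreeMultiset
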