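import Cfsg.Agent.Lib.Recog.SelfReciprocalRoots

/-!
A multiset of eight non-zero eigenvalues closed under `x ↦ x ^ q` and `x ↦ x⁻¹` fits one of
twelve bounds for order and multiplicity.
-/

set_option autoImplicit false

namespace CfsgLib.Recog.EightDimOrders

open scoped Classical

/-- The twelve bounds, as pairs `(b, M)` for the number `2 ^ b * M`. -/
def bounds (q : ℕ) : List (ℕ × ℕ) :=
  [(0, q ^ 4 + 1), (0, q ^ 4 - 1), (0, (q ^ 3 + 1) * (q - 1)), (0, (q ^ 3 - 1) * (q + 1)),
    (1, q ^ 3 + 1), (1, q ^ 3 - 1), (1, (q + 1) * (q ^ 2 + 1)), (1, (q - 1) * (q ^ 2 + 1)),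
    (2, q ^ 2 + 1), (2, q ^ 2 - 1), (3, q + 1), (3, q - 1)]

/-- The divisors of the twelve numbers `2 ^ b * M`. -/
def orders (q : ℕ) : Set ℕ := {d | ∃ e ∈ bounds q, d ∣ 2 ^ e.1 * e.2}

/-- A multiset of eight non-zero elements of a field of characteristic two with the symmetries. -/
structure Symm (K : Type*) [Field K] (q : ℕ) (R : Multiset K) : Prop where
  hq : 2 ≤ q
  two : (2 : K) = 0
  inj : Function.Injective fun x : K => x ^ q
  card : R.card = 8
  ne_zero : ∀ x ∈ R, x ≠ 0
  frob : R.map (fun x => x ^ q) = R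
  inv : R.map (fun x => x⁻¹) = R

variable {K : Type*} [Field K] {q : ℕ} {R : Multiset K}

namespace Symm

set_option linter.unusedSectionVars false

variable (h : Symm K q R)
include h

theorem count_pow (x : K) : R.count (x ^ q) = R.count x := by
  have e := Multiset.count_map_eq_count' (fun y : K => y ^ q) R h.inj x
  rwa [h.frob] at e

theorem count_inv (x : K) : R.count x⁻¹ = R.count x := by
  have e := Multiset.count_map_eq_count' (fun y : K => y⁻¹) R inv_injective x
  rwa [h.inv] at e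

theorem count_iter (x : K) (i : ℕ) : R.count (x ^ q ^ i) = R.count x := by
  induction i with
  | zero => rw [pow_zero, pow_one]
  | succ i ih => rw [pow_succ, pow_mul, h.count_pow, ih]

theorem mem_pow {x : K} (hx : x ∈ R) : x ^ q ∈ R := by
  rw [← Multiset.count_pos, h.count_pow]
  exact Multiset.count_pos.2 hx

theorem iter_inj (i : ℕ) : Function.Injective fun x : K => x ^ q ^ i := by
  induction i with
  | zero => intro x y e; simpa using e
  | succ i ih =>
    intro x y e
    simp only [pow_succ, pow_mul] at e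
    exact ih (h.inj e)

theorem exists_period {x : K} (hx : x ∈ R) :
    ∃ k, 0 < k ∧ (x ^ q ^ k = x ∨ x ^ q ^ k = x⁻¹) := by
  have hm : ∀ i : ℕ, x ^ q ^ i ∈ R := fun i => by
    rw [← Multiset.count_pos, h.count_iter]
    exact Multiset.count_pos.2 hx
  obtain ⟨i, j, hne, he⟩ := Finite.exists_ne_map_eq_of_infinite
    (fun i : ℕ => (⟨x ^ q ^ i, Multiset.mem_toFinset.2 (hm i)⟩ : R.toFinset))
  have he' : x ^ q ^ i = x ^ q ^ j := congrArg Subtype.val he
  have key : ∀ i j, i < j → x ^ q ^ i = x ^ q ^ j →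
      ∃ k, 0 < k ∧ (x ^ q ^ k = x ∨ x ^ q ^ k = x⁻¹) := by
    intro i j hij e
    refine ⟨j - i, by omega, Or.inl (h.iter_inj i ?_).symm⟩
    change x ^ q ^ i = (x ^ q ^ (j - i)) ^ q ^ i
    rw [← pow_mul, ← pow_add, Nat.sub_add_cancel hij.le, e]
  rcases lt_or_gt_of_ne hne with hl | hl
  · exact key i j hl he'
  · exact key j i hl he'.symm

omit h in
/-- The least `k` with `x ^ q ^ k = x` or `x⁻¹`. -/
noncomputable def per (q : ℕ) (x : K) : ℕ :=
  if e : ∃ k, 0 < k ∧ (x ^ q ^ k = x ∨ x ^ q ^ k = x⁻¹) then Nat.find e else 0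

theorem per_spec {x : K} (hx : x ∈ R) :
    0 < per q x ∧ (x ^ q ^ per q x = x ∨ x ^ q ^ per q x = x⁻¹) := by
  rw [per, dif_pos (h.exists_period hx)]
  exact Nat.find_spec (h.exists_period hx)

theorem per_min {x : K} {k : ℕ} (hk : 0 < k) (hk' : k < per q x) :
    x ^ q ^ k ≠ x ∧ x ^ q ^ k ≠ x⁻¹ := by
  have e : ∃ k, 0 < k ∧ (x ^ q ^ k = x ∨ x ^ q ^ k = x⁻¹) := by
    by_contra e
    rw [per, dif_neg e] at hk'
    omega
  rw [per, dif_pos e] at hk'
  have := Nat.find_min e hk'
  tauto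

omit h in
/-- The orbit of `x`. -/
noncomputable def orb (q : ℕ) (x : K) : Finset K :=
  (Finset.range (per q x)).image (fun i => x ^ q ^ i) ∪
    (Finset.range (per q x)).image (fun i => (x ^ q ^ i)⁻¹)

omit h in
theorem mem_orb {x y : K} :
    y ∈ orb q x ↔ ∃ i < per q x, y = x ^ q ^ i ∨ y = (x ^ q ^ i)⁻¹ := by
  simp only [orb, Finset.mem_union, Finset.mem_image, Finset.mem_range]
  constructor
  · rintro (⟨i, hi, rfl⟩ | ⟨i, hi, rfl⟩)
    · exact ⟨i, hi, Or.inl rfl⟩
    · exact ⟨i, hi, Or.inr rfl⟩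
  · rintro ⟨i, hi, rfl | rfl⟩
    · exact Or.inl ⟨i, hi, rfl⟩
    · exact Or.inr ⟨i, hi, rfl⟩

theorem self_mem_orb {x : K} (hx : x ∈ R) : x ∈ orb q x :=
  mem_orb.2 ⟨0, (h.per_spec hx).1, Or.inl (by rw [pow_zero, pow_one])⟩

theorem count_orb {x y : K} (hy : y ∈ orb q x) : R.count y = R.count x := by
  obtain ⟨i, -, rfl | rfl⟩ := mem_orb.1 hy
  · exact h.count_iter x i
  · rw [h.count_inv, h.count_iter]

omit h in
theorem inv_mem_orb {x y : K} (hy : y ∈ orb q x) : y⁻¹ ∈ orb q x := by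
  obtain ⟨i, hi, rfl | rfl⟩ := mem_orb.1 hy
  · exact mem_orb.2 ⟨i, hi, Or.inr rfl⟩
  · exact mem_orb.2 ⟨i, hi, Or.inl (inv_inv _)⟩

theorem pow_mem_orb {x : K} (hx : x ∈ R) {y : K} (hy : y ∈ orb q x) : y ^ q ∈ orb q x := by
  obtain ⟨hpos, hper⟩ := h.per_spec hx
  have key : ∀ i < per q x, (x ^ q ^ i) ^ q ∈ orb q x := by
    intro i hi
    rw [← pow_mul, ← pow_succ]
    by_cases hl : i + 1 < per q x
    · exact mem_orb.2 ⟨i + 1, hl, Or.inl rfl⟩
    · rw [show i + 1 = per q x by omega]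
      rcases hper with e | e <;> rw [e]
      · exact h.self_mem_orb hx
      · exact inv_mem_orb (h.self_mem_orb hx)
  obtain ⟨i, hi, rfl | rfl⟩ := mem_orb.1 hy
  · exact key i hi
  · rw [inv_pow]
    exact inv_mem_orb (key i hi)

theorem iter_mem_orb {x : K} (hx : x ∈ R) {y : K} (hy : y ∈ orb q x) (j : ℕ) :
    y ^ q ^ j ∈ orb q x := by
  induction j with
  | zero => simpa using hy
  | succ j ih => rw [pow_succ, pow_mul]; exact h.pow_mem_orb hx ih

theorem eq_one_of_inv_eq {x : K} (hx : x ≠ 0) (e : x⁻¹ = x) : x = 1 := by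
  have h2 : (x - 1) * (x - 1) = 0 := by
    have hxx : x * x = 1 := by
      conv_lhs => arg 1; rw [← e]
      exact inv_mul_cancel₀ hx
    linear_combination hxx + (1 - x) * h.two
  exact sub_eq_zero.1 (mul_self_eq_zero.1 h2)

theorem iter_eq_one {x : K} {i : ℕ} (e : x ^ q ^ i = 1) : x = 1 :=
  h.iter_inj i (e.trans (one_pow _).symm)

theorem card_orb {x : K} (hx : x ∈ R) (h1 : x ≠ 1) : (orb q x).card = 2 * per q x := by
  have hx0 := h.ne_zero x hx
  have hno : ∀ i j, i < j → j < per q x →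
      x ^ q ^ i ≠ x ^ q ^ j ∧ x ^ q ^ i ≠ (x ^ q ^ j)⁻¹ := by
    intro i j hij hj
    obtain ⟨d, rfl⟩ : ∃ d, j = d + i := ⟨j - i, by omega⟩
    obtain ⟨m1, m2⟩ := h.per_min (x := x) (show 0 < d by omega) (by omega)
    rw [pow_add, pow_mul, ← inv_pow]
    exact ⟨fun e => m1 (h.iter_inj i e).symm, fun e => m2 ((inv_inv _).symm.trans (congrArg (·⁻¹) (h.iter_inj i e)).symm)⟩
  have hne : ∀ i, x ^ q ^ i ≠ (x ^ q ^ i)⁻¹ := fun i e =>
    h1 (h.iter_eq_one (h.eq_one_of_inv_eq (pow_ne_zero _ hx0) e.symm))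
  have hinj : ∀ i ∈ Finset.range (per q x), ∀ j ∈ Finset.range (per q x),
      x ^ q ^ i = x ^ q ^ j → i = j := by
    intro i hi j hj e
    rw [Finset.mem_range] at hi hj
    rcases lt_trichotomy i j with hl | hl | hl
    · exact absurd e (hno i j hl hj).1
    · exact hl
    · exact absurd e.symm (hno j i hl hi).1
  rw [orb, Finset.card_union_of_disjoint ?_, Finset.card_image_of_injOn hinj,
    Finset.card_image_of_injOn (fun i hi j hj e => hinj i hi j hj (inv_injective e)),
    Finset.card_range, two_mul]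
  rw [Finset.disjoint_left]
  simp only [Finset.mem_image, Finset.mem_range]
  rintro y ⟨i, hi, rfl⟩ ⟨j, hj, e⟩
  rcases lt_trichotomy i j with hl | hl | hl
  · exact (hno i j hl hj).2 e.symm
  · subst hl; exact hne i e.symm
  · exact (hno j i hl hi).2 (by rw [← e, inv_inv])

theorem sum_count_le (S : Finset K) : ∑ y ∈ S, R.count y ≤ 8 := by
  rw [← h.card, ← Multiset.toFinset_sum_count_eq R,
    ← Finset.sum_filter_ne_zero (s := S) (f := fun y => R.count y)]
  refine Finset.sum_le_sum_of_subset fun y hy => ?_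
  rw [Multiset.mem_toFinset, ← Multiset.count_pos]
  exact Nat.pos_of_ne_zero (Finset.mem_filter.1 hy).2

theorem sum_orb {x : K} (hx : x ∈ R) (h1 : x ≠ 1) :
    ∑ y ∈ orb q x, R.count y = 2 * per q x * R.count x := by
  rw [Finset.sum_const_nat (fun y hy => h.count_orb hy), h.card_orb hx h1]

theorem one_notMem {x : K} (h1 : x ≠ 1) : (1 : K) ∉ orb q x := by
  intro hm
  obtain ⟨i, -, e | e⟩ := mem_orb.1 hm
  · exact h1 (h.iter_eq_one e.symm)
  · exact h1 (h.iter_eq_one (inv_eq_one.1 e.symm))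

theorem disjoint_orb {x z : K} (hx : x ∈ R) (hz : z ∈ R) (hzo : z ∉ orb q x) :
    Disjoint (orb q x) (orb q z) := by
  rw [Finset.disjoint_left]
  intro y hy hy'
  obtain ⟨hpos, hper⟩ := h.per_spec hz
  have hcl : ∀ i < per q z, z ^ q ^ i ∈ orb q x → False := by
    intro i hi hm
    have hm' := h.iter_mem_orb hx hm (per q z - i)
    rw [← pow_mul, ← pow_add, show i + (per q z - i) = per q z by omega] at hm'
    rcases hper with e | e <;> rw [e] at hm'
    · exact hzo hm'
    · exact hzo (inv_inv z ▸ inv_mem_orb hm')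
  obtain ⟨i, hi, rfl | rfl⟩ := mem_orb.1 hy'
  · exact hcl i hi hy
  · exact hcl i hi (inv_inv (z ^ q ^ i) ▸ inv_mem_orb hy)

theorem bound₁ {x : K} (hx : x ∈ R) (h1 : x ≠ 1) :
    R.count 1 + 2 * per q x * R.count x ≤ 8 := by
  have e := h.sum_count_le (insert 1 (orb q x))
  rwa [Finset.sum_insert (h.one_notMem h1), h.sum_orb hx h1] at e

theorem bound₂ {x z : K} (hx : x ∈ R) (h1 : x ≠ 1) (hz : z ∈ R) (hz1 : z ≠ 1)
    (hzo : z ∉ orb q x) :
    R.count 1 + 2 * per q x * R.count x + 2 * per q z * R.count z ≤ 8 := by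
  have e := h.sum_count_le (insert 1 (orb q x ∪ orb q z))
  rw [Finset.sum_insert (by simp [h.one_notMem h1, h.one_notMem hz1]),
    Finset.sum_union (h.disjoint_orb hx hz hzo), h.sum_orb hx h1, h.sum_orb hz hz1] at e
  omega

theorem bound₃ {x z w : K} (hx : x ∈ R) (h1 : x ≠ 1) (hz : z ∈ R) (hz1 : z ≠ 1)
    (hzo : z ∉ orb q x) (hw : w ∈ R) (hw1 : w ≠ 1) (hwo : w ∉ orb q x) (hwo' : w ∉ orb q z) :
    R.count 1 + 2 * per q x * R.count x + 2 * per q z * R.count z +
      2 * per q w * R.count w ≤ 8 := by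
  have e := h.sum_count_le (insert 1 (orb q x ∪ orb q z ∪ orb q w))
  rw [Finset.sum_insert (by simp [h.one_notMem h1, h.one_notMem hz1, h.one_notMem hw1]),
    Finset.sum_union (Finset.disjoint_union_left.2
      ⟨h.disjoint_orb hx hw hwo, h.disjoint_orb hz hw hwo'⟩),
    Finset.sum_union (h.disjoint_orb hx hz hzo), h.sum_orb hx h1, h.sum_orb hz hz1,
    h.sum_orb hw hw1] at e
  omega

omit h in
theorem pow_eq_one_orb {x : K} {M : ℕ} (hM : x ^ M = 1) {y : K} (hy : y ∈ orb q x) :
    y ^ M = 1 := by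
  obtain ⟨i, -, rfl | rfl⟩ := mem_orb.1 hy
  · rw [← pow_mul, Nat.mul_comm, pow_mul, hM, one_pow]
  · rw [inv_pow, ← pow_mul, Nat.mul_comm, pow_mul, hM, one_pow, inv_one]

theorem per_pow {x : K} (hx : x ∈ R) :
    x ^ (q ^ per q x - 1) = 1 ∨ x ^ (q ^ per q x + 1) = 1 := by
  have hx0 := h.ne_zero x hx
  rcases (h.per_spec hx).2 with e | e
  · left
    refine mul_left_cancel₀ hx0 ?_
    rw [← pow_succ', Nat.sub_add_cancel (Nat.one_le_pow _ _ (by linarith [h.hq])), e, mul_one]
  · right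
    rw [pow_succ, e, inv_mul_cancel₀ hx0]

theorem pos_count {x : K} (hx : x ∈ R) : 0 < R.count x := Multiset.count_pos.2 hx

end Symm

open Symm

theorem exists_bound (h : Symm K q R) :
    ∃ e ∈ bounds q, ∀ x ∈ R, x ^ e.2 = 1 ∧ R.count x ≤ 2 ^ e.1 := by
  have hq := h.hq
  have hdq : q - 1 ∣ q ^ 3 - 1 := by simpa using Nat.sub_dvd_pow_sub_pow q 1 3
  have hsq : q + 1 ∣ q ^ 3 + 1 := by
    simpa using Odd.nat_add_dvd_pow_add_pow q 1 (show Odd 3 by decide)
  have hd2 : q - 1 ∣ q ^ 2 - 1 := by simpa using Nat.sub_dvd_pow_sub_pow q 1 2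
  have hs2 : q + 1 ∣ q ^ 2 - 1 := ⟨q - 1, by simpa using Nat.sq_sub_sq q 1⟩
  have h24 : q ^ 2 - 1 ∣ q ^ 4 - 1 := by
    have h := Nat.sub_dvd_pow_sub_pow (q ^ 2) 1 2
    rwa [one_pow, ← pow_mul] at h
  have h24' : q ^ 2 + 1 ∣ q ^ 4 - 1 :=
    ⟨q ^ 2 - 1, by
      have h := Nat.sq_sub_sq (q ^ 2) 1
      rwa [one_pow, ← pow_mul] at h⟩
  have hpk : ∀ x ∈ R, x ≠ 1 → per q x * R.count x ≤ 4 ∧ 0 < per q x := by
    intro x hx h1
    refine ⟨?_, (h.per_spec hx).1⟩
    have := h.bound₁ hx h1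
    rw [Nat.mul_assoc] at this
    omega
  by_cases hbig : ∃ x ∈ R, x ≠ 1 ∧ 3 ≤ per q x
  · obtain ⟨x, hx, h1, hk⟩ := hbig
    obtain ⟨hkc, -⟩ := hpk x hx h1
    have hc : R.count x = 1 := by have := h.pos_count hx; nlinarith
    have hk4 : per q x ≤ 4 := by rw [hc, mul_one] at hkc; exact hkc
    have hall : ∀ z ∈ R, z ≠ 1 → z ∉ orb q x →
        per q x = 3 ∧ per q z = 1 ∧ R.count z = 1 ∧ R.count 1 = 0 := by
      intro z hz hz1 hzo
      have hb := h.bound₂ hx h1 hz hz1 hzo
      rw [hc, mul_one] at hb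
      have := h.pos_count hz
      have := (hpk z hz hz1).2
      have hle : 1 ≤ per q z * R.count z := Nat.mul_pos (hpk z hz hz1).2 (h.pos_count hz)
      rw [Nat.mul_assoc 2 (per q z)] at hb
      have hprod : per q z * R.count z = 1 := by omega
      exact ⟨by omega, Nat.eq_one_of_mul_eq_one_right hprod,
        Nat.eq_one_of_mul_eq_one_left hprod, by omega⟩
    have hc1 : R.count 1 + 2 * per q x ≤ 8 := by simpa [hc] using h.bound₁ hx h1
    by_cases hother : ∃ z ∈ R, z ≠ 1 ∧ z ∉ orb q x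
    · obtain ⟨z, hz, hz1, hzo⟩ := hother
      obtain ⟨hk3, hzk, hzc, hcone⟩ := hall z hz hz1 hzo
      have hmem : ∀ w ∈ R, w ∈ orb q x ∨ w ∈ orb q z := by
        intro w hw
        by_contra hh
        push Not at hh
        have hw1 : w ≠ 1 := fun e => by have := h.pos_count hw; rw [e] at this; omega
        have hb := h.bound₃ hx h1 hz hz1 hzo hw hw1 hh.1 hh.2
        rw [hk3, hc, hzk, hzc] at hb
        have := h.pos_count hw
        have := (hpk w hw hw1).2
        nlinarith
      have hcount : ∀ w ∈ R, R.count w ≤ 2 ^ 0 := fun w hw => by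
        rcases hmem w hw with hm | hm <;> rw [h.count_orb hm]
        · rw [hc]; norm_num
        · rw [hzc]; norm_num
      rcases h.per_pow hx with e | e
      · refine ⟨(0, (q ^ 3 - 1) * (q + 1)), by simp [bounds], fun w hw => ⟨?_, hcount w hw⟩⟩
        rw [hk3] at e
        rcases hmem w hw with hm | hm
        · exact pow_eq_one_orb (by rw [pow_mul, e, one_pow]) hm
        · refine pow_eq_one_orb ?_ hm
          rcases h.per_pow hz with e' | e' <;> rw [hzk, pow_one] at e'
          · obtain ⟨t, ht⟩ := hdq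
            rw [ht, Nat.mul_assoc, pow_mul, e', one_pow]
          · rw [Nat.mul_comm, pow_mul, e', one_pow]
      · refine ⟨(0, (q ^ 3 + 1) * (q - 1)), by simp [bounds], fun w hw => ⟨?_, hcount w hw⟩⟩
        rw [hk3] at e
        rcases hmem w hw with hm | hm
        · exact pow_eq_one_orb (by rw [pow_mul, e, one_pow]) hm
        · refine pow_eq_one_orb ?_ hm
          rcases h.per_pow hz with e' | e' <;> rw [hzk, pow_one] at e'
          · rw [Nat.mul_comm, pow_mul, e', one_pow]
          · obtain ⟨t, ht⟩ := hsq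
            rw [ht, Nat.mul_assoc, pow_mul, e', one_pow]
    · push Not at hother
      have hcount : ∀ b, R.count 1 ≤ 2 ^ b → ∀ w ∈ R, R.count w ≤ 2 ^ b := fun b hb w hw => by
        by_cases hw1 : w = 1
        · rw [hw1]; exact hb
        · rw [h.count_orb (hother w hw hw1), hc]; exact Nat.one_le_two_pow
      have hone : ∀ M, x ^ M = 1 → ∀ w ∈ R, w ^ M = 1 := fun M hM w hw => by
        by_cases hw1 : w = 1
        · rw [hw1, one_pow]
        · exact pow_eq_one_orb hM (hother w hw hw1)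
      rcases (by omega : per q x = 3 ∨ per q x = 4) with hk' | hk' <;>
        rcases h.per_pow hx with e | e <;> rw [hk'] at e
      · exact ⟨(1, q ^ 3 - 1), by simp [bounds],
          fun w hw => ⟨hone _ e w hw, hcount 1 (by omega) w hw⟩⟩
      · exact ⟨(1, q ^ 3 + 1), by simp [bounds],
          fun w hw => ⟨hone _ e w hw, hcount 1 (by omega) w hw⟩⟩
      · exact ⟨(0, q ^ 4 - 1), by simp [bounds],
          fun w hw => ⟨hone _ e w hw, hcount 0 (by omega) w hw⟩⟩
      · exact ⟨(0, q ^ 4 + 1), by simp [bounds],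
          fun w hw => ⟨hone _ e w hw, hcount 0 (by omega) w hw⟩⟩
  push Not at hbig
  by_cases hminus : ∃ x ∈ R, x ≠ 1 ∧ per q x = 2 ∧ x ^ (q ^ 2 + 1) = 1
  · obtain ⟨x, hx, h1, hk, hpow⟩ := hminus
    have hxc := h.bound₁ hx h1
    rw [hk] at hxc
    have hxpos := h.pos_count hx
    by_cases hsimple : ∀ w ∈ R, R.count w ≤ 1
    · refine ⟨(0, q ^ 4 - 1), by simp [bounds], fun w hw => ⟨?_, by simpa using hsimple w hw⟩⟩
      by_cases hw1 : w = 1
      · rw [hw1, one_pow]
      obtain ⟨t, ht⟩ := h24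
      obtain ⟨t', ht'⟩ := h24'
      rcases (by have := hbig w hw hw1; have := (hpk w hw hw1).2; omega :
        per q w = 1 ∨ per q w = 2) with hw' | hw' <;>
        rcases h.per_pow hw with e | e <;> rw [hw'] at e
      · obtain ⟨s, hs⟩ := hd2
        rw [pow_one] at e
        rw [ht, hs, Nat.mul_assoc, pow_mul, e, one_pow]
      · obtain ⟨s, hs⟩ := hs2
        rw [pow_one] at e
        rw [ht, hs, Nat.mul_assoc, pow_mul, e, one_pow]
      · rw [ht, pow_mul, e, one_pow]
      · rw [ht', pow_mul, e, one_pow]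
    push Not at hsimple
    obtain ⟨u, hu, hu2⟩ := hsimple
    by_cases hother : ∃ z ∈ R, z ≠ 1 ∧ z ∉ orb q x
    · obtain ⟨z, hz, hz1, hzo⟩ := hother
      have hb := h.bound₂ hx h1 hz hz1 hzo
      rw [hk] at hb
      have hzpos := h.pos_count hz
      have hzk0 := (hpk z hz hz1).2
      have hmem : ∀ w ∈ R, w = 1 ∨ w ∈ orb q x ∨ w ∈ orb q z := by
        intro w hw
        by_contra hh
        push Not at hh
        obtain ⟨hw1, hwo, hwo'⟩ := hh
        have hb3 := h.bound₃ hx h1 hz hz1 hzo hw hw1 hwo hwo'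
        rw [hk] at hb3
        have hwpos := h.pos_count hw
        have hwk0 := (hpk w hw hw1).2
        have h_z : 1 ≤ per q z * R.count z := Nat.mul_pos hzk0 hzpos
        have h_w : 1 ≤ per q w * R.count w := Nat.mul_pos hwk0 hwpos
        rw [Nat.mul_assoc 2 (per q z), Nat.mul_assoc 2 (per q w)] at hb3
        have e1 : per q z * R.count z = 1 := by omega
        have e2 : per q w * R.count w = 1 := by omega
        have := h.bound₁ hx h1
        have hu' : R.count u ≤ 1 := by
          by_cases hu1 : u = 1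
          · subst hu1; omega
          by_cases huo : u ∈ orb q x
          · rw [h.count_orb huo]; omega
          by_cases huo' : u ∈ orb q z
          · rw [h.count_orb huo', Nat.eq_one_of_mul_eq_one_left e1]
          · have := h.bound₃ hx h1 hz hz1 hzo hu hu1 huo huo'
            rw [hk, Nat.mul_assoc 2 (per q z), e1, Nat.mul_assoc 2 (per q u)] at this
            have hle : R.count u ≤ per q u * R.count u :=
              Nat.le_mul_of_pos_left _ (hpk u hu hu1).2
            omega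
        omega
      have hzk : per q z = 1 := by
        by_contra hne
        have hz2 : per q z = 2 := by have := hbig z hz hz1; omega
        rw [hz2] at hb
        have : R.count u ≤ 1 := by
          rcases hmem u hu with rfl | hm | hm
          · omega
          · rw [h.count_orb hm]; omega
          · rw [h.count_orb hm]; omega
        omega
      rw [hzk] at hb
      have hxc1 : R.count x = 1 := by omega
      have hcount : ∀ w ∈ R, R.count w ≤ 2 ^ 1 := fun w hw => by
        rcases hmem w hw with rfl | hm | hm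
        · omega
        · rw [h.count_orb hm, hxc1]; norm_num
        · rw [h.count_orb hm]; omega
      have hcase : ∀ t, z ^ t = 1 → ∀ w ∈ R, w ^ (t * (q ^ 2 + 1)) = 1 := fun t ht w hw => by
        rcases hmem w hw with rfl | hm | hm
        · exact one_pow _
        · exact pow_eq_one_orb (by rw [Nat.mul_comm, pow_mul, hpow, one_pow]) hm
        · exact pow_eq_one_orb (by rw [pow_mul, ht, one_pow]) hm
      rcases h.per_pow hz with e | e <;> rw [hzk, pow_one] at e
      · exact ⟨(1, (q - 1) * (q ^ 2 + 1)), by simp [bounds],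
          fun w hw => ⟨hcase _ e w hw, hcount w hw⟩⟩
      · exact ⟨(1, (q + 1) * (q ^ 2 + 1)), by simp [bounds],
          fun w hw => ⟨hcase _ e w hw, hcount w hw⟩⟩
    · push Not at hother
      refine ⟨(2, q ^ 2 + 1), by simp [bounds], fun w hw => ?_⟩
      by_cases hw1 : w = 1
      · subst hw1
        exact ⟨one_pow _, by change _ ≤ 4; omega⟩
      · refine ⟨pow_eq_one_orb hpow (hother w hw hw1), ?_⟩
        rw [h.count_orb (hother w hw hw1)]
        change _ ≤ 4
        omega
  push Not at hminus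
  have hq2 : ∀ w ∈ R, w ^ (q ^ 2 - 1) = 1 := by
    intro w hw
    by_cases hw1 : w = 1
    · rw [hw1, one_pow]
    rcases (by have := hbig w hw hw1; have := (hpk w hw hw1).2; omega :
      per q w = 1 ∨ per q w = 2) with hw' | hw' <;>
      rcases h.per_pow hw with e | e <;> rw [hw'] at e
    · obtain ⟨s, hs⟩ := hd2
      rw [pow_one] at e
      rw [hs, pow_mul, e, one_pow]
    · obtain ⟨s, hs⟩ := hs2
      rw [pow_one] at e
      rw [hs, pow_mul, e, one_pow]
    · exact e
    · exact absurd e (hminus w hw hw1 hw')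
  by_cases h5 : R.count 1 ≤ 4
  · refine ⟨(2, q ^ 2 - 1), by simp [bounds], fun w hw => ⟨hq2 w hw, ?_⟩⟩
    by_cases hw1 : w = 1
    · rw [hw1]; simpa using h5
    obtain ⟨hwk, hwp⟩ := hpk w hw hw1
    exact (Nat.le_mul_of_pos_left _ hwp).trans hwk
  by_cases hex : ∃ x ∈ R, x ≠ 1
  · obtain ⟨x, hx, h1⟩ := hex
    have hb := h.bound₁ hx h1
    have hp := (hpk x hx h1).2
    have hc := h.pos_count hx
    have hpc : 1 ≤ per q x * R.count x := Nat.mul_pos hp hc
    rw [Nat.mul_assoc] at hb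
    have hprod : per q x * R.count x = 1 := by omega
    have hk : per q x = 1 := Nat.eq_one_of_mul_eq_one_right hprod
    have hcx : R.count x = 1 := Nat.eq_one_of_mul_eq_one_left hprod
    have hmem : ∀ w ∈ R, w ≠ 1 → w ∈ orb q x := by
      intro w hw hw1
      by_contra hwo
      have hb2 := h.bound₂ hx h1 hw hw1 hwo
      have hwc : 1 ≤ per q w * R.count w := Nat.mul_pos (hpk w hw hw1).2 (h.pos_count hw)
      rw [Nat.mul_assoc 2 (per q x), hprod, Nat.mul_assoc 2 (per q w)] at hb2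
      omega
    have key : ∀ t, x ^ t = 1 → ∀ w ∈ R, w ^ t = 1 ∧ R.count w ≤ 2 ^ 3 := fun t ht w hw => by
      by_cases hw1 : w = 1
      · exact ⟨by rw [hw1, one_pow], by rw [hw1]; omega⟩
      · exact ⟨pow_eq_one_orb ht (hmem w hw hw1),
          by rw [h.count_orb (hmem w hw hw1), hcx]; norm_num⟩
    rcases h.per_pow hx with e | e <;> rw [hk, pow_one] at e
    · exact ⟨(3, q - 1), by simp [bounds], key _ e⟩
    · exact ⟨(3, q + 1), by simp [bounds], key _ e⟩
  · push Not at hex
    refine ⟨(3, q + 1), by simp [bounds], fun w hw => ⟨by rw [hex w hw, one_pow], ?_⟩⟩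
    exact (Multiset.count_le_card _ _).trans_eq h.card

theorem bounds_spec {q : ℕ} (hq : 2 ≤ q) (he : Even q) {e : ℕ × ℕ} (hmem : e ∈ bounds q) :
    0 < e.2 ∧ Odd e.2 := by
  have hp : ∀ k, 1 ≤ k → Even (q ^ k) := fun k hk => he.pow_of_ne_zero (by omega)
  have hadd : ∀ k, 1 ≤ k → Odd (q ^ k + 1) := fun k hk => (hp k hk).add_one
  have hsub : ∀ k, 1 ≤ k → Odd (q ^ k - 1) := fun k hk =>
    Nat.Even.sub_odd (Nat.one_le_pow _ _ (by omega)) (hp k hk) odd_one
  have hadd1 : Odd (q + 1) := he.add_one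
  have hsub1 : Odd (q - 1) := Nat.Even.sub_odd (by omega) he odd_one
  suffices Odd e.2 from ⟨this.pos, this⟩
  simp only [bounds, List.mem_cons, List.not_mem_nil, or_false] at hmem
  rcases hmem with rfl | rfl | rfl | rfl | rfl | rfl | rfl | rfl | rfl | rfl | rfl | rfl
  exacts [hadd 4 (by norm_num), hsub 4 (by norm_num), (hadd 3 (by norm_num)).mul hsub1,
    (hsub 3 (by norm_num)).mul hadd1, hadd 3 (by norm_num), hsub 3 (by norm_num),
    hadd1.mul (hadd 2 (by norm_num)), hsub1.mul (hadd 2 (by norm_num)), hadd 2 (by norm_num),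
    hsub 2 (by norm_num), hadd1, hsub1]

open SelfReciprocalRoots Matrix

variable {F : Type*} [Field F] [Fintype F] [CharP F 2] {ι : Type*} [Fintype ι] [DecidableEq ι]

theorem even_card : Even (Fintype.card F) := by
  rw [Nat.even_iff]
  exact Nat.mod_eq_zero_of_dvd (by
    obtain ⟨n, hp, e⟩ := FiniteField.card F 2
    rw [e]
    exact dvd_pow_self 2 n.ne_zero)

/-- The order bound for an isometry of a non-degenerate bilinear form in dimension eight. -/
theorem exists_bound_of_preserves (hι : Fintype.card ι = 8) {A B : Matrix ι ι F}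
    (hB : IsUnit B.det) (h : Aᵀ * B * A = B) :
    ∃ e ∈ bounds (Fintype.card F), A ^ (2 ^ e.1 * e.2) = 1 ∧ (eigen A).count 1 ≤ 2 ^ e.1 := by
  have hA := isUnit_of_preserves hB h
  have : CharP (AlgebraicClosure F) 2 := charP_of_injective_algebraMap' F 2
  have hsym : Symm (AlgebraicClosure F) (Fintype.card F) (eigen A) :=
    { hq := Fintype.one_lt_card
      two := CharTwo.two_eq_zero
      inj := (FiniteField.frobeniusAlgHom F (AlgebraicClosure F)).toRingHom.injective
      card := (card_eigen A).trans hι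
      ne_zero := fun x hx e => zero_notMem_eigen hA (e ▸ hx)
      frob := map_frobenius A
      inv := map_inv hA (charpoly_inv_of_preserves hB h) }
  obtain ⟨e, he, hall⟩ := exists_bound hsym
  refine ⟨e, he, pow_eq_one (bounds_spec Fintype.one_lt_card even_card he).1 hall, ?_⟩
  by_cases h1 : (1 : AlgebraicClosure F) ∈ eigen A
  · exact (hall 1 h1).2
  · rw [Multiset.count_eq_zero.2 h1]
    exact Nat.zero_le _

end CfsgLib.Recog.EightDimOrders
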