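import Mathlib

/-!
Finite matrix groups over `ZMod p` given by lists of natural numbers, for kernel computations.
-/

namespace CfsgLib.Recog.MatList

/-- Row-major product modulo `p` of two `n × n` matrices stored as lists. -/
def mulL (p n : ℕ) (a b : List ℕ) : List ℕ :=
  (List.range (n * n)).map fun t =>
    (∑ k ∈ Finset.range n, a.getD (t / n * n + k) 0 * b.getD (k * n + t % n) 0) % p

/-- The identity matrix as a list. -/
def oneL (n : ℕ) : List ℕ := (List.range (n * n)).map fun t => if t / n = t % n then 1 else 0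

/-- The matrix of a list. -/
def toMat (p n : ℕ) (a : List ℕ) : Matrix (Fin n) (Fin n) (ZMod p) :=
  Matrix.of fun i j => ((a.getD ((i : ℕ) * n + j) 0 : ℕ) : ZMod p)

/-- Powers. -/
def powL (p n : ℕ) (a : List ℕ) : ℕ → List ℕ
  | 0 => oneL n
  | k + 1 => mulL p n a (powL p n a k)

theorem index_lt {n : ℕ} (i j : Fin n) : (i : ℕ) * n + j < n * n := by
  have h1 : ((i : ℕ) + 1) * n ≤ n * n := Nat.mul_le_mul_right n i.2
  have h2 := j.2
  rw [Nat.succ_mul] at h1
  omega

theorem toMat_apply_map {p n : ℕ} (f : ℕ → ℕ) (i j : Fin n) :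
    toMat p n ((List.range (n * n)).map f) i j = ((f ((i : ℕ) * n + j) : ℕ) : ZMod p) := by
  simp [toMat, List.getD_eq_getElem?_getD, index_lt i j]

theorem div_mod_index {n : ℕ} (i j : Fin n) :
    ((i : ℕ) * n + j) / n = i ∧ ((i : ℕ) * n + j) % n = j := by
  constructor
  · rw [Nat.mul_comm, Nat.mul_add_div (Fin.pos i), Nat.div_eq_of_lt j.2, Nat.add_zero]
  · rw [Nat.mul_comm, Nat.mul_add_mod, Nat.mod_eq_of_lt j.2]

theorem toMat_mulL (p n : ℕ) (a b : List ℕ) :
    toMat p n (mulL p n a b) = toMat p n a * toMat p n b := by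
  ext i j
  rw [mulL, toMat_apply_map, (div_mod_index i j).1, (div_mod_index i j).2, ZMod.natCast_mod,
    Nat.cast_sum, Matrix.mul_apply, ← Fin.sum_univ_eq_sum_range]
  simp [toMat]

theorem toMat_oneL (p n : ℕ) : toMat p n (oneL n) = 1 := by
  ext i j
  rw [oneL, toMat_apply_map, (div_mod_index i j).1, (div_mod_index i j).2, Matrix.one_apply]
  by_cases h : i = j
  · simp [h]
  · rw [if_neg h, if_neg (fun hh => h (Fin.ext hh)), Nat.cast_zero]

theorem toMat_powL (p n : ℕ) (a : List ℕ) (k : ℕ) : toMat p n (powL p n a k) = toMat p n a ^ k := by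
  induction k with
  | zero => rw [powL, toMat_oneL, pow_zero]
  | succ k ih => rw [powL, toMat_mulL, ih, pow_succ']

/-- A matrix list with an inverse gives an element of the general linear group. -/
def unitL (p n : ℕ) (a b : List ℕ) (h1 : mulL p n a b = oneL n) (h2 : mulL p n b a = oneL n) :
    Matrix.GeneralLinearGroup (Fin n) (ZMod p) :=
  ⟨toMat p n a, toMat p n b, by rw [← toMat_mulL, h1, toMat_oneL], by rw [← toMat_mulL, h2, toMat_oneL]⟩

/-- Elements of the subgroup generated by two listed matrices lie in any list closed under left multiplication. -/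
theorem mem_list_of_mem_closure {p n : ℕ} [NeZero p] {ga gb : List ℕ}
    {A B : Matrix.GeneralLinearGroup (Fin n) (ZMod p)} (hA : (A : Matrix _ _ (ZMod p)) = toMat p n ga)
    (hB : (B : Matrix _ _ (ZMod p)) = toMat p n gb) (L : List (List ℕ)) (h1 : oneL n ∈ L)
    (hmul : ∀ l ∈ L, mulL p n ga l ∈ L ∧ mulL p n gb l ∈ L)
    {u : Matrix.GeneralLinearGroup (Fin n) (ZMod p)}
    (hu : u ∈ Subgroup.closure ({A, B} : Set (Matrix.GeneralLinearGroup (Fin n) (ZMod p)))) :
    ∃ l ∈ L, (u : Matrix _ _ (ZMod p)) = toMat p n l := by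
  rw [← Subgroup.mem_toSubmonoid, Subgroup.closure_toSubmonoid_of_finite] at hu
  induction hu using Submonoid.closure_induction_left with
  | one => exact ⟨_, h1, by rw [Units.val_one, toMat_oneL]⟩
  | mul_left x hx y _ ih =>
    obtain ⟨l, hl, hy⟩ := ih
    rcases hx with rfl | hx
    · exact ⟨_, (hmul l hl).1, by rw [Units.val_mul, hA, hy, toMat_mulL]⟩
    · rw [Set.mem_singleton_iff] at hx
      subst hx
      exact ⟨_, (hmul l hl).2, by rw [Units.val_mul, hB, hy, toMat_mulL]⟩

end CfsgLib.Recog.MatList
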