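import Mathlib
import Cfsg.Agent.Lib.Recog.MatList

/-!
Frobenius groups V ⋊ H with H a listed matrix group acting without fixed points.
-/

namespace CfsgLib.Recog.Fpf

open MatList

/-- Minus the identity of size 4 modulo `p`. -/
def negOne (p : ℕ) : List ℕ := (oneL 4).map (fun x => x * (p - 1))

/-- The test: identity, a power minus one, or order three with `a² + a + 1 = 0`. -/
def good (p : ℕ) (a : List ℕ) : Bool :=
  (a == oneL 4) || ((List.range' 1 6).any fun k => powL p 4 a k == negOne p) ||
    ((List.range 16).all fun t => ((powL p 4 a 2).getD t 0 + a.getD t 0 + (oneL 4).getD t 0) % p == 0)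

theorem isSolvable_perm_of_card_le_three (α : Type*) [Finite α] (h : Nat.card α ≤ 3) :
    Group.IsSolvable (Equiv.Perm α) := by
  classical
  haveI := Fintype.ofFinite α
  have hA : Group.IsSolvable (alternatingGroup α) := by
    apply Group.isSolvable_of_comm
    rcases subsingleton_or_nontrivial α with hs | hn
    · intro a b; exact Subsingleton.elim _ _
    have h2 : 2 * Nat.card (alternatingGroup α) = Nat.factorial (Nat.card α) := by
      rw [two_mul_nat_card_alternatingGroup, Nat.card_perm]
    have hα : 2 ≤ Nat.card α := Finite.one_lt_card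
    have hcases : Nat.card α = 2 ∨ Nat.card α = 3 := by omega
    intro a b
    rcases hcases with hc | hc <;> rw [hc] at h2
    · rw [show Nat.factorial 2 = 2 from rfl] at h2
      have : Subsingleton (alternatingGroup α) := (Nat.card_eq_one_iff_unique.1 (by omega)).1
      exact Subsingleton.elim _ _
    · rw [show Nat.factorial 3 = 6 from rfl] at h2
      haveI : Fact (Nat.Prime 3) := ⟨Nat.prime_three⟩
      haveI : IsCyclic (alternatingGroup α) := isCyclic_of_prime_card (p := 3) (by omega)
      exact IsMulCommutative.is_comm.comm a b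
  haveI := hA
  haveI : Group.IsSolvable ℤˣ := Group.isSolvable_of_comm mul_comm
  exact Group.isSolvable_of_ker_le_range (alternatingGroup α).subtype Equiv.Perm.sign
    (fun x hx => ⟨⟨x, hx⟩, rfl⟩)

theorem isSolvable_of_small {G : Type*} [Group G] [Finite G] (h48 : Nat.card G ≤ 48)
    (hprime : ∀ p : ℕ, p.Prime → p ∣ Nat.card G → p ≤ 3) (h8 : 8 ∣ Nat.card G) : Group.IsSolvable G := by
  haveI : Fact (Nat.Prime 2) := ⟨Nat.prime_two⟩
  obtain ⟨P⟩ : Nonempty (Sylow 2 G) := inferInstance
  haveI : Group.IsNilpotent (P : Subgroup G) := P.isPGroup'.isNilpotent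
  haveI : Group.IsSolvable (P : Subgroup G) := inferInstance
  have hindex : (P : Subgroup G).index ≤ 3 := by
    have h := (P : Subgroup G).card_mul_index
    have hodd : ¬ 2 ∣ (P : Subgroup G).index := P.not_dvd_index
    have hge : 8 ≤ Nat.card (P : Subgroup G) := by
      rw [P.card_eq_multiplicity]
      have : 3 ≤ (Nat.card G).factorization 2 :=
        (Nat.prime_two.pow_dvd_iff_le_factorization Nat.card_pos.ne').1 (by norm_num; exact h8)
      calc 8 = 2 ^ 3 := rfl
        _ ≤ _ := Nat.pow_le_pow_right (by norm_num) this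
    have hle : (P : Subgroup G).index ≤ 6 := by nlinarith
    by_contra hcon
    have h5 : (P : Subgroup G).index = 5 := by omega
    exact absurd (hprime 5 (by norm_num) (h ▸ h5 ▸ dvd_mul_left _ _)) (by norm_num)
  let φ := MulAction.toPermHom G (G ⧸ (P : Subgroup G))
  have hker : φ.ker ≤ (P : Subgroup G) := by
    intro g hg
    have h1 : g • ((1 : G) : G ⧸ (P : Subgroup G)) = ((1 : G) : G ⧸ (P : Subgroup G)) :=
      DFunLike.congr_fun (hg : φ g = 1) ((1 : G) : G ⧸ (P : Subgroup G))
    rw [MulAction.Quotient.smul_mk, QuotientGroup.eq, smul_eq_mul] at h1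
    simpa using h1
  haveI : Group.IsSolvable (Equiv.Perm (G ⧸ (P : Subgroup G))) :=
    isSolvable_perm_of_card_le_three _ (by rw [← Subgroup.index_eq_card]; exact hindex)
  exact Group.isSolvable_of_ker_le_range (P : Subgroup G).subtype φ (fun x hx => ⟨⟨x, hker hx⟩, rfl⟩)

variable {p : ℕ} [Fact p.Prime] {ga gai gb gbi : List ℕ}
  (h1 : mulL p 4 ga gai = oneL 4) (h2 : mulL p 4 gai ga = oneL 4)
  (h3 : mulL p 4 gb gbi = oneL 4) (h4 : mulL p 4 gbi gb = oneL 4)

/-- The group generated by two listed matrices. -/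
def grp : Subgroup (Matrix.GeneralLinearGroup (Fin 4) (ZMod p)) :=
  Subgroup.closure {unitL p 4 ga gai h1 h2, unitL p 4 gb gbi h3 h4}

/-- The action on the natural module. -/
def act (H : Subgroup (Matrix.GeneralLinearGroup (Fin 4) (ZMod p))) :
    H →* MulAut (Multiplicative (Fin 4 → ZMod p)) where
  toFun g :=
    { toFun := fun v => Multiplicative.ofAdd (Matrix.mulVec ((g : Matrix.GeneralLinearGroup (Fin 4) (ZMod p)) : Matrix (Fin 4) (Fin 4) (ZMod p)) v.toAdd)
      invFun := fun v => Multiplicative.ofAdd (Matrix.mulVec ((g⁻¹ : H) : Matrix.GeneralLinearGroup (Fin 4) (ZMod p)).1 v.toAdd)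
      left_inv := fun v => by simp [Matrix.mulVec_mulVec]
      right_inv := fun v => by simp [Matrix.mulVec_mulVec]
      map_mul' := fun v w => by simp [Matrix.mulVec_add] }
  map_one' := MulEquiv.ext fun v => by simp
  map_mul' g h := MulEquiv.ext fun v => by simp [Matrix.mulVec_mulVec]

theorem classify (hp3 : 3 < p) (L : List (List ℕ)) (hone : oneL 4 ∈ L)
    (hclosed : L.all (fun l => L.contains (mulL p 4 ga l) && L.contains (mulL p 4 gb l)) = true)
    (hgood : L.all (good p) = true) (g : grp h1 h2 h3 h4) :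
    (∀ v : Fin 4 → ZMod p, Matrix.mulVec ((g : Matrix.GeneralLinearGroup (Fin 4) (ZMod p)) : Matrix (Fin 4) (Fin 4) (ZMod p)) v = v → g ≠ 1 → v = 0) ∧
      ((∃ k, 1 ≤ k ∧ k ≤ 6 ∧ g ^ (2 * k) = 1) ∨ g ^ 3 = 1) := by
  obtain ⟨l, hl, he⟩ := mem_list_of_mem_closure (A := unitL p 4 ga gai h1 h2) (B := unitL p 4 gb gbi h3 h4)
    (ga := ga) (gb := gb) rfl rfl L hone (fun l hl => by simpa using List.all_eq_true.1 hclosed l hl) g.2
  set M := ((g : Matrix.GeneralLinearGroup (Fin 4) (ZMod p)) : Matrix (Fin 4) (Fin 4) (ZMod p)) with hM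
  have hinj : ∀ k, M ^ k = 1 → g ^ k = 1 := fun k hk => by
    apply Subtype.ext; apply Units.ext
    simpa [hM] using hk
  have hneg : toMat p 4 (negOne p) = -1 := by
    ext i j
    have e : (negOne p).getD ((i : ℕ) * 4 + j) 0 = (if i = j then 1 else 0) * (p - 1) := by
      fin_cases i <;> fin_cases j <;> rfl
    change (((negOne p).getD ((i : ℕ) * 4 + j) 0 : ℕ) : ZMod p) = -((1 : Matrix (Fin 4) (Fin 4) (ZMod p)) i j)
    rw [e, Matrix.one_apply]
    have hp1 : ((p - 1 : ℕ) : ZMod p) = -1 := by
      rw [Nat.cast_sub (le_of_lt (lt_trans (by norm_num) hp3)), ZMod.natCast_self, Nat.cast_one, zero_sub]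
    split_ifs <;> simp [hp1]
  have hcast : ∀ c : ℕ, 0 < c → c < p → (c : ZMod p) ≠ 0 := fun c hc0 hc h => by
    have := Nat.le_of_dvd hc0 ((ZMod.natCast_eq_zero_iff c p).1 h)
    omega
  have hg := List.all_eq_true.1 hgood l hl
  simp only [good, Bool.or_eq_true, beq_iff_eq, List.any_eq_true, List.all_eq_true, List.mem_range'_1,
    List.mem_range] at hg
  rcases hg with (hg | ⟨k, hk, hg⟩) | hg
  · have h1' : g = 1 := by
      apply Subtype.ext; apply Units.ext
      change M = _
      rw [he, hg, toMat_oneL]; rfl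
    refine ⟨fun v _ hne => absurd h1' hne, Or.inr (by rw [h1', one_pow])⟩
  · have hMk : M ^ k = -1 := by rw [he, ← toMat_powL, hg, hneg]
    refine ⟨fun v hv _ => ?_, Or.inl ⟨k, hk.1, by omega, hinj _ (by rw [mul_comm, pow_mul, hMk, neg_one_sq])⟩⟩
    have hk' : ∀ m, Matrix.mulVec (M ^ m) v = v := by
      intro m
      induction m with
      | zero => simp
      | succ m ih => rw [pow_succ, ← Matrix.mulVec_mulVec, hv, ih]
    have h5 := hk' k
    rw [hMk, Matrix.neg_mulVec, Matrix.one_mulVec] at h5
    funext i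
    have h6 : ((2 : ℕ) : ZMod p) * v i = 0 := by
      have h7 : -v i = v i := congrFun h5 i
      push_cast
      linear_combination -h7
    exact (mul_eq_zero.1 h6).resolve_left (hcast 2 (by norm_num) (by omega))
  · have hM3 : M ^ 2 + M + 1 = 0 := by
      rw [he, ← toMat_powL, ← toMat_oneL p 4]
      ext i j
      simp only [Matrix.add_apply, toMat, Matrix.of_apply, Matrix.zero_apply]
      rw [← Nat.cast_add, ← Nat.cast_add, ZMod.natCast_eq_zero_iff]
      exact Nat.dvd_of_mod_eq_zero (hg _ (index_lt i j))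
    refine ⟨fun v hv _ => ?_, Or.inr (hinj 3 ?_)⟩
    · have h5 := congrArg (fun N => Matrix.mulVec N v) hM3
      simp only [pow_two, Matrix.add_mulVec, ← Matrix.mulVec_mulVec, hv, Matrix.one_mulVec, Matrix.zero_mulVec] at h5
      funext i
      have h6 : ((3 : ℕ) : ZMod p) * v i = 0 := by
        have h7 : v i + v i + v i = 0 := congrFun h5 i
        push_cast
        linear_combination h7
      exact (mul_eq_zero.1 h6).resolve_left (hcast 3 (by norm_num) hp3)
    · have h5 : M ^ 3 - 1 = (M - 1) * (M ^ 2 + M + 1) := by noncomm_ring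
      rw [hM3, mul_zero, sub_eq_zero] at h5
      exact h5

theorem orderOf_mk_list {n : ℕ} (hn : 0 < n) (g : grp h1 h2 h3 h4) (l : List ℕ)
    (hg : ((g : Matrix.GeneralLinearGroup (Fin 4) (ZMod p)) : Matrix (Fin 4) (Fin 4) (ZMod p)) = toMat p 4 l)
    (e1 : toMat p 4 (powL p 4 l n) = 1) (e2 : ∀ d : Fin n, 0 < (d : ℕ) → toMat p 4 (powL p 4 l d) ≠ 1) :
    orderOf g = n := by
  rw [orderOf_eq_iff hn]
  refine ⟨?_, fun m hm hm0 he => e2 ⟨m, hm⟩ hm0 ?_⟩
  · apply Subtype.ext; apply Units.ext
    simp [hg, ← toMat_powL, e1]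
  · rw [toMat_powL, ← hg, ← Units.val_pow_eq_pow_val, ← SubgroupClass.coe_pow, he]; rfl

theorem exists_solvable_isospectral (hp3 : 3 < p) (L : List (List ℕ)) (hone : oneL 4 ∈ L)
    (hclosed : L.all (fun l => L.contains (mulL p 4 ga l) && L.contains (mulL p 4 gb l)) = true)
    (hgood : L.all (good p) = true) (hlen : L.length ≤ 48) (ords : List ℕ)
    (hup : ∀ d : ℕ, (d ∣ p ∨ (∃ k, 1 ≤ k ∧ k ≤ 6 ∧ d ∣ 2 * k ∧ ∃ g : grp h1 h2 h3 h4, orderOf g = d) ∨ d ∣ 3) → d ∈ ords)
    (hno5 : ¬ ∃ g : grp h1 h2 h3 h4, orderOf g = 5)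
    (hdown : ∀ d ∈ ords, d = p ∨ ∃ g : grp h1 h2 h3 h4, d ∣ orderOf g) (h8 : ∃ g : grp h1 h2 h3 h4, orderOf g = 8) :
    ∃ (H : Type) (_ : Group H) (_ : Fintype H), Group.IsSolvable H ∧
      Set.range (orderOf : H → ℕ) = {k | k ∈ ords} := by
  haveI : NeZero p := ⟨(Fact.out : p.Prime).ne_zero⟩
  set H := grp h1 h2 h3 h4
  let S := Multiplicative (Fin 4 → ZMod p) ⋊[act H] H
  haveI : Finite (Multiplicative (Fin 4 → ZMod p)) := inferInstanceAs (Finite (Fin 4 → ZMod p))
  haveI : Finite S := Finite.of_equiv _ SemidirectProduct.equivProd.symm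
  haveI : Fintype S := Fintype.ofFinite S
  have hexp : ∀ v : Multiplicative (Fin 4 → ZMod p), v ^ p = 1 := fun v => by
    apply Multiplicative.toAdd.injective
    rw [toAdd_pow, toAdd_one]
    funext i
    simp [nsmul_eq_mul]
  have hsolvH : Group.IsSolvable H := by
    refine isSolvable_of_small ?_ ?_ ?_
    · have hex : ∀ g : H, ∃ l ∈ L, ((g : Matrix.GeneralLinearGroup (Fin 4) (ZMod p)) : Matrix (Fin 4) (Fin 4) (ZMod p)) = toMat p 4 l :=
        fun g => mem_list_of_mem_closure (A := unitL p 4 ga gai h1 h2) (B := unitL p 4 gb gbi h3 h4)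
          (ga := ga) (gb := gb) rfl rfl L hone (fun l hl => by simpa using List.all_eq_true.1 hclosed l hl) g.2
      choose f hfL hf using hex
      have hinj : Function.Injective (fun g : H => (⟨f g, List.mem_toFinset.2 (hfL g)⟩ : {l // l ∈ L.toFinset})) := by
        intro a b hab
        apply Subtype.ext; apply Units.ext
        rw [hf a, hf b, show f a = f b from congrArg Subtype.val hab]
      refine (Nat.card_le_card_of_injective _ hinj).trans ?_
      rw [Nat.card_eq_fintype_card, Fintype.card_coe]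
      exact L.toFinset_card_le.trans hlen
    · intro q hq hd
      obtain ⟨x, hx⟩ := exists_prime_orderOf_dvd_card' q (hp := ⟨hq⟩) hd
      rcases (classify h1 h2 h3 h4 hp3 L hone hclosed hgood x).2 with ⟨k, hk1, hk6, hk⟩ | hk
      · have h := hx ▸ orderOf_dvd_of_pow_eq_one hk
        rcases hq.dvd_mul.1 h with h | h
        · exact (Nat.le_of_dvd (by norm_num) h).trans (by norm_num)
        · have h7 := Nat.le_of_dvd (by omega) h
          have h6 : q ≤ 3 ∨ q = 5 := by
            interval_cases k <;> interval_cases q <;> first | omega | (norm_num at h; done) | (norm_num at hq; done)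
          rcases h6 with h6 | rfl
          · exact h6
          · exact absurd ⟨x, hx⟩ (hno5)
      · exact Nat.le_of_dvd (by norm_num) (hx ▸ orderOf_dvd_of_pow_eq_one hk)
    · obtain ⟨g, hg⟩ := h8
      exact hg ▸ orderOf_dvd_natCard g
  refine ⟨S, inferInstance, inferInstance, ?_, ?_⟩
  · haveI := hsolvH
    haveI : Group.IsSolvable (Multiplicative (Fin 4 → ZMod p)) := Group.isSolvable_of_comm mul_comm
    exact Group.isSolvable_of_ker_le_range SemidirectProduct.inl SemidirectProduct.rightHom
      (le_of_eq SemidirectProduct.range_inl_eq_ker_rightHom.symm)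
  · apply Set.Subset.antisymm
    · rintro _ ⟨x, rfl⟩
      by_cases hx : x.right = 1
      · refine hup _ (Or.inl (orderOf_dvd_of_pow_eq_one ?_))
        rw [show x = SemidirectProduct.inl x.left from SemidirectProduct.ext rfl hx, ← map_pow, hexp, map_one]
      · obtain ⟨hfpf, hord⟩ := classify h1 h2 h3 h4 hp3 L hone hclosed hgood x.right
        set m := orderOf x.right with hm
        have hr : (x ^ m).right = 1 := by
          have := map_pow SemidirectProduct.rightHom x m
          rw [SemidirectProduct.rightHom_eq_right] at this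
          rw [this, hm, pow_orderOf_eq_one]
        have hfix : act H x.right (x ^ m).left = (x ^ m).left := by
          have h := congrArg SemidirectProduct.left ((Commute.refl x).pow_right m).eq
          rw [SemidirectProduct.mul_left, SemidirectProduct.mul_left, hr, map_one, MulAut.one_apply] at h
          rwa [mul_comm x.left, mul_left_inj] at h
        have hone' : x ^ m = 1 := SemidirectProduct.ext (Multiplicative.toAdd.injective
          (hfpf _ (congrArg Multiplicative.toAdd hfix) hx)) hr
        have heq : orderOf x = m :=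
          Nat.dvd_antisymm (orderOf_dvd_of_pow_eq_one hone') (orderOf_map_dvd SemidirectProduct.rightHom x)
        rw [heq]
        rcases hord with ⟨k, a, b, c⟩ | c
        · exact hup _ (Or.inr (Or.inl ⟨k, a, b, orderOf_dvd_of_pow_eq_one c, x.right, rfl⟩))
        · exact hup _ (Or.inr (Or.inr (orderOf_dvd_of_pow_eq_one c)))
    · intro d hd
      rcases hdown d hd with rfl | ⟨g, hg⟩
      · refine ⟨SemidirectProduct.inl (Multiplicative.ofAdd (fun _ => 1)), ?_⟩
        rw [orderOf_injective _ SemidirectProduct.inl_injective]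
        exact orderOf_eq_prime (hexp _) (fun e => one_ne_zero (α := ZMod d)
          (congrFun (congrArg Multiplicative.toAdd e) 0))
      · refine ⟨SemidirectProduct.inr (g ^ (orderOf g / d)), ?_⟩
        rw [orderOf_injective _ SemidirectProduct.inr_injective]
        exact orderOf_pow_orderOf_div (orderOf_pos g).ne' hg

end CfsgLib.Recog.Fpf
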