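import Mathlib

/-!
Isometries of small quadratic spaces in characteristic two, and their combination in
orthogonal sums, recorded through the orders they realise.
-/

set_option autoImplicit false

namespace CfsgLib.Recog.IsometryBlocks

set_option linter.unusedSectionVars false

variable {F : Type*} [Field F] {V W : Type*} [AddCommGroup V] [Module F V] [AddCommGroup W] [Module F W]

/-- The space `F ^ k × F ^ k`. -/
abbrev Pl (F : Type*) (k : ℕ) : Type _ := (Fin k → F) × (Fin k → F)

/-- The hyperbolic form on `F ^ k × F ^ k`. -/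
def qP (F : Type*) [Field F] (k : ℕ) (v : Pl F k) : F := v.1 ⬝ᵥ v.2

/-- The binary form `z₁ ^ 2 + a z₁ z₂ + b z₂ ^ 2`. -/
def qX (a b : F) (z : F × F) : F := z.1 ^ 2 + a * z.1 * z.2 + b * z.2 ^ 2

/-- The orthogonal sum. -/
def qAdd (Q : V → F) (R : W → F) (x : V × W) : F := Q x.1 + R x.2

/-- The forms are equivalent. -/
def QEq (Q : V → F) (R : W → F) : Prop := ∃ e : V ≃ₗ[F] W, ∀ x, R (e x) = Q x

theorem QEq.refl (Q : V → F) : QEq Q Q := ⟨LinearEquiv.refl F V, fun _ => rfl⟩

theorem QEq.symm {Q : V → F} {R : W → F} : QEq Q R → QEq R Q := fun ⟨e, he⟩ =>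
  ⟨e.symm, fun y => by rw [← he (e.symm y), e.apply_symm_apply]⟩

theorem QEq.trans {U : Type*} [AddCommGroup U] [Module F U] {Q : V → F} {R : W → F} {S : U → F} :
    QEq Q R → QEq R S → QEq Q S := fun ⟨e, he⟩ ⟨f, hf⟩ =>
  ⟨e.trans f, fun x => by rw [LinearEquiv.trans_apply, hf, he]⟩

theorem QEq.add {V' W' : Type*} [AddCommGroup V'] [Module F V'] [AddCommGroup W'] [Module F W']
    {Q : V → F} {Q' : V' → F} {R : W → F} {R' : W' → F} :
    QEq Q Q' → QEq R R' → QEq (qAdd Q R) (qAdd Q' R') := fun ⟨e, he⟩ ⟨f, hf⟩ =>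
  ⟨e.prodCongr f, fun x => by simp [qAdd, he, hf]⟩

theorem qAdd_comm (Q : V → F) (R : W → F) : QEq (qAdd Q R) (qAdd R Q) :=
  ⟨LinearEquiv.prodComm F V W, fun x => by simp [qAdd, add_comm]⟩

theorem qAdd_assoc {U : Type*} [AddCommGroup U] [Module F U] (Q : V → F) (R : W → F) (S : U → F) :
    QEq (qAdd (qAdd Q R) S) (qAdd Q (qAdd R S)) :=
  ⟨LinearEquiv.prodAssoc F V W U, fun x => by simp [qAdd, add_assoc]⟩

/-- The fixed space. -/
def fixed (g : V ≃ₗ[F] V) : Submodule F V := LinearMap.ker (g.toLinearMap - LinearMap.id)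

theorem mem_fixed {g : V ≃ₗ[F] V} {x : V} : x ∈ fixed g ↔ g x = x := by
  simp [fixed, sub_eq_zero]

/-- Conjugation by an equivalence. -/
def autCongr (e : V ≃ₗ[F] W) : (V ≃ₗ[F] V) ≃* (W ≃ₗ[F] W) where
  toFun g := e.symm.trans (g.trans e)
  invFun g := e.trans (g.trans e.symm)
  left_inv g := by ext x; simp
  right_inv g := by ext x; simp
  map_mul' g h := by ext x; simp

theorem autCongr_apply (e : V ≃ₗ[F] W) (g : V ≃ₗ[F] V) (x : V) : autCongr e g (e x) = e (g x) := by
  simp [autCongr]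

theorem fixed_autCongr (e : V ≃ₗ[F] W) (g : V ≃ₗ[F] V) :
    Module.finrank F (fixed (autCongr e g)) = Module.finrank F (fixed g) := by
  rw [← LinearEquiv.finrank_map_eq e (fixed g)]
  have : fixed (autCongr e g) = (fixed g).map e.toLinearMap := by
    ext y
    obtain ⟨x, rfl⟩ := e.surjective y
    simp [mem_fixed, autCongr_apply]
  rw [this]

/-- The product of automorphisms. -/
def prodHom (F : Type*) [Field F] (V W : Type*) [AddCommGroup V] [Module F V] [AddCommGroup W]
    [Module F W] : (V ≃ₗ[F] V) × (W ≃ₗ[F] W) →* ((V × W) ≃ₗ[F] (V × W)) where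
  toFun p := p.1.prodCongr p.2
  map_one' := rfl
  map_mul' _ _ := rfl

@[simp] theorem prodHom_apply (g : V ≃ₗ[F] V) (h : W ≃ₗ[F] W) (x : V × W) :
    prodHom F V W (g, h) x = (g x.1, h x.2) := rfl

theorem prodHom_injective : Function.Injective (prodHom F V W) := fun p p' e => by
  refine Prod.ext (LinearEquiv.ext fun x => ?_) (LinearEquiv.ext fun y => ?_)
  · exact congrArg Prod.fst (LinearEquiv.congr_fun e (x, 0))
  · exact congrArg Prod.snd (LinearEquiv.congr_fun e (0, y))

theorem orderOf_prodHom (g : V ≃ₗ[F] V) (h : W ≃ₗ[F] W) :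
    orderOf (prodHom F V W (g, h)) = Nat.lcm (orderOf g) (orderOf h) := by
  rw [orderOf_injective _ prodHom_injective, Prod.orderOf_mk]

theorem fixed_prodHom (g : V ≃ₗ[F] V) (h : W ≃ₗ[F] W) :
    fixed (prodHom F V W (g, h)) = (fixed g).prod (fixed h) := by
  ext x
  simp [mem_fixed, Submodule.mem_prod, Prod.ext_iff]

theorem finrank_fixed_prodHom [FiniteDimensional F V] [FiniteDimensional F W] (g : V ≃ₗ[F] V)
    (h : W ≃ₗ[F] W) :
    Module.finrank F (fixed (prodHom F V W (g, h))) =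
      Module.finrank F (fixed g) + Module.finrank F (fixed h) := by
  rw [fixed_prodHom, ← Module.finrank_prod]
  exact LinearEquiv.finrank_eq
    { toFun := fun x => (⟨x.1.1, x.2.1⟩, ⟨x.1.2, x.2.2⟩)
      invFun := fun x => ⟨(x.1.1, x.2.1), x.1.2, x.2.2⟩
      map_add' := fun _ _ => rfl
      map_smul' := fun _ _ => rfl
      left_inv := fun _ => rfl
      right_inv := fun _ => rfl }

theorem fixed_one : fixed (1 : V ≃ₗ[F] V) = ⊤ :=
  eq_top_iff.2 fun _ _ => mem_fixed.2 rfl

/-- An isometry of order exactly `n`. -/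
def HasElt (Q : V → F) (n : ℕ) : Prop := ∃ g : V ≃ₗ[F] V, (∀ x, Q (g x) = Q x) ∧ orderOf g = n

/-- An isometry of order `n` with even fixed dimension whose norm map is not zero. -/
def HasDbl (Q : V → F) (n : ℕ) : Prop :=
  ∃ (g : V ≃ₗ[F] V) (v : V), (∀ x, Q (g x) = Q x) ∧ orderOf g = n ∧
    Even (Module.finrank F (fixed g)) ∧ ∑ i ∈ Finset.range n, (g ^ i) v ≠ 0

/-- Commuting isometries of orders `m` and `n`, the second with even fixed dimension, whose
product has non-zero norm map. -/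
def HasOddDbl (Q : V → F) (m n : ℕ) : Prop :=
  ∃ (g h : V ≃ₗ[F] V) (v : V), (∀ x, Q (g x) = Q x) ∧ (∀ x, Q (h x) = Q x) ∧ Commute g h ∧
    orderOf g = m ∧ orderOf h = n ∧
    Even (Module.finrank F (fixed h)) ∧ ∑ i ∈ Finset.range (m * n), ((g * h) ^ i) v ≠ 0

theorem HasElt.congr {Q : V → F} {R : W → F} {n : ℕ} :
    HasElt Q n → QEq Q R → HasElt R n := by
  rintro ⟨g, hg, ho⟩ ⟨e, he⟩
  refine ⟨autCongr e g, fun y => ?_, by rw [MulEquiv.orderOf_eq, ho]⟩
  obtain ⟨x, rfl⟩ := e.surjective y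
  rw [autCongr_apply, he, hg, he]

theorem HasOddDbl.congr {Q : V → F} {R : W → F} {m n : ℕ} :
    HasOddDbl Q m n → QEq Q R → HasOddDbl R m n := by
  rintro ⟨g, h, v, hg, hh, hc, hog, hoh, hev, hs⟩ ⟨e, he⟩
  refine ⟨autCongr e g, autCongr e h, e v, fun y => ?_, fun y => ?_, hc.map _,
    by rw [MulEquiv.orderOf_eq, hog], by rw [MulEquiv.orderOf_eq, hoh],
    by rwa [fixed_autCongr], ?_⟩
  · obtain ⟨x, rfl⟩ := e.surjective y
    rw [autCongr_apply, he, hg, he]
  · obtain ⟨x, rfl⟩ := e.surjective y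
    rw [autCongr_apply, he, hh, he]
  · rw [← map_mul]
    simp only [← map_pow, autCongr_apply, ← map_sum]
    rwa [ne_eq, LinearEquiv.map_eq_zero_iff]

theorem HasElt.of_dvd {Q : V → F} {n : ℕ} (h : HasElt Q n) (hn : 0 < n) {d : ℕ} (hd : d ∣ n) :
    HasElt Q d := by
  obtain ⟨g, hg, rfl⟩ := h
  refine ⟨g ^ (orderOf g / d), fun x => ?_, orderOf_pow_orderOf_div hn.ne' hd⟩
  induction orderOf g / d with
  | zero => rfl
  | succ i ih =>
    rw [pow_succ', LinearEquiv.mul_apply, hg, ih]

theorem HasElt.one (Q : V → F) : HasElt Q 1 := ⟨1, fun _ => rfl, orderOf_one⟩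

theorem HasElt.prod {Q : V → F} {R : W → F} {m n : ℕ} :
    HasElt Q m → HasElt R n → Nat.Coprime m n → HasElt (qAdd Q R) (m * n) := by
  rintro ⟨g, hg, rfl⟩ ⟨h, hh, rfl⟩ hcop
  refine ⟨prodHom F V W (g, h), fun x => ?_, ?_⟩
  · simp [qAdd, hg, hh]
  · rw [orderOf_prodHom, hcop.lcm_eq_mul]

theorem sum_range_mul {M : Type*} [AddCommMonoid M] (f : ℕ → M) {n : ℕ}
    (hf : ∀ i, f (i + n) = f i) (m : ℕ) :
    ∑ i ∈ Finset.range (m * n), f i = m • ∑ i ∈ Finset.range n, f i := by
  have hf' : ∀ j i, f (j * n + i) = f i := by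
    intro j
    induction j with
    | zero => simp
    | succ j ih => intro i; rw [show (j + 1) * n + i = j * n + i + n by ring, hf, ih]
  induction m with
  | zero => simp
  | succ m ih =>
    rw [Nat.succ_mul, Finset.sum_range_add, ih, succ_nsmul]
    simp only [hf']

variable [FiniteDimensional F V] [FiniteDimensional F W]

theorem HasOddDbl.of_parts {Q : V → F} {R : W → F} {m n : ℕ} (h2 : (2 : F) = 0)
    (hV : Even (Module.finrank F V)) (hm : Odd m) :
    HasElt Q m → HasDbl R n → HasOddDbl (qAdd Q R) m n := by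
  rintro ⟨g, hg, rfl⟩ ⟨h, v, hh, rfl, hev, hs⟩
  refine ⟨prodHom F V W (g, 1), prodHom F V W (1, h), (0, v), fun x => ?_, fun x => ?_,
    (Commute.prod (Commute.one_right g) (Commute.one_left h)).map _, ?_, ?_, ?_, ?_⟩
  · simp [qAdd, hg]
  · simp [qAdd, hh]
  · rw [orderOf_prodHom, orderOf_one, Nat.lcm_one_right]
  · rw [orderOf_prodHom, orderOf_one, Nat.lcm_one_left]
  · rw [finrank_fixed_prodHom, fixed_one, finrank_top]
    exact hV.add hev
  · rw [← map_mul, Prod.mk_mul_mk, mul_one, one_mul]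
    intro e
    refine hs ?_
    have e2 := congrArg Prod.snd e
    simp only [← map_pow, Prod.pow_mk, prodHom_apply, Prod.snd_sum] at e2
    rw [sum_range_mul _ (fun i => by rw [pow_add, pow_orderOf_eq_one, mul_one])] at e2
    obtain ⟨c, hc⟩ := hm
    rw [hc, ← Nat.cast_smul_eq_nsmul F, Nat.cast_add, Nat.cast_mul, Nat.cast_ofNat, h2, zero_mul,
      zero_add, Nat.cast_one, one_smul] at e2
    exact e2

theorem HasDbl.pair {Q : V → F} {R : W → F} {g : V ≃ₗ[F] V} {h : W ≃ₗ[F] W} {w : W}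
    (hg : ∀ x, Q (g x) = Q x) (hh : ∀ x, R (h x) = R x) (hord : orderOf g ∣ orderOf h)
    (hev : Even (Module.finrank F (fixed g) + Module.finrank F (fixed h)))
    (hs : ∑ i ∈ Finset.range (orderOf h), (h ^ i) w ≠ 0) : HasDbl (qAdd Q R) (orderOf h) := by
  refine ⟨prodHom F V W (g, h), (0, w), fun x => by simp [qAdd, hg, hh],
    by rw [orderOf_prodHom, Nat.lcm_eq_right hord], by rwa [finrank_fixed_prodHom], fun e => ?_⟩
  refine hs ?_
  have e2 := congrArg Prod.snd e
  simpa only [← map_pow, Prod.pow_mk, prodHom_apply, Prod.snd_sum, Prod.snd_zero] using e2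

/-- An equivalence from an endomorphism of finite order. -/
def equivOfPow (f : Module.End F V) {n : ℕ} (hn : f ^ (n + 1) = 1) : V ≃ₗ[F] V :=
  LinearEquiv.ofLinear f (f ^ n) (by rw [← Module.End.mul_eq_comp, ← pow_succ', hn]; rfl)
    (by rw [← Module.End.mul_eq_comp, ← pow_succ, hn]; rfl)

@[simp] theorem equivOfPow_apply (f : Module.End F V) {n : ℕ} (hn : f ^ (n + 1) = 1) (x : V) :
    equivOfPow f hn x = f x := rfl

variable [CharP F 2]

theorem two_smul_eq (x : F) : x + x = 0 := CharTwo.add_self_eq_zero x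

section Swap

/-- The reflection interchanging the two coordinates of a hyperbolic plane. -/
def swapOne (F : Type*) [Field F] : Pl F 1 ≃ₗ[F] Pl F 1 := LinearEquiv.prodComm F _ _

theorem qP_swapOne (x : Pl F 1) : qP F 1 (swapOne F x) = qP F 1 x := dotProduct_comm _ _

theorem orderOf_swapOne : orderOf (swapOne F) = 2 := by
  refine orderOf_eq_prime (by ext x <;> simp [swapOne, pow_two]) fun e => ?_
  have := congrFun (congrArg Prod.fst (LinearEquiv.congr_fun e (1, 0))) 0
  simp [swapOne] at this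

theorem finrank_fixed_swapOne : Module.finrank F (fixed (swapOne F)) = 1 := by
  have : fixed (swapOne F) = F ∙ ((1, 1) : Pl F 1) := by
    ext x
    rw [mem_fixed, Submodule.mem_span_singleton]
    constructor
    · intro e
      refine ⟨x.1 0, Prod.ext (funext fun i => ?_) (funext fun i => ?_)⟩
      · rw [Subsingleton.elim i 0]; simp
      · have e1 : x.2 = x.1 := congrArg Prod.fst e
        rw [Subsingleton.elim i 0, e1]; simp
    · rintro ⟨c, rfl⟩
      rfl
  rw [this, finrank_span_singleton]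
  intro e
  exact one_ne_zero (congrFun (congrArg Prod.fst e) 0)

end Swap

variable {a b : F}

/-- The reflection of the binary form. -/
def reflX (a : F) : Module.End F (F × F) where
  toFun z := (z.1 + a * z.2, z.2)
  map_add' x y := by simp; ring
  map_smul' c x := by simp; ring

theorem reflX_sq : reflX a ^ (1 + 1) = 1 := by
  refine LinearMap.ext fun z => ?_
  simp [reflX, pow_two, add_assoc, CharTwo.add_self_eq_zero]

/-- The reflection as an automorphism. -/
def reflXEquiv (a : F) : (F × F) ≃ₗ[F] (F × F) := equivOfPow (reflX a) reflX_sq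

theorem qX_refl (z : F × F) : qX a b (reflXEquiv a z) = qX a b z := by
  simp only [reflXEquiv, equivOfPow_apply, reflX, LinearMap.coe_mk, AddHom.coe_mk, qX]
  linear_combination (a * z.1 * z.2 + a ^ 2 * z.2 ^ 2) * (CharTwo.two_eq_zero (R := F))

theorem orderOf_reflX (ha : a ≠ 0) : orderOf (reflXEquiv a) = 2 := by
  refine orderOf_eq_prime ?_ fun e => ?_
  · refine LinearEquiv.ext fun z => ?_
    exact LinearMap.congr_fun reflX_sq z
  · have := congrArg Prod.fst (LinearEquiv.congr_fun e (0, 1))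
    simp [reflXEquiv, reflX, ha] at this

theorem finrank_fixed_reflX (ha : a ≠ 0) : Module.finrank F (fixed (reflXEquiv a)) = 1 := by
  have : fixed (reflXEquiv a) = F ∙ ((1, 0) : F × F) := by
    ext z
    rw [mem_fixed, Submodule.mem_span_singleton]
    constructor
    · intro e
      have e1 : z.1 + a * z.2 = z.1 := congrArg Prod.fst e
      have e2 : z.2 = 0 := (mul_eq_zero.1 (add_eq_left.1 e1)).resolve_left ha
      exact ⟨z.1, by ext <;> simp [e2]⟩
    · rintro ⟨c, rfl⟩
      simp [reflXEquiv, reflX]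
  rw [this, finrank_span_singleton (by simp)]

theorem hasElt_two_X (ha : a ≠ 0) : HasElt (qX a b) 2 := ⟨_, qX_refl, orderOf_reflX ha⟩

theorem hasDbl_one_X : HasDbl (qX a b) 1 := by
  refine ⟨1, (1, 0), fun _ => rfl, orderOf_one, ?_, by simp⟩
  rw [fixed_one, finrank_top, Module.finrank_prod, Module.finrank_self]
  exact ⟨1, rfl⟩

theorem hasDbl_two (ha : a ≠ 0) : HasDbl (qAdd (qP F 1) (qX a b)) 2 := by
  rw [← orderOf_reflX ha]
  refine HasDbl.pair (g := swapOne F) (h := reflXEquiv a) (w := (0, 1)) qP_swapOne qX_refl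
    (by rw [orderOf_swapOne, orderOf_reflX ha])
    (by rw [finrank_fixed_swapOne, finrank_fixed_reflX ha]; exact ⟨1, rfl⟩) ?_
  rw [orderOf_reflX ha]
  simp [Finset.sum_range_succ, reflXEquiv, reflX, ha]

/-- A regular unipotent isometry of `H + X`. -/
def regFour (a b : F) : Module.End F (Pl F 1 × (F × F)) where
  toFun v := (((fun _ => v.1.1 0 + a * (v.2.1 + a * v.2.2) + b * v.1.2 0), v.1.2),
    (v.2.1 + a * v.2.2, v.2.2 + v.1.2 0))
  map_add' x y := by
    refine Prod.ext (Prod.ext (funext fun i => ?_) rfl) (Prod.ext ?_ ?_) <;> simp <;> ring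
  map_smul' c x := by
    refine Prod.ext (Prod.ext (funext fun i => ?_) rfl) (Prod.ext ?_ ?_) <;> simp <;> ring

theorem regFour_pow : regFour a b ^ (3 + 1) = 1 := by
  refine LinearMap.ext fun v => ?_
  simp only [pow_succ, pow_zero, one_mul, Module.End.mul_apply, Module.End.one_apply, regFour,
    LinearMap.coe_mk, AddHom.coe_mk]
  refine Prod.ext (Prod.ext (funext fun i => ?_) rfl) (Prod.ext ?_ ?_)
  · rw [Subsingleton.elim i 0]
    linear_combination (2 * a * v.2.1 + 5 * a ^ 2 * v.2.2 + 2 * b * v.1.2 0 + 5 * a ^ 2 * v.1.2 0) *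
      (CharTwo.two_eq_zero (R := F))
  · linear_combination (2 * a * v.2.2 + 3 * a * v.1.2 0) * (CharTwo.two_eq_zero (R := F))
  · linear_combination (2 * v.1.2 0) * (CharTwo.two_eq_zero (R := F))

/-- The regular unipotent isometry as an automorphism. -/
def regFourEquiv (a b : F) : (Pl F 1 × (F × F)) ≃ₗ[F] (Pl F 1 × (F × F)) :=
  equivOfPow (regFour a b) regFour_pow

theorem qX_regFour (v : Pl F 1 × (F × F)) :
    qAdd (qP F 1) (qX a b) (regFourEquiv a b v) = qAdd (qP F 1) (qX a b) v := by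
  simp only [regFourEquiv, equivOfPow_apply, regFour, LinearMap.coe_mk, AddHom.coe_mk, qAdd, qP, qX,
    dotProduct, Fin.sum_univ_one]
  linear_combination (a ^ 2 * v.2.2 ^ 2 + a * v.2.1 * v.2.2 + b * v.1.2 0 ^ 2 +
    a * v.2.1 * v.1.2 0 + a ^ 2 * v.2.2 * v.1.2 0 + b * v.2.2 * v.1.2 0) *
      (CharTwo.two_eq_zero (R := F))

theorem orderOf_regFour (ha : a ≠ 0) : orderOf (regFourEquiv a b) = 4 := by
  refine orderOf_eq_prime_pow (p := 2) (n := 1) (fun e => ?_) ?_
  · have := LinearEquiv.congr_fun e ((0, fun _ => 1), (0, 0))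
    simp [regFourEquiv, regFour, pow_two, ha, CharTwo.add_self_eq_zero] at this
  · refine LinearEquiv.ext fun z => ?_
    exact LinearMap.congr_fun regFour_pow z

theorem finrank_fixed_regFour (ha : a ≠ 0) :
    Module.finrank F (fixed (regFourEquiv a b)) = 1 := by
  have : fixed (regFourEquiv a b) = F ∙ (((fun _ => 1, 0), 0) : Pl F 1 × (F × F)) := by
    ext v
    rw [mem_fixed, Submodule.mem_span_singleton]
    constructor
    · intro e
      have e1 : v.1.1 0 + a * (v.2.1 + a * v.2.2) + b * v.1.2 0 = v.1.1 0 :=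
        congrFun (congrArg (fun w => w.1.1) e) 0
      have e2 : v.2.1 + a * v.2.2 = v.2.1 := congrArg (fun w => w.2.1) e
      have e3 : v.2.2 + v.1.2 0 = v.2.2 := congrArg (fun w => w.2.2) e
      have y0 : v.1.2 0 = 0 := add_eq_left.1 e3
      have z2 : v.2.2 = 0 := (mul_eq_zero.1 (add_eq_left.1 e2)).resolve_left ha
      rw [y0, z2, mul_zero, mul_zero, add_zero, add_zero] at e1
      have z1 : v.2.1 = 0 := (mul_eq_zero.1 (add_eq_left.1 e1)).resolve_left ha
      refine ⟨v.1.1 0, Prod.ext (Prod.ext (funext fun i => ?_) (funext fun i => ?_))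
        (Prod.ext ?_ ?_)⟩
      all_goals first | rw [Subsingleton.elim i 0] | skip
      all_goals simp [y0, z1, z2]
    · rintro ⟨c, rfl⟩
      simp [regFourEquiv, regFour]
      funext i; simp
  rw [this, finrank_span_singleton]
  intro e
  exact one_ne_zero (congrFun (congrArg (fun w => w.1.1) e) 0)

theorem hasElt_four (ha : a ≠ 0) : HasElt (qAdd (qP F 1) (qX a b)) 4 :=
  ⟨_, qX_regFour, orderOf_regFour ha⟩

theorem hasDbl_four (ha : a ≠ 0) : HasDbl (qAdd (qP F 1) (qAdd (qP F 1) (qX a b))) 4 := by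
  rw [← orderOf_regFour ha (b := b)]
  refine HasDbl.pair (g := swapOne F) (h := regFourEquiv a b) (w := ((0, fun _ => 1), (0, 0)))
    qP_swapOne qX_regFour (by rw [orderOf_swapOne, orderOf_regFour ha]; norm_num)
    (by rw [finrank_fixed_swapOne, finrank_fixed_regFour ha]; exact ⟨1, rfl⟩) ?_
  rw [orderOf_regFour ha]
  intro e
  have e1 := congrFun (congrArg (fun w => w.1.1) e) 0
  simp [Finset.sum_range_succ, pow_succ, regFourEquiv, regFour] at e1
  refine ha ((mul_self_eq_zero (a := a)).1 ?_)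
  linear_combination e1 - (3 * b + 2 * a * a) * (CharTwo.two_eq_zero (R := F))

/-- A regular unipotent isometry of `H + H + X`. -/
def regSix (a b : F) : Module.End F (Pl F 2 × (F × F)) where
  toFun v :=
    ((![v.1.1 0 + (v.1.1 1 + a * (v.2.1 + a * v.2.2) + b * v.1.2 1),
        v.1.1 1 + a * (v.2.1 + a * v.2.2) + b * v.1.2 1], ![v.1.2 0, v.1.2 1 + v.1.2 0]),
      (v.2.1 + a * v.2.2, v.2.2 + v.1.2 1))
  map_add' x y := by
    refine Prod.ext (Prod.ext (funext fun i => ?_) (funext fun i => ?_)) (Prod.ext ?_ ?_)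
    all_goals first | fin_cases i | skip
    all_goals simp
    all_goals ring
  map_smul' c x := by
    refine Prod.ext (Prod.ext (funext fun i => ?_) (funext fun i => ?_)) (Prod.ext ?_ ?_)
    all_goals first | fin_cases i | skip
    all_goals simp
    all_goals ring

theorem qX_regSix (v : Pl F 2 × (F × F)) :
    qAdd (qP F 2) (qX a b) (regSix a b v) = qAdd (qP F 2) (qX a b) v := by
  simp only [regSix, LinearMap.coe_mk, AddHom.coe_mk, qAdd, qP, qX, dotProduct, Fin.sum_univ_two,
    Matrix.cons_val_zero, Matrix.cons_val_one]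
  linear_combination (v.1.1 1 * v.1.2 0 + a * v.2.1 * v.1.2 0 + a ^ 2 * v.2.2 * v.1.2 0 +
    b * v.1.2 1 * v.1.2 0 + a ^ 2 * v.2.2 ^ 2 + a * v.2.1 * v.2.2 + b * v.1.2 1 ^ 2 +
    a * v.2.1 * v.1.2 1 + a ^ 2 * v.2.2 * v.1.2 1 + b * v.2.2 * v.1.2 1) *
      (CharTwo.two_eq_zero (R := F))

theorem regSix_four (v : Pl F 2 × (F × F)) :
    (regSix a b ^ 4) v = v + ((![a ^ 2 * v.1.2 1, a ^ 2 * v.1.2 0], 0), 0) := by
  simp only [pow_succ, pow_zero, one_mul, Module.End.mul_apply, regSix, LinearMap.coe_mk,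
    AddHom.coe_mk, Matrix.cons_val_zero, Matrix.cons_val_one]
  refine Prod.ext (Prod.ext (funext fun i => ?_) (funext fun i => ?_)) (Prod.ext ?_ ?_)
  all_goals first | fin_cases i | skip
  all_goals simp
  all_goals ring_nf
  all_goals
    have h4 : (4 : F) = 0 := by linear_combination (2 : F) * (CharTwo.two_eq_zero (R := F))
    have h6 : (6 : F) = 0 := by linear_combination (3 : F) * (CharTwo.two_eq_zero (R := F))
    have h10 : (10 : F) = 0 := by linear_combination (5 : F) * (CharTwo.two_eq_zero (R := F))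
    have h20 : (20 : F) = 0 := by linear_combination (10 : F) * (CharTwo.two_eq_zero (R := F))
    have h5 : (5 : F) = 1 := by linear_combination (2 : F) * (CharTwo.two_eq_zero (R := F))
    have h15 : (15 : F) = 1 := by linear_combination (7 : F) * (CharTwo.two_eq_zero (R := F))
    simp [h4, h6, h10, h20, h5, h15]

theorem regSix_eight : regSix a b ^ (7 + 1) = 1 := by
  refine LinearMap.ext fun v => ?_
  rw [show 7 + 1 = 4 + 4 from rfl, pow_add, Module.End.mul_apply, regSix_four, regSix_four,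
    Module.End.one_apply]
  refine Prod.ext (Prod.ext (funext fun i => ?_) (funext fun i => ?_)) (Prod.ext ?_ ?_)
  all_goals first | fin_cases i | skip
  all_goals simp [add_assoc, CharTwo.add_self_eq_zero]

theorem hasElt_eight (ha : a ≠ 0) : HasElt (qAdd (qP F 2) (qX a b)) 8 := by
  refine ⟨equivOfPow (regSix a b) regSix_eight, fun x => qX_regSix x,
    orderOf_eq_prime_pow (p := 2) (n := 2) (fun e => ?_) ?_⟩
  · have h := LinearEquiv.congr_fun e ((0, ![1, 0]), (0, 0))
    have he : ∀ (n : ℕ) x, ((equivOfPow (regSix a b) regSix_eight) ^ n) x = (regSix a b ^ n) x := by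
      intro n
      induction n with
      | zero => intro x; rfl
      | succ n ih => intro x; rw [pow_succ', LinearEquiv.mul_apply, ih, equivOfPow_apply, pow_succ']; rfl
    rw [he, show (2 : ℕ) ^ 2 = 4 from rfl, regSix_four] at h
    have h1 := congrFun (congrArg (fun w => w.1.1) h) 1
    simp [ha] at h1
  · refine LinearEquiv.ext fun z => ?_
    exact LinearMap.congr_fun regSix_eight z

end CfsgLib.Recog.IsometryBlocks
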