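import Cfsg.Agent.Lib.Recog.JankoOneSpectrumData
import Cfsg.Agent.Lib.Sporadic.J1Cert

/-! Kernel evaluation for the element orders of J1. -/

set_option autoImplicit false

namespace CfsgLib.Recog.JankoOneSpectrum

open CfsgLib.Sporadic CfsgLib.Sporadic.J1

/-- The mask of the low four bits of the 49 slots. -/
noncomputable def mask : ℕ := 15 * ((2 ^ (12 * 49) - 1) / (2 ^ 12 - 1))

/-- Row vector times matrix, unrolled. -/
noncomputable def vm (a b : ℕ) : ℕ :=
  (fun c => (fun s =>
      (s % 4096) % 11 + (((s >>> 12) % 4096) % 11) <<< 12 + (((s >>> 24) % 4096) % 11) <<< 24 +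
        (((s >>> 36) % 4096) % 11) <<< 36 + (((s >>> 48) % 4096) % 11) <<< 48 +
        (((s >>> 60) % 4096) % 11) <<< 60 + (((s >>> 72) % 4096) % 11) <<< 72)
    ((a % 16) * (c % 2 ^ 84) + ((a >>> 12) % 16) * ((c >>> 84) % 2 ^ 84) +
      ((a >>> 24) % 16) * ((c >>> 168) % 2 ^ 84) + ((a >>> 36) % 16) * ((c >>> 252) % 2 ^ 84) +
      ((a >>> 48) % 16) * ((c >>> 336) % 2 ^ 84) + ((a >>> 60) % 16) * ((c >>> 420) % 2 ^ 84) +
      ((a >>> 72) % 16) * ((c >>> 504) % 2 ^ 84))) (b &&& mask)

/-- The image of `v` under `(T * K) ^ m`. -/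
noncomputable def iterVm (v t k m : ℕ) : ℕ := Nat.rec v (fun _ u => vm (vm u t) k) m

/-- The admissible orders. -/
def allowed : List ℕ := [1, 2, 3, 5, 6, 7, 10, 11, 15, 19]

/-- The code of the element `v` of the table for the orbit representatives. -/
noncomputable def repT (v : ℕ) : ℕ := topT.get (repTab.get (v / 660))

theorem k_fixfree :
    allFrom 1 659 (fun a => !(vm vecCode (kT.get a) == vecCode)) = true := by decide +kernel

theorem img_sorted : allFrom 0 661 (fun i => Nat.blt (imgTab.get i) (imgTab.get (i + 1))) = true := by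
  decide +kernel

theorem img_pos : allFrom 0 660 (fun a => Nat.blt (imgPos.get a) 662 &&
    imgTab.get (imgPos.get a) == vm vecCode (kT.get a)) = true := by decide +kernel

theorem top_gap : allFrom 1 265 (fun i => Nat.blt (gapTab.get i) 661 &&
    Nat.blt (imgTab.get (gapTab.get i)) (vm vecCode (topT.get i)) &&
    Nat.blt (vm vecCode (topT.get i)) (imgTab.get (gapTab.get i + 1))) = true := by decide +kernel

theorem conj_ok : allFrom 0 266 (fun i => Nat.blt (conjLeft.get i) 660 &&
    Nat.blt (conjRep.get i) 5 && Nat.blt (conjRight.get i) 660 &&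
    Nat.blt (repTab.get (conjRep.get i)) 266 &&
    vm (vm vecCode (kT.get (conjLeft.get i))) (topT.get (repTab.get (conjRep.get i))) ==
      vm (vm vecCode (topT.get i)) (kT.get (conjRight.get i))) = true := by decide +kernel

/-- One element is checked. -/
noncomputable def ordOK (v : ℕ) : Bool :=
  allowed.contains (ordTab.get v) &&
    iterVm vecCode (repT v) (kT.get (v % 660)) (ordTab.get v) == vecCode

theorem ord_ok₀ : allFrom 0 660 ordOK = true := by decide +kernel

theorem ord_ok₁ : allFrom 660 660 ordOK = true := by decide +kernel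

theorem ord_ok₂ : allFrom 1320 660 ordOK = true := by decide +kernel

theorem ord_ok₃ : allFrom 1980 660 ordOK = true := by decide +kernel

theorem ord_ok₄ : allFrom 2640 660 ordOK = true := by decide +kernel

/-- The element with index `v` has order exactly `n`. -/
noncomputable def exactOK (n v : ℕ) : Bool :=
  iterVm vecCode (repT v) (kT.get (v % 660)) n == vecCode &&
    allFrom 1 (n - 1) (fun m => !(iterVm vecCode (repT v) (kT.get (v % 660)) m == vecCode))

/-- Indices of elements of each maximal order. -/
def witnesses : List (ℕ × ℕ) := [(6, 60), (7, 660), (10, 666), (11, 3), (15, 662), (19, 669)]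

theorem witnesses_ok : witnesses.all (fun p => exactOK p.1 p.2 && Nat.blt p.2 3300) = true := by
  decide +kernel

theorem rep_lt : allFrom 0 5 (fun j => Nat.blt (repTab.get j) 266) = true := by decide +kernel

end CfsgLib.Recog.JankoOneSpectrum
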