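import Cfsg.Agent.Lib.Sporadic.Chain

/-! Tables for the element orders of J1. -/

set_option autoImplicit false

namespace CfsgLib.Recog.JankoOneSpectrum

open CfsgLib.Sporadic (Tr)

/-- A row vector with trivial stabilizer. -/
def vecCode : ℕ := 33063484316764969377793

/-- The images of the vector under the subgroup of order 660, increasing, padded. -/
def imgTab : Tr := (.node (.node (.node (.node (.node (.node (.node (.node (.node (.node (.leaf 0) (.leaf 37785852206803306160128)) (.leaf 18891773464024849620996)) (.node (.node (.leaf 9447039653448479965192) (.leaf 47229431406544457596934)) (.leaf 28337657662350217461760))) (.node (.node (.node (.leaf 4725825810539678273542) (.leaf 42509370766752728772615)) (.leaf 23614139665282196598785)) (.node (.leaf 14167101137871129542662) (.leaf 33061178192349599125508)))) (.node (.node (.node (.node (.leaf 6920062783602069511) (.leaf 42503604188973459595266)) (.leaf 18898691274390045220872)) (.node (.leaf 9451653309929132941312) (.leaf 28344576598752758857728)))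 (.node (.node (.node (.leaf 4731592669999998717961) (.leaf 47223666518027466178564)) (.leaf 23621058038253647581194)) (.node (.leaf 14174019511529959849988) (.leaf 37778933270950671560714))))) (.node (.node (.node (.node (.node (.leaf 3460453363831812103) (.leaf 37790461922634352308224)) (.leaf 18895231946651544358920)) (.node (.node (.leaf 9449346059201371201540) (.leaf 47234043092837712560133)) (.leaf 28339964630847138578434))) (.node (.node (.node (.leaf 4729285419615935041538) (.leaf 42511674921118156730374)) (.leaf 23617598992264833548289)) (.node (.leaf 14171711979052377051142) (.leaf 33063484879921081237507)))) (.node (.node (.node (.node (.leaf 11529215527155163146) (.leaf 42505910313526419820552)) (.leaf 18900997116918256140288)) (.node (.leaf 9453959152869509726217) (.leaf 33057719427766975229954))) (.node (.node (.node (.leaf 9444735499220306382855) (.leaf 47225971234999367643143)) (.leaf 23623363881881437241352)) (.node (.leaf 14178630071236163547140) (.leaf 37783543549594198638599)))))) (.node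 (.node (.node (.node (.node (.node (.leaf 2305843490401054730) (.leaf 37788156642506355769353)) (.leaf 18892926666386125635593)) (.node (.node (.leaf 9448192575296600301571) (.leaf 47231735561115993645063)) (.leaf 28338810583236349038600))) (.node (.node (.node (.leaf 4726980139831401668608) (.leaf 42510522280813682253828)) (.leaf 23616445226266677743616)) (.node (.leaf 14169406699061853069320) (.leaf 33062332239960254464001)))) (.node (.node (.node (.node (.leaf 10376856835029229570) (.leaf 42503606722729420562441)) (.leaf 18899845039769826385927)) (.node (.leaf 9452806231639931772931) (.leaf 28345730364682329432072))) (.node (.node (.node (.leaf 4732745591161008168960) (.leaf 47224818595313267793921)) (.leaf 23622209271320794902528)) (.node (.leaf 14176324509976687017986) (.leaf 37781237987441368932357))))) (.node (.node (.node (.node (.node (.leaf 5764607935451791361) (.leaf 42501300316838905778182)) (.leaf 18897536945304446734338)) (.node (.leaf 9450499825268330356739) (.leaf 28342270473787582476293)))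 (.node (.node (.node (.leaf 4731590136725074100224) (.leaf 42512827561079201632256)) (.leaf 23618751632569492574215)) (.node (.leaf 14172864619769185181698) (.leaf 33066941673766517764104)))) (.node (.node (.node (.node (.leaf 4722368734669609922560) (.leaf 42507063798049766641669)) (.leaf 23612987306864864686089)) (.node (.leaf 9456262744216499675144) (.leaf 33058873475446299701255))) (.node (.node (.node (.leaf 9445887576781053005829) (.leaf 47228277359827054784512)) (.leaf 28335352663284931129348)) (.node (.leaf 18890620542108009771017) (.leaf 37785849392191061925892))))))) (.node (.node (.node (.node (.node (.node (.node (.leaf 1970324870533128) (.leaf 37787002876645571821572)) (.leaf 18892924696473471299587)) (.node (.node (.leaf 9448191730871670149128) (.leaf 47229432251587812663301)) (.leaf 28337658506775197949953))) (.node (.node (.node (.leaf 4726979013588031655942) (.leaf 42510521999476161249288)) (.leaf 23615291178930849972229)) (.node (.leaf 14168254903732064505866) (.leaf 33061179317905824681988))))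 (.node (.node (.node (.node (.leaf 9224780098966663170) (.leaf 42503605596692024393728)) (.leaf 18899843351332417212420)) (.node (.leaf 9452804260696602705925) (.leaf 28345728394288772976643))) (.node (.node (.node (.leaf 4732743058435940036614) (.leaf 47223667644133447589896)) (.leaf 23622208707889838723074)) (.node (.leaf 14175171588540816457735) (.leaf 37780086755473833885706))))) (.node (.node (.node (.node (.node (.leaf 4612530718252208131) (.leaf 37790463892890520150024)) (.leaf 18896384305343586410498)) (.node (.node (.leaf 9450497573399914618880) (.leaf 47235196577498364149763)) (.leaf 28341116989607883325443))) (.node (.node (.node (.leaf 4730436933539365687306) (.leaf 42511676891236935925765)) (.leaf 23618750506738254913536)) (.node (.leaf 14171713105570826309632) (.leaf 33064638364375691849734)))) (.node (.node (.node (.node (.leaf 11531185920661258249) (.leaf 42505911439288854122498)) (.leaf 23611833540866708865026)) (.node (.leaf 9455110104392977641474) (.leaf 33058871504640493510656))) (.node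 (.node (.node (.leaf 9445887013693593497603) (.leaf 47227125563535277453320)) (.leaf 28334201430767573172228)) (.node (.leaf 18889465931616036622343) (.leaf 37784697033705027280903)))))) (.node (.node (.node (.node (.node (.node (.leaf 2306969046626619395) (.leaf 37789310126961067040774)) (.leaf 18894079306484475265030)) (.node (.node (.leaf 9449344652444979691522) (.leaf 47232889608383202623492)) (.leaf 28338811427798785220609))) (.node (.node (.node (.leaf 4728131934886345838598) (.leaf 42510524533300623593473)) (.leaf 23616446915735063642112)) (.node (.leaf 14170558776278884839426) (.leaf 33063482909664913424393)))) (.node (.node (.node (.node (.leaf 10377701534904381440) (.leaf 42504759080802970525696)) (.leaf 18900996272424556191748)) (.node (.leaf 9453958590057045573632) (.leaf 33056567069349693640708))) (.node (.node (.node (.leaf 9444733529307719163906) (.leaf 47224820284163178377223)) (.leaf 23623362474162939502596)) (.node (.leaf 14178628663655104798725) (.leaf 37782390627952068952064))))) (.node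 (.node (.node (.node (.node (.leaf 5767422822573936649) (.leaf 42502451548806558253057)) (.leaf 18897539197241682595841)) (.node (.leaf 9451651620873147777031) (.leaf 28343424802529667489795))) (.node (.node (.node (.leaf 4731591544374953013254) (.leaf 42512830376035043254277)) (.leaf 23619903990917954031617)) (.node (.leaf 14172866870881904758786) (.leaf 33066943926115986571264)))) (.node (.node (.node (.node (.leaf 4724673733597339860997) (.leaf 42508215875404321288201)) (.leaf 23614138539176164892677)) (.node (.leaf 14167099730358924496902) (.leaf 33060024145013670699011))) (.node (.node (.node (.leaf 9447038809366996205569) (.leaf 47229429436906748248072)) (.leaf 28336506147739508187137)) (.node (.leaf 18891772619256473067530) (.leaf 37785850799428456157186)))))))) (.node (.node (.node (.node (.node (.node (.node (.node (.leaf 1689124805283844) (.leaf 37787002313833141239810)) (.leaf 18891773745293785317377)) (.node (.node (.leaf 9447040497942062473226) (.leaf 47229431970044200366085)) (.leaf 28337657943550416945153)))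 (.node (.node (.node (.leaf 4725827217914612187138) (.leaf 42509371611589975769089)) (.leaf 23614141072244780056585)) (.node (.leaf 14168253214607225671685) (.leaf 33061179036705826574343)))) (.node (.node (.node (.node (.leaf 9223372243164217349) (.leaf 42503604470311030898689)) (.leaf 18898692118883694833668)) (.node (.leaf 9452803416683972689929) (.leaf 28344577724377821380610))) (.node (.node (.node (.leaf 4732743057886251331589) (.leaf 47223666799639814733824)) (.leaf 23621058320003518959617)) (.node (.leaf 14175170462366098821120) (.leaf 37780085066005565415424))))) (.node (.node (.node (.node (.node (.leaf 3461298063606304777) (.leaf 37790463611484246155274)) (.leaf 18895232509326485659658)) (.node (.node (.leaf 9449347467057408524295) (.leaf 47234043937331362144262)) (.leaf 28339965757159211282433))) (.node (.node (.node (.leaf 4729286545309649874944) (.leaf 42511676328286898647049)) (.leaf 23617599274289717063690)) (.node (.leaf 14171712823546026684418) (.leaf 33064637801494491451399)))) (.node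 (.node (.node (.node (.leaf 11530904170924081159) (.leaf 42505910876545109471234)) (.leaf 23611832414897998663687)) (.node (.leaf 9455109259555646771210) (.leaf 33058871223784075993097))) (.node (.node (.node (.leaf 9445886169062471381002) (.leaf 47225973205255367700485)) (.leaf 23623364444762587267082)) (.node (.leaf 14178630634392258617348) (.leaf 37783545238237799817220)))))) (.node (.node (.node (.node (.node (.node (.leaf 2306687640402935808) (.leaf 37789308438592159227908)) (.leaf 18894079025352928165894)) (.node (.node (.leaf 9448193137765534158857) (.leaf 47231737531509667557376)) (.leaf 28338810583854824300548))) (.node (.node (.node (.leaf 4728131372005195812869) (.leaf 42510523688257302044674)) (.leaf 23616446071378735542280)) (.node (.leaf 14170558213122823303176) (.leaf 33062332802566509858818)))) (.node (.node (.node (.node (.leaf 10377138035111272450) (.leaf 42504757673359350693893)) (.leaf 18900995991361896349702)) (.node (.leaf 9453956901276022210565) (.leaf 33056565943312482054152))) (.node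 (.node (.node (.leaf 4733897950196681146371) (.leaf 47224820002413223108611)) (.leaf 23622211522983085740038)) (.node (.leaf 14176325072995494154242) (.leaf 37781240239722202165254))))) (.node (.node (.node (.node (.node (.leaf 5765170610460200960) (.leaf 42501300597970385772547)) (.leaf 18897538915629300465671)) (.node (.leaf 9451650495316737683456) (.leaf 28342271318281181741064))) (.node (.node (.node (.leaf 4731590699812466475018) (.leaf 42512827842485408538630)) (.leaf 23619902865567803015174)) (.node (.leaf 14172866026456957853703) (.leaf 33066941955722597928960)))) (.node (.node (.node (.node (.leaf 4724673451778916753409) (.leaf 42507064361274547675143)) (.leaf 23612987869677546901504)) (.node (.leaf 9456264151110296563722) (.leaf 33058874037915283910664))) (.node (.node (.node (.leaf 9445888421137196523523) (.leaf 47228278485726911303685)) (.leaf 28335354633678437232645)) (.node (.leaf 18891771775037550383112) (.leaf 37785850236478553092096))))))) (.node (.node (.node (.node (.node (.node (.node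 (.leaf 1153203117106401283) (.leaf 37787004565289290469384)) (.leaf 18892926103779668946944)) (.node (.node (.leaf 9448192575227914391553) (.leaf 47230583765374022455300)) (.leaf 28337659913737814945800))) (.node (.node (.node (.leaf 4726979857738050342922) (.leaf 42510521999751005642757)) (.leaf 23615293149599200448515)) (.node (.leaf 14169405291893060812806) (.leaf 33062330269566597337088)))) (.node (.node (.node (.node (.leaf 10376575085325623296) (.leaf 42503606159160958267396)) (.leaf 18899844195619824484353)) (.node (.leaf 9452805386665161945092) (.leaf 28345729519913818656769))) (.node (.node (.node (.leaf 4732744746873399578624) (.leaf 47224818313425957421061)) (.leaf 23622208708096013934602)) (.node (.leaf 14176322820852015984649) (.leaf 37780087036742668947465))))) (.node (.node (.node (.node (.node (.leaf 4613937818241114114) (.leaf 42501299753201724051463)) (.leaf 18896385430831092498434)) (.node (.leaf 9450499262112268840961) (.leaf 28342269910906314969093))) (.node (.node (.node (.leaf 4730438059370653696002)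 (.leaf 42511677454118035693571)) (.leaf 23618750788350553120773)) (.node (.leaf 14172864056338212208650) (.leaf 33065789597030438436865)))) (.node (.node (.node (.node (.leaf 4722367046163313463303) (.leaf 42505912283713918476293)) (.leaf 23612986743708803145735)) (.node (.leaf 9455111229811881676808) (.leaf 33058871786184223256583))) (.node (.node (.node (.leaf 9445887295168704446469) (.leaf 47227126126691288616970)) (.leaf 28335351818997490266117)) (.node (.leaf 18889467339265781276681) (.leaf 37784698722348745908233)))))) (.node (.node (.node (.node (.node (.node (.leaf 2307532134018977793) (.leaf 37789310408779590807552)) (.leaf 18895231383495415713796)) (.node (.node (.leaf 9449345215188858585093) (.leaf 47234041966937822486532)) (.leaf 28338812272704718135304))) (.node (.node (.node (.leaf 4728133342398735454217) (.leaf 42511674639505707507718)) (.leaf 23617597866296291119112)) (.node (.leaf 14170560183585166368770) (.leaf 33063484035083934916611)))) (.node (.node (.node (.node (.leaf 10378264484840996865)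 (.leaf 42504759643752957497349)) (.leaf 18900996835511948570634)) (.node (.leaf 9453958871394650427401) (.leaf 33057719146017070264327))) (.node (.node (.node (.leaf 9444734654658021171206) (.leaf 47225970672118033055753)) (.leaf 23623363318312974962695)) (.node (.leaf 14178629227017408651269) (.leaf 37782392035120861155331))))) (.node (.node (.node (.node (.node (.leaf 6918936883560980489) (.leaf 42502452393368927375360)) (.leaf 18898690148077922164743)) (.node (.leaf 9451652184166648279046) (.leaf 28344576598203053391880))) (.node (.node (.node (.leaf 4731592107256237285379) (.leaf 47223665110583879966722)) (.leaf 23619905116749057507331)) (.node (.leaf 14174018385630086598661) (.leaf 37778932144982045237254)))) (.node (.node (.node (.node (.leaf 4724674578297215004680) (.leaf 42509370203733988745223)) (.leaf 23614138820444882472967)) (.node (.leaf 14167100293102635618307) (.leaf 33060025833932284002314))) (.node (.node (.node (.leaf 9447039653173551730697) (.leaf 47229430562394271150080)) (.leaf 28336507273982978818051))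 (.node (.leaf 18891773463681352859658) (.leaf 37785851643922105794563))))))))) (.node (.node (.node (.node (.node (.node (.node (.node (.node (.leaf 1126037379375109) (.leaf 37785852207353145892867)) (.leaf 18891773745156245688320)) (.node (.node (.leaf 9447039653791909580804) (.leaf 47229431969562996285448)) (.leaf 28337657943412910850052))) (.node (.node (.node (.leaf 4725826655101997060097) (.leaf 42509371330046178922504)) (.leaf 23614140509775862980611)) (.node (.leaf 14168252370457290874888) (.leaf 33061179036499533922305)))) (.node (.node (.node (.node (.leaf 8072702332061622282) (.leaf 42503604189523332861962)) (.leaf 18898691836790309949447)) (.node (.leaf 9452803416340291424266) (.leaf 28344576879952908005381))) (.node (.node (.node (.leaf 4732742776960963346434) (.leaf 47223666518027516547076)) (.leaf 23621058038872122875905)) (.node (.leaf 14175169899141217144840) (.leaf 37778933551944528068608))))) (.node (.node (.node (.node (.node (.leaf 3460454050959458310) (.leaf 37790463611346840739848))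 (.leaf 18895232228401264742406)) (.node (.node (.leaf 9449347185444892192768) (.leaf 47234043093043870957578)) (.leaf 28339965193934430277633))) (.node (.node (.node (.leaf 4729286264040747700233) (.leaf 42511676047292975038464)) (.leaf 23617599273877366673417)) (.node (.leaf 14171712542002330497031) (.leaf 33064636956657278033923)))) (.node (.node (.node (.node (.leaf 11529778477158932484) (.leaf 42505910876407620210693)) (.leaf 18900997398599340933127)) (.node (.leaf 9455109259349471531011) (.leaf 33057719708967107596293))) (.node (.node (.node (.leaf 9445885887862389358594) (.leaf 47225972642236711575555)) (.leaf 23623364444281500631041)) (.node (.leaf 14178630634186083426304) (.leaf 37783544956625518354434)))))) (.node (.node (.node (.node (.node (.node (.leaf 2306406027987267592) (.leaf 37788157487068708085767)) (.leaf 18894078461921955155976)) (.node (.node (.leaf 9448192856153034588160) (.leaf 47231735561322152091655)) (.leaf 28338810583442540998657))) (.node (.node (.node (.leaf 4728131090461415710723)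 (.leaf 42510523407057220030468)) (.leaf 23616445789285233233926)) (.node (.leaf 14169408106367950008325) (.leaf 33062332802429037342729)))) (.node (.node (.node (.node (.leaf 10376857041271554049) (.leaf 42504757110478116790277)) (.leaf 18900995991155855327242)) (.node (.leaf 9453956901207235629058) (.leaf 33056565380225056124931))) (.node (.node (.node (.leaf 4733895979596999819270) (.leaf 47224819439394600546310)) (.leaf 23622210678695561035778)) (.node (.leaf 14176324791589119500298) (.leaf 37781238832484891795464))))) (.node (.node (.node (.node (.node (.leaf 5764608004154486790) (.leaf 42501300597626637402112)) (.leaf 18897537508391922999300)) (.node (.leaf 9450500106812110405635) (.leaf 28342271036600096915462))) (.node (.node (.node (.leaf 4731590137068772167680) (.leaf 42512827842347919228934)) (.leaf 23618751632638094635017)) (.node (.leaf 14172864900763092029446) (.leaf 33066941955585075056640)))) (.node (.node (.node (.node (.leaf 4723521656517797359624) (.leaf 42507064079937060229128)) (.leaf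 23612987587721500307464)) (.node (.leaf 9456263869704056078343) (.leaf 33058873756921360293898))) (.node (.node (.node (.leaf 9445887858255929024514) (.leaf 47228278204252085579776)) (.leaf 28335353226166131527683)) (.node (.leaf 18890621104920440340480) (.leaf 37785849392397287452675))))))) (.node (.node (.node (.node (.node (.node (.node (.leaf 1970806041092105) (.leaf 37787003158601601687552)) (.leaf 18892925259629700612099)) (.node (.node (.leaf 9448192293615381266436) (.leaf 47230583202492788539394)) (.leaf 28337659632193967779849))) (.node (.node (.node (.leaf 4726979294925535854599) (.leaf 42510521999682235834369)) (.leaf 23615291179205744660480)) (.node (.leaf 14168255185550605062144) (.leaf 33061179599793118265349)))) (.node (.node (.node (.node (.leaf 10376294228689956874) (.leaf 42503605877823403720705)) (.leaf 18899843914419692118017)) (.node (.leaf 9452804823990119997440) (.leaf 28345729519776430043144))) (.node (.node (.node (.leaf 4732744184267093860360) (.leaf 47224818032088503558148)) (.leaf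 23622208708027277639689)) (.node (.leaf 14175171870084663635969) (.leaf 37780087036467791044613))))) (.node (.node (.node (.node (.node (.leaf 4613375211901849605) (.leaf 42501298346445433233410)) (.leaf 18896384586681107365890)) (.node (.node (.leaf 9450497854737469161479) (.leaf 19342813113834066795298816)) (.leaf 28341117834307758465026))) (.node (.node (.node (.leaf 4730436933814344241155) (.leaf 42511676891305621876737)) (.leaf 23618750788075842990082)) (.node (.leaf 14171713949583372451845) (.leaf 33064638646056726335493)))) (.node (.node (.node (.node (.leaf 4722366764413341409281) (.leaf 42505911721313737646088)) (.leaf 23611834947829292371972)) (.node (.leaf 9455110385249378410498) (.leaf 33058871786046801084422))) (.node (.node (.node (.leaf 9445887294687651319813) (.leaf 47227125845559858978819)) (.leaf 28335351818928770793478)) (.node (.leaf 18889465931890981625863) (.leaf 37784698441354839093258)))))) (.node (.node (.node (.node (.node (.node (.leaf 2306969596315336704) (.leaf 37789310127167175168000))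 (.leaf 18894080432934087569417)) (.node (.node (.leaf 9449344933713730883594) (.leaf 47232889608658097295361)) (.leaf 28338812272498526162949))) (.node (.node (.node (.leaf 4728132779379978690567) (.leaf 42511674639368352440322)) (.leaf 23616446915803682447360)) (.node (.leaf 14170559902659878338568) (.leaf 33063483472408842620934)))) (.node (.node (.node (.node (.leaf 10377982803806556162) (.leaf 42504759081009179267078)) (.leaf 18900996554037139611658)) (.node (.leaf 9453958590125748297735) (.leaf 33057718583067100065797))) (.node (.node (.node (.leaf 9444734373114241097734) (.leaf 47225970671705800056833)) (.leaf 23623362474231709343754)) (.node (.leaf 14178628664204793516038) (.leaf 37782391471964698984453))))) (.node (.node (.node (.node (.node (.leaf 6917810915052126211) (.leaf 42502452111893950627840)) (.leaf 18898689303584289345542)) (.node (.leaf 9451651902691705135105) (.leaf 28344576316934168010762))) (.node (.node (.node (.leaf 4731592107256170192899) (.leaf 42512830376035060047881)) (.leaf 23619904835274198245386))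 (.node (.leaf 14174017259249160192005) (.leaf 37778931863575653785610)))) (.node (.node (.node (.node (.leaf 4724674015072333369349) (.leaf 42508217282298202050570)) (.leaf 23614138820307544178697)) (.node (.leaf 14167100011902654226440) (.leaf 33060024145219896250372))) (.node (.node (.node (.leaf 9447038809435715674116) (.leaf 47229429999719262752770)) (.leaf 28336506147945599500290)) (.node (.leaf 18891773463681336102920) (.leaf 37785851081109641633797)))))))) (.node (.node (.node (.node (.node (.node (.node (.node (.leaf 1689262261043210) (.leaf 37787002594964487053312)) (.leaf 18891774026699992227841)) (.node (.node (.leaf 9447041342092081115142) (.leaf 47229432251519160299526)) (.leaf 28337658506294161575937))) (.node (.node (.node (.leaf 4725827218395514286089) (.leaf 42510521718550873243657)) (.leaf 23614141072382084796422)) (.node (.leaf 14168254340575969443843) (.leaf 33061179036911984975876)))) (.node (.node (.node (.node (.leaf 9223935536681467907) (.leaf 42503605315010889281538)) (.leaf 18899842225294953959432))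 (.node (.leaf 9452803697815234551817) (.leaf 28344578005509267795978))) (.node (.node (.node (.leaf 4732743058161045344258) (.leaf 47223667080702491402244)) (.leaf 23621058601547215147010)) (.node (.leaf 14175170743909878870023) (.leaf 37780085066280426545160))))) (.node (.node (.node (.node (.node (.leaf 3461579676005199875) (.leaf 37790463611896596566020)) (.leaf 18896383742668460560384)) (.node (.node (.leaf 9450497573331178393608) (.leaf 47235195451186241097732)) (.leaf 28339966319490756546564))) (.node (.node (.node (.leaf 4729286545859372154883) (.leaf 42511676610105573388289)) (.leaf 23618749943856920297480)) (.node (.leaf 14171713105501955821569) (.leaf 33064638082625904336904)))) (.node (.node (.node (.node (.leaf 11531185783239090183) (.leaf 42505911439220151418886)) (.leaf 23611832977985525260293)) (.node (.leaf 9455109541305534935043) (.leaf 33058871223784092766217))) (.node (.node (.node (.leaf 9445886169062572056578) (.leaf 47227124438047603585024)) (.leaf 28334200023598948716546)) (.node (.leaf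 14178631197617123495943) (.leaf 37783546364000267694090)))))) (.node (.node (.node (.node (.node (.node (.leaf 2306687640470061064) (.leaf 37789309001404740825092)) (.leaf 18894079306346885287938)) (.node (.node (.leaf 9448194545346475499530) (.leaf 47232889045158371274761)) (.leaf 28338811427661396586501))) (.node (.node (.node (.leaf 4728131653617510797318) (.leaf 42510523969663542505476)) (.leaf 23616446352647671287814)) (.node (.leaf 14170558494666553053186) (.leaf 33063482909321399934979)))) (.node (.node (.node (.node (.leaf 10377701328662073351) (.leaf 42504757673771768242186)) (.leaf 18900995991499335299082)) (.node (.leaf 9453958308375860092933) (.leaf 33056566224856044048387))) (.node (.node (.node (.leaf 4733898231190554435585) (.leaf 47224820002550662057989)) (.leaf 23623361910869338374153)) (.node (.leaf 14177478557175210065927) (.leaf 37781240239722286059521))))) (.node (.node (.node (.node (.node (.leaf 5765733766689456137) (.leaf 42502451268018742779905)) (.leaf 18897539196760629469185))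 (.node (.leaf 9451650776585639825416) (.leaf 28342271599618769850373))) (.node (.node (.node (.leaf 4731590981012615630857) (.leaf 42512829531747602436099)) (.leaf 23619903146836487081985)) (.node (.leaf 14172866308137992327178) (.leaf 33066943081484898017288)))) (.node (.node (.node (.node (.leaf 4724673733460068683784) (.leaf 42507065768580644630538)) (.leaf 23614138257907363385347)) (.node (.leaf 14167099448952700821510) (.leaf 33058874038190111473664))) (.node (.node (.node (.leaf 9447038808954712907777) (.leaf 47229429436563083788293)) (.leaf 28336505021702078492679)) (.node (.leaf 18891772056512661299208) (.leaf 37785850236753347100672))))))) (.node (.node (.node (.node (.node (.node (.node (.leaf 1155173579432660999) (.leaf 37788156080037421912067)) (.leaf 18892926385254729543681)) (.node (.node (.leaf 9448192575227931131905) (.leaf 47230584047055157616645)) (.leaf 28337660195212657467397))) (.node (.node (.node (.leaf 4726979858150350393350) (.leaf 42510521999751072718857)) (.leaf 23616444100779037425670))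 (.node (.leaf 14169406136111849312260) (.leaf 33062331958622750269441)))) (.node (.node (.node (.node (.leaf 10376575428805537794) (.leaf 42503606159161008627722)) (.leaf 18899844477163621326850)) (.node (.leaf 9452806231021406142474) (.leaf 28345729801594937040897))) (.node (.node (.node (.leaf 4732745309892089253897) (.leaf 47224818313494693707779)) (.leaf 23622209270977096876039)) (.node (.leaf 14176322821195546263559) (.leaf 37780087317942717403138))))) (.node (.node (.node (.node (.node (.leaf 5764607660506750978) (.leaf 42501300316220396929031)) (.leaf 18897536382354476507138)) (.node (.leaf 9450499825130941739015) (.leaf 28342270192175150018570))) (.node (.node (.node (.leaf 4731589855250214834179) (.leaf 42511677454530453180422)) (.leaf 23618751069825546592260)) (.node (.leaf 14172864056819214995463) (.leaf 33065789597236496191493)))) (.node (.node (.node (.node (.leaf 4722367327294726348801) (.leaf 42507063516437334196234)) (.leaf 23612987024702760312834)) (.node (.leaf 9455111793242787561478) (.leaf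 33058873475240309051396))) (.node (.node (.node (.leaf 9445887576368652251136) (.leaf 47227126408028910280704)) (.leaf 28335352381672515461124)) (.node (.leaf 18889468746572079595526) (.leaf 37784698722486218432513)))))) (.node (.node (.node (.node (.node (.node (.leaf 2308376559016239108) (.leaf 37790461641090689699845)) (.leaf 18895231946514055049217)) (.node (.node (.leaf 9449345777795181060102) (.leaf 47234042530300143104001)) (.leaf 28339964349509483388928))) (.node (.node (.node (.leaf 4729284856665981616137) (.leaf 42511674639780736409600)) (.leaf 23617598711202307940352)) (.node (.leaf 14171711697714889654282) (.leaf 33063484316764969377793)))) (.node (.node (.node (.node (.leaf 10378545547534409729) (.leaf 42505910032395141136389)) (.leaf 18900996835786910375941)) (.node (.leaf 9453958871463420268551) (.leaf 33057719427698339627009))) (.node (.node (.node (.leaf 9444734655276446150661) (.leaf 47225970953386851323909)) (.leaf 23623363881812717772806)) (.node (.leaf 14178629508148804734981) (.leaf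 37782393442839325347840))))) (.node (.node (.node (.node (.node (.leaf 6919218152463155200) (.leaf 42502454082287339315200)) (.leaf 18898690148283963166721)) (.node (.leaf 9451652746841723781121) (.leaf 28344576598271672209409))) (.node (.node (.node (.leaf 4731592388662343503875) (.leaf 47223665673808711282692)) (.leaf 23621057193828834897924)) (.node (.leaf 14174019511255115505669) (.leaf 37778932426250762883073)))) (.node (.node (.node (.node (.leaf 4724675140628642824197) (.leaf 42509370204283862011908)) (.leaf 23614139102194821005321)) (.node (.leaf 14167100574508842520586) (.leaf 33060026959419890737156))) (.node (.node (.node (.leaf 9447039653448345751552) (.leaf 47229431125138133241861)) (.leaf 28337657662281514770442)) (.node (.leaf 18891773463750139469824) (.leaf 37785851644471979040777))))))))))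

/-- Position of the image of an element. -/
def imgPos : Tr := (.node (.node (.node (.node (.node (.node (.node (.node (.node (.node (.leaf 463) (.leaf 108)) (.leaf 455)) (.node (.node (.leaf 416) (.leaf 276)) (.leaf 78))) (.node (.node (.node (.leaf 532) (.leaf 28)) (.leaf 451)) (.node (.leaf 356) (.leaf 647)))) (.node (.node (.node (.node (.leaf 421) (.leaf 117)) (.leaf 405)) (.node (.leaf 449) (.leaf 411))) (.node (.node (.node (.leaf 567) (.leaf 602)) (.leaf 77)) (.node (.leaf 645) (.leaf 557))))) (.node (.node (.node (.node (.node (.leaf 518) (.leaf 493)) (.leaf 65)) (.node (.node (.leaf 191) (.leaf 500)) (.leaf 378))) (.node (.node (.node (.leaf 630) (.leaf 533)) (.leaf 3)) (.node (.leaf 568) (.leaf 253)))) (.node (.node (.node (.node (.leaf 408) (.leaf 25)) (.leaf 607)) (.node (.leaf 64) (.leaf 247))) (.node (.node (.node (.leaf 654) (.leaf 511)) (.leaf 464)) (.node (.leaf 460) (.leaf 264)))))) (.node (.node (.node (.node (.node (.node (.leaf 38) (.leaf 23)) (.leaf 435)) (.node (.node (.leaf 81)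 (.leaf 560)) (.leaf 233))) (.node (.node (.node (.leaf 340) (.leaf 240)) (.leaf 325)) (.node (.leaf 83) (.leaf 501)))) (.node (.node (.node (.node (.leaf 569) (.leaf 439)) (.leaf 162)) (.node (.leaf 225) (.leaf 270))) (.node (.node (.node (.leaf 246) (.leaf 153)) (.leaf 495)) (.node (.leaf 491) (.leaf 155))))) (.node (.node (.node (.node (.node (.leaf 124) (.leaf 260)) (.leaf 556)) (.node (.leaf 658) (.leaf 402))) (.node (.node (.node (.leaf 632) (.leaf 392)) (.leaf 539)) (.node (.leaf 516) (.leaf 540)))) (.node (.node (.node (.node (.leaf 537) (.leaf 442)) (.leaf 338)) (.node (.leaf 217) (.leaf 322))) (.node (.node (.node (.leaf 316) (.leaf 90)) (.leaf 588)) (.node (.leaf 127) (.leaf 429))))))) (.node (.node (.node (.node (.node (.node (.node (.leaf 659) (.leaf 17)) (.leaf 376)) (.node (.node (.leaf 92) (.leaf 431)) (.leaf 254))) (.node (.node (.node (.leaf 489) (.leaf 279)) (.leaf 384)) (.node (.leaf 37) (.leaf 113)))) (.node (.node (.node (.node (.leaf 555) (.leaf 126)) (.leaf 238)) (.node (.leaf 8) (.leaf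 309))) (.node (.node (.node (.leaf 591) (.leaf 603)) (.leaf 512)) (.node (.leaf 219) (.leaf 55))))) (.node (.node (.node (.node (.node (.leaf 262) (.leaf 152)) (.leaf 296)) (.node (.leaf 485) (.leaf 95))) (.node (.node (.node (.leaf 306) (.leaf 308)) (.leaf 514)) (.node (.leaf 547) (.leaf 311)))) (.node (.node (.node (.node (.leaf 606) (.leaf 236)) (.leaf 650)) (.node (.leaf 474) (.leaf 251))) (.node (.node (.node (.leaf 504) (.leaf 433)) (.leaf 399)) (.node (.leaf 196) (.leaf 131)))))) (.node (.node (.node (.node (.node (.node (.leaf 443) (.leaf 462)) (.leaf 22)) (.node (.node (.leaf 257) (.leaf 229)) (.leaf 631))) (.node (.node (.node (.leaf 36) (.leaf 244)) (.leaf 515)) (.node (.leaf 508) (.leaf 409)))) (.node (.node (.node (.node (.leaf 598) (.leaf 401)) (.leaf 180)) (.node (.leaf 592) (.leaf 34))) (.node (.node (.node (.leaf 367) (.leaf 558)) (.leaf 321)) (.node (.leaf 248) (.leaf 135))))) (.node (.node (.node (.node (.node (.leaf 387) (.leaf 183)) (.leaf 350)) (.node (.leaf 231) (.leaf 143))) (.node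 (.node (.node (.leaf 195) (.leaf 156)) (.leaf 466)) (.node (.leaf 179) (.leaf 626)))) (.node (.node (.node (.node (.leaf 271) (.leaf 616)) (.leaf 398)) (.node (.leaf 243) (.leaf 400))) (.node (.node (.node (.leaf 395) (.leaf 265)) (.leaf 19)) (.node (.leaf 620) (.leaf 320)))))))) (.node (.node (.node (.node (.node (.node (.node (.node (.leaf 358) (.leaf 396)) (.leaf 21)) (.node (.node (.leaf 2) (.leaf 67)) (.leaf 268))) (.node (.node (.node (.leaf 581) (.leaf 68)) (.leaf 447)) (.node (.leaf 82) (.leaf 51)))) (.node (.node (.node (.node (.leaf 184) (.leaf 20)) (.leaf 18)) (.node (.leaf 513) (.leaf 275))) (.node (.node (.node (.leaf 497) (.leaf 175)) (.leaf 128)) (.node (.leaf 458) (.leaf 629))))) (.node (.node (.node (.node (.node (.leaf 230) (.leaf 40)) (.leaf 459)) (.node (.node (.leaf 101) (.leaf 571)) (.leaf 595))) (.node (.node (.node (.leaf 341) (.leaf 16)) (.leaf 318)) (.node (.leaf 601) (.leaf 4)))) (.node (.node (.node (.node (.leaf 305) (.leaf 218)) (.leaf 75)) (.node (.leaf 293) (.leaf 259))) (.node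 (.node (.node (.leaf 492) (.leaf 578)) (.leaf 57)) (.node (.leaf 343) (.leaf 613)))))) (.node (.node (.node (.node (.node (.node (.leaf 87) (.leaf 445)) (.leaf 73)) (.node (.node (.leaf 136) (.leaf 5)) (.leaf 536))) (.node (.node (.node (.leaf 521) (.leaf 499)) (.leaf 377)) (.node (.leaf 249) (.leaf 214)))) (.node (.node (.node (.node (.leaf 509) (.leaf 287)) (.leaf 302)) (.node (.leaf 528) (.leaf 637))) (.node (.node (.node (.leaf 176) (.leaf 292)) (.leaf 608)) (.node (.leaf 294) (.leaf 86))))) (.node (.node (.node (.node (.node (.leaf 163) (.leaf 313)) (.leaf 181)) (.node (.leaf 655) (.leaf 197))) (.node (.node (.node (.leaf 583) (.leaf 347)) (.leaf 543)) (.node (.leaf 241) (.leaf 574)))) (.node (.node (.node (.node (.leaf 29) (.leaf 553)) (.leaf 413)) (.node (.leaf 457) (.leaf 139))) (.node (.node (.node (.leaf 368) (.leaf 450)) (.leaf 484)) (.node (.leaf 366) (.leaf 355))))))) (.node (.node (.node (.node (.node (.node (.node (.leaf 323) (.leaf 611)) (.leaf 273)) (.node (.node (.leaf 215) (.leaf 471))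 (.leaf 116))) (.node (.node (.node (.leaf 96) (.leaf 517)) (.leaf 201)) (.node (.leaf 256) (.leaf 110)))) (.node (.node (.node (.node (.leaf 224) (.leaf 331)) (.leaf 44)) (.node (.leaf 149) (.leaf 277))) (.node (.node (.node (.leaf 319) (.leaf 538)) (.leaf 72)) (.node (.leaf 174) (.leaf 169))))) (.node (.node (.node (.node (.node (.leaf 564) (.leaf 120)) (.leaf 506)) (.node (.leaf 146) (.leaf 46))) (.node (.node (.node (.leaf 160) (.leaf 335)) (.leaf 161)) (.node (.leaf 436) (.leaf 150)))) (.node (.node (.node (.node (.leaf 349) (.leaf 352)) (.leaf 267)) (.node (.leaf 85) (.leaf 187))) (.node (.node (.node (.leaf 584) (.leaf 213)) (.leaf 33)) (.node (.leaf 354) (.leaf 380)))))) (.node (.node (.node (.node (.node (.node (.leaf 144) (.leaf 563)) (.leaf 314)) (.node (.node (.leaf 58) (.leaf 628)) (.leaf 138))) (.node (.node (.node (.leaf 470) (.leaf 282)) (.leaf 154)) (.node (.leaf 43) (.leaf 237)))) (.node (.node (.node (.node (.leaf 14) (.leaf 476)) (.leaf 339)) (.node (.leaf 348) (.leaf 226))) (.node (.node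 (.node (.leaf 372) (.leaf 252)) (.leaf 593)) (.node (.leaf 216) (.leaf 597))))) (.node (.node (.node (.node (.node (.leaf 418) (.leaf 12)) (.leaf 357)) (.node (.leaf 245) (.leaf 646))) (.node (.node (.node (.leaf 336) (.leaf 359)) (.leaf 370)) (.node (.leaf 619) (.leaf 573)))) (.node (.node (.node (.node (.leaf 403) (.leaf 600)) (.leaf 168)) (.node (.leaf 566) (.leaf 337))) (.node (.node (.node (.leaf 579) (.leaf 283)) (.leaf 589)) (.node (.leaf 394) (.leaf 300))))))))) (.node (.node (.node (.node (.node (.node (.node (.node (.node (.leaf 109) (.leaf 483)) (.leaf 122)) (.node (.node (.leaf 393) (.leaf 622)) (.leaf 488))) (.node (.node (.node (.leaf 102) (.leaf 255)) (.leaf 544)) (.node (.leaf 129) (.leaf 373)))) (.node (.node (.node (.node (.leaf 185) (.leaf 546)) (.leaf 422)) (.node (.leaf 577) (.leaf 132))) (.node (.node (.node (.leaf 111) (.leaf 333)) (.leaf 586)) (.node (.leaf 383) (.leaf 364))))) (.node (.node (.node (.node (.node (.leaf 56) (.leaf 80)) (.leaf 617)) (.node (.node (.leaf 52) (.leaf 621))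 (.leaf 562))) (.node (.node (.node (.leaf 434) (.leaf 88)) (.leaf 327)) (.node (.leaf 27) (.leaf 550)))) (.node (.node (.node (.node (.leaf 317) (.leaf 482)) (.leaf 45)) (.node (.leaf 39) (.leaf 263))) (.node (.node (.node (.leaf 9) (.leaf 452)) (.leaf 53)) (.node (.leaf 344) (.leaf 60)))))) (.node (.node (.node (.node (.node (.node (.leaf 582) (.leaf 91)) (.leaf 427)) (.node (.node (.leaf 410) (.leaf 428)) (.leaf 41))) (.node (.node (.node (.leaf 84) (.leaf 379)) (.leaf 205)) (.node (.leaf 486) (.leaf 194)))) (.node (.node (.node (.node (.leaf 189) (.leaf 490)) (.leaf 640)) (.node (.leaf 103) (.leaf 200))) (.node (.node (.node (.leaf 412) (.leaf 274)) (.leaf 31)) (.node (.leaf 519) (.leaf 94))))) (.node (.node (.node (.node (.node (.leaf 10) (.leaf 210)) (.leaf 534)) (.node (.leaf 548) (.leaf 542))) (.node (.node (.node (.leaf 472) (.leaf 74)) (.leaf 478)) (.node (.leaf 365) (.leaf 66)))) (.node (.node (.node (.node (.leaf 63) (.leaf 420)) (.leaf 369)) (.node (.leaf 192) (.leaf 634))) (.node (.node (.node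 (.leaf 285) (.leaf 360)) (.leaf 407)) (.node (.leaf 76) (.leaf 332))))))) (.node (.node (.node (.node (.node (.node (.node (.leaf 425) (.leaf 362)) (.leaf 235)) (.node (.node (.leaf 107) (.leaf 627)) (.leaf 167))) (.node (.node (.node (.leaf 590) (.leaf 47)) (.leaf 623)) (.node (.leaf 375) (.leaf 297)))) (.node (.node (.node (.node (.leaf 312) (.leaf 487)) (.leaf 286)) (.node (.leaf 419) (.leaf 638))) (.node (.node (.node (.leaf 415) (.leaf 61)) (.leaf 307)) (.node (.leaf 140) (.leaf 291))))) (.node (.node (.node (.node (.node (.leaf 596) (.leaf 159)) (.leaf 572)) (.node (.leaf 430) (.leaf 250))) (.node (.node (.node (.leaf 374) (.leaf 123)) (.leaf 437)) (.node (.leaf 177) (.leaf 106)))) (.node (.node (.node (.node (.leaf 93) (.leaf 385)) (.leaf 203)) (.node (.leaf 11) (.leaf 206))) (.node (.node (.node (.leaf 656) (.leaf 363)) (.leaf 42)) (.node (.leaf 426) (.leaf 232)))))) (.node (.node (.node (.node (.node (.node (.leaf 446) (.leaf 523)) (.leaf 414)) (.node (.node (.leaf 618) (.leaf 99)) (.leaf 173)))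 (.node (.node (.node (.leaf 288) (.leaf 531)) (.leaf 468)) (.node (.leaf 604) (.leaf 304)))) (.node (.node (.node (.node (.leaf 172) (.leaf 272)) (.leaf 526)) (.node (.leaf 467) (.leaf 351))) (.node (.node (.node (.leaf 114) (.leaf 461)) (.leaf 212)) (.node (.leaf 496) (.leaf 406))))) (.node (.node (.node (.node (.node (.leaf 502) (.leaf 388)) (.leaf 441)) (.node (.leaf 62) (.leaf 382))) (.node (.node (.node (.leaf 193) (.leaf 453)) (.leaf 423)) (.node (.leaf 386) (.leaf 209)))) (.node (.node (.node (.node (.leaf 133) (.leaf 188)) (.leaf 505)) (.node (.leaf 610) (.leaf 551))) (.node (.node (.node (.leaf 190) (.leaf 284)) (.leaf 503)) (.node (.leaf 227) (.leaf 652)))))))) (.node (.node (.node (.node (.node (.node (.node (.node (.leaf 48) (.leaf 381)) (.leaf 141)) (.node (.node (.leaf 157) (.leaf 151)) (.leaf 481))) (.node (.node (.node (.leaf 79) (.leaf 299)) (.leaf 130)) (.node (.leaf 524) (.leaf 469)))) (.node (.node (.node (.node (.leaf 390) (.leaf 549)) (.leaf 565)) (.node (.leaf 295) (.leaf 290))) (.node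 (.node (.node (.leaf 651) (.leaf 142)) (.leaf 280)) (.node (.leaf 186) (.leaf 105))))) (.node (.node (.node (.node (.node (.leaf 552) (.leaf 559)) (.leaf 649)) (.node (.node (.leaf 239) (.leaf 473)) (.leaf 13))) (.node (.node (.node (.leaf 118) (.leaf 633)) (.leaf 510)) (.node (.leaf 298) (.leaf 310)))) (.node (.node (.node (.node (.leaf 158) (.leaf 199)) (.leaf 315)) (.node (.leaf 615) (.leaf 527))) (.node (.node (.node (.leaf 636) (.leaf 223)) (.leaf 171)) (.node (.leaf 480) (.leaf 644)))))) (.node (.node (.node (.node (.node (.node (.leaf 599) (.leaf 456)) (.leaf 104)) (.node (.node (.leaf 269) (.leaf 54)) (.leaf 353))) (.node (.node (.node (.leaf 657) (.leaf 32)) (.leaf 498)) (.node (.leaf 575) (.leaf 324)))) (.node (.node (.node (.node (.leaf 580) (.leaf 137)) (.leaf 612)) (.node (.leaf 529) (.leaf 234))) (.node (.node (.node (.leaf 475) (.leaf 112)) (.leaf 115)) (.node (.leaf 525) (.leaf 404))))) (.node (.node (.node (.node (.node (.leaf 147) (.leaf 614)) (.leaf 507)) (.node (.leaf 479) (.leaf 541)))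 (.node (.node (.node (.leaf 24) (.leaf 261)) (.leaf 391)) (.node (.leaf 444) (.leaf 432)))) (.node (.node (.node (.node (.leaf 576) (.leaf 535)) (.leaf 71)) (.node (.leaf 30) (.leaf 371))) (.node (.node (.node (.leaf 198) (.leaf 70)) (.leaf 454)) (.node (.leaf 221) (.leaf 121))))))) (.node (.node (.node (.node (.node (.node (.node (.leaf 170) (.leaf 635)) (.leaf 242)) (.node (.node (.leaf 397) (.leaf 208)) (.leaf 545))) (.node (.node (.node (.leaf 361) (.leaf 643)) (.leaf 134)) (.node (.leaf 465) (.leaf 561)))) (.node (.node (.node (.node (.leaf 477) (.leaf 389)) (.leaf 98)) (.node (.leaf 438) (.leaf 100))) (.node (.node (.node (.leaf 49) (.leaf 330)) (.leaf 642)) (.node (.leaf 605) (.leaf 182))))) (.node (.node (.node (.node (.node (.leaf 609) (.leaf 639)) (.leaf 346)) (.node (.leaf 303) (.leaf 424))) (.node (.node (.node (.leaf 15) (.leaf 7)) (.leaf 164)) (.node (.leaf 6) (.leaf 59)))) (.node (.node (.node (.node (.leaf 220) (.leaf 334)) (.leaf 1)) (.node (.leaf 520) (.leaf 50))) (.node (.node (.node (.leaf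 258) (.leaf 278)) (.leaf 26)) (.node (.leaf 89) (.leaf 119)))))) (.node (.node (.node (.node (.node (.node (.leaf 202) (.leaf 417)) (.leaf 653)) (.node (.node (.leaf 125) (.leaf 204)) (.leaf 522))) (.node (.node (.node (.leaf 625) (.leaf 166)) (.leaf 222)) (.node (.leaf 301) (.leaf 342)))) (.node (.node (.node (.node (.leaf 328) (.leaf 266)) (.leaf 660)) (.node (.leaf 145) (.leaf 345))) (.node (.node (.node (.leaf 494) (.leaf 530)) (.leaf 281)) (.node (.leaf 97) (.leaf 585))))) (.node (.node (.node (.node (.node (.leaf 641) (.leaf 648)) (.leaf 178)) (.node (.leaf 207) (.leaf 289))) (.node (.node (.node (.leaf 35) (.leaf 148)) (.leaf 211)) (.node (.leaf 228) (.leaf 554)))) (.node (.node (.node (.node (.leaf 440) (.leaf 165)) (.leaf 570)) (.node (.leaf 69) (.leaf 329))) (.node (.node (.node (.leaf 587) (.leaf 326)) (.leaf 594)) (.node (.leaf 624) (.leaf 448))))))))))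

/-- Gap containing the image of a transversal entry. -/
def gapTab : Tr := (.node (.node (.node (.node (.node (.node (.node (.node (.node (.leaf 0) (.leaf 155)) (.leaf 234)) (.node (.leaf 307) (.leaf 551))) (.node (.node (.leaf 31) (.leaf 149)) (.node (.leaf 487) (.leaf 645)))) (.node (.node (.node (.leaf 237) (.leaf 351)) (.node (.leaf 350) (.leaf 465))) (.node (.node (.leaf 605) (.leaf 478)) (.node (.leaf 526) (.leaf 115))))) (.node (.node (.node (.node (.node (.leaf 67) (.leaf 398)) (.leaf 494)) (.node (.leaf 1) (.leaf 503))) (.node (.node (.leaf 405) (.leaf 403)) (.node (.leaf 4) (.leaf 634)))) (.node (.node (.node (.leaf 270) (.leaf 247)) (.node (.leaf 268) (.leaf 86))) (.node (.node (.leaf 484) (.leaf 75)) (.node (.leaf 280) (.leaf 370)))))) (.node (.node (.node (.node (.node (.node (.leaf 247) (.leaf 487)) (.leaf 657)) (.node (.leaf 296) (.leaf 245))) (.node (.node (.leaf 325) (.leaf 168)) (.node (.leaf 557) (.leaf 274)))) (.node (.node (.node (.leaf 195) (.leaf 489)) (.node (.leaf 22) (.leaf 416)))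 (.node (.node (.leaf 100) (.leaf 6)) (.node (.leaf 292) (.leaf 198))))) (.node (.node (.node (.node (.leaf 225) (.leaf 184)) (.node (.leaf 213) (.leaf 454))) (.node (.node (.leaf 23) (.leaf 350)) (.node (.leaf 86) (.leaf 308)))) (.node (.node (.node (.leaf 280) (.leaf 420)) (.node (.leaf 247) (.leaf 14))) (.node (.node (.leaf 225) (.leaf 419)) (.node (.leaf 204) (.leaf 465))))))) (.node (.node (.node (.node (.node (.node (.node (.leaf 206) (.leaf 474)) (.leaf 36)) (.node (.leaf 7) (.leaf 543))) (.node (.node (.leaf 34) (.leaf 31)) (.node (.leaf 100) (.leaf 433)))) (.node (.node (.node (.leaf 647) (.leaf 14)) (.node (.leaf 120) (.leaf 164))) (.node (.node (.leaf 265) (.leaf 404)) (.node (.leaf 7) (.leaf 60))))) (.node (.node (.node (.node (.leaf 296) (.leaf 345)) (.node (.leaf 265) (.leaf 61))) (.node (.node (.leaf 343) (.leaf 279)) (.node (.leaf 85) (.leaf 304)))) (.node (.node (.node (.leaf 573) (.leaf 206)) (.node (.leaf 542) (.leaf 281))) (.node (.node (.leaf 13) (.leaf 379)) (.node (.leaf 493) (.leaf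 237)))))) (.node (.node (.node (.node (.node (.node (.leaf 453) (.leaf 438)) (.leaf 375)) (.node (.leaf 600) (.leaf 288))) (.node (.node (.leaf 287) (.leaf 405)) (.node (.leaf 281) (.leaf 104)))) (.node (.node (.node (.leaf 345) (.leaf 343)) (.node (.leaf 411) (.leaf 268))) (.node (.node (.leaf 412) (.leaf 653)) (.node (.leaf 471) (.leaf 63))))) (.node (.node (.node (.node (.leaf 56) (.leaf 374)) (.node (.leaf 258) (.leaf 140))) (.node (.node (.leaf 296) (.leaf 371)) (.node (.leaf 199) (.leaf 327)))) (.node (.node (.node (.leaf 619) (.leaf 339)) (.node (.leaf 427) (.leaf 125))) (.node (.node (.leaf 243) (.leaf 411)) (.node (.leaf 323) (.leaf 448)))))))) (.node (.node (.node (.node (.node (.node (.node (.node (.leaf 399) (.leaf 78)) (.leaf 252)) (.node (.leaf 605) (.leaf 219))) (.node (.node (.leaf 405) (.leaf 564)) (.node (.leaf 617) (.leaf 420)))) (.node (.node (.node (.leaf 381) (.leaf 105)) (.node (.leaf 69) (.leaf 526))) (.node (.node (.leaf 428) (.leaf 281)) (.node (.leaf 360) (.leaf 299))))) (.node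 (.node (.node (.node (.node (.leaf 275) (.leaf 360)) (.leaf 153)) (.node (.leaf 35) (.leaf 438))) (.node (.node (.leaf 447) (.leaf 49)) (.node (.leaf 489) (.leaf 272)))) (.node (.node (.node (.leaf 388) (.leaf 69)) (.node (.leaf 649) (.leaf 206))) (.node (.node (.leaf 560) (.leaf 21)) (.node (.leaf 454) (.leaf 388)))))) (.node (.node (.node (.node (.node (.node (.leaf 20) (.leaf 112)) (.leaf 320)) (.node (.leaf 391) (.leaf 381))) (.node (.node (.leaf 212) (.leaf 597)) (.node (.leaf 15) (.leaf 181)))) (.node (.node (.node (.leaf 86) (.leaf 651)) (.node (.leaf 400) (.leaf 278))) (.node (.node (.leaf 534) (.leaf 291)) (.node (.leaf 335) (.leaf 522))))) (.node (.node (.node (.node (.leaf 445) (.leaf 277)) (.node (.leaf 474) (.leaf 170))) (.node (.node (.leaf 478) (.leaf 338)) (.node (.leaf 361) (.leaf 15)))) (.node (.node (.node (.leaf 120) (.leaf 52)) (.node (.leaf 407) (.leaf 246))) (.node (.node (.leaf 287) (.leaf 454)) (.node (.leaf 120) (.leaf 533))))))) (.node (.node (.node (.node (.node (.node (.node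 (.leaf 327) (.leaf 633)) (.leaf 438)) (.node (.leaf 640) (.leaf 166))) (.node (.node (.leaf 573) (.leaf 102)) (.node (.leaf 658) (.leaf 77)))) (.node (.node (.node (.leaf 428) (.leaf 634)) (.node (.leaf 306) (.leaf 296))) (.node (.node (.leaf 86) (.leaf 225)) (.node (.leaf 112) (.leaf 279))))) (.node (.node (.node (.node (.leaf 422) (.leaf 229)) (.node (.leaf 339) (.leaf 336))) (.node (.node (.leaf 333) (.leaf 244)) (.node (.leaf 217) (.leaf 526)))) (.node (.node (.node (.leaf 345) (.leaf 61)) (.node (.leaf 86) (.leaf 224))) (.node (.node (.leaf 438) (.leaf 471)) (.node (.leaf 576) (.leaf 639)))))) (.node (.node (.node (.node (.node (.node (.leaf 260) (.leaf 428)) (.leaf 149)) (.node (.leaf 196) (.leaf 76))) (.node (.node (.leaf 452) (.leaf 222)) (.node (.leaf 309) (.leaf 85)))) (.node (.node (.node (.leaf 234) (.leaf 220)) (.node (.leaf 139) (.leaf 657))) (.node (.node (.leaf 427) (.leaf 42)) (.node (.leaf 242) (.leaf 612))))) (.node (.node (.node (.node (.leaf 198) (.leaf 29)) (.node (.leaf 387) (.leaf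 288))) (.node (.node (.leaf 492) (.leaf 207)) (.node (.leaf 430) (.leaf 149)))) (.node (.node (.node (.leaf 178) (.leaf 594)) (.node (.leaf 503) (.leaf 381))) (.node (.node (.leaf 100) (.leaf 497)) (.node (.leaf 188) (.leaf 258)))))))))

/-- Representatives of the orbits on the transversal. -/
def repTab : Tr := (.node (.node (.node (.leaf 0) (.leaf 16)) (.leaf 2)) (.node (.leaf 1) (.leaf 8)))

/-- Left multiplier. -/
def conjLeft : Tr := (.node (.node (.node (.node (.node (.node (.node (.node (.node (.leaf 0) (.leaf 47)) (.leaf 57)) (.node (.leaf 129) (.leaf 100))) (.node (.node (.leaf 211) (.leaf 249)) (.node (.leaf 15) (.leaf 202)))) (.node (.node (.node (.leaf 0) (.leaf 21)) (.node (.leaf 12) (.leaf 2))) (.node (.node (.leaf 49) (.leaf 120)) (.node (.leaf 141) (.leaf 114))))) (.node (.node (.node (.node (.node (.leaf 0) (.leaf 73)) (.leaf 5)) (.node (.leaf 70) (.leaf 18))) (.node (.node (.leaf 14) (.leaf 88)) (.node (.leaf 27) (.leaf 7)))) (.node (.node (.node (.leaf 41) (.leaf 148)) (.node (.leaf 46)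 (.leaf 207))) (.node (.node (.leaf 276) (.leaf 86)) (.node (.leaf 65) (.leaf 48)))))) (.node (.node (.node (.node (.node (.node (.leaf 63) (.leaf 64)) (.leaf 48)) (.node (.leaf 43) (.leaf 23))) (.node (.node (.leaf 118) (.leaf 298)) (.node (.leaf 33) (.leaf 39)))) (.node (.node (.node (.leaf 345) (.leaf 314)) (.node (.leaf 75) (.leaf 188))) (.node (.node (.leaf 45) (.leaf 7)) (.node (.leaf 17) (.leaf 31))))) (.node (.node (.node (.node (.leaf 50) (.leaf 159)) (.node (.leaf 28) (.leaf 243))) (.node (.node (.leaf 18) (.leaf 177)) (.node (.leaf 20) (.leaf 26)))) (.node (.node (.node (.leaf 63) (.leaf 110)) (.node (.leaf 40) (.leaf 128))) (.node (.node (.leaf 36) (.leaf 42)) (.node (.leaf 313) (.leaf 295))))))) (.node (.node (.node (.node (.node (.node (.node (.leaf 0) (.leaf 30)) (.leaf 55)) (.node (.leaf 16) (.leaf 9))) (.node (.node (.leaf 1) (.leaf 60)) (.node (.leaf 23) (.leaf 160)))) (.node (.node (.node (.leaf 53) (.leaf 96)) (.node (.leaf 99) (.leaf 171))) (.node (.node (.leaf 13) (.leaf 142)) (.node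 (.leaf 21) (.leaf 13))))) (.node (.node (.node (.node (.leaf 212) (.leaf 41)) (.node (.leaf 4) (.leaf 1))) (.node (.node (.leaf 76) (.leaf 158)) (.node (.leaf 375) (.leaf 13)))) (.node (.node (.node (.leaf 2) (.leaf 86)) (.node (.leaf 125) (.leaf 11))) (.node (.node (.leaf 9) (.leaf 116)) (.node (.leaf 127) (.leaf 45)))))) (.node (.node (.node (.node (.node (.node (.leaf 138) (.leaf 29)) (.leaf 209)) (.node (.leaf 156) (.leaf 95))) (.node (.node (.leaf 69) (.leaf 17)) (.node (.leaf 178) (.leaf 19)))) (.node (.node (.node (.leaf 168) (.leaf 52)) (.node (.leaf 42) (.leaf 137))) (.node (.node (.leaf 157) (.leaf 94)) (.node (.leaf 152) (.leaf 18))))) (.node (.node (.node (.node (.leaf 32) (.leaf 85)) (.node (.leaf 36) (.leaf 87))) (.node (.node (.leaf 106) (.leaf 170)) (.node (.leaf 184) (.leaf 8)))) (.node (.node (.node (.leaf 36) (.leaf 14)) (.node (.leaf 51) (.leaf 105))) (.node (.node (.leaf 115) (.leaf 87)) (.node (.leaf 128) (.leaf 5)))))))) (.node (.node (.node (.node (.node (.node (.node (.node (.leaf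 0) (.leaf 15)) (.leaf 156)) (.node (.leaf 96) (.leaf 50))) (.node (.node (.leaf 277) (.leaf 24)) (.node (.leaf 19) (.leaf 71)))) (.node (.node (.node (.leaf 1) (.leaf 3)) (.node (.leaf 78) (.leaf 179))) (.node (.node (.leaf 10) (.leaf 75)) (.node (.leaf 101) (.leaf 76))))) (.node (.node (.node (.node (.node (.leaf 338) (.leaf 8)) (.leaf 173)) (.node (.leaf 174) (.leaf 34))) (.node (.node (.leaf 236) (.leaf 8)) (.node (.leaf 12) (.leaf 14)))) (.node (.node (.node (.leaf 190) (.leaf 106)) (.node (.leaf 264) (.leaf 4))) (.node (.node (.leaf 19) (.leaf 54)) (.node (.leaf 114) (.leaf 74)))))) (.node (.node (.node (.node (.node (.node (.leaf 58) (.leaf 93)) (.leaf 12)) (.node (.leaf 22) (.leaf 71))) (.node (.node (.leaf 5) (.leaf 228)) (.node (.leaf 117) (.leaf 113)))) (.node (.node (.node (.leaf 62) (.leaf 271)) (.node (.leaf 62) (.leaf 2))) (.node (.node (.leaf 95) (.leaf 157)) (.node (.leaf 239) (.leaf 26))))) (.node (.node (.node (.node (.leaf 322) (.leaf 34)) (.node (.leaf 115) (.leaf 92))) (.node (.node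 (.leaf 6) (.leaf 70)) (.node (.leaf 102) (.leaf 55)))) (.node (.node (.node (.leaf 270) (.leaf 181)) (.node (.leaf 69) (.leaf 9))) (.node (.node (.leaf 242) (.leaf 2)) (.node (.leaf 51) (.leaf 37))))))) (.node (.node (.node (.node (.node (.node (.node (.leaf 183) (.leaf 24)) (.leaf 35)) (.node (.leaf 11) (.leaf 4))) (.node (.node (.leaf 30) (.leaf 158)) (.node (.leaf 20) (.leaf 134)))) (.node (.node (.node (.leaf 25) (.leaf 81)) (.node (.leaf 98) (.leaf 27))) (.node (.node (.leaf 226) (.leaf 40)) (.node (.leaf 30) (.leaf 88))))) (.node (.node (.node (.node (.leaf 33) (.leaf 208)) (.node (.leaf 101) (.leaf 265))) (.node (.node (.leaf 105) (.leaf 102)) (.node (.leaf 154) (.leaf 27)))) (.node (.node (.node (.leaf 141) (.leaf 52)) (.node (.leaf 21) (.leaf 84))) (.node (.node (.leaf 26) (.leaf 39)) (.node (.leaf 89) (.leaf 153)))))) (.node (.node (.node (.node (.node (.node (.leaf 10) (.leaf 57)) (.leaf 68)) (.node (.leaf 116) (.leaf 84))) (.node (.node (.leaf 135) (.leaf 85)) (.node (.leaf 94) (.leaf 37))))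 (.node (.node (.node (.leaf 16) (.leaf 67)) (.node (.leaf 29) (.leaf 3))) (.node (.node (.leaf 38) (.leaf 20)) (.node (.leaf 130) (.leaf 172))))) (.node (.node (.node (.node (.leaf 138) (.leaf 46)) (.node (.leaf 133) (.leaf 78))) (.node (.node (.leaf 136) (.leaf 47)) (.node (.leaf 64) (.leaf 56)))) (.node (.node (.node (.leaf 117) (.leaf 230)) (.node (.leaf 124) (.leaf 38))) (.node (.node (.leaf 29) (.leaf 119)) (.node (.leaf 6) (.leaf 28)))))))))

/-- Orbit index. -/
def conjRep : Tr := (.node (.node (.node (.node (.node (.node (.node (.node (.node (.leaf 0) (.leaf 2)) (.leaf 2)) (.node (.leaf 1) (.leaf 1))) (.node (.node (.leaf 2) (.leaf 1)) (.node (.leaf 1) (.leaf 1)))) (.node (.node (.node (.leaf 4) (.leaf 1)) (.node (.leaf 1) (.leaf 3))) (.node (.node (.leaf 2) (.leaf 1)) (.node (.leaf 1) (.leaf 1))))) (.node (.node (.node (.node (.node (.leaf 3) (.leaf 2)) (.leaf 2)) (.node (.leaf 1) (.leaf 3))) (.node (.node (.leaf 2) (.leaf 2)) (.node (.leaf 1) (.leaf 2)))) (.node (.node (.node (.leaf 2) (.leaf 2))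 (.node (.leaf 2) (.leaf 1))) (.node (.node (.leaf 2) (.leaf 2)) (.node (.leaf 1) (.leaf 1)))))) (.node (.node (.node (.node (.node (.node (.leaf 1) (.leaf 2)) (.leaf 2)) (.node (.leaf 2) (.leaf 2))) (.node (.node (.leaf 2) (.leaf 1)) (.node (.leaf 1) (.leaf 1)))) (.node (.node (.node (.leaf 1) (.leaf 1)) (.node (.leaf 2) (.leaf 1))) (.node (.node (.leaf 2) (.leaf 1)) (.node (.leaf 1) (.leaf 2))))) (.node (.node (.node (.node (.leaf 2) (.leaf 2)) (.node (.leaf 2) (.leaf 1))) (.node (.node (.leaf 2) (.leaf 2)) (.node (.leaf 2) (.leaf 2)))) (.node (.node (.node (.leaf 2) (.leaf 2)) (.node (.leaf 2) (.leaf 2))) (.node (.node (.leaf 3) (.leaf 1)) (.node (.leaf 1) (.leaf 1))))))) (.node (.node (.node (.node (.node (.node (.node (.leaf 2) (.leaf 4)) (.leaf 2)) (.node (.leaf 2) (.leaf 4))) (.node (.node (.leaf 3) (.leaf 2)) (.node (.leaf 1) (.leaf 1)))) (.node (.node (.node (.leaf 2) (.leaf 1)) (.node (.leaf 1) (.leaf 1))) (.node (.node (.leaf 3) (.leaf 1)) (.node (.leaf 2) (.leaf 2))))) (.node (.node (.node (.node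 (.leaf 1) (.leaf 4)) (.node (.leaf 3) (.leaf 2))) (.node (.node (.leaf 1) (.leaf 1)) (.node (.leaf 1) (.leaf 1)))) (.node (.node (.node (.leaf 4) (.leaf 1)) (.node (.leaf 2) (.leaf 2))) (.node (.node (.leaf 2) (.leaf 1)) (.node (.leaf 2) (.leaf 1)))))) (.node (.node (.node (.node (.node (.node (.leaf 2) (.leaf 4)) (.leaf 1)) (.node (.leaf 1) (.leaf 1))) (.node (.node (.leaf 2) (.leaf 2)) (.node (.leaf 1) (.leaf 3)))) (.node (.node (.node (.leaf 2) (.leaf 1)) (.node (.leaf 2) (.leaf 2))) (.node (.node (.leaf 2) (.leaf 2)) (.node (.leaf 1) (.leaf 1))))) (.node (.node (.node (.node (.leaf 2) (.leaf 1)) (.node (.leaf 1) (.leaf 1))) (.node (.node (.leaf 2) (.leaf 2)) (.node (.leaf 1) (.leaf 2)))) (.node (.node (.node (.leaf 2) (.leaf 1)) (.node (.leaf 2) (.leaf 1))) (.node (.node (.leaf 2) (.leaf 2)) (.node (.leaf 1) (.leaf 4)))))))) (.node (.node (.node (.node (.node (.node (.node (.node (.leaf 1) (.leaf 2)) (.leaf 2)) (.node (.leaf 2) (.leaf 1))) (.node (.node (.leaf 1) (.leaf 1)) (.node (.leaf 2) (.leaf 1))))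 (.node (.node (.node (.leaf 1) (.leaf 2)) (.node (.leaf 1) (.leaf 1))) (.node (.node (.leaf 2) (.leaf 1)) (.node (.leaf 2) (.leaf 2))))) (.node (.node (.node (.node (.node (.leaf 1) (.leaf 1)) (.leaf 1)) (.node (.leaf 1) (.leaf 2))) (.node (.node (.leaf 1) (.leaf 3)) (.node (.leaf 2) (.leaf 4)))) (.node (.node (.node (.leaf 1) (.leaf 1)) (.node (.leaf 1) (.leaf 2))) (.node (.node (.leaf 1) (.leaf 1)) (.node (.leaf 2) (.leaf 1)))))) (.node (.node (.node (.node (.node (.node (.leaf 2) (.leaf 2)) (.leaf 3)) (.node (.leaf 2) (.leaf 2))) (.node (.node (.leaf 1) (.leaf 1)) (.node (.leaf 2) (.leaf 1)))) (.node (.node (.node (.leaf 1) (.leaf 1)) (.node (.leaf 2) (.leaf 1))) (.node (.node (.leaf 2) (.leaf 1)) (.node (.leaf 1) (.leaf 3))))) (.node (.node (.node (.node (.leaf 1) (.leaf 1)) (.node (.leaf 1) (.leaf 2))) (.node (.node (.leaf 1) (.leaf 2)) (.node (.leaf 2) (.leaf 1)))) (.node (.node (.node (.leaf 1) (.leaf 1)) (.node (.leaf 1) (.leaf 1))) (.node (.node (.leaf 1) (.leaf 2)) (.node (.leaf 1) (.leaf 1)))))))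 (.node (.node (.node (.node (.node (.node (.node (.leaf 1) (.leaf 2)) (.leaf 2)) (.node (.leaf 1) (.leaf 1))) (.node (.node (.leaf 2) (.leaf 2)) (.node (.leaf 4) (.leaf 1)))) (.node (.node (.node (.leaf 2) (.leaf 2)) (.node (.leaf 2) (.leaf 3))) (.node (.node (.leaf 1) (.leaf 1)) (.node (.leaf 1) (.leaf 1))))) (.node (.node (.node (.node (.leaf 2) (.leaf 1)) (.node (.leaf 1) (.leaf 1))) (.node (.node (.leaf 2) (.leaf 1)) (.node (.leaf 2) (.leaf 2)))) (.node (.node (.node (.leaf 2) (.leaf 2)) (.node (.leaf 4) (.leaf 1))) (.node (.node (.leaf 1) (.leaf 2)) (.node (.leaf 1) (.leaf 1)))))) (.node (.node (.node (.node (.node (.node (.leaf 1) (.leaf 1)) (.leaf 2)) (.node (.leaf 2) (.leaf 2))) (.node (.node (.leaf 1) (.leaf 2)) (.node (.leaf 1) (.leaf 2)))) (.node (.node (.node (.leaf 1) (.leaf 2)) (.node (.leaf 1) (.leaf 1))) (.node (.node (.leaf 2) (.leaf 1)) (.node (.leaf 1) (.leaf 1))))) (.node (.node (.node (.node (.leaf 1) (.leaf 1)) (.node (.leaf 2) (.leaf 2))) (.node (.node (.leaf 1) (.leaf 1)) (.node (.leaf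 1) (.leaf 4)))) (.node (.node (.node (.leaf 1) (.leaf 1)) (.node (.leaf 2) (.leaf 1))) (.node (.node (.leaf 2) (.leaf 1)) (.node (.leaf 2) (.leaf 1)))))))))

/-- Right multiplier. -/
def conjRight : Tr := (.node (.node (.node (.node (.node (.node (.node (.node (.node (.leaf 0) (.leaf 378)) (.leaf 363)) (.node (.leaf 294) (.leaf 472))) (.node (.node (.leaf 329) (.leaf 366)) (.node (.leaf 65) (.leaf 394)))) (.node (.node (.node (.leaf 0) (.leaf 306)) (.node (.leaf 505) (.leaf 448))) (.node (.node (.leaf 40) (.leaf 205)) (.node (.leaf 5) (.leaf 166))))) (.node (.node (.node (.node (.node (.leaf 0) (.leaf 331)) (.leaf 49)) (.node (.leaf 315) (.leaf 387))) (.node (.node (.leaf 490) (.leaf 439)) (.node (.leaf 126) (.leaf 302)))) (.node (.node (.node (.leaf 405) (.leaf 615)) (.node (.leaf 645) (.leaf 542))) (.node (.node (.leaf 647) (.leaf 606)) (.node (.leaf 529) (.leaf 368)))))) (.node (.node (.node (.node (.node (.node (.leaf 625) (.leaf 338)) (.leaf 604)) (.node (.leaf 554) (.leaf 237))) (.node (.node (.leaf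 437) (.leaf 652)) (.node (.leaf 605) (.leaf 198)))) (.node (.node (.node (.leaf 77) (.leaf 209)) (.node (.leaf 94) (.leaf 282))) (.node (.node (.leaf 449) (.leaf 73)) (.node (.leaf 256) (.leaf 187))))) (.node (.node (.node (.node (.leaf 424) (.leaf 280)) (.node (.leaf 17) (.leaf 7))) (.node (.node (.leaf 26) (.leaf 568)) (.node (.leaf 163) (.leaf 8)))) (.node (.node (.node (.leaf 44) (.leaf 498)) (.node (.leaf 172) (.leaf 271))) (.node (.node (.leaf 328) (.leaf 530)) (.node (.leaf 583) (.leaf 245))))))) (.node (.node (.node (.node (.node (.node (.node (.leaf 0) (.leaf 26)) (.leaf 143)) (.node (.leaf 138) (.leaf 242))) (.node (.node (.leaf 53) (.leaf 89)) (.node (.leaf 263) (.leaf 404)))) (.node (.node (.node (.leaf 160) (.leaf 357)) (.node (.leaf 206) (.leaf 378))) (.node (.node (.leaf 91) (.leaf 354)) (.node (.leaf 60) (.leaf 95))))) (.node (.node (.node (.node (.leaf 519) (.leaf 327)) (.node (.leaf 36) (.leaf 76))) (.node (.node (.leaf 545) (.leaf 368)) (.node (.leaf 461) (.leaf 536)))) (.node (.node (.node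 (.leaf 300) (.leaf 44)) (.node (.leaf 421) (.leaf 161))) (.node (.node (.leaf 282) (.leaf 76)) (.node (.leaf 105) (.leaf 643)))))) (.node (.node (.node (.node (.node (.node (.leaf 523) (.leaf 446)) (.leaf 484)) (.node (.leaf 81) (.leaf 494))) (.node (.node (.leaf 205) (.leaf 306)) (.node (.leaf 636) (.leaf 328)))) (.node (.node (.node (.leaf 586) (.leaf 603)) (.node (.leaf 419) (.leaf 212))) (.node (.node (.leaf 637) (.leaf 22)) (.node (.leaf 120) (.leaf 385))))) (.node (.node (.node (.node (.leaf 471) (.leaf 326)) (.node (.leaf 172) (.leaf 293))) (.node (.node (.leaf 106) (.leaf 193)) (.node (.leaf 535) (.leaf 145)))) (.node (.node (.node (.leaf 499) (.leaf 522)) (.node (.leaf 218) (.leaf 532))) (.node (.node (.leaf 318) (.leaf 467)) (.node (.leaf 201) (.leaf 371)))))))) (.node (.node (.node (.node (.node (.node (.node (.node (.leaf 0) (.leaf 179)) (.leaf 141)) (.node (.leaf 381) (.leaf 351))) (.node (.node (.leaf 54) (.leaf 234)) (.node (.leaf 120) (.leaf 299)))) (.node (.node (.node (.leaf 377) (.leaf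 483)) (.node (.leaf 624) (.leaf 427))) (.node (.node (.leaf 626) (.leaf 69)) (.node (.leaf 31) (.leaf 619))))) (.node (.node (.node (.node (.node (.leaf 428) (.leaf 316)) (.leaf 380)) (.node (.leaf 342) (.leaf 269))) (.node (.node (.leaf 97) (.leaf 417)) (.node (.leaf 35) (.leaf 563)))) (.node (.node (.node (.leaf 276) (.leaf 409)) (.node (.leaf 505) (.leaf 71))) (.node (.node (.leaf 325) (.leaf 298)) (.node (.leaf 87) (.leaf 167)))))) (.node (.node (.node (.node (.node (.node (.leaf 521) (.leaf 51)) (.leaf 497)) (.node (.leaf 442) (.leaf 150))) (.node (.node (.leaf 291) (.leaf 598)) (.node (.leaf 170) (.leaf 36)))) (.node (.node (.node (.leaf 283) (.leaf 355)) (.node (.leaf 204) (.leaf 87))) (.node (.node (.leaf 364) (.leaf 275)) (.node (.leaf 601) (.leaf 12))))) (.node (.node (.node (.node (.leaf 269) (.leaf 246)) (.node (.leaf 440) (.leaf 87))) (.node (.node (.leaf 498) (.leaf 508)) (.node (.leaf 554) (.leaf 430)))) (.node (.node (.node (.leaf 192) (.leaf 66)) (.node (.leaf 46) (.leaf 60))) (.node (.node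 (.leaf 614) (.leaf 524)) (.node (.leaf 297) (.leaf 88))))))) (.node (.node (.node (.node (.node (.node (.node (.leaf 199) (.leaf 551)) (.leaf 595)) (.node (.leaf 495) (.leaf 459))) (.node (.node (.leaf 504) (.leaf 286)) (.node (.leaf 245) (.leaf 226)))) (.node (.node (.node (.leaf 266) (.leaf 430)) (.node (.leaf 100) (.leaf 187))) (.node (.node (.leaf 530) (.leaf 159)) (.node (.leaf 329) (.leaf 393))))) (.node (.node (.node (.node (.leaf 252) (.leaf 145)) (.node (.leaf 47) (.leaf 441))) (.node (.node (.leaf 57) (.leaf 132)) (.node (.leaf 562) (.leaf 485)))) (.node (.node (.node (.leaf 140) (.leaf 168)) (.node (.leaf 80) (.leaf 395))) (.node (.node (.leaf 429) (.leaf 437)) (.node (.leaf 355) (.leaf 152)))))) (.node (.node (.node (.node (.node (.node (.leaf 112) (.leaf 86)) (.leaf 563)) (.node (.leaf 246) (.leaf 424))) (.node (.node (.leaf 373) (.leaf 69)) (.node (.leaf 555) (.leaf 464)))) (.node (.node (.node (.leaf 265) (.leaf 149)) (.node (.leaf 419) (.leaf 220))) (.node (.node (.leaf 6) (.leaf 383)) (.node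 (.leaf 121) (.leaf 52))))) (.node (.node (.node (.node (.leaf 451) (.leaf 139)) (.node (.leaf 403) (.leaf 518))) (.node (.node (.leaf 255) (.leaf 600)) (.node (.leaf 631) (.leaf 55)))) (.node (.node (.node (.leaf 411) (.leaf 339)) (.node (.leaf 85) (.leaf 209))) (.node (.node (.leaf 308) (.leaf 120)) (.node (.leaf 597) (.leaf 481)))))))))

/-- Orders of the products of representatives and subgroup elements. -/
def ordTab : Tr := (.node (.node (.node (.node (.node (.node (.node (.node (.node (.node (.node (.node (.leaf 1) (.leaf 19)) (.node (.leaf 19) (.leaf 19))) (.node (.node (.leaf 2) (.leaf 19)) (.leaf 5))) (.node (.node (.node (.leaf 3) (.leaf 15)) (.leaf 15)) (.node (.node (.leaf 19) (.leaf 19)) (.leaf 10)))) (.node (.node (.node (.node (.leaf 6) (.leaf 10)) (.node (.leaf 3) (.leaf 19))) (.node (.node (.leaf 6) (.leaf 6)) (.leaf 6))) (.node (.node (.node (.leaf 5) (.leaf 11)) (.leaf 5)) (.node (.node (.leaf 10) (.leaf 7)) (.leaf 7))))) (.node (.node (.node (.node (.node (.leaf 6) (.leaf 15)) (.node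 (.leaf 6) (.leaf 19))) (.node (.node (.leaf 5) (.leaf 7)) (.leaf 15))) (.node (.node (.node (.leaf 6) (.leaf 7)) (.leaf 11)) (.node (.node (.leaf 15) (.leaf 15)) (.leaf 6)))) (.node (.node (.node (.node (.leaf 11) (.leaf 10)) (.node (.leaf 5) (.leaf 7))) (.node (.node (.leaf 15) (.leaf 5)) (.leaf 7))) (.node (.node (.node (.leaf 6) (.leaf 11)) (.leaf 10)) (.node (.node (.leaf 7) (.leaf 6)) (.leaf 7)))))) (.node (.node (.node (.node (.node (.node (.leaf 5) (.leaf 2)) (.node (.leaf 10) (.leaf 15))) (.node (.node (.leaf 5) (.leaf 10)) (.leaf 6))) (.node (.node (.node (.leaf 3) (.leaf 10)) (.leaf 5)) (.node (.node (.leaf 7) (.leaf 6)) (.leaf 10)))) (.node (.node (.node (.node (.leaf 3) (.leaf 10)) (.node (.leaf 7) (.leaf 19))) (.node (.node (.leaf 15) (.leaf 10)) (.leaf 19))) (.node (.node (.node (.leaf 11) (.leaf 15)) (.leaf 6)) (.node (.node (.leaf 7) (.leaf 19)) (.leaf 15))))) (.node (.node (.node (.node (.node (.leaf 6) (.leaf 5)) (.node (.leaf 10) (.leaf 6))) (.node (.node (.leaf 5) (.leaf 15)) (.leaf 11)))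 (.node (.node (.node (.leaf 5) (.leaf 2)) (.leaf 15)) (.node (.node (.leaf 6) (.leaf 6)) (.leaf 10)))) (.node (.node (.node (.node (.leaf 5) (.leaf 7)) (.node (.leaf 10) (.leaf 7))) (.node (.node (.leaf 6) (.leaf 19)) (.leaf 10))) (.node (.node (.node (.leaf 6) (.leaf 11)) (.leaf 7)) (.node (.node (.leaf 19) (.leaf 15)) (.leaf 10))))))) (.node (.node (.node (.node (.node (.node (.node (.leaf 5) (.leaf 6)) (.node (.leaf 7) (.leaf 7))) (.node (.node (.leaf 5) (.leaf 19)) (.leaf 19))) (.node (.node (.node (.leaf 5) (.leaf 7)) (.leaf 19)) (.node (.node (.leaf 11) (.leaf 7)) (.leaf 6)))) (.node (.node (.node (.node (.leaf 5) (.leaf 5)) (.node (.leaf 6) (.leaf 5))) (.node (.node (.leaf 11) (.leaf 10)) (.leaf 19))) (.node (.node (.node (.leaf 5) (.leaf 7)) (.leaf 15)) (.node (.node (.leaf 11) (.leaf 10)) (.leaf 15))))) (.node (.node (.node (.node (.node (.leaf 11) (.leaf 5)) (.node (.leaf 11) (.leaf 5))) (.node (.node (.leaf 5) (.leaf 19)) (.leaf 7))) (.node (.node (.node (.leaf 5) (.leaf 19)) (.leaf 15)) (.node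 (.node (.leaf 3) (.leaf 19)) (.leaf 15)))) (.node (.node (.node (.node (.leaf 5) (.leaf 6)) (.node (.leaf 5) (.leaf 6))) (.node (.node (.leaf 15) (.leaf 19)) (.leaf 11))) (.node (.node (.node (.leaf 5) (.leaf 15)) (.leaf 15)) (.node (.node (.leaf 7) (.leaf 7)) (.leaf 15)))))) (.node (.node (.node (.node (.node (.node (.leaf 5) (.leaf 19)) (.node (.leaf 6) (.leaf 10))) (.node (.node (.leaf 5) (.leaf 10)) (.leaf 11))) (.node (.node (.node (.leaf 3) (.leaf 19)) (.leaf 11)) (.node (.node (.leaf 10) (.leaf 15)) (.leaf 19)))) (.node (.node (.node (.node (.leaf 3) (.leaf 7)) (.node (.leaf 15) (.leaf 19))) (.node (.node (.leaf 10) (.leaf 10)) (.leaf 19))) (.node (.node (.node (.leaf 5) (.leaf 19)) (.leaf 6)) (.node (.node (.leaf 7) (.leaf 10)) (.leaf 7))))) (.node (.node (.node (.node (.node (.leaf 2) (.leaf 19)) (.node (.leaf 7) (.leaf 15))) (.node (.node (.leaf 5) (.leaf 15)) (.leaf 15))) (.node (.node (.node (.leaf 2) (.leaf 15)) (.leaf 6)) (.node (.node (.leaf 19) (.leaf 19)) (.leaf 15)))) (.node (.node (.node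 (.node (.leaf 11) (.leaf 19)) (.leaf 6)) (.node (.node (.leaf 19) (.leaf 19)) (.leaf 3))) (.node (.node (.node (.leaf 6) (.leaf 19)) (.leaf 10)) (.node (.node (.leaf 10) (.leaf 15)) (.leaf 10)))))))) (.node (.node (.node (.node (.node (.node (.node (.node (.leaf 11) (.leaf 10)) (.node (.leaf 11) (.leaf 7))) (.node (.node (.leaf 11) (.leaf 5)) (.leaf 6))) (.node (.node (.node (.leaf 5) (.leaf 7)) (.leaf 15)) (.node (.node (.leaf 7) (.leaf 5)) (.leaf 15)))) (.node (.node (.node (.node (.leaf 6) (.leaf 6)) (.node (.leaf 5) (.leaf 10))) (.node (.node (.leaf 6) (.leaf 7)) (.leaf 19))) (.node (.node (.node (.leaf 6) (.leaf 15)) (.leaf 6)) (.node (.node (.leaf 15) (.leaf 15)) (.leaf 15))))) (.node (.node (.node (.node (.node (.leaf 6) (.leaf 7)) (.node (.leaf 6) (.leaf 10))) (.node (.node (.leaf 5) (.leaf 11)) (.leaf 7))) (.node (.node (.node (.leaf 11) (.leaf 5)) (.leaf 11)) (.node (.node (.leaf 6) (.leaf 6)) (.leaf 7)))) (.node (.node (.node (.node (.leaf 6) (.leaf 10)) (.node (.leaf 11) (.leaf 19))) (.node (.node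 (.leaf 7) (.leaf 15)) (.leaf 10))) (.node (.node (.node (.leaf 3) (.leaf 10)) (.leaf 7)) (.node (.node (.leaf 15) (.leaf 15)) (.leaf 7)))))) (.node (.node (.node (.node (.node (.node (.leaf 5) (.leaf 15)) (.node (.leaf 7) (.leaf 5))) (.node (.node (.leaf 6) (.leaf 10)) (.leaf 19))) (.node (.node (.node (.leaf 3) (.leaf 19)) (.leaf 5)) (.node (.node (.leaf 19) (.leaf 19)) (.leaf 5)))) (.node (.node (.node (.node (.leaf 5) (.leaf 10)) (.node (.leaf 10) (.leaf 15))) (.node (.node (.leaf 7) (.leaf 10)) (.leaf 6))) (.node (.node (.node (.leaf 6) (.leaf 11)) (.leaf 19)) (.node (.node (.leaf 6) (.leaf 19)) (.leaf 6))))) (.node (.node (.node (.node (.node (.leaf 5) (.leaf 19)) (.node (.leaf 15) (.leaf 19))) (.node (.node (.leaf 5) (.leaf 19)) (.leaf 6))) (.node (.node (.node (.leaf 5) (.leaf 6)) (.leaf 10)) (.node (.node (.leaf 3) (.leaf 15)) (.leaf 6)))) (.node (.node (.node (.node (.leaf 11) (.leaf 7)) (.leaf 7)) (.node (.node (.leaf 7) (.leaf 19)) (.leaf 10))) (.node (.node (.node (.leaf 3) (.leaf 19)) (.leaf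 19)) (.node (.node (.leaf 19) (.leaf 2)) (.leaf 11))))))) (.node (.node (.node (.node (.node (.node (.node (.leaf 2) (.leaf 19)) (.node (.leaf 6) (.leaf 19))) (.node (.node (.leaf 2) (.leaf 7)) (.leaf 19))) (.node (.node (.node (.leaf 3) (.leaf 19)) (.leaf 15)) (.node (.node (.leaf 7) (.leaf 7)) (.leaf 6)))) (.node (.node (.node (.node (.leaf 6) (.leaf 7)) (.node (.leaf 11) (.leaf 6))) (.node (.node (.leaf 7) (.leaf 15)) (.leaf 5))) (.node (.node (.node (.leaf 11) (.leaf 11)) (.leaf 6)) (.node (.node (.leaf 19) (.leaf 6)) (.leaf 19))))) (.node (.node (.node (.node (.node (.leaf 6) (.leaf 10)) (.node (.leaf 19) (.leaf 6))) (.node (.node (.leaf 2) (.leaf 19)) (.leaf 11))) (.node (.node (.node (.leaf 5) (.leaf 10)) (.leaf 6)) (.node (.node (.leaf 19) (.leaf 19)) (.leaf 6)))) (.node (.node (.node (.node (.leaf 5) (.leaf 19)) (.node (.leaf 10) (.leaf 6))) (.node (.node (.leaf 15) (.leaf 10)) (.leaf 7))) (.node (.node (.node (.leaf 11) (.leaf 7)) (.leaf 10)) (.node (.node (.leaf 6) (.leaf 19)) (.leaf 7)))))) (.node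 (.node (.node (.node (.node (.node (.leaf 5) (.leaf 6)) (.node (.leaf 7) (.leaf 5))) (.node (.node (.leaf 5) (.leaf 10)) (.leaf 19))) (.node (.node (.node (.leaf 5) (.leaf 6)) (.leaf 11)) (.node (.node (.leaf 6) (.leaf 2)) (.leaf 10)))) (.node (.node (.node (.node (.leaf 6) (.leaf 7)) (.node (.leaf 10) (.leaf 15))) (.node (.node (.leaf 7) (.leaf 15)) (.leaf 7))) (.node (.node (.node (.leaf 11) (.leaf 2)) (.leaf 11)) (.node (.node (.leaf 5) (.leaf 5)) (.leaf 6))))) (.node (.node (.node (.node (.node (.leaf 6) (.leaf 10)) (.node (.leaf 6) (.leaf 10))) (.node (.node (.leaf 5) (.leaf 19)) (.leaf 15))) (.node (.node (.node (.leaf 5) (.leaf 7)) (.leaf 19)) (.node (.node (.leaf 15) (.leaf 6)) (.leaf 19)))) (.node (.node (.node (.node (.leaf 5) (.leaf 5)) (.leaf 6)) (.node (.node (.leaf 19) (.leaf 15)) (.leaf 7))) (.node (.node (.node (.leaf 2) (.leaf 19)) (.leaf 15)) (.node (.node (.leaf 6) (.leaf 19)) (.leaf 10))))))))) (.node (.node (.node (.node (.node (.node (.node (.node (.node (.leaf 11) (.leaf 5)) (.node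 (.leaf 19) (.leaf 5))) (.node (.node (.leaf 5) (.leaf 11)) (.leaf 15))) (.node (.node (.node (.leaf 5) (.leaf 7)) (.leaf 3)) (.node (.node (.leaf 7) (.leaf 6)) (.leaf 7)))) (.node (.node (.node (.node (.leaf 3) (.leaf 10)) (.node (.leaf 19) (.leaf 19))) (.node (.node (.leaf 5) (.leaf 15)) (.leaf 15))) (.node (.node (.node (.leaf 5) (.leaf 7)) (.leaf 6)) (.node (.node (.leaf 2) (.leaf 15)) (.leaf 6))))) (.node (.node (.node (.node (.node (.leaf 6) (.leaf 7)) (.node (.leaf 6) (.leaf 6))) (.node (.node (.leaf 2) (.leaf 5)) (.leaf 19))) (.node (.node (.node (.leaf 6) (.leaf 19)) (.leaf 6)) (.node (.node (.leaf 11) (.leaf 19)) (.leaf 11)))) (.node (.node (.node (.node (.leaf 5) (.leaf 6)) (.node (.leaf 10) (.leaf 6))) (.node (.node (.leaf 10) (.leaf 19)) (.leaf 10))) (.node (.node (.node (.leaf 11) (.leaf 10)) (.leaf 10)) (.node (.node (.leaf 11) (.leaf 7)) (.leaf 11)))))) (.node (.node (.node (.node (.node (.node (.leaf 5) (.leaf 15)) (.node (.leaf 19) (.leaf 6))) (.node (.node (.leaf 11) (.leaf 19)) (.leaf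 15))) (.node (.node (.node (.leaf 2) (.leaf 11)) (.leaf 19)) (.node (.node (.leaf 15) (.leaf 6)) (.leaf 3)))) (.node (.node (.node (.node (.leaf 11) (.leaf 5)) (.node (.leaf 19) (.leaf 5))) (.node (.node (.leaf 15) (.leaf 6)) (.leaf 15))) (.node (.node (.node (.leaf 3) (.leaf 10)) (.leaf 19)) (.node (.node (.leaf 7) (.leaf 15)) (.leaf 6))))) (.node (.node (.node (.node (.node (.leaf 11) (.leaf 10)) (.node (.leaf 10) (.leaf 6))) (.node (.node (.leaf 5) (.leaf 6)) (.leaf 15))) (.node (.node (.node (.leaf 6) (.leaf 11)) (.leaf 7)) (.node (.node (.leaf 7) (.leaf 15)) (.leaf 6)))) (.node (.node (.node (.node (.leaf 3) (.leaf 10)) (.leaf 11)) (.node (.node (.leaf 3) (.leaf 6)) (.leaf 5))) (.node (.node (.node (.leaf 5) (.leaf 10)) (.leaf 6)) (.node (.node (.leaf 10) (.leaf 19)) (.leaf 15))))))) (.node (.node (.node (.node (.node (.node (.node (.leaf 5) (.leaf 19)) (.node (.leaf 10) (.leaf 5))) (.node (.node (.leaf 5) (.leaf 6)) (.leaf 6))) (.node (.node (.node (.leaf 6) (.leaf 7)) (.leaf 10)) (.node (.node (.leaf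 11) (.leaf 5)) (.leaf 10)))) (.node (.node (.node (.node (.leaf 5) (.leaf 11)) (.node (.leaf 7) (.leaf 6))) (.node (.node (.leaf 7) (.leaf 2)) (.leaf 11))) (.node (.node (.node (.leaf 3) (.leaf 10)) (.leaf 6)) (.node (.node (.leaf 5) (.leaf 5)) (.leaf 7))))) (.node (.node (.node (.node (.node (.leaf 5) (.leaf 6)) (.node (.leaf 7) (.leaf 10))) (.node (.node (.leaf 5) (.leaf 19)) (.leaf 5))) (.node (.node (.node (.leaf 5) (.leaf 6)) (.leaf 5)) (.node (.node (.leaf 3) (.leaf 19)) (.leaf 6)))) (.node (.node (.node (.node (.leaf 11) (.leaf 6)) (.node (.leaf 15) (.leaf 6))) (.node (.node (.leaf 7) (.leaf 6)) (.leaf 11))) (.node (.node (.node (.leaf 3) (.leaf 6)) (.leaf 15)) (.node (.node (.leaf 11) (.leaf 19)) (.leaf 10)))))) (.node (.node (.node (.node (.node (.node (.leaf 5) (.leaf 19)) (.node (.leaf 15) (.leaf 19))) (.node (.node (.leaf 5) (.leaf 15)) (.leaf 19))) (.node (.node (.node (.leaf 6) (.leaf 10)) (.leaf 6)) (.node (.node (.leaf 7) (.leaf 10)) (.leaf 6)))) (.node (.node (.node (.node (.leaf 11) (.leaf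 19)) (.node (.leaf 7) (.leaf 7))) (.node (.node (.leaf 11) (.leaf 15)) (.leaf 19))) (.node (.node (.node (.leaf 11) (.leaf 7)) (.leaf 6)) (.node (.node (.leaf 10) (.leaf 19)) (.leaf 10))))) (.node (.node (.node (.node (.node (.leaf 6) (.leaf 7)) (.node (.leaf 15) (.leaf 15))) (.node (.node (.leaf 5) (.leaf 19)) (.leaf 7))) (.node (.node (.node (.leaf 5) (.leaf 7)) (.leaf 19)) (.node (.node (.leaf 19) (.leaf 19)) (.leaf 11)))) (.node (.node (.node (.node (.leaf 5) (.leaf 7)) (.leaf 11)) (.node (.node (.leaf 19) (.leaf 15)) (.leaf 7))) (.node (.node (.node (.leaf 11) (.leaf 6)) (.leaf 7)) (.node (.node (.leaf 19) (.leaf 6)) (.leaf 10)))))))) (.node (.node (.node (.node (.node (.node (.node (.node (.leaf 11) (.leaf 7)) (.node (.leaf 7) (.leaf 19))) (.node (.node (.leaf 5) (.leaf 7)) (.leaf 15))) (.node (.node (.node (.leaf 3) (.leaf 10)) (.leaf 19)) (.node (.node (.leaf 19) (.leaf 5)) (.leaf 19)))) (.node (.node (.node (.node (.leaf 6) (.leaf 7)) (.node (.leaf 6) (.leaf 15))) (.node (.node (.leaf 6) (.leaf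 2)) (.leaf 19))) (.node (.node (.node (.leaf 5) (.leaf 15)) (.leaf 15)) (.node (.node (.leaf 7) (.leaf 15)) (.leaf 7))))) (.node (.node (.node (.node (.node (.leaf 11) (.leaf 5)) (.node (.leaf 10) (.leaf 19))) (.node (.node (.leaf 5) (.leaf 19)) (.leaf 5))) (.node (.node (.node (.leaf 5) (.leaf 10)) (.leaf 3)) (.node (.node (.leaf 19) (.leaf 7)) (.leaf 3)))) (.node (.node (.node (.node (.leaf 3) (.leaf 19)) (.node (.leaf 15) (.leaf 10))) (.node (.node (.leaf 15) (.leaf 19)) (.leaf 19))) (.node (.node (.node (.leaf 5) (.leaf 7)) (.leaf 19)) (.node (.node (.leaf 5) (.leaf 6)) (.leaf 19)))))) (.node (.node (.node (.node (.node (.node (.leaf 3) (.leaf 10)) (.node (.leaf 10) (.leaf 10))) (.node (.node (.leaf 5) (.leaf 15)) (.leaf 5))) (.node (.node (.node (.leaf 11) (.leaf 10)) (.leaf 11)) (.node (.node (.leaf 15) (.leaf 10)) (.leaf 6)))) (.node (.node (.node (.node (.leaf 3) (.leaf 10)) (.node (.leaf 6) (.leaf 19))) (.node (.node (.leaf 15) (.leaf 19)) (.leaf 5))) (.node (.node (.node (.leaf 5) (.leaf 15)) (.leaf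 10)) (.node (.node (.leaf 7) (.leaf 19)) (.leaf 10))))) (.node (.node (.node (.node (.node (.leaf 6) (.leaf 10)) (.node (.leaf 15) (.leaf 6))) (.node (.node (.leaf 5) (.leaf 6)) (.leaf 15))) (.node (.node (.node (.leaf 5) (.leaf 19)) (.leaf 15)) (.node (.node (.leaf 5) (.leaf 5)) (.leaf 15)))) (.node (.node (.node (.node (.leaf 3) (.leaf 10)) (.leaf 15)) (.node (.node (.leaf 15) (.leaf 10)) (.leaf 15))) (.node (.node (.node (.leaf 3) (.leaf 11)) (.leaf 15)) (.node (.node (.leaf 10) (.leaf 19)) (.leaf 11))))))) (.node (.node (.node (.node (.node (.node (.node (.leaf 11) (.leaf 10)) (.node (.leaf 7) (.leaf 6))) (.node (.node (.leaf 11) (.leaf 10)) (.leaf 7))) (.node (.node (.node (.leaf 6) (.leaf 2)) (.leaf 11)) (.node (.node (.leaf 10) (.leaf 6)) (.leaf 6)))) (.node (.node (.node (.node (.leaf 11) (.leaf 19)) (.node (.leaf 3) (.leaf 10))) (.node (.node (.leaf 7) (.leaf 10)) (.leaf 7))) (.node (.node (.node (.leaf 6) (.leaf 10)) (.leaf 10)) (.node (.node (.leaf 19) (.leaf 6)) (.leaf 10))))) (.node (.node (.node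 (.node (.node (.leaf 11) (.leaf 19)) (.node (.leaf 15) (.leaf 15))) (.node (.node (.leaf 2) (.leaf 10)) (.leaf 6))) (.node (.node (.node (.leaf 11) (.leaf 5)) (.leaf 15)) (.node (.node (.leaf 10) (.leaf 6)) (.leaf 19)))) (.node (.node (.node (.node (.leaf 5) (.leaf 10)) (.node (.leaf 5) (.leaf 15))) (.node (.node (.leaf 10) (.leaf 6)) (.leaf 11))) (.node (.node (.node (.leaf 5) (.leaf 5)) (.leaf 10)) (.node (.node (.leaf 7) (.leaf 6)) (.leaf 6)))))) (.node (.node (.node (.node (.node (.node (.leaf 6) (.leaf 6)) (.node (.leaf 15) (.leaf 6))) (.node (.node (.leaf 5) (.leaf 19)) (.leaf 19))) (.node (.node (.node (.leaf 6) (.leaf 10)) (.leaf 11)) (.node (.node (.leaf 6) (.leaf 6)) (.leaf 19)))) (.node (.node (.node (.node (.leaf 5) (.leaf 19)) (.node (.leaf 10) (.leaf 15))) (.node (.node (.leaf 19) (.leaf 15)) (.leaf 10))) (.node (.node (.node (.leaf 11) (.leaf 7)) (.leaf 6)) (.node (.node (.leaf 15) (.leaf 19)) (.leaf 10))))) (.node (.node (.node (.node (.node (.leaf 6) (.leaf 5)) (.node (.leaf 19) (.leaf 7)))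 (.node (.node (.leaf 5) (.leaf 7)) (.leaf 3))) (.node (.node (.node (.leaf 5) (.leaf 5)) (.leaf 5)) (.node (.node (.leaf 11) (.leaf 5)) (.leaf 19)))) (.node (.node (.node (.node (.leaf 5) (.leaf 19)) (.leaf 3)) (.node (.node (.leaf 10) (.leaf 19)) (.leaf 19))) (.node (.node (.node (.leaf 2) (.leaf 6)) (.leaf 10)) (.node (.node (.leaf 6) (.leaf 19)) (.leaf 15)))))))))) (.node (.node (.node (.node (.node (.node (.node (.node (.node (.node (.leaf 3) (.leaf 19)) (.node (.leaf 15) (.leaf 10))) (.node (.node (.leaf 11) (.leaf 19)) (.leaf 11))) (.node (.node (.node (.leaf 3) (.leaf 15)) (.leaf 19)) (.node (.node (.leaf 6) (.leaf 6)) (.leaf 6)))) (.node (.node (.node (.node (.leaf 6) (.leaf 19)) (.node (.leaf 19) (.leaf 19))) (.node (.node (.leaf 5) (.leaf 15)) (.leaf 19))) (.node (.node (.node (.leaf 2) (.leaf 7)) (.leaf 6)) (.node (.node (.leaf 5) (.leaf 7)) (.leaf 6))))) (.node (.node (.node (.node (.node (.leaf 3) (.leaf 11)) (.node (.leaf 19) (.leaf 6))) (.node (.node (.leaf 5) (.leaf 15)) (.leaf 10))) (.node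 (.node (.node (.leaf 6) (.leaf 19)) (.leaf 7)) (.node (.node (.leaf 19) (.leaf 6)) (.leaf 11)))) (.node (.node (.node (.node (.leaf 5) (.leaf 19)) (.node (.leaf 19) (.leaf 19))) (.node (.node (.leaf 19) (.leaf 15)) (.leaf 15))) (.node (.node (.node (.leaf 3) (.leaf 15)) (.leaf 6)) (.node (.node (.leaf 19) (.leaf 6)) (.leaf 10)))))) (.node (.node (.node (.node (.node (.node (.leaf 5) (.leaf 6)) (.node (.leaf 19) (.leaf 7))) (.node (.node (.leaf 2) (.leaf 7)) (.leaf 19))) (.node (.node (.node (.leaf 11) (.leaf 7)) (.leaf 15)) (.node (.node (.leaf 11) (.leaf 15)) (.leaf 10)))) (.node (.node (.node (.node (.leaf 5) (.leaf 6)) (.node (.leaf 19) (.leaf 19))) (.node (.node (.leaf 11) (.leaf 15)) (.leaf 15))) (.node (.node (.node (.leaf 3) (.leaf 10)) (.leaf 7)) (.node (.node (.leaf 10) (.leaf 6)) (.leaf 15))))) (.node (.node (.node (.node (.node (.leaf 5) (.leaf 5)) (.node (.leaf 15) (.leaf 19))) (.node (.node (.leaf 5) (.leaf 15)) (.leaf 11))) (.node (.node (.node (.leaf 5) (.leaf 7)) (.leaf 7)) (.node (.node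 (.leaf 19) (.leaf 6)) (.leaf 7)))) (.node (.node (.node (.node (.leaf 5) (.leaf 7)) (.node (.leaf 6) (.leaf 19))) (.node (.node (.leaf 6) (.leaf 5)) (.leaf 6))) (.node (.node (.node (.leaf 6) (.leaf 11)) (.leaf 15)) (.node (.node (.leaf 10) (.leaf 5)) (.leaf 10))))))) (.node (.node (.node (.node (.node (.node (.node (.leaf 5) (.leaf 19)) (.node (.leaf 15) (.leaf 19))) (.node (.node (.leaf 5) (.leaf 7)) (.leaf 10))) (.node (.node (.node (.leaf 11) (.leaf 11)) (.leaf 5)) (.node (.node (.leaf 6) (.leaf 15)) (.leaf 6)))) (.node (.node (.node (.node (.leaf 5) (.leaf 15)) (.node (.leaf 5) (.leaf 15))) (.node (.node (.leaf 5) (.leaf 6)) (.leaf 6))) (.node (.node (.node (.leaf 5) (.leaf 10)) (.leaf 11)) (.node (.node (.leaf 19) (.leaf 19)) (.leaf 6))))) (.node (.node (.node (.node (.node (.leaf 5) (.leaf 19)) (.node (.leaf 6) (.leaf 6))) (.node (.node (.leaf 11) (.leaf 6)) (.leaf 6))) (.node (.node (.node (.leaf 5) (.leaf 15)) (.leaf 19)) (.node (.node (.leaf 19) (.leaf 15)) (.leaf 6)))) (.node (.node (.node (.node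 (.leaf 3) (.leaf 6)) (.node (.leaf 6) (.leaf 19))) (.node (.node (.leaf 11) (.leaf 19)) (.leaf 10))) (.node (.node (.node (.leaf 5) (.leaf 19)) (.leaf 10)) (.node (.node (.leaf 10) (.leaf 19)) (.leaf 19)))))) (.node (.node (.node (.node (.node (.node (.leaf 11) (.leaf 5)) (.node (.leaf 6) (.leaf 7))) (.node (.node (.leaf 3) (.leaf 19)) (.leaf 6))) (.node (.node (.node (.leaf 6) (.leaf 10)) (.leaf 7)) (.node (.node (.leaf 5) (.leaf 10)) (.leaf 11)))) (.node (.node (.node (.node (.leaf 5) (.leaf 2)) (.node (.leaf 19) (.leaf 6))) (.node (.node (.leaf 7) (.leaf 19)) (.leaf 6))) (.node (.node (.node (.leaf 3) (.leaf 10)) (.leaf 5)) (.node (.node (.leaf 6) (.leaf 10)) (.leaf 6))))) (.node (.node (.node (.node (.node (.leaf 2) (.leaf 10)) (.node (.leaf 19) (.leaf 6))) (.node (.node (.leaf 5) (.leaf 19)) (.leaf 10))) (.node (.node (.node (.leaf 5) (.leaf 6)) (.leaf 15)) (.node (.node (.leaf 7) (.leaf 19)) (.leaf 19)))) (.node (.node (.node (.node (.leaf 5) (.leaf 10)) (.leaf 10)) (.node (.node (.leaf 11) (.leaf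 15)) (.leaf 7))) (.node (.node (.node (.leaf 5) (.leaf 19)) (.leaf 15)) (.node (.node (.leaf 5) (.leaf 15)) (.leaf 19)))))))) (.node (.node (.node (.node (.node (.node (.node (.node (.leaf 11) (.leaf 19)) (.node (.leaf 15) (.leaf 19))) (.node (.node (.leaf 5) (.leaf 10)) (.leaf 5))) (.node (.node (.node (.leaf 5) (.leaf 10)) (.leaf 11)) (.node (.node (.leaf 15) (.leaf 10)) (.leaf 15)))) (.node (.node (.node (.node (.leaf 3) (.leaf 7)) (.node (.leaf 11) (.leaf 6))) (.node (.node (.leaf 3) (.leaf 15)) (.leaf 19))) (.node (.node (.node (.leaf 5) (.leaf 19)) (.leaf 6)) (.node (.node (.leaf 19) (.leaf 5)) (.leaf 10))))) (.node (.node (.node (.node (.node (.leaf 11) (.leaf 11)) (.node (.leaf 19) (.leaf 19))) (.node (.node (.leaf 5) (.leaf 10)) (.leaf 10))) (.node (.node (.node (.leaf 5) (.leaf 10)) (.leaf 10)) (.node (.node (.leaf 11) (.leaf 19)) (.leaf 6)))) (.node (.node (.node (.node (.leaf 5) (.leaf 10)) (.node (.leaf 5) (.leaf 15))) (.node (.node (.leaf 11) (.leaf 15)) (.leaf 6))) (.node (.node (.node (.leaf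 3) (.leaf 11)) (.leaf 15)) (.node (.node (.leaf 5) (.leaf 6)) (.leaf 19)))))) (.node (.node (.node (.node (.node (.node (.leaf 3) (.leaf 19)) (.node (.leaf 19) (.leaf 15))) (.node (.node (.leaf 5) (.leaf 11)) (.leaf 10))) (.node (.node (.node (.leaf 6) (.leaf 15)) (.leaf 11)) (.node (.node (.leaf 10) (.leaf 7)) (.leaf 19)))) (.node (.node (.node (.node (.leaf 5) (.leaf 19)) (.node (.leaf 3) (.leaf 15))) (.node (.node (.leaf 7) (.leaf 5)) (.leaf 11))) (.node (.node (.node (.leaf 3) (.leaf 10)) (.leaf 6)) (.node (.node (.leaf 19) (.leaf 10)) (.leaf 7))))) (.node (.node (.node (.node (.node (.leaf 5) (.leaf 19)) (.node (.leaf 10) (.leaf 6))) (.node (.node (.leaf 5) (.leaf 15)) (.leaf 10))) (.node (.node (.node (.leaf 6) (.leaf 10)) (.leaf 3)) (.node (.node (.leaf 11) (.leaf 10)) (.leaf 11)))) (.node (.node (.node (.node (.leaf 3) (.leaf 11)) (.leaf 10)) (.node (.node (.leaf 7) (.leaf 15)) (.leaf 6))) (.node (.node (.node (.leaf 3) (.leaf 11)) (.leaf 10)) (.node (.node (.leaf 11) (.leaf 15)) (.leaf 7)))))))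 (.node (.node (.node (.node (.node (.node (.node (.leaf 11) (.leaf 19)) (.node (.leaf 10) (.leaf 15))) (.node (.node (.leaf 5) (.leaf 6)) (.leaf 10))) (.node (.node (.node (.leaf 6) (.leaf 10)) (.leaf 19)) (.node (.node (.leaf 11) (.leaf 5)) (.leaf 15)))) (.node (.node (.node (.node (.leaf 3) (.leaf 7)) (.node (.leaf 19) (.leaf 6))) (.node (.node (.leaf 10) (.leaf 10)) (.leaf 5))) (.node (.node (.node (.leaf 3) (.leaf 10)) (.leaf 10)) (.node (.node (.leaf 19) (.leaf 5)) (.leaf 19))))) (.node (.node (.node (.node (.node (.leaf 6) (.leaf 10)) (.node (.leaf 7) (.leaf 10))) (.node (.node (.leaf 5) (.leaf 19)) (.leaf 11))) (.node (.node (.node (.leaf 5) (.leaf 7)) (.leaf 10)) (.node (.node (.leaf 7) (.leaf 7)) (.leaf 15)))) (.node (.node (.node (.node (.leaf 5) (.leaf 11)) (.node (.leaf 10) (.leaf 15))) (.node (.node (.leaf 5) (.leaf 7)) (.leaf 6))) (.node (.node (.node (.leaf 6) (.leaf 15)) (.leaf 19)) (.node (.node (.leaf 11) (.leaf 19)) (.leaf 10)))))) (.node (.node (.node (.node (.node (.node (.leaf 5) (.leaf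 15)) (.node (.leaf 7) (.leaf 6))) (.node (.node (.leaf 5) (.leaf 19)) (.leaf 10))) (.node (.node (.node (.leaf 2) (.leaf 10)) (.leaf 10)) (.node (.node (.leaf 10) (.leaf 6)) (.leaf 5)))) (.node (.node (.node (.node (.leaf 6) (.leaf 19)) (.node (.leaf 10) (.leaf 19))) (.node (.node (.leaf 19) (.leaf 19)) (.leaf 5))) (.node (.node (.node (.leaf 5) (.leaf 15)) (.leaf 15)) (.node (.node (.leaf 15) (.leaf 7)) (.leaf 7))))) (.node (.node (.node (.node (.node (.leaf 6) (.leaf 6)) (.node (.leaf 7) (.leaf 6))) (.node (.node (.leaf 5) (.leaf 15)) (.leaf 7))) (.node (.node (.node (.leaf 11) (.leaf 19)) (.leaf 15)) (.node (.node (.leaf 19) (.leaf 19)) (.leaf 10)))) (.node (.node (.node (.node (.leaf 5) (.leaf 11)) (.leaf 10)) (.node (.node (.leaf 19) (.leaf 10)) (.leaf 15))) (.node (.node (.node (.leaf 11) (.leaf 10)) (.leaf 5)) (.node (.node (.leaf 3) (.leaf 19)) (.leaf 10))))))))) (.node (.node (.node (.node (.node (.node (.node (.node (.node (.leaf 3) (.leaf 19)) (.node (.leaf 11) (.leaf 10))) (.node (.node (.leaf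 2) (.leaf 19)) (.leaf 15))) (.node (.node (.node (.leaf 3) (.leaf 10)) (.leaf 10)) (.node (.node (.leaf 15) (.leaf 2)) (.leaf 15)))) (.node (.node (.node (.node (.leaf 6) (.leaf 19)) (.node (.leaf 5) (.leaf 7))) (.node (.node (.leaf 5) (.leaf 15)) (.leaf 10))) (.node (.node (.node (.leaf 11) (.leaf 19)) (.leaf 19)) (.node (.node (.leaf 6) (.leaf 15)) (.leaf 10))))) (.node (.node (.node (.node (.node (.leaf 6) (.leaf 5)) (.node (.leaf 15) (.leaf 19))) (.node (.node (.leaf 5) (.leaf 11)) (.leaf 6))) (.node (.node (.node (.leaf 5) (.leaf 19)) (.leaf 15)) (.node (.node (.leaf 6) (.leaf 19)) (.leaf 10)))) (.node (.node (.node (.node (.leaf 5) (.leaf 6)) (.node (.leaf 19) (.leaf 19))) (.node (.node (.leaf 7) (.leaf 7)) (.leaf 19))) (.node (.node (.node (.leaf 6) (.leaf 19)) (.leaf 6)) (.node (.node (.leaf 5) (.leaf 5)) (.leaf 6)))))) (.node (.node (.node (.node (.node (.node (.leaf 5) (.leaf 19)) (.node (.leaf 15) (.leaf 10))) (.node (.node (.leaf 5) (.leaf 7)) (.leaf 10))) (.node (.node (.node (.leaf 5) (.leaf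 19)) (.leaf 6)) (.node (.node (.leaf 6) (.leaf 10)) (.leaf 19)))) (.node (.node (.node (.node (.leaf 11) (.leaf 15)) (.node (.leaf 6) (.leaf 15))) (.node (.node (.leaf 5) (.leaf 15)) (.leaf 6))) (.node (.node (.node (.leaf 6) (.leaf 2)) (.leaf 19)) (.node (.node (.leaf 10) (.leaf 10)) (.leaf 10))))) (.node (.node (.node (.node (.node (.leaf 6) (.leaf 7)) (.node (.leaf 10) (.leaf 19))) (.node (.node (.leaf 5) (.leaf 6)) (.leaf 19))) (.node (.node (.node (.leaf 2) (.leaf 7)) (.leaf 6)) (.node (.node (.leaf 6) (.leaf 7)) (.leaf 6)))) (.node (.node (.node (.node (.leaf 5) (.leaf 15)) (.leaf 6)) (.node (.node (.leaf 6) (.leaf 19)) (.leaf 6))) (.node (.node (.node (.leaf 5) (.leaf 6)) (.leaf 10)) (.node (.node (.leaf 11) (.leaf 15)) (.leaf 15))))))) (.node (.node (.node (.node (.node (.node (.node (.leaf 11) (.leaf 7)) (.node (.leaf 19) (.leaf 15))) (.node (.node (.leaf 11) (.leaf 10)) (.leaf 10))) (.node (.node (.node (.leaf 3) (.leaf 5)) (.leaf 11)) (.node (.node (.leaf 15) (.leaf 10)) (.leaf 6)))) (.node (.node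 (.node (.node (.leaf 3) (.leaf 19)) (.node (.leaf 11) (.leaf 19))) (.node (.node (.leaf 15) (.leaf 10)) (.leaf 10))) (.node (.node (.node (.leaf 5) (.leaf 6)) (.leaf 15)) (.node (.node (.leaf 6) (.leaf 15)) (.leaf 7))))) (.node (.node (.node (.node (.node (.leaf 6) (.leaf 7)) (.node (.leaf 6) (.leaf 5))) (.node (.node (.leaf 5) (.leaf 15)) (.leaf 10))) (.node (.node (.node (.leaf 5) (.leaf 11)) (.leaf 5)) (.node (.node (.leaf 7) (.leaf 15)) (.leaf 10)))) (.node (.node (.node (.node (.leaf 3) (.leaf 15)) (.node (.leaf 10) (.leaf 7))) (.node (.node (.leaf 19) (.leaf 15)) (.leaf 11))) (.node (.node (.node (.leaf 3) (.leaf 7)) (.leaf 3)) (.node (.node (.leaf 7) (.leaf 19)) (.leaf 10)))))) (.node (.node (.node (.node (.node (.node (.leaf 5) (.leaf 5)) (.node (.leaf 6) (.leaf 19))) (.node (.node (.leaf 6) (.leaf 6)) (.leaf 6))) (.node (.node (.node (.leaf 11) (.leaf 15)) (.leaf 19)) (.node (.node (.leaf 6) (.leaf 19)) (.leaf 19)))) (.node (.node (.node (.node (.leaf 5) (.leaf 19)) (.node (.leaf 6) (.leaf 6)))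 (.node (.node (.leaf 15) (.leaf 6)) (.leaf 3))) (.node (.node (.node (.leaf 11) (.leaf 10)) (.leaf 15)) (.node (.node (.leaf 10) (.leaf 6)) (.leaf 15))))) (.node (.node (.node (.node (.node (.leaf 11) (.leaf 7)) (.node (.leaf 6) (.leaf 6))) (.node (.node (.leaf 5) (.leaf 10)) (.leaf 5))) (.node (.node (.node (.leaf 5) (.leaf 15)) (.leaf 19)) (.node (.node (.leaf 2) (.leaf 19)) (.leaf 6)))) (.node (.node (.node (.node (.leaf 6) (.leaf 11)) (.leaf 19)) (.node (.node (.leaf 11) (.leaf 10)) (.leaf 3))) (.node (.node (.node (.leaf 2) (.leaf 11)) (.leaf 15)) (.node (.node (.leaf 10) (.leaf 19)) (.leaf 19)))))))) (.node (.node (.node (.node (.node (.node (.node (.node (.leaf 2) (.leaf 11)) (.node (.leaf 11) (.leaf 19))) (.node (.node (.leaf 3) (.leaf 15)) (.leaf 15))) (.node (.node (.node (.leaf 11) (.leaf 7)) (.leaf 6)) (.node (.node (.leaf 15) (.leaf 15)) (.leaf 7)))) (.node (.node (.node (.node (.leaf 6) (.leaf 19)) (.node (.leaf 10) (.leaf 15))) (.node (.node (.leaf 6) (.leaf 6)) (.leaf 7))) (.node (.node (.node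 (.leaf 5) (.leaf 10)) (.leaf 10)) (.node (.node (.leaf 10) (.leaf 19)) (.leaf 7))))) (.node (.node (.node (.node (.node (.leaf 2) (.leaf 19)) (.node (.leaf 6) (.leaf 10))) (.node (.node (.leaf 11) (.leaf 19)) (.leaf 3))) (.node (.node (.node (.leaf 5) (.leaf 5)) (.leaf 19)) (.node (.node (.leaf 6) (.leaf 19)) (.leaf 6)))) (.node (.node (.node (.node (.leaf 3) (.leaf 19)) (.node (.leaf 11) (.leaf 6))) (.node (.node (.leaf 10) (.leaf 6)) (.leaf 6))) (.node (.node (.node (.leaf 6) (.leaf 10)) (.leaf 19)) (.node (.node (.leaf 7) (.leaf 15)) (.leaf 10)))))) (.node (.node (.node (.node (.node (.node (.leaf 5) (.leaf 5)) (.node (.leaf 10) (.leaf 6))) (.node (.node (.leaf 2) (.leaf 19)) (.leaf 19))) (.node (.node (.node (.leaf 11) (.leaf 6)) (.leaf 19)) (.node (.node (.leaf 10) (.leaf 5)) (.leaf 6)))) (.node (.node (.node (.node (.leaf 3) (.leaf 7)) (.node (.leaf 19) (.leaf 19))) (.node (.node (.leaf 15) (.leaf 10)) (.leaf 6))) (.node (.node (.node (.leaf 3) (.leaf 7)) (.leaf 7)) (.node (.node (.leaf 6) (.leaf 6))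 (.leaf 10))))) (.node (.node (.node (.node (.node (.leaf 6) (.leaf 19)) (.node (.leaf 5) (.leaf 15))) (.node (.node (.leaf 5) (.leaf 5)) (.leaf 6))) (.node (.node (.node (.leaf 5) (.leaf 6)) (.leaf 15)) (.node (.node (.leaf 19) (.leaf 6)) (.leaf 6)))) (.node (.node (.node (.node (.leaf 5) (.leaf 5)) (.leaf 6)) (.node (.node (.leaf 3) (.leaf 10)) (.leaf 15))) (.node (.node (.node (.leaf 11) (.leaf 11)) (.leaf 7)) (.node (.node (.leaf 6) (.leaf 2)) (.leaf 11))))))) (.node (.node (.node (.node (.node (.node (.node (.leaf 11) (.leaf 6)) (.node (.leaf 10) (.leaf 7))) (.node (.node (.leaf 3) (.leaf 7)) (.leaf 10))) (.node (.node (.node (.leaf 3) (.leaf 19)) (.leaf 11)) (.node (.node (.leaf 15) (.leaf 6)) (.leaf 10)))) (.node (.node (.node (.node (.leaf 5) (.leaf 19)) (.node (.leaf 19) (.leaf 6))) (.node (.node (.leaf 19) (.leaf 6)) (.leaf 7))) (.node (.node (.node (.leaf 6) (.leaf 11)) (.leaf 10)) (.node (.node (.leaf 7) (.leaf 6)) (.leaf 6))))) (.node (.node (.node (.node (.node (.leaf 6) (.leaf 19)) (.node (.leaf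 19) (.leaf 6))) (.node (.node (.leaf 5) (.leaf 15)) (.leaf 10))) (.node (.node (.node (.leaf 5) (.leaf 15)) (.leaf 5)) (.node (.node (.leaf 15) (.leaf 19)) (.leaf 10)))) (.node (.node (.node (.node (.leaf 11) (.leaf 10)) (.node (.leaf 11) (.leaf 19))) (.node (.node (.leaf 19) (.leaf 19)) (.leaf 11))) (.node (.node (.node (.leaf 11) (.leaf 7)) (.leaf 7)) (.node (.node (.leaf 7) (.leaf 19)) (.leaf 10)))))) (.node (.node (.node (.node (.node (.node (.leaf 6) (.leaf 10)) (.node (.leaf 7) (.leaf 15))) (.node (.node (.leaf 5) (.leaf 10)) (.leaf 3))) (.node (.node (.node (.leaf 6) (.leaf 7)) (.leaf 15)) (.node (.node (.leaf 15) (.leaf 15)) (.leaf 7)))) (.node (.node (.node (.node (.leaf 11) (.leaf 10)) (.node (.leaf 19) (.leaf 15))) (.node (.node (.leaf 7) (.leaf 19)) (.leaf 19))) (.node (.node (.node (.leaf 6) (.leaf 7)) (.leaf 7)) (.node (.node (.leaf 19) (.leaf 19)) (.leaf 7))))) (.node (.node (.node (.node (.node (.leaf 6) (.leaf 5)) (.node (.leaf 7) (.leaf 15))) (.node (.node (.leaf 5) (.leaf 19)) (.leaf 7)))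 (.node (.node (.node (.leaf 5) (.leaf 19)) (.leaf 10)) (.node (.node (.leaf 7) (.leaf 10)) (.leaf 6)))) (.node (.node (.node (.node (.leaf 5) (.leaf 10)) (.leaf 11)) (.node (.node (.leaf 7) (.leaf 15)) (.leaf 15))) (.node (.node (.node (.leaf 2) (.leaf 7)) (.leaf 11)) (.node (.node (.leaf 19) (.leaf 15)) (.leaf 10))))))))))) (.node (.node (.node (.node (.node (.node (.node (.node (.node (.node (.node (.leaf 2) (.leaf 10)) (.node (.leaf 7) (.leaf 7))) (.node (.node (.leaf 5) (.leaf 5)) (.leaf 6))) (.node (.node (.node (.leaf 11) (.leaf 10)) (.leaf 5)) (.node (.node (.leaf 10) (.leaf 15)) (.leaf 10)))) (.node (.node (.node (.node (.leaf 11) (.leaf 19)) (.node (.leaf 6) (.leaf 19))) (.node (.node (.leaf 3) (.leaf 6)) (.leaf 11))) (.node (.node (.node (.leaf 5) (.leaf 10)) (.leaf 19)) (.node (.node (.leaf 10) (.leaf 19)) (.leaf 15))))) (.node (.node (.node (.node (.node (.leaf 11) (.leaf 10)) (.node (.leaf 15) (.leaf 5))) (.node (.node (.leaf 2) (.leaf 6)) (.leaf 19))) (.node (.node (.node (.leaf 11) (.leaf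 10)) (.leaf 7)) (.node (.node (.leaf 15) (.leaf 6)) (.leaf 11)))) (.node (.node (.node (.node (.leaf 6) (.leaf 15)) (.node (.leaf 10) (.leaf 19))) (.node (.node (.leaf 10) (.leaf 6)) (.leaf 5))) (.node (.node (.node (.leaf 3) (.leaf 19)) (.leaf 19)) (.node (.node (.leaf 15) (.leaf 7)) (.leaf 7)))))) (.node (.node (.node (.node (.node (.node (.leaf 5) (.leaf 19)) (.node (.leaf 6) (.leaf 7))) (.node (.node (.leaf 2) (.leaf 11)) (.leaf 7))) (.node (.node (.node (.leaf 5) (.leaf 7)) (.leaf 10)) (.node (.node (.leaf 7) (.leaf 10)) (.leaf 7)))) (.node (.node (.node (.node (.leaf 5) (.leaf 19)) (.node (.leaf 6) (.leaf 6))) (.node (.node (.leaf 15) (.leaf 10)) (.leaf 11))) (.node (.node (.node (.leaf 5) (.leaf 19)) (.leaf 10)) (.node (.node (.leaf 6) (.leaf 5)) (.leaf 6))))) (.node (.node (.node (.node (.node (.leaf 6) (.leaf 2)) (.node (.leaf 11) (.leaf 7))) (.node (.node (.leaf 11) (.leaf 19)) (.leaf 15))) (.node (.node (.node (.leaf 5) (.leaf 6)) (.leaf 11)) (.node (.node (.leaf 5) (.leaf 6)) (.leaf 19)))) (.node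 (.node (.node (.node (.leaf 5) (.leaf 19)) (.node (.leaf 15) (.leaf 6))) (.node (.node (.leaf 15) (.leaf 6)) (.leaf 15))) (.node (.node (.node (.leaf 5) (.leaf 6)) (.leaf 6)) (.node (.node (.leaf 7) (.leaf 6)) (.leaf 10))))))) (.node (.node (.node (.node (.node (.node (.node (.leaf 5) (.leaf 19)) (.node (.leaf 11) (.leaf 6))) (.node (.node (.leaf 5) (.leaf 19)) (.leaf 15))) (.node (.node (.node (.leaf 3) (.leaf 19)) (.leaf 10)) (.node (.node (.leaf 19) (.leaf 10)) (.leaf 7)))) (.node (.node (.node (.node (.leaf 11) (.leaf 19)) (.node (.leaf 15) (.leaf 15))) (.node (.node (.leaf 11) (.leaf 15)) (.leaf 11))) (.node (.node (.node (.leaf 11) (.leaf 10)) (.leaf 11)) (.node (.node (.leaf 6) (.leaf 7)) (.leaf 6))))) (.node (.node (.node (.node (.node (.leaf 11) (.leaf 19)) (.node (.leaf 10) (.leaf 6))) (.node (.node (.leaf 5) (.leaf 19)) (.leaf 7))) (.node (.node (.node (.leaf 2) (.leaf 10)) (.leaf 7)) (.node (.node (.leaf 5) (.leaf 19)) (.leaf 3)))) (.node (.node (.node (.node (.leaf 11) (.leaf 7)) (.node (.leaf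 6) (.leaf 6))) (.node (.node (.leaf 10) (.leaf 6)) (.leaf 19))) (.node (.node (.node (.leaf 3) (.leaf 19)) (.leaf 10)) (.node (.node (.leaf 15) (.leaf 5)) (.leaf 6)))))) (.node (.node (.node (.node (.node (.node (.leaf 5) (.leaf 15)) (.node (.leaf 15) (.leaf 6))) (.node (.node (.leaf 3) (.leaf 7)) (.leaf 11))) (.node (.node (.node (.leaf 2) (.leaf 11)) (.leaf 19)) (.node (.node (.leaf 19) (.leaf 15)) (.leaf 7)))) (.node (.node (.node (.node (.leaf 11) (.leaf 19)) (.node (.leaf 7) (.leaf 19))) (.node (.node (.leaf 10) (.leaf 19)) (.leaf 3))) (.node (.node (.node (.leaf 2) (.leaf 10)) (.leaf 19)) (.node (.node (.leaf 10) (.leaf 19)) (.leaf 6))))) (.node (.node (.node (.node (.node (.leaf 6) (.leaf 7)) (.node (.leaf 10) (.leaf 15))) (.node (.node (.leaf 5) (.leaf 19)) (.leaf 15))) (.node (.node (.node (.leaf 5) (.leaf 10)) (.leaf 10)) (.node (.node (.leaf 5) (.leaf 19)) (.leaf 3)))) (.node (.node (.node (.node (.leaf 11) (.leaf 10)) (.leaf 10)) (.node (.node (.leaf 7) (.leaf 10)) (.leaf 10))) (.node (.node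 (.node (.leaf 2) (.leaf 19)) (.leaf 6)) (.node (.node (.leaf 10) (.leaf 19)) (.leaf 5)))))))) (.node (.node (.node (.node (.node (.node (.node (.node (.leaf 11) (.leaf 7)) (.node (.leaf 7) (.leaf 7))) (.node (.node (.leaf 5) (.leaf 10)) (.leaf 15))) (.node (.node (.node (.leaf 11) (.leaf 19)) (.leaf 10)) (.node (.node (.leaf 6) (.leaf 7)) (.leaf 11)))) (.node (.node (.node (.node (.leaf 11) (.leaf 11)) (.node (.leaf 6) (.leaf 15))) (.node (.node (.leaf 5) (.leaf 7)) (.leaf 7))) (.node (.node (.node (.leaf 5) (.leaf 19)) (.leaf 19)) (.node (.node (.leaf 11) (.leaf 19)) (.leaf 10))))) (.node (.node (.node (.node (.node (.leaf 2) (.leaf 10)) (.node (.leaf 19) (.leaf 6))) (.node (.node (.leaf 2) (.leaf 19)) (.leaf 15))) (.node (.node (.node (.leaf 5) (.leaf 5)) (.leaf 19)) (.node (.node (.leaf 10) (.leaf 10)) (.leaf 7)))) (.node (.node (.node (.node (.leaf 5) (.leaf 7)) (.node (.leaf 15) (.leaf 2))) (.node (.node (.leaf 6) (.leaf 15)) (.leaf 10))) (.node (.node (.node (.leaf 11) (.leaf 5)) (.leaf 10)) (.node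 (.node (.leaf 11) (.leaf 10)) (.leaf 10)))))) (.node (.node (.node (.node (.node (.node (.leaf 11) (.leaf 10)) (.node (.leaf 10) (.leaf 7))) (.node (.node (.leaf 5) (.leaf 19)) (.leaf 7))) (.node (.node (.node (.leaf 11) (.leaf 15)) (.leaf 6)) (.node (.node (.leaf 10) (.leaf 10)) (.leaf 6)))) (.node (.node (.node (.node (.leaf 3) (.leaf 19)) (.node (.leaf 7) (.leaf 19))) (.node (.node (.leaf 10) (.leaf 6)) (.leaf 10))) (.node (.node (.node (.leaf 11) (.leaf 10)) (.leaf 15)) (.node (.node (.leaf 10) (.leaf 6)) (.leaf 15))))) (.node (.node (.node (.node (.node (.leaf 6) (.leaf 10)) (.node (.leaf 6) (.leaf 10))) (.node (.node (.leaf 5) (.leaf 6)) (.leaf 5))) (.node (.node (.node (.leaf 2) (.leaf 19)) (.leaf 15)) (.node (.node (.leaf 10) (.leaf 19)) (.leaf 19)))) (.node (.node (.node (.node (.leaf 5) (.leaf 19)) (.leaf 5)) (.node (.node (.leaf 3) (.leaf 7)) (.leaf 5))) (.node (.node (.node (.leaf 5) (.leaf 19)) (.leaf 15)) (.node (.node (.leaf 10) (.leaf 6)) (.leaf 6))))))) (.node (.node (.node (.node (.node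 (.node (.node (.leaf 11) (.leaf 10)) (.node (.leaf 7) (.leaf 19))) (.node (.node (.leaf 2) (.leaf 7)) (.leaf 6))) (.node (.node (.node (.leaf 6) (.leaf 11)) (.leaf 10)) (.node (.node (.leaf 7) (.leaf 10)) (.leaf 3)))) (.node (.node (.node (.node (.leaf 3) (.leaf 19)) (.node (.leaf 10) (.leaf 6))) (.node (.node (.leaf 6) (.leaf 19)) (.leaf 6))) (.node (.node (.node (.leaf 3) (.leaf 19)) (.leaf 19)) (.node (.node (.leaf 11) (.leaf 5)) (.leaf 11))))) (.node (.node (.node (.node (.node (.leaf 5) (.leaf 7)) (.node (.leaf 7) (.leaf 19))) (.node (.node (.leaf 5) (.leaf 10)) (.leaf 5))) (.node (.node (.node (.leaf 2) (.leaf 15)) (.leaf 19)) (.node (.node (.leaf 19) (.leaf 6)) (.leaf 3)))) (.node (.node (.node (.node (.leaf 3) (.leaf 5)) (.node (.leaf 10) (.leaf 15))) (.node (.node (.leaf 6) (.leaf 15)) (.leaf 7))) (.node (.node (.node (.leaf 3) (.leaf 6)) (.leaf 15)) (.node (.node (.leaf 11) (.leaf 19)) (.leaf 7)))))) (.node (.node (.node (.node (.node (.node (.leaf 5) (.leaf 19)) (.node (.leaf 10) (.leaf 2))) (.node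 (.node (.leaf 6) (.leaf 10)) (.leaf 6))) (.node (.node (.node (.leaf 6) (.leaf 10)) (.leaf 10)) (.node (.node (.leaf 19) (.leaf 19)) (.leaf 7)))) (.node (.node (.node (.node (.leaf 3) (.leaf 5)) (.node (.leaf 15) (.leaf 19))) (.node (.node (.leaf 6) (.leaf 6)) (.leaf 19))) (.node (.node (.node (.leaf 3) (.leaf 10)) (.leaf 6)) (.node (.node (.leaf 7) (.leaf 19)) (.leaf 6))))) (.node (.node (.node (.node (.node (.leaf 2) (.leaf 7)) (.node (.leaf 10) (.leaf 6))) (.node (.node (.leaf 5) (.leaf 6)) (.leaf 6))) (.node (.node (.node (.leaf 5) (.leaf 19)) (.leaf 19)) (.node (.node (.leaf 19) (.leaf 10)) (.leaf 15)))) (.node (.node (.node (.node (.leaf 5) (.leaf 7)) (.leaf 5)) (.node (.node (.leaf 3) (.leaf 7)) (.leaf 5))) (.node (.node (.node (.leaf 11) (.leaf 19)) (.leaf 7)) (.node (.node (.leaf 11) (.leaf 19)) (.leaf 10))))))))) (.node (.node (.node (.node (.node (.node (.node (.node (.node (.leaf 3) (.leaf 11)) (.node (.leaf 5) (.leaf 6))) (.node (.node (.leaf 2) (.leaf 7)) (.leaf 3))) (.node (.node (.node (.leaf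 11) (.leaf 19)) (.leaf 19)) (.node (.node (.leaf 7) (.leaf 19)) (.leaf 11)))) (.node (.node (.node (.node (.leaf 6) (.leaf 6)) (.node (.leaf 11) (.leaf 15))) (.node (.node (.leaf 6) (.leaf 15)) (.leaf 10))) (.node (.node (.node (.leaf 11) (.leaf 5)) (.leaf 19)) (.node (.node (.leaf 5) (.leaf 6)) (.leaf 6))))) (.node (.node (.node (.node (.node (.leaf 6) (.leaf 7)) (.node (.leaf 5) (.leaf 19))) (.node (.node (.leaf 11) (.leaf 11)) (.leaf 15))) (.node (.node (.node (.leaf 6) (.leaf 10)) (.leaf 6)) (.node (.node (.leaf 10) (.leaf 19)) (.leaf 7)))) (.node (.node (.node (.node (.leaf 3) (.leaf 10)) (.node (.leaf 15) (.leaf 6))) (.node (.node (.leaf 10) (.leaf 19)) (.leaf 5))) (.node (.node (.node (.leaf 3) (.leaf 2)) (.leaf 10)) (.node (.node (.leaf 10) (.leaf 15)) (.leaf 19)))))) (.node (.node (.node (.node (.node (.node (.leaf 5) (.leaf 7)) (.node (.leaf 6) (.leaf 15))) (.node (.node (.leaf 3) (.leaf 15)) (.leaf 10))) (.node (.node (.node (.leaf 11) (.leaf 7)) (.leaf 11)) (.node (.node (.leaf 10) (.leaf 15))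 (.leaf 6)))) (.node (.node (.node (.node (.leaf 11) (.leaf 10)) (.node (.leaf 7) (.leaf 7))) (.node (.node (.leaf 6) (.leaf 6)) (.leaf 11))) (.node (.node (.node (.leaf 3) (.leaf 11)) (.leaf 5)) (.node (.node (.leaf 11) (.leaf 10)) (.leaf 10))))) (.node (.node (.node (.node (.node (.leaf 5) (.leaf 10)) (.node (.leaf 10) (.leaf 6))) (.node (.node (.leaf 11) (.leaf 19)) (.leaf 3))) (.node (.node (.node (.leaf 11) (.leaf 7)) (.leaf 15)) (.node (.node (.leaf 10) (.leaf 15)) (.leaf 7)))) (.node (.node (.node (.node (.leaf 3) (.leaf 7)) (.leaf 6)) (.node (.node (.leaf 15) (.leaf 15)) (.leaf 7))) (.node (.node (.node (.leaf 3) (.leaf 7)) (.leaf 6)) (.node (.node (.leaf 19) (.leaf 7)) (.leaf 19))))))) (.node (.node (.node (.node (.node (.node (.node (.leaf 11) (.leaf 19)) (.node (.leaf 10) (.leaf 6))) (.node (.node (.leaf 5) (.leaf 10)) (.leaf 6))) (.node (.node (.node (.leaf 11) (.leaf 6)) (.leaf 5)) (.node (.node (.leaf 7) (.leaf 6)) (.leaf 19)))) (.node (.node (.node (.node (.leaf 5) (.leaf 19)) (.node (.leaf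 6) (.leaf 15))) (.node (.node (.leaf 11) (.leaf 6)) (.leaf 7))) (.node (.node (.node (.leaf 5) (.leaf 5)) (.leaf 7)) (.node (.node (.leaf 10) (.leaf 5)) (.leaf 19))))) (.node (.node (.node (.node (.node (.leaf 5) (.leaf 6)) (.node (.leaf 10) (.leaf 19))) (.node (.node (.leaf 5) (.leaf 19)) (.leaf 6))) (.node (.node (.node (.leaf 5) (.leaf 5)) (.leaf 11)) (.node (.node (.leaf 6) (.leaf 15)) (.leaf 6)))) (.node (.node (.node (.node (.leaf 3) (.leaf 10)) (.node (.leaf 3) (.leaf 7))) (.node (.node (.leaf 15) (.leaf 15)) (.leaf 6))) (.node (.node (.node (.leaf 3) (.leaf 15)) (.leaf 15)) (.node (.node (.leaf 5) (.leaf 15)) (.leaf 19)))))) (.node (.node (.node (.node (.node (.node (.leaf 5) (.leaf 15)) (.node (.leaf 10) (.leaf 19))) (.node (.node (.leaf 2) (.leaf 7)) (.leaf 7))) (.node (.node (.node (.leaf 3) (.leaf 2)) (.leaf 19)) (.node (.node (.leaf 10) (.leaf 10)) (.leaf 15)))) (.node (.node (.node (.node (.leaf 5) (.leaf 10)) (.node (.leaf 6) (.leaf 19))) (.node (.node (.leaf 5) (.leaf 15)) (.leaf 15))) (.node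 (.node (.node (.leaf 5) (.leaf 15)) (.leaf 10)) (.node (.node (.leaf 6) (.leaf 19)) (.leaf 19))))) (.node (.node (.node (.node (.node (.leaf 6) (.leaf 6)) (.node (.leaf 15) (.leaf 10))) (.node (.node (.leaf 2) (.leaf 19)) (.leaf 2))) (.node (.node (.node (.leaf 6) (.leaf 19)) (.leaf 10)) (.node (.node (.leaf 10) (.leaf 19)) (.leaf 19)))) (.node (.node (.node (.node (.leaf 3) (.leaf 19)) (.leaf 11)) (.node (.node (.leaf 10) (.leaf 6)) (.leaf 10))) (.node (.node (.node (.leaf 11) (.leaf 19)) (.leaf 10)) (.node (.node (.leaf 15) (.leaf 19)) (.leaf 7)))))))) (.node (.node (.node (.node (.node (.node (.node (.node (.leaf 2) (.leaf 19)) (.node (.leaf 10) (.leaf 10))) (.node (.node (.leaf 2) (.leaf 7)) (.leaf 10))) (.node (.node (.node (.leaf 3) (.leaf 19)) (.leaf 15)) (.node (.node (.leaf 6) (.leaf 6)) (.leaf 3)))) (.node (.node (.node (.node (.leaf 3) (.leaf 7)) (.node (.leaf 10) (.leaf 2))) (.node (.node (.leaf 6) (.leaf 19)) (.leaf 7))) (.node (.node (.node (.leaf 6) (.leaf 19)) (.leaf 10)) (.node (.node (.leaf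 10) (.leaf 15)) (.leaf 11))))) (.node (.node (.node (.node (.node (.leaf 2) (.leaf 11)) (.node (.leaf 5) (.leaf 10))) (.node (.node (.leaf 5) (.leaf 10)) (.leaf 15))) (.node (.node (.node (.leaf 5) (.leaf 19)) (.leaf 11)) (.node (.node (.leaf 7) (.leaf 2)) (.leaf 19)))) (.node (.node (.node (.node (.leaf 6) (.leaf 19)) (.node (.leaf 19) (.leaf 19))) (.node (.node (.leaf 6) (.leaf 10)) (.leaf 7))) (.node (.node (.node (.leaf 3) (.leaf 15)) (.leaf 19)) (.node (.node (.leaf 10) (.leaf 6)) (.leaf 5)))))) (.node (.node (.node (.node (.node (.node (.leaf 11) (.leaf 6)) (.node (.leaf 19) (.leaf 7))) (.node (.node (.leaf 2) (.leaf 11)) (.leaf 15))) (.node (.node (.node (.leaf 5) (.leaf 6)) (.leaf 6)) (.node (.node (.leaf 19) (.leaf 6)) (.leaf 7)))) (.node (.node (.node (.node (.leaf 5) (.leaf 10)) (.node (.leaf 6) (.leaf 19))) (.node (.node (.leaf 10) (.leaf 15)) (.leaf 6))) (.node (.node (.node (.leaf 11) (.leaf 10)) (.leaf 10)) (.node (.node (.leaf 11) (.leaf 6)) (.leaf 6))))) (.node (.node (.node (.node (.node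 (.leaf 6) (.leaf 10)) (.node (.leaf 7) (.leaf 7))) (.node (.node (.leaf 5) (.leaf 19)) (.leaf 10))) (.node (.node (.node (.leaf 5) (.leaf 7)) (.leaf 3)) (.node (.node (.leaf 10) (.leaf 19)) (.leaf 10)))) (.node (.node (.node (.node (.leaf 5) (.leaf 5)) (.leaf 6)) (.node (.node (.leaf 6) (.leaf 2)) (.leaf 7))) (.node (.node (.node (.leaf 5) (.leaf 11)) (.leaf 7)) (.node (.node (.leaf 10) (.leaf 7)) (.leaf 10))))))) (.node (.node (.node (.node (.node (.node (.node (.leaf 3) (.leaf 10)) (.node (.leaf 7) (.leaf 15))) (.node (.node (.leaf 2) (.leaf 19)) (.leaf 3))) (.node (.node (.node (.leaf 6) (.leaf 11)) (.leaf 19)) (.node (.node (.leaf 10) (.leaf 7)) (.leaf 19)))) (.node (.node (.node (.node (.leaf 5) (.leaf 2)) (.node (.leaf 11) (.leaf 7))) (.node (.node (.leaf 19) (.leaf 15)) (.leaf 10))) (.node (.node (.node (.leaf 3) (.leaf 10)) (.leaf 10)) (.node (.node (.leaf 10) (.leaf 15)) (.leaf 6))))) (.node (.node (.node (.node (.node (.leaf 5) (.leaf 10)) (.node (.leaf 10) (.leaf 19))) (.node (.node (.leaf 11)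 (.leaf 7)) (.leaf 10))) (.node (.node (.node (.leaf 2) (.leaf 5)) (.leaf 3)) (.node (.node (.leaf 10) (.leaf 15)) (.leaf 6)))) (.node (.node (.node (.node (.leaf 5) (.leaf 5)) (.node (.leaf 19) (.leaf 7))) (.node (.node (.leaf 19) (.leaf 19)) (.leaf 15))) (.node (.node (.node (.leaf 5) (.leaf 15)) (.leaf 6)) (.node (.node (.leaf 11) (.leaf 10)) (.leaf 7)))))) (.node (.node (.node (.node (.node (.node (.leaf 6) (.leaf 5)) (.node (.leaf 2) (.leaf 5))) (.node (.node (.leaf 5) (.leaf 10)) (.leaf 11))) (.node (.node (.node (.leaf 11) (.leaf 6)) (.leaf 15)) (.node (.node (.leaf 15) (.leaf 5)) (.leaf 7)))) (.node (.node (.node (.node (.leaf 6) (.leaf 5)) (.node (.leaf 7) (.leaf 15))) (.node (.node (.leaf 19) (.leaf 15)) (.leaf 11))) (.node (.node (.node (.leaf 3) (.leaf 10)) (.leaf 10)) (.node (.node (.leaf 19) (.leaf 6)) (.leaf 7))))) (.node (.node (.node (.node (.node (.leaf 6) (.leaf 19)) (.node (.leaf 7) (.leaf 19))) (.node (.node (.leaf 6) (.leaf 10)) (.leaf 10))) (.node (.node (.node (.leaf 2) (.leaf 19))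 (.leaf 10)) (.node (.node (.leaf 10) (.leaf 6)) (.leaf 6)))) (.node (.node (.node (.node (.leaf 5) (.leaf 19)) (.leaf 11)) (.node (.node (.leaf 6) (.leaf 15)) (.leaf 19))) (.node (.node (.node (.leaf 11) (.leaf 11)) (.leaf 11)) (.node (.node (.leaf 10) (.leaf 19)) (.leaf 10)))))))))) (.node (.node (.node (.node (.node (.node (.node (.node (.node (.node (.leaf 11) (.leaf 11)) (.node (.leaf 11) (.leaf 5))) (.node (.node (.leaf 5) (.leaf 19)) (.leaf 19))) (.node (.node (.node (.leaf 3) (.leaf 10)) (.leaf 11)) (.node (.node (.leaf 19) (.leaf 10)) (.leaf 10)))) (.node (.node (.node (.node (.leaf 6) (.leaf 7)) (.node (.leaf 19) (.leaf 5))) (.node (.node (.leaf 5) (.leaf 10)) (.leaf 15))) (.node (.node (.node (.leaf 5) (.leaf 19)) (.leaf 15)) (.node (.node (.leaf 10) (.leaf 7)) (.leaf 7))))) (.node (.node (.node (.node (.node (.leaf 11) (.leaf 19)) (.node (.leaf 10) (.leaf 6))) (.node (.node (.leaf 5) (.leaf 10)) (.leaf 6))) (.node (.node (.node (.leaf 2) (.leaf 19)) (.leaf 11)) (.node (.node (.leaf 7) (.leaf 15))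 (.leaf 6)))) (.node (.node (.node (.node (.leaf 5) (.leaf 19)) (.node (.leaf 15) (.leaf 15))) (.node (.node (.leaf 6) (.leaf 19)) (.leaf 5))) (.node (.node (.node (.leaf 5) (.leaf 7)) (.leaf 11)) (.node (.node (.leaf 19) (.leaf 19)) (.leaf 11)))))) (.node (.node (.node (.node (.node (.node (.leaf 11) (.leaf 10)) (.node (.leaf 10) (.leaf 19))) (.node (.node (.leaf 6) (.leaf 6)) (.leaf 10))) (.node (.node (.node (.leaf 3) (.leaf 5)) (.leaf 6)) (.node (.node (.leaf 10) (.leaf 19)) (.leaf 10)))) (.node (.node (.node (.node (.leaf 5) (.leaf 19)) (.node (.leaf 19) (.leaf 6))) (.node (.node (.leaf 11) (.leaf 15)) (.leaf 19))) (.node (.node (.node (.leaf 11) (.leaf 5)) (.leaf 15)) (.node (.node (.leaf 10) (.leaf 7)) (.leaf 5))))) (.node (.node (.node (.node (.node (.leaf 6) (.leaf 15)) (.node (.leaf 10) (.leaf 7))) (.node (.node (.leaf 5) (.leaf 19)) (.leaf 6))) (.node (.node (.node (.leaf 5) (.leaf 5)) (.leaf 10)) (.node (.node (.leaf 10) (.leaf 7)) (.leaf 15)))) (.node (.node (.node (.node (.leaf 5) (.leaf 7))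 (.node (.leaf 7) (.leaf 19))) (.node (.node (.leaf 7) (.leaf 6)) (.leaf 10))) (.node (.node (.node (.leaf 5) (.leaf 7)) (.leaf 5)) (.node (.node (.leaf 15) (.leaf 19)) (.leaf 19))))))) (.node (.node (.node (.node (.node (.node (.node (.leaf 5) (.leaf 19)) (.node (.leaf 5) (.leaf 10))) (.node (.node (.leaf 5) (.leaf 10)) (.leaf 10))) (.node (.node (.node (.leaf 5) (.leaf 10)) (.leaf 10)) (.node (.node (.leaf 3) (.leaf 6)) (.leaf 19)))) (.node (.node (.node (.node (.leaf 6) (.leaf 7)) (.node (.leaf 7) (.leaf 5))) (.node (.node (.leaf 6) (.leaf 10)) (.leaf 19))) (.node (.node (.node (.leaf 5) (.leaf 7)) (.leaf 6)) (.node (.node (.leaf 11) (.leaf 10)) (.leaf 10))))) (.node (.node (.node (.node (.node (.leaf 6) (.leaf 11)) (.node (.leaf 10) (.leaf 10))) (.node (.node (.leaf 5) (.leaf 15)) (.leaf 10))) (.node (.node (.node (.leaf 11) (.leaf 19)) (.leaf 10)) (.node (.node (.leaf 10) (.leaf 15)) (.leaf 5)))) (.node (.node (.node (.node (.leaf 5) (.leaf 6)) (.node (.leaf 10) (.leaf 15))) (.node (.node (.leaf 11)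 (.leaf 6)) (.leaf 11))) (.node (.node (.node (.leaf 11) (.leaf 6)) (.leaf 6)) (.node (.node (.leaf 19) (.leaf 15)) (.leaf 6)))))) (.node (.node (.node (.node (.node (.node (.leaf 11) (.leaf 5)) (.node (.leaf 10) (.leaf 5))) (.node (.node (.leaf 5) (.leaf 10)) (.leaf 10))) (.node (.node (.node (.leaf 6) (.leaf 7)) (.leaf 10)) (.node (.node (.leaf 6) (.leaf 19)) (.leaf 3)))) (.node (.node (.node (.node (.leaf 3) (.leaf 10)) (.node (.leaf 15) (.leaf 19))) (.node (.node (.leaf 11) (.leaf 19)) (.leaf 15))) (.node (.node (.node (.leaf 6) (.leaf 5)) (.leaf 15)) (.node (.node (.leaf 6) (.leaf 19)) (.leaf 7))))) (.node (.node (.node (.node (.node (.leaf 11) (.leaf 19)) (.node (.leaf 11) (.leaf 10))) (.node (.node (.leaf 6) (.leaf 6)) (.leaf 7))) (.node (.node (.node (.leaf 5) (.leaf 7)) (.leaf 10)) (.node (.node (.leaf 6) (.leaf 19)) (.leaf 19)))) (.node (.node (.node (.node (.leaf 5) (.leaf 19)) (.leaf 5)) (.node (.node (.leaf 15) (.leaf 19)) (.leaf 6))) (.node (.node (.node (.leaf 5) (.leaf 19)) (.leaf 7)) (.node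 (.node (.leaf 5) (.leaf 6)) (.leaf 10)))))))) (.node (.node (.node (.node (.node (.node (.node (.node (.leaf 3) (.leaf 7)) (.node (.leaf 10) (.leaf 10))) (.node (.node (.leaf 5) (.leaf 5)) (.leaf 11))) (.node (.node (.node (.leaf 11) (.leaf 10)) (.leaf 7)) (.node (.node (.leaf 15) (.leaf 6)) (.leaf 11)))) (.node (.node (.node (.node (.leaf 11) (.leaf 10)) (.node (.leaf 7) (.leaf 19))) (.node (.node (.leaf 5) (.leaf 19)) (.leaf 10))) (.node (.node (.node (.leaf 5) (.leaf 5)) (.leaf 11)) (.node (.node (.leaf 6) (.leaf 19)) (.leaf 19))))) (.node (.node (.node (.node (.node (.leaf 6) (.leaf 19)) (.node (.leaf 7) (.leaf 6))) (.node (.node (.leaf 5) (.leaf 10)) (.leaf 15))) (.node (.node (.node (.leaf 2) (.leaf 7)) (.leaf 6)) (.node (.node (.leaf 5) (.leaf 5)) (.leaf 19)))) (.node (.node (.node (.node (.leaf 3) (.leaf 2)) (.node (.leaf 6) (.leaf 6))) (.node (.node (.leaf 6) (.leaf 6)) (.leaf 10))) (.node (.node (.node (.leaf 6) (.leaf 15)) (.leaf 5)) (.node (.node (.leaf 19) (.leaf 19)) (.leaf 19)))))) (.node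 (.node (.node (.node (.node (.node (.leaf 11) (.leaf 10)) (.node (.leaf 11) (.leaf 6))) (.node (.node (.leaf 5) (.leaf 6)) (.leaf 6))) (.node (.node (.node (.leaf 3) (.leaf 10)) (.leaf 10)) (.node (.node (.leaf 19) (.leaf 15)) (.leaf 10)))) (.node (.node (.node (.node (.leaf 3) (.leaf 10)) (.node (.leaf 7) (.leaf 10))) (.node (.node (.leaf 6) (.leaf 19)) (.leaf 5))) (.node (.node (.node (.leaf 2) (.leaf 6)) (.leaf 15)) (.node (.node (.leaf 7) (.leaf 10)) (.leaf 15))))) (.node (.node (.node (.node (.node (.leaf 11) (.leaf 19)) (.node (.leaf 6) (.leaf 10))) (.node (.node (.leaf 11) (.leaf 10)) (.leaf 6))) (.node (.node (.node (.leaf 5) (.leaf 19)) (.leaf 7)) (.node (.node (.leaf 6) (.leaf 19)) (.leaf 7)))) (.node (.node (.node (.node (.leaf 5) (.leaf 19)) (.leaf 19)) (.node (.node (.leaf 15) (.leaf 6)) (.leaf 6))) (.node (.node (.node (.leaf 3) (.leaf 15)) (.leaf 7)) (.node (.node (.leaf 7) (.leaf 6)) (.leaf 15))))))) (.node (.node (.node (.node (.node (.node (.node (.leaf 3) (.leaf 10)) (.node (.leaf 10)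 (.leaf 19))) (.node (.node (.leaf 2) (.leaf 10)) (.leaf 15))) (.node (.node (.node (.leaf 3) (.leaf 19)) (.leaf 19)) (.node (.node (.leaf 19) (.leaf 15)) (.leaf 7)))) (.node (.node (.node (.node (.leaf 5) (.leaf 5)) (.node (.leaf 15) (.leaf 19))) (.node (.node (.leaf 15) (.leaf 5)) (.leaf 19))) (.node (.node (.node (.leaf 11) (.leaf 10)) (.leaf 19)) (.node (.node (.leaf 15) (.leaf 7)) (.leaf 3))))) (.node (.node (.node (.node (.node (.leaf 5) (.leaf 7)) (.node (.leaf 10) (.leaf 19))) (.node (.node (.leaf 5) (.leaf 19)) (.leaf 3))) (.node (.node (.node (.leaf 11) (.leaf 10)) (.leaf 15)) (.node (.node (.leaf 3) (.leaf 19)) (.leaf 7)))) (.node (.node (.node (.node (.leaf 5) (.leaf 6)) (.node (.leaf 19) (.leaf 10))) (.node (.node (.leaf 6) (.leaf 10)) (.leaf 11))) (.node (.node (.node (.leaf 5) (.leaf 5)) (.leaf 19)) (.node (.node (.leaf 7) (.leaf 6)) (.leaf 11)))))) (.node (.node (.node (.node (.node (.node (.leaf 5) (.leaf 7)) (.node (.leaf 6) (.leaf 5))) (.node (.node (.leaf 5) (.leaf 15)) (.leaf 15))) (.node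 (.node (.node (.leaf 11) (.leaf 15)) (.leaf 7)) (.node (.node (.leaf 10) (.leaf 6)) (.leaf 6)))) (.node (.node (.node (.node (.leaf 3) (.leaf 15)) (.node (.leaf 5) (.leaf 15))) (.node (.node (.leaf 6) (.leaf 6)) (.leaf 6))) (.node (.node (.node (.leaf 3) (.leaf 19)) (.leaf 10)) (.node (.node (.leaf 10) (.leaf 7)) (.leaf 10))))) (.node (.node (.node (.node (.node (.leaf 6) (.leaf 19)) (.node (.leaf 6) (.leaf 15))) (.node (.node (.leaf 5) (.leaf 15)) (.leaf 15))) (.node (.node (.node (.leaf 5) (.leaf 10)) (.leaf 7)) (.node (.node (.leaf 10) (.leaf 10)) (.leaf 11)))) (.node (.node (.node (.node (.leaf 6) (.leaf 19)) (.leaf 2)) (.node (.node (.leaf 7) (.leaf 15)) (.leaf 10))) (.node (.node (.node (.leaf 5) (.leaf 15)) (.leaf 6)) (.node (.node (.leaf 19) (.leaf 6)) (.leaf 19))))))))) (.node (.node (.node (.node (.node (.node (.node (.node (.node (.leaf 11) (.leaf 19)) (.node (.leaf 15) (.leaf 7))) (.node (.node (.leaf 6) (.leaf 11)) (.leaf 15))) (.node (.node (.node (.leaf 3) (.leaf 7)) (.leaf 10)) (.node (.node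 (.leaf 5) (.leaf 7)) (.leaf 15)))) (.node (.node (.node (.node (.leaf 6) (.leaf 7)) (.node (.leaf 10) (.leaf 15))) (.node (.node (.leaf 5) (.leaf 10)) (.leaf 10))) (.node (.node (.node (.leaf 5) (.leaf 10)) (.leaf 5)) (.node (.node (.leaf 6) (.leaf 6)) (.leaf 5))))) (.node (.node (.node (.node (.node (.leaf 2) (.leaf 11)) (.node (.leaf 10) (.leaf 15))) (.node (.node (.leaf 5) (.leaf 6)) (.leaf 7))) (.node (.node (.node (.leaf 5) (.leaf 7)) (.leaf 7)) (.node (.node (.leaf 7) (.leaf 15)) (.leaf 7)))) (.node (.node (.node (.node (.leaf 11) (.leaf 10)) (.node (.leaf 3) (.leaf 19))) (.node (.node (.leaf 3) (.leaf 10)) (.leaf 19))) (.node (.node (.node (.leaf 6) (.leaf 11)) (.leaf 5)) (.node (.node (.leaf 19) (.leaf 15)) (.leaf 10)))))) (.node (.node (.node (.node (.node (.node (.leaf 3) (.leaf 19)) (.node (.leaf 19) (.leaf 10))) (.node (.node (.leaf 2) (.leaf 19)) (.leaf 6))) (.node (.node (.node (.leaf 2) (.leaf 6)) (.leaf 10)) (.node (.node (.leaf 19) (.leaf 10)) (.leaf 7)))) (.node (.node (.node (.node (.leaf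 5) (.leaf 5)) (.node (.leaf 7) (.leaf 6))) (.node (.node (.leaf 15) (.leaf 6)) (.leaf 10))) (.node (.node (.node (.leaf 11) (.leaf 11)) (.leaf 10)) (.node (.node (.leaf 19) (.leaf 15)) (.leaf 11))))) (.node (.node (.node (.node (.node (.leaf 5) (.leaf 5)) (.node (.leaf 7) (.leaf 19))) (.node (.node (.leaf 3) (.leaf 6)) (.leaf 15))) (.node (.node (.node (.leaf 5) (.leaf 10)) (.leaf 2)) (.node (.node (.leaf 15) (.leaf 19)) (.leaf 11)))) (.node (.node (.node (.node (.leaf 5) (.leaf 10)) (.leaf 10)) (.node (.node (.leaf 7) (.leaf 15)) (.leaf 7))) (.node (.node (.node (.leaf 3) (.leaf 15)) (.leaf 6)) (.node (.node (.leaf 10) (.leaf 15)) (.leaf 19))))))) (.node (.node (.node (.node (.node (.node (.node (.leaf 2) (.leaf 19)) (.node (.leaf 2) (.leaf 19))) (.node (.node (.leaf 11) (.leaf 19)) (.leaf 3))) (.node (.node (.node (.leaf 6) (.leaf 10)) (.leaf 19)) (.node (.node (.leaf 7) (.leaf 7)) (.leaf 15)))) (.node (.node (.node (.node (.leaf 5) (.leaf 19)) (.node (.leaf 19) (.leaf 19))) (.node (.node (.leaf 7) (.leaf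 19)) (.leaf 15))) (.node (.node (.node (.leaf 5) (.leaf 19)) (.leaf 6)) (.node (.node (.leaf 7) (.leaf 15)) (.leaf 10))))) (.node (.node (.node (.node (.node (.leaf 11) (.leaf 10)) (.node (.leaf 19) (.leaf 15))) (.node (.node (.leaf 3) (.leaf 7)) (.leaf 10))) (.node (.node (.node (.leaf 5) (.leaf 7)) (.leaf 15)) (.node (.node (.leaf 15) (.leaf 19)) (.leaf 2)))) (.node (.node (.node (.node (.leaf 3) (.leaf 15)) (.node (.leaf 10) (.leaf 15))) (.node (.node (.leaf 6) (.leaf 15)) (.leaf 10))) (.node (.node (.node (.leaf 5) (.leaf 19)) (.leaf 7)) (.node (.node (.leaf 10) (.leaf 2)) (.leaf 6)))))) (.node (.node (.node (.node (.node (.node (.leaf 11) (.leaf 19)) (.node (.leaf 6) (.leaf 5))) (.node (.node (.leaf 3) (.leaf 5)) (.leaf 11))) (.node (.node (.node (.leaf 6) (.leaf 7)) (.leaf 19)) (.node (.node (.leaf 6) (.leaf 6)) (.leaf 11)))) (.node (.node (.node (.node (.leaf 3) (.leaf 7)) (.node (.leaf 7) (.leaf 19))) (.node (.node (.leaf 10) (.leaf 2)) (.leaf 7))) (.node (.node (.node (.leaf 3) (.leaf 19)) (.leaf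 10)) (.node (.node (.leaf 7) (.leaf 10)) (.leaf 11))))) (.node (.node (.node (.node (.node (.leaf 2) (.leaf 7)) (.node (.leaf 19) (.leaf 19))) (.node (.node (.leaf 5) (.leaf 19)) (.leaf 10))) (.node (.node (.node (.leaf 5) (.leaf 7)) (.leaf 10)) (.node (.node (.leaf 10) (.leaf 10)) (.leaf 10)))) (.node (.node (.node (.node (.leaf 11) (.leaf 19)) (.leaf 5)) (.node (.node (.leaf 6) (.leaf 10)) (.leaf 7))) (.node (.node (.node (.leaf 5) (.leaf 5)) (.leaf 19)) (.node (.node (.leaf 6) (.leaf 15)) (.leaf 10)))))))) (.node (.node (.node (.node (.node (.node (.node (.node (.leaf 11) (.leaf 6)) (.node (.leaf 7) (.leaf 6))) (.node (.node (.leaf 5) (.leaf 7)) (.leaf 10))) (.node (.node (.node (.leaf 6) (.leaf 6)) (.leaf 7)) (.node (.node (.leaf 15) (.leaf 15)) (.leaf 6)))) (.node (.node (.node (.node (.leaf 6) (.leaf 15)) (.node (.leaf 6) (.leaf 7))) (.node (.node (.leaf 5) (.leaf 15)) (.leaf 7))) (.node (.node (.node (.leaf 5) (.leaf 19)) (.leaf 5)) (.node (.node (.leaf 5) (.leaf 6)) (.leaf 10))))) (.node (.node (.node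 (.node (.node (.leaf 11) (.leaf 19)) (.node (.leaf 6) (.leaf 19))) (.node (.node (.leaf 5) (.leaf 19)) (.leaf 2))) (.node (.node (.node (.leaf 3) (.leaf 11)) (.leaf 6)) (.node (.node (.leaf 6) (.leaf 19)) (.leaf 7)))) (.node (.node (.node (.node (.leaf 5) (.leaf 15)) (.node (.leaf 11) (.leaf 7))) (.node (.node (.leaf 10) (.leaf 6)) (.leaf 11))) (.node (.node (.node (.leaf 11) (.leaf 10)) (.leaf 6)) (.node (.node (.leaf 15) (.leaf 19)) (.leaf 7)))))) (.node (.node (.node (.node (.node (.node (.leaf 3) (.leaf 10)) (.node (.leaf 6) (.leaf 7))) (.node (.node (.leaf 3) (.leaf 10)) (.leaf 15))) (.node (.node (.node (.leaf 6) (.leaf 7)) (.leaf 15)) (.node (.node (.leaf 6) (.leaf 19)) (.leaf 15)))) (.node (.node (.node (.node (.leaf 5) (.leaf 10)) (.node (.leaf 7) (.leaf 2))) (.node (.node (.leaf 10) (.leaf 6)) (.leaf 10))) (.node (.node (.node (.leaf 6) (.leaf 7)) (.leaf 19)) (.node (.node (.leaf 11) (.leaf 15)) (.leaf 7))))) (.node (.node (.node (.node (.node (.leaf 6) (.leaf 7)) (.node (.leaf 3) (.leaf 19)))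 (.node (.node (.leaf 11) (.leaf 15)) (.leaf 6))) (.node (.node (.node (.leaf 6) (.leaf 19)) (.leaf 19)) (.node (.node (.leaf 10) (.leaf 10)) (.leaf 10)))) (.node (.node (.node (.node (.leaf 5) (.leaf 10)) (.leaf 7)) (.node (.node (.leaf 10) (.leaf 6)) (.leaf 6))) (.node (.node (.node (.leaf 5) (.leaf 5)) (.leaf 15)) (.node (.node (.leaf 7) (.leaf 19)) (.leaf 11))))))) (.node (.node (.node (.node (.node (.node (.node (.leaf 5) (.leaf 19)) (.node (.leaf 11) (.leaf 19))) (.node (.node (.leaf 5) (.leaf 5)) (.leaf 6))) (.node (.node (.node (.leaf 11) (.leaf 11)) (.leaf 10)) (.node (.node (.leaf 19) (.leaf 19)) (.leaf 10)))) (.node (.node (.node (.node (.leaf 3) (.leaf 5)) (.node (.leaf 3) (.leaf 15))) (.node (.node (.leaf 10) (.leaf 15)) (.leaf 5))) (.node (.node (.node (.leaf 3) (.leaf 7)) (.leaf 7)) (.node (.node (.leaf 10) (.leaf 15)) (.leaf 6))))) (.node (.node (.node (.node (.node (.leaf 5) (.leaf 7)) (.node (.leaf 19) (.leaf 2))) (.node (.node (.leaf 2) (.leaf 15)) (.leaf 6))) (.node (.node (.node (.leaf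 5) (.leaf 10)) (.leaf 7)) (.node (.node (.leaf 3) (.leaf 19)) (.leaf 10)))) (.node (.node (.node (.node (.leaf 5) (.leaf 19)) (.node (.leaf 10) (.leaf 15))) (.node (.node (.leaf 5) (.leaf 10)) (.leaf 3))) (.node (.node (.node (.leaf 6) (.leaf 19)) (.leaf 6)) (.node (.node (.leaf 19) (.leaf 6)) (.leaf 19)))))) (.node (.node (.node (.node (.node (.node (.leaf 3) (.leaf 19)) (.node (.leaf 19) (.leaf 15))) (.node (.node (.leaf 5) (.leaf 10)) (.leaf 19))) (.node (.node (.node (.leaf 3) (.leaf 19)) (.leaf 10)) (.node (.node (.leaf 19) (.leaf 15)) (.leaf 10)))) (.node (.node (.node (.node (.leaf 3) (.leaf 10)) (.node (.leaf 7) (.leaf 15))) (.node (.node (.leaf 7) (.leaf 6)) (.leaf 7))) (.node (.node (.node (.leaf 3) (.leaf 7)) (.leaf 19)) (.node (.node (.leaf 7) (.leaf 19)) (.leaf 15))))) (.node (.node (.node (.node (.node (.leaf 3) (.leaf 10)) (.node (.leaf 11) (.leaf 6))) (.node (.node (.leaf 6) (.leaf 19)) (.leaf 11))) (.node (.node (.node (.leaf 5) (.leaf 19)) (.leaf 10)) (.node (.node (.leaf 5) (.leaf 15))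 (.leaf 6)))) (.node (.node (.node (.node (.leaf 3) (.leaf 10)) (.leaf 10)) (.node (.node (.leaf 5) (.leaf 6)) (.leaf 5))) (.node (.node (.node (.leaf 11) (.leaf 19)) (.leaf 10)) (.node (.node (.leaf 10) (.leaf 2)) (.leaf 5))))))))))))

end CfsgLib.Recog.JankoOneSpectrum
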