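import Mathlib

/-!
Marggraff's theorem: a primitive group with a Jordan set of size less than half the degree
contains the alternating group.  The proof climbs the multiple transitivity by counting the
translates of the Jordan set, and ends with a commutator of two elements whose supports share
a single point.
-/

set_option autoImplicit false

namespace CfsgLib.Recog.JordanSet

open MulAction
open scoped Pointwise

section Defs

variable {G Ω : Type*} [Group G] [MulAction G Ω]

/-- The pointwise stabilizer of the complement of `Γ` is transitive on `Γ`. -/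
def IsJordan (G : Type*) {Ω : Type*} [Group G] [MulAction G Ω] (Γ : Set Ω) : Prop :=
  ∀ x ∈ Γ, ∀ y ∈ Γ, ∃ g : G, (∀ z ∉ Γ, g • z = z) ∧ g • x = y

theorem isJordan_of_isPretransitive {Γ : Set Ω}
    (h : IsPretransitive ↥(fixingSubgroup G Γᶜ) ↥(SubMulAction.ofFixingSubgroup G Γᶜ)) :
    IsJordan G Γ := by
  intro x hx y hy
  obtain ⟨g, hg⟩ := h.exists_smul_eq
    ⟨x, (SubMulAction.mem_ofFixingSubgroup_iff G).2 (not_not.2 hx)⟩
    ⟨y, (SubMulAction.mem_ofFixingSubgroup_iff G).2 (not_not.2 hy)⟩
  exact ⟨g, fun z hz => (mem_fixingSubgroup_iff G).1 g.2 z hz, congrArg Subtype.val hg⟩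

theorem IsJordan.smul {Γ : Set Ω} (h : IsJordan G Γ) (g : G) : IsJordan G (g • Γ) := by
  intro x hx y hy
  obtain ⟨a, ha, rfl⟩ := hx
  obtain ⟨b, hb, rfl⟩ := hy
  obtain ⟨k, hk, hk'⟩ := h a ha b hb
  refine ⟨g * k * g⁻¹, fun z hz => ?_, by simp [mul_smul, hk']⟩
  have : g⁻¹ • z ∉ Γ := fun hm => hz (Set.mem_smul_set_iff_inv_smul_mem.2 hm)
  rw [mul_smul, mul_smul, hk _ this, smul_inv_smul]

/-- A block meeting a Jordan set is inside it or contains it. -/
theorem IsJordan.subset_or_subset {Γ B : Set Ω} (h : IsJordan G Γ) (hB : IsBlock G B)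
    {x : Ω} (hx : x ∈ Γ) (hxB : x ∈ B) : B ⊆ Γ ∨ Γ ⊆ B := by
  by_cases hs : B ⊆ Γ
  · exact Or.inl hs
  obtain ⟨w, hwB, hwΓ⟩ := Set.not_subset.1 hs
  refine Or.inr fun y hy => ?_
  obtain ⟨g, hg, rfl⟩ := h x hx y hy
  rw [← (isBlock_iff_smul_eq_of_mem.1 hB) hwB (by rwa [hg w hwΓ] : g • w ∈ B)]
  exact Set.smul_mem_smul_set hxB

end Defs

/-! ### Binomial coefficients -/

theorem choose_lt_choose_succ {m j : ℕ} (h : 2 * j + 1 < m) : m.choose j < m.choose (j + 1) := by
  have h1 := Nat.choose_succ_right_eq m j
  have h2 : 0 < m.choose j := Nat.choose_pos (by omega)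
  by_contra hle
  push Not at hle
  have h3 : m.choose j * (j + 1) < m.choose j * (m - j) :=
    Nat.mul_lt_mul_of_pos_left (by omega) h2
  have h4 := Nat.mul_le_mul_right (j + 1) hle
  omega

theorem choose_lt_choose_of_lt_half {m a b : ℕ} (hab : a < b) (hb : 2 * b ≤ m) :
    m.choose a < m.choose b := by
  induction b, hab using Nat.le_induction with
  | base => exact choose_lt_choose_succ (by omega)
  | succ b hab ih => exact (ih (by omega)).trans (choose_lt_choose_succ (by omega))

theorem choose_lt_choose_of_add_lt {m a b : ℕ} (hab : a < b) (hb : b ≤ m) (hs : a + b < m) :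
    m.choose a < m.choose b := by
  rcases le_or_gt (2 * b) m with h | h
  · exact choose_lt_choose_of_lt_half hab h
  · rw [← Nat.choose_symm hb]
    exact choose_lt_choose_of_lt_half (by omega) (by omega)

/-! ### Counting translates -/

section Count

variable {G Ω : Type*} [Group G] [MulAction G Ω] [Fintype Ω] [DecidableEq Ω]

variable (G) in
/-- The translates of a finite set. -/
noncomputable def translates (Δ : Finset Ω) : Finset (Finset Ω) :=
  (Set.toFinite {T : Finset Ω | ∃ g : G, g • Δ = T}).toFinset

variable (G) in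
/-- The number of translates containing `P` and missing `Q`. -/
noncomputable def numTr (Δ P Q : Finset Ω) : ℕ :=
  ((translates G Δ).filter fun T => P ⊆ T ∧ Disjoint Q T).card

/-- Binomial model of `numTr`. -/
def modelNum (n d p q : ℕ) : ℕ := if p ≤ d then (n - p - q).choose (d - p) else 0

theorem modelNum_split {n d p q : ℕ} (h : p + q < n) :
    modelNum n d p q = modelNum n d (p + 1) q + modelNum n d p (q + 1) := by
  unfold modelNum
  obtain ⟨r, hr⟩ : ∃ r, n - p - q = r + 1 := ⟨n - p - q - 1, by omega⟩
  rcases lt_trichotomy p d with h1 | rfl | h1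
  · rw [if_pos h1.le, if_pos (show p + 1 ≤ d from h1), if_pos h1.le, hr,
      show n - (p + 1) - q = r by omega, show n - p - (q + 1) = r by omega,
      show d - p = d - (p + 1) + 1 by omega, Nat.choose_succ_succ]
  · simp
  · rw [if_neg (by omega), if_neg (by omega), if_neg (by omega)]

theorem mem_translates {Δ T : Finset Ω} : T ∈ translates G Δ ↔ ∃ g : G, g • Δ = T := by
  simp [translates]

theorem card_of_mem_translates {Δ T : Finset Ω} (h : T ∈ translates G Δ) : T.card = Δ.card := by
  obtain ⟨g, rfl⟩ := mem_translates.1 h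
  exact Finset.card_smul_finset g Δ

theorem smul_mem_translates {Δ T : Finset Ω} (h : T ∈ translates G Δ) (g : G) :
    g • T ∈ translates G Δ := by
  obtain ⟨k, rfl⟩ := mem_translates.1 h
  exact mem_translates.2 ⟨g * k, mul_smul g k Δ⟩

theorem isJordan_of_mem_translates {Δ T : Finset Ω} (hΔ : IsJordan G (Δ : Set Ω))
    (h : T ∈ translates G Δ) : IsJordan G (T : Set Ω) := by
  obtain ⟨g, rfl⟩ := mem_translates.1 h
  rw [Finset.coe_smul_finset]
  exact hΔ.smul g

theorem numTr_pos_iff {Δ P Q : Finset Ω} :
    0 < numTr G Δ P Q ↔ ∃ T ∈ translates G Δ, P ⊆ T ∧ Disjoint Q T := by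
  simp [numTr, Finset.card_pos, Finset.filter_nonempty_iff]

theorem numTr_split (Δ P Q : Finset Ω) (z : Ω) :
    numTr G Δ P Q = numTr G Δ (insert z P) Q + numTr G Δ P (insert z Q) := by
  unfold numTr
  rw [← Finset.card_union_of_disjoint]
  · congr 1
    ext T
    simp only [Finset.mem_filter, Finset.mem_union, Finset.insert_subset_iff,
      Finset.disjoint_insert_left]
    tauto
  · rw [Finset.disjoint_filter]
    intro T _ h1 h2
    exact (Finset.disjoint_insert_left.1 h2.2).1 (Finset.insert_subset_iff.1 h1.1).1

theorem numTr_smul (Δ P : Finset Ω) (g : G) :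
    numTr G Δ (g • P) ∅ = numTr G Δ P ∅ := by
  unfold numTr
  refine Finset.card_nbij' (g⁻¹ • ·) (g • ·) ?_ ?_ ?_ ?_
  · intro T hT
    simp only [Finset.coe_filter, Set.mem_setOf_eq, Finset.disjoint_empty_left, and_true] at hT ⊢
    exact ⟨smul_mem_translates hT.1 _, by
      simpa using (Finset.smul_finset_subset_smul_finset (a := g⁻¹) hT.2)⟩
  · intro T hT
    simp only [Finset.coe_filter, Set.mem_setOf_eq, Finset.disjoint_empty_left, and_true] at hT ⊢
    exact ⟨smul_mem_translates hT.1 _, Finset.smul_finset_subset_smul_finset hT.2⟩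
  · intro T _; simp
  · intro T _; simp

theorem exists_smul_finset_eq {p : ℕ} (ht : IsMultiplyPretransitive G Ω p) (P P' : Finset Ω)
    (hP : P.card = p) (hP' : P'.card = p) : ∃ g : G, g • P = P' := by
  obtain ⟨g, hg⟩ := (isMultiplyPretransitive_iff.1 ht)
    ((P.equivFinOfCardEq hP).symm.toEmbedding.trans (Function.Embedding.subtype _))
    ((P'.equivFinOfCardEq hP').symm.toEmbedding.trans (Function.Embedding.subtype _))
  refine ⟨g, Finset.eq_of_subset_of_card_le ?_ (by rw [Finset.card_smul_finset, hP, hP'])⟩
  intro y hy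
  obtain ⟨x, hx, rfl⟩ := Finset.mem_smul_finset.1 hy
  have h := DFunLike.congr_fun hg (P.equivFinOfCardEq hP ⟨x, hx⟩)
  simp at h
  rw [h]
  exact Subtype.coe_prop _

/-- Under `l`-fold transitivity the counts follow the binomial model up to level `l`. -/
theorem numTr_mul_choose {l : ℕ} (Δ : Finset Ω)
    (htr : IsMultiplyPretransitive G Ω l) (hl : l ≤ Fintype.card Ω) :
    ∀ (Q P : Finset Ω), Disjoint P Q → P.card + Q.card ≤ l →
      numTr G Δ P Q * (Fintype.card Ω).choose Δ.card =
        (translates G Δ).card * modelNum (Fintype.card Ω) Δ.card P.card Q.card := by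
  set n := Fintype.card Ω
  set d := Δ.card
  have hd : d ≤ n := Finset.card_le_univ Δ
  have base : ∀ p, ∀ P : Finset Ω, P.card = p → p ≤ l →
      numTr G Δ P ∅ * n.choose d = (translates G Δ).card * modelNum n d p 0 := by
    intro p
    induction p with
    | zero =>
      intro P hP _
      rw [Finset.card_eq_zero.1 hP]
      simp [numTr, modelNum]
    | succ p ih =>
      intro P hP hpl
      have : IsMultiplyPretransitive G Ω (p + 1) :=
        have := htr
        isMultiplyPretransitive_of_le hpl (by rwa [Nat.card_eq_fintype_card])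
      by_cases hpd : p + 1 ≤ d
      swap
      · have : numTr G Δ P ∅ = 0 := by
          rw [← Nat.le_zero, ← Nat.not_lt, numTr_pos_iff]
          rintro ⟨T, hT, hPT, -⟩
          have := Finset.card_le_card hPT
          rw [hP, card_of_mem_translates hT] at this
          omega
        simp [this, modelNum, hpd]
      obtain ⟨z, hz⟩ : P.Nonempty := Finset.card_pos.1 (by omega)
      set R := P.erase z
      have hR : R.card = p := by rw [Finset.card_erase_of_mem hz, hP]; omega
      have hsum : (n - p) * numTr G Δ P ∅ = (d - p) * numTr G Δ R ∅ := by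
        have hconst : ∀ w ∈ Rᶜ, numTr G Δ (insert w R) ∅ = numTr G Δ P ∅ := by
          intro w hw
          obtain ⟨g, hg⟩ := exists_smul_finset_eq this P (insert w R) hP
            (by rw [Finset.card_insert_of_notMem (Finset.mem_compl.1 hw), hR])
          rw [← hg, numTr_smul]
        have hl1 : ∑ w ∈ Rᶜ, numTr G Δ (insert w R) ∅ = (n - p) * numTr G Δ P ∅ := by
          rw [Finset.sum_congr rfl hconst, Finset.sum_const, Finset.card_compl, hR, smul_eq_mul]
        rw [← hl1]
        unfold numTr
        simp only [Finset.disjoint_empty_left, and_true, Finset.card_filter]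
        rw [Finset.sum_comm, Finset.mul_sum]
        refine Finset.sum_congr rfl fun T hT => ?_
        by_cases hRT : R ⊆ T
        · simp only [Finset.insert_subset_iff, hRT, and_true, if_true, mul_one]
          rw [← Finset.card_filter, show Rᶜ.filter (· ∈ T) = T \ R by
            ext w; simp [and_comm], Finset.card_sdiff_of_subset hRT, card_of_mem_translates hT, hR]
        · simp [Finset.insert_subset_iff, hRT]
      have hm : (n - p) * modelNum n d (p + 1) 0 = (d - p) * modelNum n d p 0 := by
        unfold modelNum
        rw [if_pos hpd, if_pos (by omega)]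
        have := Nat.add_one_mul_choose_eq (n - (p + 1)) (d - (p + 1))
        rw [show n - (p + 1) + 1 = n - p by omega, show d - (p + 1) + 1 = d - p by omega] at this
        rw [Nat.sub_zero, Nat.sub_zero, this, mul_comm]
      refine Nat.eq_of_mul_eq_mul_left (show 0 < n - p by omega) ?_
      calc (n - p) * (numTr G Δ P ∅ * n.choose d)
          = (d - p) * (numTr G Δ R ∅ * n.choose d) := by rw [← mul_assoc, hsum, mul_assoc]
        _ = (d - p) * ((translates G Δ).card * modelNum n d p 0) := by
            rw [ih R hR (by omega)]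
        _ = (translates G Δ).card * ((n - p) * modelNum n d (p + 1) 0) := by rw [hm]; ring
        _ = _ := by ring
  intro Q
  induction Q using Finset.induction with
  | empty => intro P _ hP; simpa using base P.card P rfl (by simpa using hP)
  | insert z Q hzQ ih =>
    intro P hdis hcard
    rw [Finset.card_insert_of_notMem hzQ] at hcard ⊢
    obtain ⟨hzP, hdis⟩ := Finset.disjoint_insert_right.1 hdis
    have h1 := ih P hdis (by omega)
    have h2 := ih (insert z P) (Finset.disjoint_insert_left.2 ⟨hzQ, hdis⟩)
      (by rw [Finset.card_insert_of_notMem hzP]; omega)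
    rw [numTr_split Δ P Q z, Nat.add_mul, modelNum_split (by omega), Nat.mul_add, h2,
      Finset.card_insert_of_notMem hzP] at h1
    omega

/-- The excess over the binomial model. -/
noncomputable def excess (G : Type*) {Ω : Type*} [Group G] [MulAction G Ω] [Fintype Ω]
    [DecidableEq Ω] (Δ P Q : Finset Ω) : ℤ :=
  (numTr G Δ P Q : ℤ) * (Fintype.card Ω).choose Δ.card
    - (translates G Δ).card * modelNum (Fintype.card Ω) Δ.card P.card Q.card

/-- One level above the transitivity the excess alternates in sign. -/
theorem excess_alternates {l : ℕ} (Δ X : Finset Ω) (htr : IsMultiplyPretransitive G Ω l)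
    (hl : l < Fintype.card Ω) (hX : X.card = l + 1) :
    ∀ P, P ⊆ X → excess G Δ P (X \ P) = (-1) ^ P.card * excess G Δ ∅ X := by
  intro P
  induction P using Finset.induction with
  | empty => simp
  | insert z P hz ih =>
    intro hsub
    obtain ⟨hzX, hPX⟩ := Finset.insert_subset_iff.1 hsub
    set Q := X \ insert z P with hQ
    have hQ' : X \ P = insert z Q := by
      ext w
      by_cases hw : w = z <;> simp [hQ, hw, hzX, hz]
    have hzQ : z ∉ Q := by simp [hQ]
    have hcard : P.card + Q.card = l := by
      have := Finset.card_sdiff_of_subset hPX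
      rw [hQ', Finset.card_insert_of_notMem hzQ, hX] at this
      have := Finset.card_le_card hsub
      rw [Finset.card_insert_of_notMem hz, hX] at this
      omega
    have h0 : excess G Δ P Q = 0 := by
      unfold excess
      have := numTr_mul_choose Δ htr hl.le Q P
        (Finset.disjoint_left.2 fun w hw hwQ => by simp [hQ, hw] at hwQ) hcard.le
      rw [sub_eq_zero]
      exact_mod_cast this
    have h1 : excess G Δ P Q = excess G Δ (insert z P) Q + excess G Δ P (insert z Q) := by
      unfold excess
      rw [numTr_split Δ P Q z, modelNum_split (by omega : P.card + Q.card < Fintype.card Ω),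
        Finset.card_insert_of_notMem hz, Finset.card_insert_of_notMem hzQ]
      push_cast
      ring
    have h2 := ih hPX
    rw [hQ'] at h2
    rw [Finset.card_insert_of_notMem hz, pow_succ]
    linarith

/-- A pattern that never occurs bounds the model at every pattern of the same parity. -/
theorem model_le_of_numTr_eq_zero {l : ℕ} (Δ X P P' : Finset Ω)
    (htr : IsMultiplyPretransitive G Ω l) (hl : l < Fintype.card Ω) (hX : X.card = l + 1)
    (hP : P ⊆ X) (hP' : P' ⊆ X) (hpar : P.card % 2 = P'.card % 2)
    (h0 : numTr G Δ P (X \ P) = 0) :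
    modelNum (Fintype.card Ω) Δ.card P.card (X.card - P.card) ≤
        modelNum (Fintype.card Ω) Δ.card P'.card (X.card - P'.card) ∧
      (modelNum (Fintype.card Ω) Δ.card P.card (X.card - P.card) =
          modelNum (Fintype.card Ω) Δ.card P'.card (X.card - P'.card) →
        numTr G Δ P' (X \ P') = 0) := by
  have h1 := excess_alternates Δ X htr hl hX P hP
  have h2 := excess_alternates Δ X htr hl hX P' hP'
  have hs : ((-1 : ℤ)) ^ P.card = (-1) ^ P'.card := by
    rw [neg_one_pow_eq_pow_mod_two, hpar, ← neg_one_pow_eq_pow_mod_two]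
  rw [hs, ← h2] at h1
  simp only [excess, h0, Finset.card_sdiff_of_subset hP, Finset.card_sdiff_of_subset hP'] at h1
  have hb : 0 < ((translates G Δ).card : ℤ) := by
    exact_mod_cast Finset.card_pos.2 ⟨Δ, mem_translates.2 ⟨1, one_smul _ _⟩⟩
  have hc : 0 < ((Fintype.card Ω).choose Δ.card : ℤ) := by
    exact_mod_cast Nat.choose_pos (Finset.card_le_univ Δ)
  set N : ℤ := (numTr G Δ P' (X \ P') : ℤ) with hN
  set M := modelNum (Fintype.card Ω) Δ.card P.card (X.card - P.card)
  set M' := modelNum (Fintype.card Ω) Δ.card P'.card (X.card - P'.card)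
  refine ⟨?_, fun he => ?_⟩
  · have : 0 ≤ N := by positivity
    by_contra hlt
    push Not at hlt
    have : (M' : ℤ) < M := by exact_mod_cast hlt
    simp only [Nat.cast_zero, zero_mul, zero_sub] at h1
    nlinarith
  · rw [he] at h1
    simp only [Nat.cast_zero, zero_mul, zero_sub] at h1
    have : N * ((Fintype.card Ω).choose Δ.card : ℤ) = 0 := by linarith
    rcases mul_eq_zero.1 this with h | h
    · rw [hN] at h; exact_mod_cast h
    · exact absurd h hc.ne'

end Count

end CfsgLib.Recog.JordanSet
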