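import Mathlib
import Cfsg.Agent.Lib.NumberTheory.Zsigmondy

/-!
Large primitive prime divisors (the refinement of Zsigmondy's theorem).
-/

namespace CfsgLib.Recog.LargePPD

open CfsgLib.NumberTheory Polynomial

/-- Every primitive prime divisor is at most `n + 1` and divides only once. -/
def AllSmall (q n : ℕ) : Prop :=
  ∀ r : ℕ, IsPPD r q n → r ≤ n + 1 ∧ ¬ r ^ 2 ∣ q ^ n - 1

theorem sub_one_pow_five {p : ℕ} (hp : 5 ≤ p) : p ^ 4 ≤ (p - 1) ^ 5 := by
  obtain ⟨k, rfl⟩ : ∃ k, p = k + 5 := ⟨p - 5, by omega⟩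
  simp only [show k + 5 - 1 = k + 4 by omega]
  ring_nf
  nlinarith [sq_nonneg k, Nat.zero_le (k ^ 3), Nat.zero_le (k ^ 4), Nat.zero_le (k ^ 5)]

/-- The weight used in the totient estimate. -/
def corr (n : ℕ) : ℕ := (if 2 ∣ n then 16 else 1) * (if 3 ∣ n then 81 else 1)

/-- The other side of the weight. -/
def corr' (n : ℕ) : ℕ := if 3 ∣ n then 32 else 1

theorem totient_estimate_aux : ∀ n : ℕ, 0 < n → n ^ 4 * corr' n ≤ corr n * n.totient ^ 5 := by
  intro n
  induction n using Nat.recOnPosPrimePosCoprime with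
  | zero => intro h; omega
  | one => intro _; simp [corr, corr']
  | prime_pow p k hp hk =>
    intro _
    obtain ⟨j, rfl⟩ : ∃ j, k = j + 1 := ⟨k - 1, by omega⟩
    rw [Nat.totient_prime_pow_succ hp, mul_pow]
    have hdvd : ∀ r : ℕ, r.Prime → (r ∣ p ^ (j + 1) ↔ r = p) := fun r hr =>
      ⟨fun h => (Nat.prime_dvd_prime_iff_eq hr hp).1 (hr.dvd_of_dvd_pow h), fun h => h ▸ dvd_pow_self r (by omega)⟩
    have hmono : (p ^ (j + 1)) ^ 4 ≤ (p ^ j) ^ 5 * p ^ 4 := by
      rw [← pow_mul, ← pow_mul, ← pow_add]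
      exact Nat.pow_le_pow_right hp.pos (by omega)
    unfold corr corr'
    by_cases h2 : p = 2
    · subst h2
      rw [if_pos ((hdvd 2 Nat.prime_two).2 rfl), if_neg (fun h => absurd ((hdvd 3 Nat.prime_three).1 h) (by norm_num)),
        if_neg (fun h => absurd ((hdvd 3 Nat.prime_three).1 h) (by norm_num))]
      norm_num at hmono ⊢
      omega
    by_cases h3 : p = 3
    · subst h3
      rw [if_pos ((hdvd 3 Nat.prime_three).2 rfl), if_pos ((hdvd 3 Nat.prime_three).2 rfl),
        if_neg (fun h => absurd ((hdvd 2 Nat.prime_two).1 h) (by norm_num))]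
      norm_num at hmono ⊢
      omega
    rw [if_neg (fun h => h2 ((hdvd 2 Nat.prime_two).1 h).symm), if_neg (fun h => h3 ((hdvd 3 Nat.prime_three).1 h).symm),
      if_neg (fun h => h3 ((hdvd 3 Nat.prime_three).1 h).symm)]
    have hp5 : 5 ≤ p := by
      have := hp.two_le
      rcases Nat.lt_or_ge p 5 with h | h
      · interval_cases p <;> first | omega | (norm_num at hp)
      · exact h
    simp only [mul_one, one_mul]
    exact hmono.trans (Nat.mul_le_mul_left _ (sub_one_pow_five hp5))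
  | coprime a b ha hb hab iha ihb =>
    intro _
    have h1 := Nat.mul_le_mul (iha (by omega)) (ihb (by omega))
    have hsplit : ∀ r : ℕ, r.Prime → ¬ (r ∣ a ∧ r ∣ b) := fun r hr h =>
      hr.one_lt.ne' (Nat.eq_one_of_dvd_coprimes hab h.1 h.2)
    have e : corr (a * b) = corr a * corr b ∧ corr' (a * b) = corr' a * corr' b := by
      unfold corr corr'
      simp only [Nat.prime_two.dvd_mul, Nat.prime_three.dvd_mul]
      have s2 := hsplit 2 Nat.prime_two
      have s3 := hsplit 3 Nat.prime_three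
      by_cases a2 : 2 ∣ a <;> by_cases b2 : 2 ∣ b <;> by_cases a3 : 3 ∣ a <;> by_cases b3 : 3 ∣ b <;>
        simp_all [-Nat.two_dvd_ne_zero]
    rw [Nat.totient_mul hab, e.1, e.2]
    calc (a * b) ^ 4 * (corr' a * corr' b) = (a ^ 4 * corr' a) * (b ^ 4 * corr' b) := by ring
      _ ≤ _ := h1
      _ = _ := by ring

theorem totient_estimate {n : ℕ} (hn : 0 < n) : 2 * n ^ 4 ≤ 81 * n.totient ^ 5 := by
  have h := totient_estimate_aux n hn
  unfold corr corr' at h
  split_ifs at h <;> norm_num at h <;> omega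

theorem phiVal_sq_lower_two {n : ℕ} (hn : 2 < n) (he : 2 ∣ n) : 2 ^ n.totient ≤ phiVal n 2 ^ 2 := by
  by_cases hsq : ∃ p, p.Prime ∧ p ^ 2 ∣ n
  · obtain ⟨p, hp, hpn⟩ := hsq
    obtain ⟨k, m, hm, rfl⟩ := Nat.exists_eq_pow_mul_and_not_dvd (by omega : n ≠ 0) p hp.ne_one
    have hk : 2 ≤ k := by
      by_contra hk
      have hk1 : k ≤ 1 := by omega
      rcases Nat.le_one_iff_eq_zero_or_eq_one.1 hk1 with rfl | rfl
      · exact hm ((dvd_pow_self p two_ne_zero).trans (by simpa using hpn))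
      · rw [pow_one, pow_two] at hpn
        exact hm (Nat.dvd_of_mul_dvd_mul_left hp.pos hpn)
    obtain ⟨j, rfl⟩ : ∃ j, k = j + 1 := ⟨k - 1, by omega⟩
    have hm0 : 0 < m := Nat.pos_of_ne_zero fun h => by simp [h] at hm
    have hpm : 1 < p * m := lt_of_lt_of_le hp.one_lt (Nat.le_mul_of_pos_right p hm0)
    have he2 : 2 ≤ p ^ j := hp.two_le.trans (Nat.le_self_pow (by omega) p)
    have h4 : 4 ≤ 2 ^ p ^ j := le_trans (by norm_num) (Nat.pow_le_pow_right two_pos he2)
    rw [phiVal_pow_mul hp 2 j]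
    have hlow := sub_one_pow_totient_lt_phiVal (a := 2 ^ p ^ j) hpm (by omega)
    have ht : (p ^ (j + 1) * m).totient = p ^ j * (p * m).totient := by
      rw [Nat.totient_mul ((hp.coprime_iff_not_dvd.2 hm).pow_left _), Nat.totient_mul (hp.coprime_iff_not_dvd.2 hm),
        Nat.totient_prime_pow_succ hp, Nat.totient_prime hp]
      ring
    rw [ht, pow_mul]
    refine le_trans ?_ (Nat.pow_le_pow_left hlow.le 2)
    rw [← pow_mul ((2 : ℕ) ^ p ^ j - 1), mul_comm _ 2, pow_mul ((2 : ℕ) ^ p ^ j - 1)]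
    apply Nat.pow_le_pow_left
    set E := 2 ^ p ^ j
    obtain ⟨F, hF⟩ : ∃ F, E = F + 1 := ⟨E - 1, by omega⟩
    rw [hF] at h4 ⊢
    simp only [Nat.add_sub_cancel]
    nlinarith
  · push Not at hsq
    obtain ⟨p, hp, hp2, hpn⟩ : ∃ p, p.Prime ∧ p ≠ 2 ∧ p ∣ n := by
      by_contra h
      push Not at h
      obtain ⟨m, rfl⟩ := he
      obtain ⟨r, hr, hrm⟩ := Nat.exists_prime_and_dvd (n := m) (by omega)
      rcases eq_or_ne r 2 with rfl | hr2
      · exact hsq 2 hr (by rw [pow_two]; exact Nat.mul_dvd_mul_left 2 hrm)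
      · exact h r hr hr2 (hrm.mul_left 2)
    obtain ⟨m, rfl⟩ := hpn
    have hpm : ¬ p ∣ m := fun h => hsq p hp (by rw [pow_two]; exact Nat.mul_dvd_mul_left p h)
    have hm1 : 1 < m := by
      have h2m : 2 ∣ m := (Nat.Coprime.dvd_of_dvd_mul_left ((Nat.coprime_primes Nat.prime_two hp).2 (Ne.symm hp2)) he)
      rcases Nat.eq_zero_or_pos m with h | h
      · simp [h] at hpm
      · have := Nat.le_of_dvd h h2m; omega
    have h1 : phiVal (p * m) 2 * phiVal m 2 = phiVal m (2 ^ p) := by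
      rw [phiVal, phiVal, phiVal, ← Int.natAbs_mul, mul_comm p m, ← eval_mul,
        ← cyclotomic_expand_eq_cyclotomic_mul hp hpm ℤ, expand_eval, Nat.cast_pow]
    have hlo : (2 ^ p - 1) ^ m.totient < phiVal m (2 ^ p) :=
      sub_one_pow_totient_lt_phiVal hm1 (by have := Nat.one_lt_two_pow hp.ne_zero; omega)
    have hup : phiVal m 2 ≤ 3 ^ m.totient := phiVal_le_add_one_pow_totient one_lt_two
    rw [Nat.totient_mul (hp.coprime_iff_not_dvd.2 hpm), Nat.totient_prime hp]
    have hbase : 9 * 2 ^ (p - 1) ≤ (2 ^ p - 1) ^ 2 := by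
      have hp3 : 3 ≤ p := by have := hp.two_le; omega
      obtain ⟨i, rfl⟩ : ∃ i, p = i + 3 := ⟨p - 3, by omega⟩
      rw [show i + 3 - 1 = i + 2 by omega, pow_add, pow_add]
      have hi : 1 ≤ 2 ^ i := Nat.one_le_two_pow
      obtain ⟨F, hF⟩ : ∃ F, 2 ^ i * 2 ^ 3 = F + 1 := ⟨2 ^ i * 2 ^ 3 - 1, by omega⟩
      rw [hF]
      norm_num at hF ⊢
      nlinarith
    have h3 : (9 * 2 ^ (p - 1)) ^ m.totient ≤ (phiVal (p * m) 2 * phiVal m 2) ^ 2 := by
      rw [h1]
      refine le_trans (Nat.pow_le_pow_left hbase _) ?_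
      rw [← pow_mul, mul_comm, pow_mul]
      exact Nat.pow_le_pow_left hlo.le 2
    have h4 : (phiVal (p * m) 2 * phiVal m 2) ^ 2 ≤ phiVal (p * m) 2 ^ 2 * 9 ^ m.totient := by
      rw [mul_pow, show (9 : ℕ) = 3 ^ 2 by norm_num, ← pow_mul, mul_comm 2, pow_mul 3]
      exact Nat.mul_le_mul_left _ (Nat.pow_le_pow_left hup 2)
    have h5 := h3.trans h4
    rw [mul_pow, ← pow_mul, mul_comm (phiVal (p * m) 2 ^ 2)] at h5
    exact Nat.le_of_mul_le_mul_left h5 (pow_pos (by norm_num) _)

theorem phiVal_bound {q n : ℕ} (hq : 2 ≤ q) (hn : 2 < n) (h : AllSmall q n) (h6 : ¬ (q = 2 ∧ n = 6)) :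
    (n + 1).Prime ∧ phiVal n q ≤ (n + 1) * (n.totient + 1) := by
  obtain ⟨r, hr⟩ := exists_isPPD_of_two_lt (show 1 < q by omega) hn h6
  have hrn : r = n + 1 := by
    have := hr.lt (by omega) (by omega)
    have := (h r hr).1
    omega
  have hprime : (n + 1).Prime := hrn ▸ hr.prime
  refine ⟨hprime, ?_⟩
  have hne : n.primeFactors.Nonempty := Nat.nonempty_primeFactors.2 (by omega)
  set P := n.primeFactors.max' hne with hP
  have hPm := Finset.max'_mem _ hne
  have hPp : P.Prime := Nat.prime_of_mem_primeFactors hPm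
  have hPn : P ∣ n := Nat.dvd_of_mem_primeFactors hPm
  have hPt : P ≤ n.totient + 1 := by
    have := Nat.le_of_dvd (Nat.totient_pos.2 (by omega)) (Nat.totient_prime hPp ▸ Nat.totient_dvd_of_dvd hPn)
    omega
  have hdvd : phiVal n q ∣ (n + 1) * P := by
    rw [Nat.dvd_iff_prime_pow_dvd_dvd]
    intro x k hx hxk
    rcases Nat.eq_zero_or_pos k with rfl | hk
    · simp
    have hxd : x ∣ phiVal n q := (dvd_pow_self x hk.ne').trans hxk
    have hk1 : ∀ {y : ℕ}, ¬ x ^ 2 ∣ y → x ^ k ∣ y → k = 1 := fun hy hy' => by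
      by_contra hk1
      exact hy ((pow_dvd_pow x (by omega : 2 ≤ k)).trans hy')
    by_cases hord : orderOf (q : ZMod x) = n
    · have hppd : IsPPD x q n := (isPPD_iff_orderOf hx (by omega) (by omega)).2 hord
      have h1 := hk1 (h x hppd).2 (hxk.trans (phiVal_dvd_pow_sub_one (by omega)))
      have hxn : x = n + 1 := by
        have := hppd.lt (by omega) (by omega)
        have := (h x hppd).1
        omega
      subst h1 hxn
      simp
    · obtain ⟨e, he, -⟩ := exists_eq_pow_mul_orderOf hx (by omega) hxd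
      have he0 : e ≠ 0 := by rintro rfl; exact hord (by simpa using he.symm)
      have hxn : x ∣ n := he ▸ Dvd.dvd.mul_right (dvd_pow_self x he0) _
      have h1 := hk1 (not_sq_dvd_phiVal hx hn (by omega) hxn hxd) hxk
      have hxP : x = P := by
        refine le_antisymm (Finset.le_max' _ _ (Nat.mem_primeFactors.2 ⟨hx, hxn, by omega⟩)) ?_
        have hPn' : P ∣ x ^ e * orderOf (q : ZMod x) := he ▸ hPn
        rcases hPp.dvd_mul.1 hPn' with h2 | h2
        · exact Nat.le_of_dvd hx.pos (hPp.dvd_of_dvd_pow h2)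
        · have := Nat.le_of_dvd (by have := hx.two_le; omega)
            (h2.trans (orderOf_dvd_sub_one_of_dvd_phiVal hx (by omega) hxd))
          omega
      subst h1
      rw [pow_one, hxP]
      exact dvd_mul_left P _
  exact (Nat.le_of_dvd (by have := hprime.pos; have := hPp.pos; positivity) hdvd).trans (Nat.mul_le_mul_left _ hPt)

theorem pow_nine_lt : ∀ t : ℕ, 33 ≤ t → 648 * (t + 1) ^ 9 < 2 ^ (2 * t) := by
  intro t ht
  induction t, ht using Nat.le_induction with
  | base => norm_num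
  | succ t ht ih =>
    rw [show 2 * (t + 1) = 2 * t + 2 by ring, pow_add]
    have hstep : (t + 1 + 1) ^ 9 ≤ 4 * (t + 1) ^ 9 := by
      have h1 : 34 ^ 9 * (t + 1 + 1) ^ 9 ≤ 35 ^ 9 * (t + 1) ^ 9 := by
        rw [← mul_pow, ← mul_pow]; exact Nat.pow_le_pow_left (by omega) 9
      norm_num at h1 ⊢
      omega
    norm_num
    omega

theorem totient_le_thirtytwo {n : ℕ} (hn : 0 < n)
    (h : 2 ^ n.totient ≤ ((n + 1) * (n.totient + 1)) ^ 2) : n ≤ 192 := by
  have he := totient_estimate hn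
  set t := n.totient
  have ht : t ≤ 32 := by
    by_contra hcon
    have h1 : 2 ^ (2 * t) ≤ (n + 1) ^ 4 * (t + 1) ^ 4 := by
      calc 2 ^ (2 * t) = (2 ^ t) ^ 2 := by rw [mul_comm, pow_mul]
        _ ≤ (((n + 1) * (t + 1)) ^ 2) ^ 2 := Nat.pow_le_pow_left h 2
        _ = _ := by ring
    have h2 : (n + 1) ^ 4 ≤ 16 * n ^ 4 := by
      rw [show 16 * n ^ 4 = (2 * n) ^ 4 by ring]; exact Nat.pow_le_pow_left (by omega) 4
    have h3 : t ^ 5 ≤ (t + 1) ^ 5 := Nat.pow_le_pow_left (by omega) 5
    have h7 : (n + 1) ^ 4 * (t + 1) ^ 4 ≤ 648 * (t + 1) ^ 9 := by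
      calc (n + 1) ^ 4 * (t + 1) ^ 4 ≤ (16 * n ^ 4) * (t + 1) ^ 4 := Nat.mul_le_mul_right _ h2
        _ ≤ (648 * (t + 1) ^ 5) * (t + 1) ^ 4 := Nat.mul_le_mul_right _ (by omega)
        _ = _ := by ring
    exact absurd h1 (not_le.2 (lt_of_le_of_lt h7 (pow_nine_lt t (by omega))))
  by_contra hcon
  have h1 : 2 * 193 ^ 4 ≤ 81 * 32 ^ 5 :=
    le_trans (Nat.mul_le_mul_left 2 (Nat.pow_le_pow_left (by omega) 4))
      (he.trans (Nat.mul_le_mul_left 81 (Nat.pow_le_pow_left ht 5)))
  norm_num at h1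

end CfsgLib.Recog.LargePPD

namespace CfsgLib.Recog.LargePPD

open CfsgLib.NumberTheory

/-- Trial division primality test, as a consequence of primality. -/
def noSmallDivisor (m : ℕ) : Bool := (List.range' 2 (m - 2)).all fun d => m % d != 0

theorem noSmallDivisor_of_prime {m : ℕ} (hm : m.Prime) : noSmallDivisor m = true := by
  rw [noSmallDivisor, List.all_eq_true]
  intro d hd
  rw [List.mem_range'_1] at hd
  simp only [bne_iff_ne, ne_eq]
  intro h
  rcases hm.eq_one_or_self_of_dvd d (Nat.dvd_of_mod_eq_zero h) with h | h <;> omega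

theorem candidates_bool : ((List.range 193).all fun n =>
    n < 3 || !noSmallDivisor (n + 1) ||
    ((!decide (2 ^ n.totient ≤ ((n + 1) * (n.totient + 1)) ^ 2) ||
        [4, 6, 10, 12, 16, 18, 22, 28, 30, 36, 40, 42, 60, 66].contains n) &&
      (!decide (2 ^ n.totient < (n + 1) * (n.totient + 1)) || [4, 6, 10, 12, 18, 30].contains n))) = true := by
  decide +kernel

theorem candidates (n : ℕ) (h : n < 193) (h3 : 3 ≤ n) (hp : noSmallDivisor (n + 1) = true) :
    (2 ^ n.totient ≤ ((n + 1) * (n.totient + 1)) ^ 2 → n ∈ [4, 6, 10, 12, 16, 18, 22, 28, 30, 36, 40, 42, 60, 66]) ∧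
    (2 ^ n.totient < (n + 1) * (n.totient + 1) → n ∈ [4, 6, 10, 12, 18, 30]) := by
  have hn := List.all_eq_true.1 candidates_bool n (List.mem_range.2 h)
  rw [hp] at hn
  simp only [Bool.or_eq_true, Bool.and_eq_true, Bool.not_eq_true', decide_eq_false_iff_not, List.contains_iff_mem,
    decide_eq_true_eq, Bool.not_true, Bool.false_eq_true, or_false] at hn
  rcases hn with hn | ⟨hA, hB⟩
  · omega
  · exact ⟨fun hh => hA.resolve_left (not_not_intro hh), fun hh => hB.resolve_left (not_not_intro hh)⟩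

theorem witness_false {q n : ℕ} (h : AllSmall q n) (r : ℕ) (hr : r.Prime) (hd : r ∣ q ^ n - 1)
    (hmin : ∀ k < n, 0 < k → ¬ r ∣ q ^ k - 1) (hbig : n + 1 < r) : False :=
  absurd (h r ⟨hr, hd, fun k hk hkn => hmin k hkn hk⟩).1 (not_le.2 hbig)

theorem pair_excluded {q n : ℕ} (hq : 2 ≤ q) (hn : 2 < n) (h : AllSmall q n) :
    (q = 2 ∧ (n = 4 ∨ n = 6 ∨ n = 10 ∨ n = 12 ∨ n = 18)) ∨ (q = 3 ∧ (n = 4 ∨ n = 6)) ∨ (q = 5 ∧ n = 6) := by
  by_cases h6 : q = 2 ∧ n = 6
  · exact Or.inl ⟨h6.1, Or.inr (Or.inl h6.2)⟩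
  obtain ⟨hp, hbound⟩ := phiVal_bound hq hn h h6
  have hev : 2 ∣ n := by
    rcases hp.eq_two_or_odd with hh | hh
    · omega
    · omega
  have ht : 1 ≤ n.totient := Nat.totient_pos.2 (by omega)
  have hlow2 : 2 ^ n.totient ≤ ((n + 1) * (n.totient + 1)) ^ 2 := by
    rcases eq_or_lt_of_le hq with rfl | hq3
    · exact (phiVal_sq_lower_two hn hev).trans (Nat.pow_le_pow_left hbound 2)
    · have h1 := sub_one_pow_totient_lt_phiVal (n := n) (a := q) (by omega) (by omega)
      calc 2 ^ n.totient ≤ (q - 1) ^ n.totient := Nat.pow_le_pow_left (by omega) _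
        _ ≤ (n + 1) * (n.totient + 1) := le_trans h1.le hbound
        _ ≤ _ := Nat.le_self_pow (by norm_num) _
  have hn192 := totient_le_thirtytwo (by omega) hlow2
  obtain ⟨hA, hB⟩ := candidates n (by omega) (by omega) (noSmallDivisor_of_prime hp)
  have hw : ∀ r, r.Prime → r ∣ q ^ n - 1 → (∀ k < n, 0 < k → ¬ r ∣ q ^ k - 1) → n + 1 < r → False :=
    witness_false h
  rcases eq_or_lt_of_le hq with rfl | hq3
  · have hA' := hA hlow2
    simp only [List.mem_cons, List.not_mem_nil, or_false] at hA'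
    rcases hA' with rfl | rfl | rfl | rfl | rfl | rfl | rfl | rfl | rfl | rfl | rfl | rfl | rfl | rfl
    · omega
    · omega
    · omega
    · omega
    · exact (hw 257 (by norm_num) (by decide +kernel) (by decide +kernel) (by norm_num)).elim
    · omega
    · exact (hw 683 (by norm_num) (by decide +kernel) (by decide +kernel) (by norm_num)).elim
    · exact (hw 113 (by norm_num) (by decide +kernel) (by decide +kernel) (by norm_num)).elim
    · exact (hw 331 (by norm_num) (by decide +kernel) (by decide +kernel) (by norm_num)).elim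
    · exact (hw 109 (by norm_num) (by decide +kernel) (by decide +kernel) (by norm_num)).elim
    · exact (hw 61681 (by norm_num) (by decide +kernel) (by decide +kernel) (by norm_num)).elim
    · exact (hw 5419 (by norm_num) (by decide +kernel) (by decide +kernel) (by norm_num)).elim
    · exact (hw 1321 (by norm_num) (by decide +kernel) (by decide +kernel) (by norm_num)).elim
    · exact (hw 20857 (by norm_num) (by decide +kernel) (by decide +kernel) (by norm_num)).elim
  · have h1 := lt_of_lt_of_le (sub_one_pow_totient_lt_phiVal (n := n) (a := q) (by omega) (by omega)) hbound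
    have hlt : 2 ^ n.totient < (n + 1) * (n.totient + 1) :=
      lt_of_le_of_lt (Nat.pow_le_pow_left (by omega) _) h1
    have hB' := hB hlt
    have hq6 : q ≤ 6 := by
      by_contra hcon
      have h2 : 6 ^ n.totient < (n + 1) * (n.totient + 1) :=
        lt_of_le_of_lt (Nat.pow_le_pow_left (by omega) _) h1
      simp only [List.mem_cons, List.not_mem_nil, or_false] at hB'
      rcases hB' with rfl | rfl | rfl | rfl | rfl | rfl <;> revert h2 <;> decide +kernel
    simp only [List.mem_cons, List.not_mem_nil, or_false] at hB'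
    rcases hB' with rfl | rfl | rfl | rfl | rfl | rfl <;> interval_cases q
    all_goals first
      | omega
      | (revert h1; decide +kernel)
      | exact (hw 17 (by norm_num) (by decide +kernel) (by decide +kernel) (by omega)).elim
      | exact (hw 13 (by norm_num) (by decide +kernel) (by decide +kernel) (by norm_num)).elim
      | exact (hw 61 (by norm_num) (by decide +kernel) (by decide +kernel) (by norm_num)).elim
      | exact (hw 73 (by norm_num) (by decide +kernel) (by decide +kernel) (by norm_num)).elim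
      | exact (hw 37 (by norm_num) (by decide +kernel) (by decide +kernel) (by norm_num)).elim
      | exact (hw 271 (by norm_num) (by decide +kernel) (by decide +kernel) (by norm_num)).elim

end CfsgLib.Recog.LargePPD
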