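import Mathlib
import Cfsg.Agent.Lib.Recog.Isospectral

/-!
Element orders in `V ⋊ H` for a vector space `V` and a group `H` of linear automorphisms of `V`.
-/

set_option autoImplicit false

namespace CfsgLib.Recog.LinearSemidirect

variable {K : Type*} [Field K] {V : Type*} [AddCommGroup V] [Module K V]

/-- The action of a group of linear automorphisms on the additive group, written multiplicatively. -/
def act (H : Subgroup (V ≃ₗ[K] V)) : H →* MulAut (Multiplicative V) where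
  toFun h := AddEquiv.toMultiplicative (h : V ≃ₗ[K] V).toAddEquiv
  map_one' := rfl
  map_mul' _ _ := rfl

/-- The affine group. -/
abbrev Semi (H : Subgroup (V ≃ₗ[K] V)) := SemidirectProduct (Multiplicative V) H (act H)

instance [Finite V] : Finite (V ≃ₗ[K] V) := Finite.of_injective (fun e => (e : V → V)) DFunLike.coe_injective

instance (H : Subgroup (V ≃ₗ[K] V)) [Finite V] : Finite (Semi H) :=
  Finite.of_equiv _ SemidirectProduct.equivProd.symm

/-- The element `(v, h)`. -/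
def elt (H : Subgroup (V ≃ₗ[K] V)) (v : V) {h : V ≃ₗ[K] V} (hh : h ∈ H) : Semi H :=
  ⟨Multiplicative.ofAdd v, ⟨h, hh⟩⟩

/-- `1 + h + ... + h ^ (k - 1)`. -/
def sumPow (h : V ≃ₗ[K] V) (k : ℕ) : Module.End K V :=
  ∑ i ∈ Finset.range k, (h : V →ₗ[K] V) ^ i

theorem coe_pow_eq (h : V ≃ₗ[K] V) (k : ℕ) :
    ((h ^ k : V ≃ₗ[K] V) : V →ₗ[K] V) = (h : V →ₗ[K] V) ^ k := by
  induction k with
  | zero => rfl
  | succ k ih => rw [pow_succ, pow_succ, ← ih]; rfl

theorem sumPow_apply (h : V ≃ₗ[K] V) (k : ℕ) (v : V) :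
    sumPow h k v = ∑ i ∈ Finset.range k, (h ^ i : V ≃ₗ[K] V) v := by
  simp only [sumPow, LinearMap.sum_apply, ← coe_pow_eq]
  rfl

theorem elt_pow (H : Subgroup (V ≃ₗ[K] V)) (v : V) {h : V ≃ₗ[K] V} (hh : h ∈ H) (k : ℕ) :
    elt H v hh ^ k = elt H (sumPow h k v) (pow_mem hh k) := by
  induction k with
  | zero => simp [elt, sumPow]; rfl
  | succ k ih =>
    rw [pow_succ, ih]
    refine SemidirectProduct.ext ?_ (Subtype.ext (pow_succ h k).symm)
    show Multiplicative.ofAdd (sumPow h k v) * Multiplicative.ofAdd ((h ^ k : V ≃ₗ[K] V) v) = _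
    rw [← ofAdd_add, sumPow_apply, ← Finset.sum_range_succ, ← sumPow_apply]
    rfl

theorem elt_eq_one (H : Subgroup (V ≃ₗ[K] V)) (v : V) {h : V ≃ₗ[K] V} (hh : h ∈ H) :
    elt H v hh = 1 ↔ v = 0 ∧ h = 1 := by
  constructor
  · intro e
    exact ⟨congrArg (fun z => z.left.toAdd) e, congrArg (fun z => (z.right : V ≃ₗ[K] V)) e⟩
  · rintro ⟨rfl, rfl⟩; rfl

theorem exists_elt (H : Subgroup (V ≃ₗ[K] V)) (x : Semi H) :
    ∃ (v : V) (h : V ≃ₗ[K] V) (hh : h ∈ H), x = elt H v hh :=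
  ⟨x.left.toAdd, x.right, x.right.2, rfl⟩

variable {p : ℕ} [CharP K p]

theorem char_smul (K : Type*) [Field K] [Module K V] [CharP K p] (v : V) : p • v = 0 := by
  rw [← Nat.cast_smul_eq_nsmul K, CharP.cast_eq_zero, zero_smul]

theorem range_subset (H : Subgroup (V ≃ₗ[K] V)) (S : Set ℕ)
    (hS : ∀ d e, d ∣ e → e ∈ S → d ∈ S)
    (hcond : ∀ h ∈ H, (∃ k, h ^ k = 1 ∧ p * k ∈ S) ∨ (∃ k ∈ S, h ^ k = 1 ∧ sumPow h k = 0)) :
    Set.range (orderOf : Semi H → ℕ) ⊆ S := by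
  rintro _ ⟨x, rfl⟩
  obtain ⟨v, h, hh, rfl⟩ := exists_elt H x
  rcases hcond h hh with ⟨k, hk, hkS⟩ | ⟨k, hkS, hk, hN⟩
  · refine hS _ _ (orderOf_dvd_of_pow_eq_one ?_) hkS
    rw [mul_comm, pow_mul, elt_pow, elt_pow, elt_eq_one, hk, one_pow]
    refine ⟨?_, rfl⟩
    rw [sumPow_apply]
    simp only [one_pow, Finset.sum_const, Finset.card_range]
    exact char_smul K _
  · refine hS _ _ (orderOf_dvd_of_pow_eq_one ?_) hkS
    rw [elt_pow, elt_eq_one, hN, hk]
    exact ⟨rfl, rfl⟩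

theorem exists_dvd (H : Subgroup (V ≃ₗ[K] V)) {h : V ≃ₗ[K] V} (hh : h ∈ H) {k : ℕ}
    (hk : ∀ j : ℕ, h ^ j = 1 → k ∣ j) : ∃ x : Semi H, k ∣ orderOf x := by
  refine ⟨elt H 0 hh, hk _ ?_⟩
  have e := pow_orderOf_eq_one (elt H 0 hh)
  rw [elt_pow, elt_eq_one] at e
  exact e.2

theorem exists_dvd_mul [Fact p.Prime] (H : Subgroup (V ≃ₗ[K] V)) {h : V ≃ₗ[K] V} (hh : h ∈ H)
    {k : ℕ} (hk : ∀ j : ℕ, h ^ j = 1 → k ∣ j) (hpk : ¬ p ∣ k) {v : V} (hv : v ≠ 0) (hfix : h v = v) :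
    ∃ x : Semi H, p * k ∣ orderOf x := by
  refine ⟨elt H v hh, ?_⟩
  have e := pow_orderOf_eq_one (elt H v hh)
  rw [elt_pow, elt_eq_one] at e
  obtain ⟨e1, e2⟩ := e
  have hp : p ∣ orderOf (elt H v hh) := by
    rw [sumPow_apply] at e1
    have hi : ∀ i : ℕ, (h ^ i : V ≃ₗ[K] V) v = v := by
      intro i
      induction i with
      | zero => rfl
      | succ i ih => rw [pow_succ]; show (h ^ i : V ≃ₗ[K] V) (h v) = v; rw [hfix, ih]
    simp only [hi, Finset.sum_const, Finset.card_range] at e1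
    rw [← Nat.cast_smul_eq_nsmul K, smul_eq_zero] at e1
    exact (CharP.cast_eq_zero_iff K p _).1 (e1.resolve_right hv)
  exact Nat.Coprime.mul_dvd_of_dvd_of_dvd (((Fact.out : p.Prime).coprime_iff_not_dvd).2 hpk) hp (hk _ e2)

theorem exists_dvd_sq [Fact p.Prime] (H : Subgroup (V ≃ₗ[K] V)) {h : V ≃ₗ[K] V} (hh : h ∈ H)
    (hp : h ^ p = 1) {v : V} (hv : sumPow h p v ≠ 0) : ∃ x : Semi H, p ^ 2 ∣ orderOf x := by
  refine ⟨elt H v hh, dvd_of_eq (orderOf_eq_prime_pow (p := p) (n := 1) ?_ ?_).symm⟩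
  · rw [pow_one, elt_pow, elt_eq_one]
    exact fun e => hv e.1
  · rw [pow_succ, pow_one, pow_mul, elt_pow, elt_pow, elt_eq_one, hp, one_pow]
    refine ⟨?_, rfl⟩
    rw [sumPow_apply]
    simp only [one_pow, Finset.sum_const, Finset.card_range]
    exact char_smul K _

theorem sumPow_eq_zero_of_no_fixed (h : V ≃ₗ[K] V) {k : ℕ} (hk : h ^ k = 1)
    (hfix : ∀ v, h v = v → v = 0) : sumPow h k = 0 := by
  refine LinearMap.ext fun v => hfix _ ?_
  rw [sumPow_apply, map_sum]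
  have e : ∀ i : ℕ, h ((h ^ i : V ≃ₗ[K] V) v) = (h ^ (i + 1) : V ≃ₗ[K] V) v := fun i => by
    rw [pow_succ']; rfl
  simp only [e]
  have h1 := Finset.sum_range_succ' (fun i => (h ^ i : V ≃ₗ[K] V) v) k
  rw [Finset.sum_range_succ, hk, pow_zero] at h1
  exact (add_right_cancel h1).symm

theorem sumPow_eq_zero_of_nilpotent [Fact p.Prime] (h : V ≃ₗ[K] V) {e : ℕ} (he : e ≤ p - 1)
    (hn : ((h : V →ₗ[K] V) - 1) ^ e = 0) : sumPow h p = 0 := by
  open Polynomial in
  have key : (∑ i ∈ Finset.range p, (X : K[X]) ^ i) = (X - 1) ^ (p - 1) := by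
    refine mul_right_cancel₀ (show (X - 1 : K[X]) ≠ 0 from X_sub_C_ne_zero (1 : K)) ?_
    rw [geom_sum_mul, ← pow_succ, Nat.sub_add_cancel (Fact.out : p.Prime).one_le, sub_pow_char, one_pow]
  have := congrArg (Polynomial.aeval (h : V →ₗ[K] V)) key
  simp only [map_sum, map_pow, Polynomial.aeval_X, map_sub, map_one] at this
  rw [sumPow, this, show p - 1 = e + (p - 1 - e) by omega, pow_add, hn, zero_mul]

theorem sumPow_two_mul (h : V ≃ₗ[K] V) (m : ℕ) :
    sumPow h (2 * m) = (1 + (h : V →ₗ[K] V)) * sumPow (h ^ 2) m := by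
  induction m with
  | zero => simp [sumPow]
  | succ m ih =>
    simp only [sumPow, coe_pow_eq] at ih ⊢
    rw [mul_add 2 m 1, mul_one, Finset.sum_range_succ, Finset.sum_range_succ, ih,
      Finset.sum_range_succ, mul_add, ← pow_mul, pow_succ' _ (2 * m)]
    noncomm_ring

theorem exists_large (H : Subgroup (V ≃ₗ[K] V)) [Finite V] [Nontrivial V] (N : ℕ) :
    ∃ (G : Type) (_ : Group G) (_ : Fintype G), N < Fintype.card G ∧
      Set.range (orderOf : G → ℕ) = Set.range (orderOf : Semi H → ℕ) := by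
  let i : Multiplicative V →* Semi H := SemidirectProduct.inl
  haveI : i.range.Normal := by
    rw [SemidirectProduct.range_inl_eq_ker_rightHom]; infer_instance
  haveI : Group.IsSolvable (Multiplicative V) := Group.isSolvable_of_comm mul_comm
  have hne : i.range ≠ ⊥ := by
    intro hb
    obtain ⟨v, hv⟩ := exists_ne (0 : V)
    have hm : i (Multiplicative.ofAdd v) ∈ i.range := ⟨_, rfl⟩
    rw [hb, Subgroup.mem_bot] at hm
    exact hv (congrArg (fun z => z.left.toAdd) hm)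
  exact CfsgLib.Recog.exists_large_isospectral i.range hne
    (Group.isSolvable_of_surjective (f := i.rangeRestrict) i.rangeRestrict_surjective) N

end CfsgLib.Recog.LinearSemidirect
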