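import Cfsg.Agent.Lib.Recog.JordanSet

/-!
Marggraff's theorem and its version for groups whose non-trivial normal subgroups are transitive.
-/

set_option autoImplicit false

namespace CfsgLib.Recog.Marggraff

open MulAction
open scoped Pointwise
open CfsgLib.Recog.JordanSet

variable {G Ω : Type*} [Group G] [MulAction G Ω] [Fintype Ω] [DecidableEq Ω]

/-- The stabilizer of a set `A` of `k` points is primitive on the remaining points. -/
theorem isPreprimitive_fixing {Δ A : Finset Ω} (hΔ : IsJordan G (Δ : Set Ω)) (hd : 1 < Δ.card)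
    (hn : 2 * Δ.card < Fintype.card Ω) (hk : 1 ≤ A.card) (hkd : A.card + 1 < Δ.card)
    (htr : IsMultiplyPretransitive G Ω (A.card + 1)) :
    IsPreprimitive ↥(fixingSubgroup G (A : Set Ω))
      ↥(SubMulAction.ofFixingSubgroup G (A : Set Ω)) := by
  classical
  set k := A.card with hkdef
  set n := Fintype.card Ω with hndef
  set d := Δ.card with hddef
  set Y := SubMulAction.ofFixingSubgroup G (A : Set Ω)
  have hmemY : ∀ x, x ∈ Y ↔ x ∉ A := fun x => SubMulAction.mem_ofFixingSubgroup_iff G
  haveI hpre : IsPretransitive ↥(fixingSubgroup G (A : Set Ω)) ↥Y := by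
    rw [← is_one_pretransitive_iff]
    exact SubMulAction.ofFixingSubgroup.isMultiplyPretransitive G (n := k + 1) _
      (by rw [Set.ncard_coe_finset])
  refine { isTrivialBlock_of_isBlock := fun {B} hB => ?_ }
  by_contra htriv
  rw [IsTrivialBlock, not_or] at htriv
  set S : Finset Ω := Finset.univ.filter fun x => ∃ h : x ∈ Y, (⟨x, h⟩ : Y) ∈ B with hSdef
  have hSmem : ∀ y : Y, y.1 ∈ S ↔ y ∈ B := fun y => by
    simp only [hSdef, Finset.mem_filter, Finset.mem_univ, true_and]
    exact ⟨fun ⟨_, h⟩ => h, fun h => ⟨y.2, h⟩⟩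
  have hSY : ∀ x ∈ S, x ∉ A := fun x hx => by
    simp only [hSdef, Finset.mem_filter, Finset.mem_univ, true_and] at hx
    exact (hmemY x).1 hx.1
  have hScard : B.ncard = S.card := by
    rw [← Set.ncard_image_of_injective B Subtype.val_injective, ← Set.ncard_coe_finset]
    congr 1
    ext x
    simp only [Set.mem_image, Finset.mem_coe]
    exact ⟨fun ⟨y, hy, hyx⟩ => hyx ▸ (hSmem y).2 hy, fun hx =>
      ⟨⟨x, (hmemY x).2 (hSY x hx)⟩, (hSmem _).1 hx, rfl⟩⟩
  have hYcard : Nat.card Y + k = n := by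
    have h1 : Nat.card Y = Aᶜ.card := by
      rw [Nat.card_congr (Equiv.subtypeEquivRight fun x =>
        (hmemY x).trans Finset.mem_compl.symm : Y ≃ {x // x ∈ Aᶜ}), Nat.card_eq_fintype_card,
        Fintype.card_coe]
    rw [h1, Finset.card_compl]
    have := Finset.card_le_univ A
    omega
  have hSle : 2 * S.card + k ≤ n := by
    have : ¬ Nat.card Y < B.ncard * 2 := fun h => htriv.2 (hB.eq_univ_of_card_lt h)
    rw [hScard] at this
    omega
  obtain ⟨⟨x, hxY⟩, hxB, ⟨y, hyY⟩, hyB, hxy⟩ := Set.not_subsingleton_iff.1 htriv.1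
  have hxS : x ∈ S := (hSmem ⟨x, hxY⟩).2 hxB
  have hxA : x ∉ A := (hmemY x).1 hxY
  have hyA : y ∉ A := (hmemY y).1 hyY
  -- every translate through `x` avoiding `A` is inside `S` or contains it
  have key : ∀ T ∈ translates G Δ, x ∈ T → Disjoint A T → S ⊆ T ∨ T ⊆ S := by
    intro T hT hxT hdis
    have hJT := isJordan_of_mem_translates hΔ hT
    by_cases hs : S ⊆ T
    · exact Or.inl hs
    obtain ⟨w, hwS, hwT⟩ := Finset.not_subset.1 hs
    refine Or.inr fun u hu => ?_
    obtain ⟨g, hg, hgu⟩ := hJT x hxT u hu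
    have hgA : g ∈ fixingSubgroup G (A : Set Ω) :=
      (mem_fixingSubgroup_iff G).2 fun a ha =>
        hg a fun haT => Finset.disjoint_left.1 hdis ha haT
    set w' : Y := ⟨w, (hmemY w).2 (hSY w hwS)⟩
    have hfix : (⟨g, hgA⟩ : fixingSubgroup G (A : Set Ω)) • w' = w' :=
      Subtype.ext (hg w hwT)
    have hgB := (isBlock_iff_smul_eq_of_mem.1 hB) ((hSmem w').1 hwS)
      (by rw [hfix]; exact (hSmem w').1 hwS)
    have h1 : (⟨g, hgA⟩ : fixingSubgroup G (A : Set Ω)) • (⟨x, hxY⟩ : Y) ∈ B :=
      hgB ▸ Set.smul_mem_smul_set hxB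
    have h2 := (hSmem _).2 h1
    rwa [show ((⟨g, hgA⟩ : fixingSubgroup G (A : Set Ω)) • (⟨x, hxY⟩ : Y) : Y).1 = u from hgu]
      at h2
  have hkn : k + 1 < n := by omega
  have hlarge : ∀ i j, j < i → i ≤ k + 2 → j ≤ 2 → 2 * d + k + 2 < n + i + j →
      modelNum n d i (k + 2 - i) < modelNum n d j (k + 2 - j) := by
    intro i j hji hi hj hlt
    unfold modelNum
    rw [show n - i - (k + 2 - i) = n - (k + 2) by omega,
      show n - j - (k + 2 - j) = n - (k + 2) by omega, if_pos (show j ≤ d by omega)]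
    split_ifs with hid
    · exact choose_lt_choose_of_add_lt (by omega) (by omega) (by omega)
    · exact Nat.choose_pos (by omega)
  by_cases hcase : ∃ T ∈ translates G Δ, x ∈ T ∧ Disjoint A T ∧ ¬ S ⊆ T
  · -- all translates through `x` avoiding `A` lie in `S`
    obtain ⟨T₀, hT₀, hx₀, hdis₀, hns⟩ := hcase
    have hT₀S := (key T₀ hT₀ hx₀ hdis₀).resolve_left hns
    have hlt : d < S.card := by
      rw [hddef, ← card_of_mem_translates hT₀]
      exact Finset.card_lt_card ⟨hT₀S, hns⟩
    have hall : ∀ T ∈ translates G Δ, x ∈ T → Disjoint A T → T ⊆ S := by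
      intro T hT hxT hdis
      refine (key T hT hxT hdis).resolve_left fun hs => ?_
      have := Finset.card_le_card hs
      rw [card_of_mem_translates hT] at this
      omega
    have hzero : ∀ z, z ∉ A → z ∉ S → numTr G Δ {x, z} A = 0 := by
      intro z hzA hzS
      rw [← Nat.le_zero, ← Nat.not_lt, numTr_pos_iff]
      rintro ⟨T, hT, hsub, hdis⟩
      simp only [Finset.insert_subset_iff, Finset.singleton_subset_iff] at hsub
      exact hzS (hall T hT hsub.1 hdis hsub.2)
    have hsd : ∀ z, z ∉ A → z ≠ x → ({x, z} ∪ A) \ ({x, z} : Finset Ω) = A := by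
      intro z hzA hzx
      ext w
      simp only [Finset.mem_sdiff, Finset.mem_union, Finset.mem_insert, Finset.mem_singleton]
      constructor
      · rintro ⟨h1 | h1, h2⟩
        · exact absurd h1 h2
        · exact h1
      · intro hw
        exact ⟨Or.inr hw, by rintro (rfl | rfl) <;> contradiction⟩
    have hXcard : ∀ z, z ∉ A → z ≠ x → (({x, z} : Finset Ω) ∪ A).card = k + 2 := by
      intro z hzA hzx
      rw [Finset.card_union_of_disjoint (by simp [hxA, hzA]), Finset.card_pair (Ne.symm hzx)]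
      omega
    have hpat : ∀ z, z ∉ A → z ∉ S → ∀ P' : Finset Ω, P' ⊆ {x, z} ∪ A → P'.card % 2 = 0 →
        modelNum n d 2 k ≤ modelNum n d P'.card (k + 2 - P'.card) ∧
        (modelNum n d 2 k = modelNum n d P'.card (k + 2 - P'.card) →
          numTr G Δ P' (({x, z} ∪ A) \ P') = 0) := by
      intro z hzA hzS P' hP' hpar
      have hzx : z ≠ x := fun h => hzS (h ▸ hxS)
      have := model_le_of_numTr_eq_zero Δ ({x, z} ∪ A) {x, z} P' htr hkn (hXcard z hzA hzx)
        Finset.subset_union_left hP' (by rw [Finset.card_pair (Ne.symm hzx), hpar])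
        (by rw [hsd z hzA hzx]; exact hzero z hzA hzS)
      rwa [hXcard z hzA hzx, Finset.card_pair (Ne.symm hzx)] at this
    obtain ⟨z, hz⟩ : (Aᶜ \ S).Nonempty := by
      rw [← Finset.card_pos]
      have h1 := Finset.le_card_sdiff S Aᶜ
      rw [Finset.card_compl] at h1
      omega
    simp only [Finset.mem_sdiff, Finset.mem_compl] at hz
    rcases Nat.lt_or_ge k 2 with hk1 | hk2
    · -- `k = 1`
      obtain ⟨a, ha⟩ := Finset.card_eq_one.1 (show A.card = 1 by omega)
      have hxa : x ≠ a := fun h => hxA (by rw [ha, h]; simp)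
      have hout : ∀ T ∈ translates G Δ, x ∈ T → a ∈ T → insert x (insert a (Aᶜ \ S)) ⊆ T := by
        intro T hT hxT haT w hw
        simp only [Finset.mem_insert, Finset.mem_sdiff, Finset.mem_compl] at hw
        rcases hw with rfl | rfl | ⟨hwA, hwS⟩
        · exact hxT
        · exact haT
        · by_contra hwT
          have h0 := (hpat w hwA hwS {x, a} (by simp [Finset.insert_subset_iff, ha])
            (by rw [Finset.card_pair hxa])).2 (by rw [Finset.card_pair hxa]; congr 1)
          have hmem : 0 < numTr G Δ {x, a} (({x, w} ∪ A) \ {x, a}) := by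
            refine numTr_pos_iff.2 ⟨T, hT, ?_, ?_⟩
            · simp [Finset.insert_subset_iff, hxT, haT]
            · rw [Finset.disjoint_left]
              intro v hv
              simp only [ha, Finset.mem_sdiff, Finset.mem_union, Finset.mem_insert,
                Finset.mem_singleton, not_or] at hv
              rcases hv with ⟨(hv1 | hv1) | hv1, hv2, hv3⟩
              · exact absurd hv1 hv2
              · exact hv1 ▸ hwT
              · exact absurd hv1 hv3
          omega
      have hpos : 0 < numTr G Δ {x, a} ∅ := by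
        have h := numTr_mul_choose Δ htr hkn.le ∅ {x, a} (by simp)
          (by rw [Finset.card_pair hxa]; simp; omega)
        refine Nat.pos_of_ne_zero fun h0 => ?_
        rw [h0, zero_mul, Finset.card_pair hxa] at h
        rcases mul_eq_zero.1 h.symm with h1 | h1
        · exact (Finset.card_pos.2 ⟨Δ, mem_translates.2 ⟨1, one_smul _ _⟩⟩).ne' h1
        · simp only [modelNum, Finset.card_empty, Nat.sub_zero] at h1
          rw [if_pos (show 2 ≤ d by omega)] at h1
          exact (Nat.choose_pos (show d - 2 ≤ n - 2 by omega)).ne' h1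
      obtain ⟨T, hT, hsub, -⟩ := numTr_pos_iff.1 hpos
      simp only [Finset.insert_subset_iff, Finset.singleton_subset_iff] at hsub
      have h1 := Finset.card_le_card (hout T hT hsub.1 hsub.2)
      rw [card_of_mem_translates hT, Finset.card_insert_of_notMem (by simp [hxa, hxS]),
        Finset.card_insert_of_notMem (by simp [ha])] at h1
      have h2 := Finset.le_card_sdiff S Aᶜ
      rw [Finset.card_compl] at h2
      omega
    · obtain ⟨i, hi, hik, hi2, hpar⟩ :
          ∃ i, i ≤ k + 2 ∧ k + 1 ≤ i ∧ 2 < i ∧ i % 2 = 0 := by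
        rcases Nat.mod_two_eq_zero_or_one k with h | h
        · exact ⟨k + 2, le_rfl, by omega, by omega, by omega⟩
        · exact ⟨k + 1, by omega, le_rfl, by omega, by omega⟩
      obtain ⟨P', hP', hP'c⟩ := Finset.exists_subset_card_eq
        (s := ({x, z} ∪ A : Finset Ω)) (n := i)
        (by rw [hXcard z hz.1 (fun h => hz.2 (h ▸ hxS))]; exact hi)
      have h1 := (hpat z hz.1 hz.2 P' hP' (by omega)).1
      rw [hP'c] at h1
      have h2 := hlarge i 2 hi2 hi le_rfl (by omega)
      rw [show k + 2 - 2 = k by omega] at h2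
      omega
  · -- every translate through `x` avoiding `A` contains `y`
    push Not at hcase
    have hxy' : x ≠ y := fun h => hxy (Subtype.ext h)
    have hyS : y ∈ S := (hSmem ⟨y, hyY⟩).2 hyB
    have hzero : numTr G Δ {x} (insert y A) = 0 := by
      rw [← Nat.le_zero, ← Nat.not_lt, numTr_pos_iff]
      rintro ⟨T, hT, hsub, hdis⟩
      rw [Finset.disjoint_insert_left] at hdis
      exact hdis.1 (hcase T hT (Finset.singleton_subset_iff.1 hsub) hdis.2 hyS)
    set X : Finset Ω := insert x (insert y A)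
    have hXc : X.card = k + 2 := by
      rw [Finset.card_insert_of_notMem (by simp [hxy', hxA]), Finset.card_insert_of_notMem hyA]
    obtain ⟨i, hi, hik, hi2, hpar⟩ :
        ∃ i, i ≤ k + 2 ∧ k + 1 ≤ i ∧ 1 < i ∧ i % 2 = 1 := by
      rcases Nat.mod_two_eq_zero_or_one k with h | h
      · exact ⟨k + 1, by omega, le_rfl, by omega, by omega⟩
      · exact ⟨k + 2, le_rfl, by omega, by omega, by omega⟩
    obtain ⟨P', hP', hP'c⟩ := Finset.exists_subset_card_eq (s := X) (n := i) (by omega)
    have hXx : X \ {x} = insert y A := by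
      rw [Finset.sdiff_singleton_eq_erase, Finset.erase_insert (by simp [hxy', hxA])]
    have h1 := (model_le_of_numTr_eq_zero Δ X {x} P' htr hkn hXc (by simp [X]) hP'
      (by rw [Finset.card_singleton, hP'c]; omega) (by rw [hXx]; exact hzero)).1
    rw [hXc, hP'c, Finset.card_singleton, ← hndef, ← hddef] at h1
    have h2 := hlarge i 1 hi2 hi (by omega) (by omega)
    omega

/-- Marggraff: the group is `l`-fold transitive for every `l` up to the size of the Jordan set. -/
theorem isMultiplyPretransitive_le {Δ : Finset Ω} (hprim : IsPreprimitive G Ω)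
    (hΔ : IsJordan G (Δ : Set Ω)) (hd : 1 < Δ.card) (hn : 2 * Δ.card < Fintype.card Ω) :
    ∀ k, k + 1 ≤ Δ.card → IsMultiplyPretransitive G Ω (k + 1) := by
  classical
  intro k
  induction k using Nat.strong_induction_on with
  | _ k ih =>
    intro hk
    rcases k with _ | k
    · exact is_one_pretransitive_iff.2 hprim.toIsPretransitive
    have htr := ih k (by omega) (by omega)
    rw [isMultiplyPretransitive_iff]
    intro e f
    -- move the first `k` points
    obtain ⟨g₁, hg₁⟩ := (isMultiplyPretransitive_iff.1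
      (isMultiplyPretransitive_of_le (α := Ω) (G := G) (m := k) (n := k + 1) (by omega)
        (by rw [Nat.card_eq_fintype_card]; omega)))
      ((Fin.castLEEmb (by omega : k ≤ k + 2)).trans e)
      ((Fin.castLEEmb (by omega : k ≤ k + 2)).trans f)
    set e' := g₁ • e
    have he' : ∀ i : Fin k, e' (Fin.castLE (by omega) i) = f (Fin.castLE (by omega) i) := fun i =>
      DFunLike.congr_fun hg₁ i
    set A : Finset Ω := Finset.univ.map ((Fin.castLEEmb (by omega : k ≤ k + 2)).trans f)
    have hA : A.card = k := by simp [A]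
    have hprimA : IsPreprimitive ↥(fixingSubgroup G (A : Set Ω))
        ↥(SubMulAction.ofFixingSubgroup G (A : Set Ω)) := by
      rcases Nat.eq_zero_or_pos k with h0 | h0
      · have hA0 : A = ∅ := Finset.card_eq_zero.1 (hA.trans h0)
        rw [hA0, Finset.coe_empty]
        refine (isPreprimitive_congr (φ := Subgroup.subtype _)
          (f := SubMulAction.ofFixingSubgroup_equivariantMap G (∅ : Set Ω)) ?_ ?_).2 hprim
        · exact fun g => ⟨⟨g, by simp [mem_fixingSubgroup_iff]⟩, rfl⟩
        · exact SubMulAction.ofFixingSubgroupEmpty_equivariantMap_bijective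
      · exact isPreprimitive_fixing hΔ hd hn (by omega) (by omega) (hA.symm ▸ htr)
    set Y := SubMulAction.ofFixingSubgroup G (A : Set Ω)
    have hmemY : ∀ x, x ∈ Y ↔ x ∉ A := fun x => SubMulAction.mem_ofFixingSubgroup_iff G
    -- a translate avoiding `A`
    obtain ⟨T, hT, -, hdis⟩ : ∃ T ∈ translates G Δ, (∅ : Finset Ω) ⊆ T ∧ Disjoint A T := by
      rw [← numTr_pos_iff]
      have h := numTr_mul_choose Δ htr (by omega) A ∅ (by simp) (by simp [hA])
      refine Nat.pos_of_ne_zero fun h0 => ?_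
      rw [h0, zero_mul] at h
      rcases mul_eq_zero.1 h.symm with h1 | h1
      · exact (Finset.card_pos.2 ⟨Δ, mem_translates.2 ⟨1, one_smul _ _⟩⟩).ne' h1
      · simp only [modelNum, Finset.card_empty, hA, Nat.sub_zero, Nat.zero_le, if_true] at h1
        exact (Nat.choose_pos (show Δ.card ≤ Fintype.card Ω - k by omega)).ne' h1
    set s : Set Y := {z | (z : Ω) ∉ T}
    have hs : s.ncard = (Fintype.card Ω - k - Δ.card - 1) + 1 := by
      rw [← Set.ncard_image_of_injective s Subtype.val_injective,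
        show Subtype.val '' s = ↑((A ∪ T)ᶜ) by
          ext w
          simp only [Set.mem_image, Finset.coe_compl, Set.mem_compl_iff, Finset.mem_coe,
            Finset.mem_union, not_or]
          exact ⟨fun ⟨z, hz, hzw⟩ => hzw ▸ ⟨(hmemY _).1 z.2, hz⟩,
            fun ⟨h1, h2⟩ => ⟨⟨w, (hmemY w).2 h1⟩, h2, rfl⟩⟩,
        Set.ncard_coe_finset, Finset.card_compl, Finset.card_union_of_disjoint hdis, hA,
        card_of_mem_translates hT]
      omega
    have hYcard : Nat.card Y = Fintype.card Ω - k := by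
      rw [Nat.card_congr (Equiv.subtypeEquivRight fun x =>
        (hmemY x).trans Finset.mem_compl.symm : Y ≃ {x // x ∈ Aᶜ}), Nat.card_eq_fintype_card,
        Fintype.card_coe, Finset.card_compl, hA]
    have hJT := isJordan_of_mem_translates hΔ hT
    have h2 : IsMultiplyPretransitive ↥(fixingSubgroup G (A : Set Ω)) ↥Y 2 := by
      refine hprimA.is_two_pretransitive hs (by omega) ⟨fun u v => ?_⟩
      obtain ⟨⟨u, hu⟩, hu'⟩ := u
      obtain ⟨⟨v, hv⟩, hv'⟩ := v
      have huT : u ∈ T := by
        by_contra h; exact ((SubMulAction.mem_ofFixingSubgroup_iff _).1 hu') h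
      have hvT : v ∈ T := by
        by_contra h; exact ((SubMulAction.mem_ofFixingSubgroup_iff _).1 hv') h
      obtain ⟨g, hg, hguv⟩ := hJT u huT v hvT
      have hgA : g ∈ fixingSubgroup G (A : Set Ω) :=
        (mem_fixingSubgroup_iff G).2 fun a ha =>
          hg a fun haT => Finset.disjoint_left.1 hdis ha haT
      exact ⟨⟨⟨g, hgA⟩, (mem_fixingSubgroup_iff _).2 fun z hz => Subtype.ext (hg z hz)⟩,
        Subtype.ext (Subtype.ext hguv)⟩
    -- move the last two points
    set i₁ : Fin (k + 2) := ⟨k, by omega⟩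
    set i₂ : Fin (k + 2) := ⟨k + 1, by omega⟩
    have hnotA : ∀ e₀ : Fin (k + 2) ↪ Ω,
        (∀ i : Fin k, e₀ (Fin.castLE (by omega) i) = f (Fin.castLE (by omega) i)) →
        ∀ j : Fin (k + 2), k ≤ (j : ℕ) → e₀ j ∈ Y := by
      intro e₀ he₀ j hj
      rw [hmemY]
      simp only [A, Finset.mem_map, Finset.mem_univ, true_and, Function.Embedding.trans_apply,
        Fin.castLEEmb_apply, not_exists]
      intro i hi
      rw [← he₀ i] at hi
      have := e₀.injective hi
      rw [← this] at hj
      simp at hj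
      have := i.isLt
      omega
    have h2' : ∀ a b c d : Y, a ≠ b → c ≠ d → ∃ g : fixingSubgroup G (A : Set Ω),
        g • a = c ∧ g • b = d := fun a b c d => is_two_pretransitive_iff.1 h2
    obtain ⟨g₂, hg₂, hg₂'⟩ := h2'
      (⟨e' i₁, hnotA e' he' i₁ le_rfl⟩ : Y) (⟨e' i₂, hnotA e' he' i₂ (Nat.le_succ k)⟩ : Y)
      (⟨f i₁, hnotA f (fun _ => rfl) i₁ le_rfl⟩ : Y)
      (⟨f i₂, hnotA f (fun _ => rfl) i₂ (Nat.le_succ k)⟩ : Y)
      (by
        intro h
        have := e'.injective (congrArg Subtype.val h)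
        simp [i₁, i₂] at this)
      (by
        intro h
        have := f.injective (congrArg Subtype.val h)
        simp [i₁, i₂] at this)
    refine ⟨g₂ * g₁, ?_⟩
    ext i
    rw [mul_smul]
    change (g₂ : G) • e' i = f i
    by_cases hik : (i : ℕ) < k
    · rw [show i = Fin.castLE (by omega) (⟨i, hik⟩ : Fin k) from rfl, he']
      exact (mem_fixingSubgroup_iff G).1 g₂.2 _ (by
        simp [A]; exact ⟨⟨i, hik⟩, rfl⟩)
    · rcases (show i = i₁ ∨ i = i₂ by simp [i₁, i₂, Fin.ext_iff]; omega) with rfl | rfl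
      · exact congrArg Subtype.val hg₂
      · exact congrArg Subtype.val hg₂'

/-- Two permutations whose supports meet in one point have a 3-cycle as commutator. -/
theorem isThreeCycle_commutator (σ τ : Equiv.Perm Ω) (x : Ω) (hσ : σ x ≠ x) (hτ : τ x ≠ x)
    (h : ∀ z, z ≠ x → σ z = z ∨ τ z = z) : (σ * τ * σ⁻¹ * τ⁻¹).IsThreeCycle := by
  have hσi : ∀ z, σ z = z → σ⁻¹ z = z := fun z hz => Equiv.Perm.inv_eq_iff_eq.2 hz.symm
  have hτi : ∀ z, τ z = z → τ⁻¹ z = z := fun z hz => Equiv.Perm.inv_eq_iff_eq.2 hz.symm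
  have mσ : ∀ z, σ z ≠ z → σ (σ z) ≠ σ z := fun z hz h' => hz (σ.injective h')
  have mτ : ∀ z, τ z ≠ z → τ (τ z) ≠ τ z := fun z hz h' => hz (τ.injective h')
  have hσx : τ (σ x) = σ x := (h _ hσ).resolve_left (mσ x hσ)
  have hτx : σ (τ x) = τ x := (h _ hτ).resolve_right (mτ x hτ)
  have hne : σ x ≠ τ x := fun he => mτ x hτ (by rw [← he]; exact hσx)
  have ha : σ⁻¹ x ≠ x := fun he => hσ (Equiv.Perm.inv_eq_iff_eq.1 he).symm
  have hb : τ⁻¹ x ≠ x := fun he => hτ (Equiv.Perm.inv_eq_iff_eq.1 he).symm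
  have hax : τ (σ⁻¹ x) = σ⁻¹ x :=
    (h _ ha).resolve_left fun he => ha (by simpa using he.symm)
  have hbx : σ (τ⁻¹ x) = τ⁻¹ x :=
    (h _ hb).resolve_right fun he => hb (by simpa using he.symm)
  set c := σ * τ * σ⁻¹ * τ⁻¹ with hc
  have e1 : σ (σ⁻¹ x) = x := by simp
  have e2 : τ (τ⁻¹ x) = x := by simp
  have e3 : τ⁻¹ (τ x) = x := by simp
  have e4 : σ⁻¹ (σ x) = x := by simp
  have h1 : c (τ x) = x := by
    rw [hc, Equiv.Perm.mul_apply, Equiv.Perm.mul_apply, Equiv.Perm.mul_apply, e3, hax, e1]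
  have h2 : c x = σ x := by
    rw [hc, Equiv.Perm.mul_apply, Equiv.Perm.mul_apply, Equiv.Perm.mul_apply, hσi _ hbx, e2]
  have h3 : c (σ x) = τ x := by
    rw [hc, Equiv.Perm.mul_apply, Equiv.Perm.mul_apply, Equiv.Perm.mul_apply, hτi _ hσx, e4, hτx]
  have h4 : ∀ z, z ≠ x → z ≠ σ x → z ≠ τ x → c z = z := by
    intro z hz hz1 hz2
    simp only [hc, Equiv.Perm.mul_apply]
    rcases em (τ z = z) with ht | ht
    · rw [hτi z ht]
      rcases em (σ z = z) with hs | hs
      · rw [hσi z hs, ht, hs]
      · have hw : σ⁻¹ z ≠ x := fun he => hz1 (Equiv.Perm.inv_eq_iff_eq.1 he)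
        rw [(h _ hw).resolve_left fun he => hs (by
          have : z = σ⁻¹ z := by simpa using he
          exact Equiv.Perm.inv_eq_iff_eq.1 this.symm |>.symm)]
        simp
    · have hs : σ z = z := (h z hz).resolve_right ht
      have hw : τ⁻¹ z ≠ x := fun he => hz2 (Equiv.Perm.inv_eq_iff_eq.1 he)
      have hsw : σ (τ⁻¹ z) = τ⁻¹ z := (h _ hw).resolve_right fun he => ht (by
        have : z = τ⁻¹ z := by simpa using he
        exact Equiv.Perm.inv_eq_iff_eq.1 this.symm |>.symm)
      rw [hσi _ hsw]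
      simp [hs]
  rw [← card_support_eq_three_iff]
  have : c.support = {x, σ x, τ x} := by
    ext z
    simp only [Equiv.Perm.mem_support, Finset.mem_insert, Finset.mem_singleton]
    constructor
    · intro hz
      by_contra hn
      push Not at hn
      exact hz (h4 z hn.1 hn.2.1 hn.2.2)
    · rintro (rfl | rfl | rfl)
      · rw [h2]; exact hσ
      · rw [h3]; exact hne.symm
      · rw [h1]; exact Ne.symm hτ
  rw [this, Finset.card_insert_of_notMem (by simp [Ne.symm hσ, Ne.symm hτ]),
    Finset.card_pair hne]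

/-- Marggraff's theorem. -/
theorem alternatingGroup_le_range {Δ : Finset Ω} (hprim : IsPreprimitive G Ω)
    (hΔ : IsJordan G (Δ : Set Ω)) (hd : 1 < Δ.card) (hn : 2 * Δ.card < Fintype.card Ω) :
    alternatingGroup Ω ≤ (MulAction.toPermHom G Ω).range := by
  obtain ⟨l, hl⟩ : ∃ l, Δ.card = l + 1 := ⟨Δ.card - 1, by omega⟩
  have htr := isMultiplyPretransitive_le hprim hΔ hd hn l (by omega)
  obtain ⟨x, hx, y, hy, hxy⟩ := Finset.one_lt_card.1 hd
  obtain ⟨T, hT, hxT, hdis⟩ :
      ∃ T ∈ translates G Δ, {x} ⊆ T ∧ Disjoint (Δ.erase x) T := by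
    rw [← numTr_pos_iff]
    have h := numTr_mul_choose Δ htr (by omega) (Δ.erase x) {x} (by simp)
      (by rw [Finset.card_erase_of_mem hx]; simp; omega)
    refine Nat.pos_of_ne_zero fun h0 => ?_
    rw [h0, zero_mul] at h
    rcases mul_eq_zero.1 h.symm with h1 | h1
    · exact (Finset.card_pos.2 ⟨Δ, mem_translates.2 ⟨1, one_smul _ _⟩⟩).ne' h1
    · simp only [modelNum, Finset.card_singleton, Finset.card_erase_of_mem hx] at h1
      rw [if_pos (show 1 ≤ Δ.card by omega)] at h1
      exact (Nat.choose_pos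
        (show Δ.card - 1 ≤ Fintype.card Ω - 1 - (Δ.card - 1) by omega)).ne' h1
  rw [Finset.singleton_subset_iff] at hxT
  obtain ⟨g, hg, hgx⟩ := hΔ x hx y hy
  obtain ⟨w, hw, hwx⟩ := Finset.exists_mem_ne (s := T) (by rw [card_of_mem_translates hT]; omega) x
  obtain ⟨g', hg', hgx'⟩ := isJordan_of_mem_translates hΔ hT x hxT w hw
  set φ := MulAction.toPermHom G Ω
  have h3 : (φ g * φ g' * (φ g)⁻¹ * (φ g')⁻¹).IsThreeCycle := by
    refine isThreeCycle_commutator _ _ x ?_ ?_ fun z hz => ?_
    · change g • x ≠ x; rw [hgx]; exact Ne.symm hxy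
    · change g' • x ≠ x; rw [hgx']; exact hwx
    · by_cases hzΔ : z ∈ Δ
      · exact Or.inr (hg' z fun hzT =>
          Finset.disjoint_left.1 hdis (Finset.mem_erase.2 ⟨hz, hzΔ⟩) hzT)
      · exact Or.inl (hg z (by simpa using hzΔ))
  refine Equiv.Perm.alternatingGroup_le_of_isPreprimitive_of_isThreeCycle_mem ?_ h3
    ⟨g * g' * g⁻¹ * g'⁻¹, by simp only [map_mul, map_inv, φ]⟩
  let e : Ω →ₑ[φ.rangeRestrict] Ω := ⟨id, fun _ _ => rfl⟩
  haveI := hprim
  exact IsPreprimitive.of_surjective (f := e) Function.surjective_id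

end CfsgLib.Recog.Marggraff
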