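import Cfsg.Agent.Lib.Recog.TorusWitness
import Cfsg.Agent.Lib.Recog.EightDimOrders
import Cfsg.Prelude.Def_Classical

/-!
Every bound of `EightDimOrders.bounds` is realised in the orthogonal group of minus type in
dimension eight.
-/

set_option autoImplicit false

namespace CfsgLib.Recog.MinusEightWitness

open IsometryBlocks TorusWitness EightDimOrders

set_option linter.unusedSectionVars false

variable {F : Type*} [Field F] [Fintype F] [CharP F 2] {a b : F}

/-- The index type. -/
abbrev Idx : Type := (Fin 3 ⊕ Fin 3) ⊕ Fin 2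

theorem qTop_equiv : QEq (qAdd (qP F 3) (qX a b)) (Cfsg.quadFormMinus 3 F a b) := by
  refine ⟨{ toFun := fun v => Sum.elim (Sum.elim v.1.1 v.1.2) ![v.2.1, v.2.2]
            invFun := fun w => ((fun i => w (.inl (.inl i)), fun i => w (.inl (.inr i))),
              (w (.inr 0), w (.inr 1)))
            map_add' := fun x y => by ext ((i | i) | i) <;> (try fin_cases i) <;> simp
            map_smul' := fun c x => by ext ((i | i) | i) <;> (try fin_cases i) <;> simp
            left_inv := fun v => by simp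
            right_inv := fun w => by ext ((i | i) | i) <;> (try fin_cases i) <;> simp }, fun v => ?_⟩
  simp [Cfsg.quadFormMinus, qAdd, qP, qX, dotProduct]

theorem merge (k l : ℕ) : QEq (qAdd (qP F k) (qP F l)) (qP F (k + l)) := by
  refine ⟨{ toFun := fun v => (Fin.append v.1.1 v.2.1, Fin.append v.1.2 v.2.2)
            invFun := fun w => ((fun i => w.1 (Fin.castAdd l i), fun i => w.2 (Fin.castAdd l i)),
              (fun i => w.1 (Fin.natAdd k i), fun i => w.2 (Fin.natAdd k i)))
            map_add' := fun x y => by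
              ext i <;> induction i using Fin.addCases <;> simp
            map_smul' := fun c x => by
              ext i <;> induction i using Fin.addCases <;> simp
            left_inv := fun v => by simp
            right_inv := fun w => by ext i <;> induction i using Fin.addCases <;> simp }, fun v => ?_⟩
  simp [qP, qAdd, dotProduct, Fin.sum_univ_add]

theorem plane : QEq (qX (1 : F) 0) (qP F 1) := by
  refine ⟨{ toFun := fun z => ((fun _ => z.1), fun _ => z.1 + z.2)
            invFun := fun w => (w.1 0, w.2 0 - w.1 0)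
            map_add' := fun x y => by ext i <;> simp; ring
            map_smul' := fun c x => by ext i <;> simp; ring
            left_inv := fun z => by simp
            right_inv := fun w => by
              ext i <;> rw [Subsingleton.elim i 0] <;> simp }, fun z => ?_⟩
  simp [qP, qX, dotProduct]
  ring

theorem two_minus (ha : a ≠ 0) : QEq (qP F 2) (qAdd (qX a b) (qX a b)) := by
  have h2 := CharTwo.two_eq_zero (R := F)
  refine ⟨{ toFun := fun v => ((v.1 0 + v.2 0 * (b / a ^ 2), v.1 1 + v.2 1 / a ^ 2 + v.2 0 / a),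
              (v.1 0 + v.2 0 * (b / a ^ 2) + v.2 1 / a, v.1 1 + v.2 1 / a ^ 2))
            invFun := fun w => (![w.1.1 + a * (w.1.2 + w.2.2) * (b / a ^ 2),
              w.2.2 + a * (w.1.1 + w.2.1) / a ^ 2], ![a * (w.1.2 + w.2.2), a * (w.1.1 + w.2.1)])
            map_add' := fun x y => by ext <;> simp <;> ring
            map_smul' := fun c x => by ext <;> simp <;> ring
            left_inv := fun v => ?_
            right_inv := fun w => ?_ }, fun v => ?_⟩
  · refine Prod.ext (funext fun i => ?_) (funext fun i => ?_) <;> fin_cases i <;>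
      simp <;> field_simp
    · linear_combination (a * b * v.2 0 + b * (a ^ 2 * v.1 1 + v.2 1)) * h2
    · linear_combination (a * v.2 1 + a ^ 2 * v.1 0 + b * v.2 0) * h2
    · linear_combination (a ^ 2 * v.1 1 + v.2 1) * h2
    · linear_combination (a ^ 2 * v.1 0 + v.2 0 * b) * h2
  · ext <;> simp <;> field_simp
    · linear_combination ((w.1.2 + w.2.2) * b) * h2
    · linear_combination (a * w.2.2 + w.1.1 + w.2.1) * h2
    · linear_combination (a * w.1.1 + (w.1.2 + w.2.2) * b) * h2
    · linear_combination (w.1.1 + w.2.1) * h2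
  · simp only [LinearEquiv.coe_mk, LinearMap.coe_mk, AddHom.coe_mk, qAdd, qX, qP, dotProduct,
      Fin.sum_univ_two]
    field_simp
    linear_combination ((v.1 0 * a ^ 2 + v.2 0 * b) ^ 2 +
      a * (v.1 0 * a ^ 2 + v.2 0 * b) * (a ^ 2 * v.1 1 + v.2 1) +
      b * (a ^ 2 * v.1 1 + v.2 1) ^ 2 + a * b * (a ^ 2 * v.1 1 + v.2 1) * v.2 0 +
      a * (v.1 0 * a ^ 2 + v.2 0 * b) * v.2 1 + a ^ 2 * (b * v.2 0 ^ 2 + v.2 1 ^ 2)) * h2

/-- Orders in the isometry group and in its extension by the natural module. -/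
def Good (Q : (Idx → F) → F) (e : ℕ × ℕ) : Prop :=
  HasElt Q (2 ^ e.1 * e.2) ∧ (e.1 = 0 ∨ HasOddDbl Q e.2 (2 ^ (e.1 - 1)))

set_option linter.unusedVariables false in
theorem good_combine {V W : Type*} [AddCommGroup V] [Module F V] [AddCommGroup W] [Module F W]
    [FiniteDimensional F V] [FiniteDimensional F W] {Q : V → F} {R : W → F}
    {T : (Idx → F) → F} {b M : ℕ} (hV : Even (Module.finrank F V)) (hb : 1 ≤ b) (hM : Odd M)
    (hQ : HasElt Q M) (hR : HasElt R (2 ^ b)) (hR' : HasDbl R (2 ^ (b - 1)))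
    (he : QEq (qAdd Q R) T) : Good T (b, M) := by
  refine ⟨?_, Or.inr ((HasOddDbl.of_parts CharTwo.two_eq_zero hV hM hQ hR').congr he)⟩
  change HasElt T (2 ^ b * M)
  rw [Nat.mul_comm]
  exact (hQ.prod hR (Nat.Coprime.pow_right _ (Nat.coprime_two_right.2 hM))).congr he

theorem good_of_mem (han : ∀ z, qX a b z = 0 → z = 0) {e : ℕ × ℕ}
    (he : e ∈ bounds (Fintype.card F)) : Good (Cfsg.quadFormMinus 3 F a b) e := by
  have hq : 2 ≤ Fintype.card F := Fintype.one_lt_card
  set q := Fintype.card F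
  have hev : Even q := even_card
  have ha : a ≠ 0 := by
    intro ha
    obtain ⟨s, hs⟩ := FiniteField.isSquare_of_char_two (ringChar.eq_iff.2 inferInstance) b
    have := han (s, 1) (by
      simp only [qX, ha, hs]
      linear_combination s * s * CharTwo.two_eq_zero (R := F))
    exact one_ne_zero (congrArg Prod.snd this)
  have hodd := (bounds_spec hq hev he).2
  have rP := fun k => QEq.refl (qP F k)
  have rX := QEq.refl (qX a b)
  have hX0 : QEq (qAdd (qP F 0) (qX a b)) (qX a b) :=
    ⟨{ toFun := fun v => v.2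
       invFun := fun z => (0, z)
       map_add' := fun _ _ => rfl
       map_smul' := fun _ _ => rfl
       left_inv := fun v => Prod.ext (Prod.ext (Subsingleton.elim _ _) (Subsingleton.elim _ _)) rfl
       right_inv := fun _ => rfl }, fun v => by simp [qAdd, qP, dotProduct]⟩
  have hm1 : HasElt (qX a b) (q + 1) := by
    simpa using (hasElt_minus han 0).congr hX0
  have hm2 : HasElt (qAdd (qP F 1) (qX a b)) (q ^ 2 + 1) := hasElt_minus han 1
  have hm3 : HasElt (qAdd (qP F 2) (qX a b)) (q ^ 3 + 1) := hasElt_minus han 2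
  have hp1 : HasElt (qP F 1) (q - 1) := by simpa using hasElt_plus (F := F) (k := 1) le_rfl
  have hp2 : HasElt (qP F 2) (q ^ 2 - 1) := hasElt_plus (by norm_num)
  have hp3 : HasElt (qP F 3) (q ^ 3 - 1) := hasElt_plus (by norm_num)
  have hadd : ∀ k, 1 ≤ k → Odd (q ^ k + 1) := fun k hk =>
    (hev.pow_of_ne_zero (by omega)).add_one
  have hsub : ∀ k, 1 ≤ k → Odd (q ^ k - 1) := fun k hk =>
    Nat.Even.sub_odd (Nat.one_le_pow _ _ (by omega)) (hev.pow_of_ne_zero (by omega)) odd_one
  have hcop : ∀ k, 1 ≤ k → Nat.Coprime (q ^ k + 1) (q ^ k - 1) := by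
    intro k hk
    have h1 : 1 ≤ q ^ k := Nat.one_le_pow _ _ (by omega)
    rw [show q ^ k + 1 = q ^ k - 1 + 2 by omega, Nat.coprime_self_add_left]
    exact Nat.coprime_two_left.2 (hsub k hk)
  have hd1 : q - 1 ∣ q ^ 2 - 1 := by simpa using Nat.sub_dvd_pow_sub_pow q 1 2
  have hd2 : q + 1 ∣ q ^ 2 - 1 := ⟨q - 1, by simpa using Nat.sq_sub_sq q 1⟩
  have hd3 : q - 1 ∣ q ^ 3 - 1 := by simpa using Nat.sub_dvd_pow_sub_pow q 1 3
  have hd4 : q + 1 ∣ q ^ 3 + 1 := by
    simpa using Odd.nat_add_dvd_pow_add_pow q 1 (show Odd 3 by decide)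
  have top := qTop_equiv (F := F) (a := a) (b := b)
  -- `P ⊕ X ⊕ P` and `P ⊕ (P ⊕ X)` are the whole space
  have eMP : ∀ k l, k + l = 3 → QEq (qAdd (qAdd (qP F k) (qX a b)) (qP F l))
      (Cfsg.quadFormMinus 3 F a b) := fun k l hkl =>
    (qAdd_comm _ _).trans ((qAdd_assoc _ _ _).symm.trans
      ((((merge l k).trans (by rw [show l + k = 3 by omega]; exact rP 3)).add rX).trans top))
  have ePM : ∀ k l, k + l = 3 → QEq (qAdd (qP F k) (qAdd (qP F l) (qX a b)))
      (Cfsg.quadFormMinus 3 F a b) := fun k l hkl =>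
    (qAdd_assoc _ _ _).symm.trans
      ((((merge k l).trans (by rw [hkl]; exact rP 3)).add rX).trans top)
  have eXP : QEq (qAdd (qX a b) (qP F 3)) (Cfsg.quadFormMinus 3 F a b) :=
    (qAdd_comm _ _).trans top
  have e2P : QEq (qAdd (qP F 1) (qX (1 : F) 0)) (qP F 2) := ((rP 1).add plane).trans (merge 1 1)
  have e3P : QEq (qAdd (qP F 2) (qX (1 : F) 0)) (qP F 3) := ((rP 2).add plane).trans (merge 2 1)
  have hu1 : HasElt (qP F 1) 2 := (hasElt_two_X one_ne_zero).congr plane
  have hd1' : HasDbl (qP F 1) 1 := by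
    refine ⟨1, (fun _ => 1, 0), fun _ => rfl, orderOf_one, ?_, ?_⟩
    · rw [fixed_one, finrank_top, Module.finrank_prod, Module.finrank_fintype_fun_eq_card]
      simp
    · simp only [Finset.sum_range_one, pow_zero]
      intro h
      exact one_ne_zero (congrFun (congrArg Prod.fst h) 0)
  simp only [bounds, List.mem_cons, List.not_mem_nil, or_false] at he
  rcases he with rfl | rfl | rfl | rfl | rfl | rfl | rfl | rfl | rfl | rfl | rfl | rfl
  · refine ⟨?_, Or.inl rfl⟩
    rw [pow_zero, one_mul]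
    exact (hasElt_minus han 3).congr top
  · refine ⟨?_, Or.inl rfl⟩
    have h := (hm2.prod hp2 (hcop 2 (by norm_num))).congr (eMP 1 2 rfl)
    rw [pow_zero, one_mul]
    have e : q ^ 4 - 1 = (q ^ 2 + 1) * (q ^ 2 - 1) := by
      have h := Nat.sq_sub_sq (q ^ 2) 1
      rwa [one_pow, ← pow_mul] at h
    change HasElt _ (q ^ 4 - 1)
    rw [e]
    exact h
  · refine ⟨?_, Or.inl rfl⟩
    rw [pow_zero, one_mul]
    exact (hm3.prod hp1 ((hcop 3 (by norm_num)).coprime_dvd_right hd3)).congr (eMP 2 1 rfl)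
  · refine ⟨?_, Or.inl rfl⟩
    rw [pow_zero, one_mul]
    exact (hp3.prod hm1 ((hcop 3 (by norm_num)).symm.coprime_dvd_right hd4)).congr top
  · refine good_combine ?_ le_rfl hodd hm3 hu1 hd1' (eMP 2 1 rfl)
    simp [parity_simps]
  · refine good_combine ?_ le_rfl hodd hp3 (hasElt_two_X ha) hasDbl_one_X top
    simp [parity_simps]
  · refine good_combine ?_ le_rfl hodd (hm1.prod hm2
      ((hcop 2 (by norm_num)).symm.coprime_dvd_left hd2)) (hasElt_two_X ha) hasDbl_one_X
      ((((rX.add (qAdd_comm _ _)).trans ((qAdd_assoc _ _ _).symm.trans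
        (((two_minus ha).symm.add (rP 1)).trans (merge 2 1)))).add rX).trans top)
    simp [parity_simps]
  · refine good_combine ?_ le_rfl hodd (hp1.prod hm2
      ((hcop 2 (by norm_num)).symm.coprime_dvd_left hd1)) hu1 hd1'
      (((qAdd_assoc _ _ _).symm.add (rP 1)).trans ((((merge 1 1).add rX).add (rP 1)).trans
        (eMP 2 1 rfl)))
    simp [parity_simps]
  · refine good_combine ?_ (by norm_num) hodd hm2 ((hasElt_four one_ne_zero).congr e2P)
      ?_ (eMP 1 2 rfl)
    · simp [parity_simps]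
    · obtain ⟨g, v, hg, ho, hf, hs⟩ := hasDbl_two (F := F) (a := 1) (b := 0) one_ne_zero
      obtain ⟨e, he⟩ := e2P
      refine ⟨autCongr e g, e v, fun y => ?_, by rw [MulEquiv.orderOf_eq, ho]; rfl,
        by rwa [fixed_autCongr], ?_⟩
      · obtain ⟨x, rfl⟩ := e.surjective y
        rw [autCongr_apply, he, hg, he]
      · simp only [← map_pow, autCongr_apply, ← map_sum]
        rwa [ne_eq, LinearEquiv.map_eq_zero_iff]
  · refine good_combine ?_ (by norm_num) hodd hp2 (hasElt_four ha) (hasDbl_two ha) (ePM 2 1 rfl)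
    simp [parity_simps]
  · refine good_combine ?_ (by norm_num) hodd hm1 ((hasElt_eight one_ne_zero).congr e3P) ?_ eXP
    · simp [parity_simps]
    · obtain ⟨g, v, hg, ho, hf, hs⟩ := hasDbl_four (F := F) (a := 1) (b := 0) one_ne_zero
      obtain ⟨e, he⟩ := ((qAdd_assoc (qP F 1) (qP F 1) (qX (1 : F) 0)).symm.trans
        (((merge 1 1).add (QEq.refl _)).trans e3P))
      refine ⟨autCongr e g, e v, fun y => ?_, by rw [MulEquiv.orderOf_eq, ho]; rfl,
        by rwa [fixed_autCongr], ?_⟩
      · obtain ⟨x, rfl⟩ := e.surjective y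
        rw [autCongr_apply, he, hg, he]
      · simp only [← map_pow, autCongr_apply, ← map_sum]
        rwa [ne_eq, LinearEquiv.map_eq_zero_iff]
  · refine good_combine ?_ (by norm_num) hodd hp1 (hasElt_eight ha) ?_ (ePM 1 2 rfl)
    · simp [parity_simps]
    · obtain ⟨g, v, hg, ho, hf, hs⟩ := hasDbl_four (F := F) (a := a) (b := b) ha
      obtain ⟨e, he⟩ := (qAdd_assoc (qP F 1) (qP F 1) (qX a b)).symm.trans ((merge 1 1).add rX)
      refine ⟨autCongr e g, e v, fun y => ?_, by rw [MulEquiv.orderOf_eq, ho]; rfl,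
        by rwa [fixed_autCongr], ?_⟩
      · obtain ⟨x, rfl⟩ := e.surjective y
        rw [autCongr_apply, he, hg, he]
      · simp only [← map_pow, autCongr_apply, ← map_sum]
        rwa [ne_eq, LinearEquiv.map_eq_zero_iff]

end CfsgLib.Recog.MinusEightWitness
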