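import Cfsg.Agent.Lib.Recog.OrdersFiveLines
import Cfsg.Agent.Lib.Recog.OrdersFiveSmall
import Cfsg.Agent.Lib.Recog.OrdersFiveW
import Mathlib.GroupTheory.GroupAction.Quotient
import Mathlib.Algebra.Group.Subgroup.Pointwise

/-!
Consequences of the coset enumeration certificates for groups generated by involutions `u`, `w` and
commuting elements `x`, `y` of order three.
-/

set_option autoImplicit false
set_option maxRecDepth 100000

namespace CfsgLib.Recog.OrdersFive

open CfsgLib.Presented
open scoped Pointwise

/-- The orders of `g * y`, `g * x * y`, `g * x * y⁻¹`. -/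
def vrels (ks : ℕ × ℕ × ℕ) (g : ℕ) : List (List ℕ) :=
  [pw ks.1 [g, 3], pw ks.2.1 [g, 1, 3], pw ks.2.2 [g, 1, 4]]

/-- The relators common to all cases. -/
def baseRels : List (List ℕ) := [pw 3 [1], pw 3 [3], [1, 3, 2, 4], pw 3 [0, 1]]

/-- The relators of `⟨u, x, y⟩`. -/
def relsH : List (List ℕ) := baseRels ++ vrels (4, 5, 5) 0

/-- The word of the involution inverting `x` and `y`. -/
def zWord : List ℕ := [0, 3, 0, 4, 0, 3]

/-- The relators of `⟨u, x, y, w⟩`. -/
def relsW : List (List ℕ) :=
  relsH ++ [pw 3 [5, 1], pw 2 [0, 5], pw 2 [2, 0, 1, 5], pw 2 [1, 0, 2, 5], pw 2 (zWord ++ [5])]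

/-- The five targets. -/
def lineTargets : List (List ℕ) := [[0], [1], [3], [1, 3], [1, 4]]

theorem lineCases_check : (lineCases.all fun c =>
    check (baseRels ++ vrels c.1 0) [] [lineTargets.getD c.2.1 [0]] c.2.2) = true := by decide +kernel

theorem lineCases_cover : ∀ t ∈ List.product (List.range' 2 4) (List.product (List.range' 2 4) (List.range' 2 4)),
    t ∈ lineCases.map Prod.fst ∨ t = (4, 5, 5) ∨ t = (5, 4, 5) ∨ t = (5, 5, 4) := by decide +kernel

theorem lineTargets_lt : (lineCases.all fun c => Nat.blt c.2.1 5) = true := by decide +kernel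

theorem cubeFour_check :
    check [pw 3 [1], pw 4 [0, 1]] [] [pw 3 [0, 1, 0, 2]] cubeFour = true := by decide +kernel

theorem cubeFive_check :
    check [pw 3 [1], pw 5 [0, 1]] [] [pw 3 [0, 1, 0, 2, 0, 1]] cubeFive = true := by decide +kernel

theorem invz_check : check relsH [] [zWord ++ [1] ++ zWord ++ [1], zWord ++ [3] ++ zWord ++ [3],
    pw 2 zWord, pw 2 [3, 0, 4, 0, 3]] invz = true := by decide +kernel

theorem adjoinCases_check : (adjoinCases.all fun c =>
    check (relsW ++ vrels c.1 5 ++ [pw c.2.2.1 c.2.1]) [[0], [1], [3]] [[5]] c.2.2.2) = true := by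
  decide +kernel

/-- The targets of a closure certificate. -/
noncomputable def closureTargets (gens : List ℕ) (reps moves : List (List ℕ)) : List (List ℕ) :=
  (gens.zip moves).flatMap fun p => (reps.zip p.2).map fun q =>
    (pushAll alphabet (invWord alphabet (reps.getD q.2 []) ++ p.1 :: q.1) []).reverse

/-- Well-formedness of a closure certificate. -/
noncomputable def closureCheck (rels subs : List (List ℕ)) (gens : List ℕ)
    (reps moves : List (List ℕ)) (D : Data) : Bool :=
  check rels subs (closureTargets gens reps moves) D &&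
    Nat.beq gens.length moves.length &&
    moves.all (fun m => Nat.beq m.length reps.length && m.all fun j => Nat.blt j reps.length) &&
    reps.all (fun r => r.all fun a => Nat.blt a 6) && gens.all (fun a => Nat.blt a 6) &&
    listEq (reps.getD 0 [6]) []

theorem tetra_check : closureCheck [pw 3 [1], pw 3 [0, 1], [3], [5]] [] [0, 1] tetraReps tetraMove
    tetra = true := by decide +kernel

theorem orbitH_check : closureCheck (relsH ++ [[5]]) [[0], [1]] [0, 1, 3] orbitHReps orbitHMove
    orbitH = true := by decide +kernel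

theorem tetraReps_length : tetraReps.length = 12 := by decide +kernel

theorem orbitHReps_length : orbitHReps.length = 30 := by decide +kernel

theorem alphabet_good {G : Type*} [Group G] {u x y w : G} (hu : u * u = 1) (hw : w * w = 1) :
    alphabet.Good (ev u x y w) := by
  refine ⟨rfl, fun n hn => ?_⟩
  have hn' : n ≤ 6 := hn
  interval_cases n
  · exact hu
  · exact inv_mul_cancel x
  · exact mul_inv_cancel x
  · exact inv_mul_cancel y
  · exact mul_inv_cancel y
  · exact hw
  · exact mul_one 1

theorem closure_sound {G : Type*} [Group G] {X : Type*} [MulAction G X] {rels subs : List (List ℕ)}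
    {gens : List ℕ} {reps moves : List (List ℕ)} {D : Data}
    (h : closureCheck rels subs gens reps moves D = true) {u x y w : G} (hu : u * u = 1)
    (hw : w * w = 1) (base : X) (hrels : ∀ r ∈ rels, evW (ev u x y w) r = 1)
    (hsubs : ∀ r ∈ subs, evW (ev u x y w) r • base = base) :
    ∀ g ∈ Subgroup.closure {g | ∃ a ∈ gens, ev u x y w a = g},
      ∃ r ∈ reps, g • base = evW (ev u x y w) r • base := by
  have hA := alphabet_good (u := u) (x := x) (y := y) (w := w) hu hw
  simp only [closureCheck, Bool.and_eq_true, List.all_eq_true, Nat.blt_eq] at h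
  obtain ⟨⟨⟨⟨⟨hc, hgl⟩, hmv⟩, hrw⟩, hgw⟩, h0⟩ := h
  have ht := check_sound hc hu hw base hrels hsubs
  let S : Set X := {p | ∃ r ∈ reps, evW (ev u x y w) r • base = p}
  have hSfin : S.Finite := by
    refine ((reps.finite_toSet).image fun r => evW (ev u x y w) r • base).subset ?_
    rintro p ⟨r, hr, rfl⟩
    exact ⟨r, hr, rfl⟩
  have hgen : ∀ a ∈ gens, ∀ p ∈ S, ev u x y w a • p ∈ S := by
    rintro a ha p ⟨r, hr, rfl⟩
    obtain ⟨i, hi, rfl⟩ := List.getElem_of_mem ha
    obtain ⟨k, hk, rfl⟩ := List.getElem_of_mem hr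
    have him : i < moves.length := (Nat.eq_of_beq_eq_true hgl) ▸ hi
    obtain ⟨hml, hmj⟩ := hmv _ (List.getElem_mem him)
    have hkm : k < moves[i].length := (Nat.eq_of_beq_eq_true hml).symm ▸ hk
    have hj : moves[i][k] < reps.length := hmj _ (List.getElem_mem hkm)
    refine ⟨reps[moves[i][k]], List.getElem_mem hj, ?_⟩
    have hmem : (pushAll alphabet (invWord alphabet (reps.getD moves[i][k] []) ++ gens[i] :: reps[k])
        []).reverse ∈ closureTargets gens reps moves := by
      refine List.mem_flatMap.2 ⟨(gens[i], moves[i]), ?_, List.mem_map.2 ⟨(reps[k], moves[i][k]), ?_, rfl⟩⟩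
      · exact List.mem_iff_getElem.2 ⟨i, by simp [hi, him], by simp⟩
      · exact List.mem_iff_getElem.2 ⟨k, by simp [hk, hkm], by simp⟩
    have hrj : ∀ b ∈ reps[moves[i][k]], b ≤ alphabet.eps := fun b hb =>
      (hrw _ (List.getElem_mem hj) b hb).le
    have hall : ∀ b ∈ invWord alphabet (reps.getD moves[i][k] []) ++ gens[i] :: reps[k],
        b ≤ alphabet.eps := by
      intro b hb
      rw [List.getD_eq_getElem _ _ hj] at hb
      simp only [invWord, List.mem_append, List.mem_reverse, List.mem_map, List.mem_cons] at hb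
      rcases hb with ⟨c, hc, rfl⟩ | rfl | hb
      · exact Alphabet.le_of_valid (by decide +kernel) (hrj c hc)
      · exact (hgw _ (List.getElem_mem hi)).le
      · exact (hrw _ (List.getElem_mem hk) b hb).le
    have hev := ht _ hmem
    rw [pushAll_ev hA [] hall, List.reverse_nil, evW_nil, one_mul, List.getD_eq_getElem _ _ hj,
      evW_append, evW_invWord hA hrj, evW_cons, mul_smul, mul_smul, inv_smul_eq_iff] at hev
    exact hev.symm
  have hstab : Subgroup.closure {g | ∃ a ∈ gens, ev u x y w a = g} ≤ MulAction.stabilizer G S := by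
    rw [Subgroup.closure_le]
    rintro g ⟨a, ha, rfl⟩
    rw [SetLike.mem_coe, MulAction.mem_stabilizer_iff]
    refine Set.eq_of_subset_of_ncard_le ?_ ?_ hSfin
    · rintro _ ⟨p, hp, rfl⟩
      exact hgen a ha p hp
    · rw [← Set.image_smul, Set.ncard_image_of_injective _ (MulAction.injective _)]
  intro g hg
  have hbase : base ∈ S := by
    cases hreps : reps with
    | nil => rw [hreps] at h0; exact absurd (listEq_eq h0) (by simp)
    | cons r rs =>
      rw [hreps] at h0
      have : r = [] := by simpa using listEq_eq h0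
      exact ⟨r, by rw [hreps]; exact List.mem_cons_self, by rw [this]; simp⟩
  have hgS := MulAction.mem_stabilizer_iff.1 (hstab hg)
  obtain ⟨r, hr, hre⟩ : g • base ∈ S := by
    rw [← hgS]
    exact Set.smul_mem_smul_set hbase
  exact ⟨r, hr, hre.symm⟩

end CfsgLib.Recog.OrdersFive
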