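import Mathlib
import Cfsg.Agent.Lib.Presented.Enum

/-!
Coset enumeration certificates for groups generated by two involutions `u`, `w` and two commuting
elements `x`, `y` of order three, used for groups with element orders at most five.
-/

set_option autoImplicit false

namespace CfsgLib.Recog.OrdersFive

open CfsgLib.Presented

/-- Letters `u, x, x⁻¹, y, y⁻¹, w`; the identity is `6`. -/
def alphabet : Alphabet :=
  ⟨6, .leaf (0 + 2 * 2 ^ 6 + 1 * 2 ^ 12 + 4 * 2 ^ 18 + 3 * 2 ^ 24 + 5 * 2 ^ 30 + 6 * 2 ^ 36)⟩

/-- The values of the letters. -/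
def ev {G : Type*} [Group G] (u x y w : G) (n : ℕ) : G := [u, x, x⁻¹, y, y⁻¹, w].getD n 1

/-- A power of a word. -/
def pw (k : ℕ) (l : List ℕ) : List ℕ := (List.replicate k l).flatten

theorem evW_pw {G : Type*} [Group G] (f : ℕ → G) (k : ℕ) (l : List ℕ) :
    evW f (pw k l) = evW f l ^ k := by
  induction k with
  | zero => simp [pw]
  | succ k ih =>
    rw [pow_succ', ← ih, ← evW_append]
    simp [pw, List.replicate_succ]

/-- The variable part of a certificate. -/
structure Data where
  facts : NTree
  par : NTree
  eqs : ATree EqEntry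
  sube : ATree SubEntry
  neq : ℕ
  nF : ℕ
  stream : ℕ
  loops : List ℕ

/-- The certificate as an enumeration. -/
def Data.enum (D : Data) (rels subs : List (List ℕ)) : Enum :=
  ⟨alphabet, rels, subs, D.facts, D.par, D.eqs, D.sube, D.neq⟩

/-- All checks: the facts are justified and the loops read the target words. -/
noncomputable def check (rels subs targets : List (List ℕ)) (D : Data) : Bool :=
  (D.enum rels subs).valid && (D.enum rels subs).chkRange D.nF 0 D.stream &&
    Nat.beq D.loops.length targets.length &&
    (D.loops.zip targets).all fun p =>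
      ((D.enum rels subs).chkPath D.nF 0 0 p.1 p.2.reverse).isSome

theorem check_sound {G : Type*} [Group G] {X : Type*} [MulAction G X] {rels subs targets : List (List ℕ)}
    {D : Data} (h : check rels subs targets D = true) {u x y w : G} (hu : u * u = 1) (hw : w * w = 1)
    (base : X) (hrels : ∀ r ∈ rels, evW (ev u x y w) r = 1)
    (hsubs : ∀ r ∈ subs, evW (ev u x y w) r • base = base) :
    ∀ t ∈ targets, evW (ev u x y w) t • base = base := by
  simp only [check, Bool.and_eq_true, List.all_eq_true] at h
  obtain ⟨⟨⟨hv, hr⟩, hlen⟩, hl⟩ := h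
  have hI : (D.enum rels subs).Interp (ev u x y w) base := by
    refine ⟨rfl, fun n hn => ?_, hrels, hsubs⟩
    have hn' : n < 6 := hn
    interval_cases n
    · exact hu
    · exact inv_mul_cancel x
    · exact mul_inv_cancel x
    · exact inv_mul_cancel y
    · exact mul_inv_cancel y
    · exact hw
  have hok := (D.enum rels subs).okOn_of_chkRange D.nF 0 D.stream hr
  rw [Nat.zero_add] at hok
  intro t ht
  obtain ⟨i, hi, rfl⟩ := List.getElem_of_mem ht
  have hi' : i < D.loops.length := by rw [Nat.eq_of_beq_eq_true hlen]; exact hi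
  have hm : (D.loops[i], targets[i]) ∈ D.loops.zip targets := by
    rw [List.mem_iff_getElem]
    exact ⟨i, by simp [hi, hi'], by simp⟩
  have hp := hl _ hm
  obtain ⟨s', hs'⟩ := Option.isSome_iff_exists.1 hp
  have := Enum.loop hv hI hok hs'
  rwa [List.reverse_reverse] at this

end CfsgLib.Recog.OrdersFive
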