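import Cfsg.Agent.Lib.Recog.OrdersFiveFrame
import Cfsg.Agent.Lib.FewOrders.UpToFour

/-!
In the configuration generating `A₆`, the four-group containing `u` is self-centralising.
-/

set_option autoImplicit false

namespace CfsgLib.Recog.OrdersFive

open CfsgLib.Presented

variable {G : Type*} [Group G] {u x y : G}

/-- The second involution of the four-group. -/
def fv (u x : G) : G := x⁻¹ * u * x

/-- The involution inverting `x` and `y`. -/
def fz (u y : G) : G := u * y * u * y⁻¹ * u * y

namespace Frame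

theorem x_sq (h : Frame u x y) : x * x = x⁻¹ :=
  (inv_eq_of_mul_eq_one_right (by rw [← mul_assoc, ← sq, ← pow_succ, h.nine.hx])).symm

theorem rels (h : Frame u x y) (w : G) : ∀ r ∈ relsH, evW (ev u x y w) r = 1 := by
  have h1 := pow_orderOf_eq_one (u * (x * y))
  have h2 := pow_orderOf_eq_one (u * (x * y⁻¹))
  rw [h.huxy] at h1
  rw [h.huxy'] at h2
  simp [relsH, baseRels, vrels, evW_pw, ev_zero, ev_one, ev_two, ev_three, ev_four, h.nine.hx,
    h.nine.hy, h.hux, h.huy, h1, h2, h.nine.comm4]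

theorem fz_facts (h : Frame u x y) : fz u y * fz u y = 1 ∧ fz u y * x * (fz u y) = x⁻¹ ∧
    fz u y * y * (fz u y) = y⁻¹ ∧ Commute u (fz u y) := by
  have := check_one invz_check (u := u) (x := x) (y := y) (w := 1) h.hu (one_mul 1) (h.rels 1)
  simp only [List.mem_cons, List.not_mem_nil, or_false, forall_eq_or_imp, forall_eq] at this
  obtain ⟨hzx, hzy, hzz, hzu⟩ := this
  have e : evW (ev u x y 1) zWord = fz u y := by
    simp [zWord, fz, ev_zero, ev_three, ev_four, mul_assoc]
  simp only [evW_append, evW_pw, e] at hzx hzy hzz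
  simp only [evW_cons, evW_nil, ev_one, ev_three, mul_one] at hzx hzy
  rw [sq] at hzz
  refine ⟨hzz, eq_inv_of_mul_eq_one_left hzx, eq_inv_of_mul_eq_one_left hzy, ?_⟩
  have e2 : evW (ev u x y 1) (pw 2 [3, 0, 4, 0, 3]) = (u * fz u y) ^ 2 := by
    simp only [evW_pw, fz, evW_cons, evW_nil, ev_zero, ev_three, ev_four, ← mul_assoc, mul_one, h.hu,
      one_mul]
  rw [e2, sq] at hzu
  show u * fz u y = fz u y * u
  calc u * fz u y = (u * fz u y)⁻¹ := eq_inv_of_mul_eq_one_left hzu
    _ = fz u y * u := by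
      rw [mul_inv_rev, inv_eq_of_mul_eq_one_right hzz, inv_eq_of_mul_eq_one_right h.hu]

theorem hzz (h : Frame u x y) : fz u y * fz u y = 1 := h.fz_facts.1
theorem z_inv (h : Frame u x y) : (fz u y)⁻¹ = fz u y := inv_eq_of_mul_eq_one_right h.hzz
theorem z_x (h : Frame u x y) : fz u y * x * fz u y = x⁻¹ := h.fz_facts.2.1
theorem z_u (h : Frame u x y) : Commute u (fz u y) := h.fz_facts.2.2.2

theorem z_ne (h : Frame u x y) : fz u y ≠ 1 := by
  intro e
  have := h.z_x
  rw [e, one_mul, mul_one, eq_inv_iff_mul_eq_one] at this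
  exact h.nine.hx1 (eq_one_of_sq_of_cube this h.nine.hx)

theorem z_ne_u (h : Frame u x y) : fz u y ≠ u := by
  intro e
  have := h.z_x
  rw [e] at this
  apply h.nine.hx1
  have h2 : (u * x) * (u * x) = 1 := by rw [← mul_assoc, this, inv_mul_cancel]
  have h1 : x = u := by
    have := eq_one_of_sq_of_cube h2 h.hux
    rw [← inv_eq_of_mul_eq_one_right this, inv_eq_of_mul_eq_one_right h.hu]
  exact eq_one_of_sq_of_cube (by rw [h1, h.hu]) h.nine.hx

theorem v_sq (h : Frame u x y) : fv u x * fv u x = 1 := by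
  rw [fv, show x⁻¹ * u * x * (x⁻¹ * u * x) = x⁻¹ * (u * u) * x by group, h.hu]; group

theorem uv_eq (h : Frame u x y) : u * fv u x = x * u * x⁻¹ := by
  have h3 := h.hux
  rw [pow_succ, sq] at h3
  have hu' := inv_eq_of_mul_eq_one_right h.hu
  have h4 : u * x * u = x⁻¹ * u * x⁻¹ := by
    have := eq_inv_of_mul_eq_one_left (a := u * x * u) (b := x * u * x) (by rw [← h3]; group)
    rwa [mul_inv_rev, mul_inv_rev, hu', ← mul_assoc] at this
  have h5 : u * x⁻¹ * u = x * u * x := by
    have := congrArg (·⁻¹) h4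
    simpa [mul_inv_rev, hu', mul_assoc] using this
  rw [fv, show u * (x⁻¹ * u * x) = u * x⁻¹ * u * x by group, h5, mul_assoc, h.x_sq]

theorem comm_uv (h : Frame u x y) : Commute u (fv u x) := by
  have h1 : (u * fv u x) * (u * fv u x) = 1 := by
    rw [h.uv_eq, show x * u * x⁻¹ * (x * u * x⁻¹) = x * (u * u) * x⁻¹ by group, h.hu]; group
  show u * fv u x = fv u x * u
  calc u * fv u x = (u * fv u x)⁻¹ := eq_inv_of_mul_eq_one_left h1
    _ = fv u x * u := by
      rw [mul_inv_rev, inv_eq_of_mul_eq_one_right h.v_sq, inv_eq_of_mul_eq_one_right h.hu]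

theorem v_ne (h : Frame u x y) : fv u x ≠ 1 := by
  intro e
  apply h.hu1
  rw [show u = x * fv u x * x⁻¹ by rw [fv]; group, e]; group

theorem v_ne_u (h : Frame u x y) : fv u x ≠ u := by
  intro e
  have := h.uv_eq
  rw [e, h.hu] at this
  exact h.hu1 (conj_eq_one_iff.1 this.symm)

theorem z_v (h : Frame u x y) : fz u y * fv u x * fz u y = u * fv u x := by
  have h1 : fz u y * x⁻¹ * fz u y = x := by
    have := congrArg (·⁻¹) h.z_x
    simpa [mul_inv_rev, h.z_inv, mul_assoc] using this
  have h2 : fz u y * u * fz u y = u := by rw [← h.z_u.eq, mul_assoc, h.hzz, mul_one]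
  have e : ∀ a b : G, fz u y * (a * b) * fz u y = (fz u y * a * fz u y) * (fz u y * b * fz u y) := by
    intro a b
    simp only [mul_assoc]
    rw [← mul_assoc (fz u y) (fz u y), h.hzz, one_mul]
  rw [fv, e, e, h1, h2, h.z_x, ← fv, h.uv_eq]

theorem z_ne_v (h : Frame u x y) : fz u y ≠ fv u x := by
  intro e
  have := h.z_v
  rw [e, h.v_sq, one_mul] at this
  exact h.hu1 (mul_eq_right.1 this.symm)

/-- The centraliser of the four-group. -/
def W (u x : G) : Subgroup G :=
  Subgroup.centralizer ({u} : Set G) ⊓ Subgroup.centralizer ({fv u x} : Set G)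

theorem mem_W {a : G} : a ∈ W u x ↔ Commute u a ∧ Commute (fv u x) a := by
  simp only [W, Subgroup.mem_inf, Subgroup.mem_centralizer_singleton_iff, Commute, SemiconjBy]
  exact ⟨fun ⟨a, b⟩ => ⟨a.symm, b.symm⟩, fun ⟨a, b⟩ => ⟨a.symm, b.symm⟩⟩

theorem conj_x_mem (h : Frame u x y) {a : G} (ha : a ∈ W u x) : x * a * x⁻¹ ∈ W u x := by
  obtain ⟨h1, h2⟩ := mem_W.1 ha
  have c1 : Commute (x * fv u x * x⁻¹) (x * a * x⁻¹) := (Commute.conj_iff x).2 h2
  have c2 : Commute (x * u * x⁻¹) (x * a * x⁻¹) := (Commute.conj_iff x).2 h1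
  rw [show x * fv u x * x⁻¹ = u by rw [fv]; group] at c1
  rw [← h.uv_eq] at c2
  refine mem_W.2 ⟨c1, ?_⟩
  have := c1.inv_left.mul_left c2
  rwa [inv_mul_cancel_left] at this

theorem conj_x_inv_mem (h : Frame u x y) {a : G} (ha : a ∈ W u x) : x⁻¹ * a * x ∈ W u x := by
  have := h.conj_x_mem (h.conj_x_mem ha)
  rwa [show x * (x * a * x⁻¹) * x⁻¹ = (x * x) * a * (x * x)⁻¹ by group, h.x_sq, inv_inv] at this

theorem conj_z_mem (h : Frame u x y) {a : G} (ha : a ∈ W u x) : fz u y * a * fz u y ∈ W u x := by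
  obtain ⟨h1, h2⟩ := mem_W.1 ha
  have c1 : Commute (fz u y * u * (fz u y)⁻¹) (fz u y * a * (fz u y)⁻¹) := (Commute.conj_iff _).2 h1
  have c2 : Commute (fz u y * fv u x * (fz u y)⁻¹) (fz u y * a * (fz u y)⁻¹) := (Commute.conj_iff _).2 h2
  rw [h.z_inv] at c1 c2
  rw [show fz u y * u * fz u y = u by rw [← h.z_u.eq, mul_assoc, h.hzz, mul_one]] at c1
  rw [h.z_v] at c2
  refine mem_W.2 ⟨c1, ?_⟩
  have := c1.inv_left.mul_left c2
  rwa [inv_mul_cancel_left] at this

theorem u_mem (h : Frame u x y) : u ∈ W u x := mem_W.2 ⟨Commute.refl u, h.comm_uv.symm⟩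
theorem v_mem (h : Frame u x y) : fv u x ∈ W u x := mem_W.2 ⟨h.comm_uv, Commute.refl _⟩

/-- Conjugation by a normalising element. -/
def conjAut (K : Subgroup G) (g g' : G) (hgg : g' = g⁻¹) (h : ∀ a ∈ K, g * a * g' ∈ K)
    (h' : ∀ a ∈ K, g' * a * g ∈ K) : MulAut K where
  toFun a := ⟨g * a * g', h _ a.2⟩
  invFun a := ⟨g' * a * g, h' _ a.2⟩
  left_inv a := by ext; simp [hgg, mul_assoc]
  right_inv a := by ext; simp [hgg, mul_assoc]
  map_mul' a b := by ext; simp [hgg, mul_assoc]

theorem W_pow_four (hG : Small G) (h : Frame u x y) {a : G} (ha : a ∈ W u x) : a ^ 4 = 1 :=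
  hG.two_centralizer h.hu h.hu1 (mem_W.1 ha).1

theorem W_fix (hG : Small G) (h : Frame u x y) {a : G} (ha : a ∈ W u x) (hf : Commute x a) :
    a = 1 := by
  have h3 := hG.three_centralizer h.nine.hx h.nine.hx1 hf
  have h4 := h.W_pow_four hG ha
  rwa [pow_succ, h3, one_mul] at h4

theorem W_elementary [Finite G] (hG : Small G) (h : Frame u x y) :
    (∀ a ∈ W u x, ∀ b ∈ W u x, a * b = b * a) ∧ ∀ a ∈ W u x, a * a = 1 := by
  let φ : MulAut (W u x) := conjAut (W u x) x x⁻¹ rfl (fun _ => h.conj_x_mem) fun _ => h.conj_x_inv_mem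
  let τ : MulAut (W u x) :=
    conjAut (W u x) (fz u y) (fz u y) h.z_inv.symm (fun _ => h.conj_z_mem) fun _ => h.conj_z_mem
  have hφ : ∀ a : W u x, ((φ a : W u x) : G) = x * a * x⁻¹ := fun _ => rfl
  have hτ : ∀ a : W u x, ((τ a : W u x) : G) = fz u y * a * fz u y := fun _ => rfl
  have hφj : ∀ (j : ℕ) (a : W u x), (((φ ^ j) a : W u x) : G) = x ^ j * a * (x ^ j)⁻¹ := by
    intro j
    induction j with
    | zero => intro a; simp
    | succ j ih => intro a; rw [pow_succ', MulAut.mul_apply, hφ, ih]; group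
  have hzj : ∀ j : ℕ, fz u y * x ^ j * fz u y = (x ^ j)⁻¹ := by
    intro j
    induction j with
    | zero => simp [h.hzz]
    | succ j ih =>
      rw [pow_succ, mul_inv_rev, ← h.z_x, ← ih]
      have : fz u y * x * fz u y * (fz u y * x ^ j * fz u y) =
          fz u y * x * (fz u y * fz u y) * x ^ j * fz u y := by group
      rw [this, h.hzz, mul_one, mul_assoc (fz u y) x, ← pow_succ', pow_succ, ← mul_assoc (fz u y)]
  have hmain := CfsgLib.FewOrders.exponent_two_of_sym_three φ τ ?_ ?_ ?_ ?_ ?_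
  · refine ⟨fun a ha b hb => ?_, fun a ha => ?_⟩
    · exact congrArg Subtype.val (hmain.1 ⟨a, ha⟩ ⟨b, hb⟩)
    · have := congrArg Subtype.val (hmain.2 ⟨a, ha⟩)
      simpa [sq] using this
  · intro a ha
    have ha' : x * a * x⁻¹ = (a : G) := by rw [← hφ, ha]
    exact Subtype.ext (h.W_fix hG a.2 (mul_inv_eq_iff_eq_mul.1 ha'))
  · ext a
    rw [hφj, h.nine.hx]
    simp
  · rw [mul_inv_eq_iff_eq_mul, eq_inv_mul_iff_mul_eq]
    ext a
    simp only [MulAut.mul_apply, hφ, hτ]
    calc x * (fz u y * (x * (a : G) * x⁻¹) * fz u y) * x⁻¹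
        = (x * fz u y * x) * a * (x⁻¹ * fz u y * x⁻¹) := by group
      _ = fz u y * a * fz u y := by
        have e1 : x * fz u y * x = fz u y := by
          have := h.z_x
          rw [eq_inv_iff_mul_eq_one] at this
          have e : fz u y * (x * fz u y * x) = 1 := by rw [← this]; group
          rw [← inv_eq_of_mul_eq_one_right e, h.z_inv]
        have e2 : x⁻¹ * fz u y * x⁻¹ = fz u y := by
          conv_lhs => rw [← e1]
          group
        rw [e1, e2]
  · intro a
    exact Subtype.ext (by simpa using h.W_pow_four hG a.2)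
  · intro j a
    apply Subtype.ext
    rw [Subgroup.coe_pow, Subgroup.coe_mul, MulAut.mul_apply, hφj, hτ, Subgroup.coe_one]
    set g := x ^ j * fz u y with hg
    have hgg : g * g = 1 := by
      rw [hg, show x ^ j * fz u y * (x ^ j * fz u y) = x ^ j * (fz u y * x ^ j * fz u y) by group,
        hzj, mul_inv_cancel]
    have e : (a : G) * (x ^ j * (fz u y * a * fz u y) * (x ^ j)⁻¹) = (a * g) ^ 2 := by
      have h1 : fz u y * (x ^ j)⁻¹ = x ^ j * fz u y := by
        rw [← hzj, ← mul_assoc, ← mul_assoc, h.hzz, one_mul]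
      rw [show x ^ j * (fz u y * ↑a * fz u y) * (x ^ j)⁻¹ =
        x ^ j * fz u y * a * (fz u y * (x ^ j)⁻¹) by group, h1, ← hg, sq]
      simp only [mul_assoc]
    have hmem : (a : G) * (x ^ j * (fz u y * a * fz u y) * (x ^ j)⁻¹) ∈ W u x := by
      have := (W u x).mul_mem a.2 ((φ ^ j * τ) a).2
      rwa [MulAut.mul_apply, hφj, hτ] at this
    rw [e] at hmem ⊢
    have h8 := h.W_pow_four hG hmem
    rw [← pow_mul] at h8
    obtain ⟨h0, h5⟩ := hG ((a : G) * g)
    have hd : orderOf ((a : G) * g) ∣ 8 := orderOf_dvd_of_pow_eq_one h8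
    rw [← pow_mul]
    apply orderOf_dvd_iff_pow_eq_one.1
    interval_cases orderOf ((a : G) * g) <;> omega

theorem card_tetra (h : Frame u x y) : Nat.card (Subgroup.closure ({u, x} : Set G)) ≤ 12 := by
  classical
  have hs := closure_sound tetra_check (u := u) (x := x) (y := 1) (w := 1) h.hu (one_mul 1) (1 : G)
    (by simp [evW_pw, ev_zero, ev_one, ev_three, ev_five, h.nine.hx, h.hux]) (by simp)
  have hle : Subgroup.closure ({u, x} : Set G) ≤
      Subgroup.closure {g | ∃ a ∈ [0, 1], ev u x 1 1 a = g} := by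
    refine Subgroup.closure_mono ?_
    rintro g (rfl | rfl)
    · exact ⟨0, by simp, rfl⟩
    · exact ⟨1, by simp, rfl⟩
  let S : Finset G := (tetraReps.map (evW (ev u x 1 1))).toFinset
  have hsub : (Subgroup.closure ({u, x} : Set G) : Set G) ⊆ (S : Set G) := by
    intro g hg
    obtain ⟨r, hr, e⟩ := hs g (hle hg)
    simp only [smul_eq_mul, mul_one] at e
    simpa [S] using ⟨r, hr, e.symm⟩
  have := Nat.card_mono S.finite_toSet hsub
  refine this.trans ?_
  rw [Nat.card_coe_set_eq, Set.ncard_coe_finset]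
  exact (List.toFinset_card_le _).trans (by rw [List.length_map, tetraReps_length])

theorem card_H (h : Frame u x y) : Nat.card (Subgroup.closure ({u, x, y} : Set G)) ≤ 360 := by
  classical
  set A := Subgroup.closure ({u, x} : Set G) with hA
  have hu' : u ∈ A := Subgroup.subset_closure (by simp)
  have hx' : x ∈ A := Subgroup.subset_closure (by simp)
  have hfix : ∀ g ∈ A, g • (QuotientGroup.mk (1 : G) : G ⧸ A) = QuotientGroup.mk 1 := by
    intro g hg
    rw [MulAction.Quotient.smul_mk, smul_eq_mul, mul_one, QuotientGroup.eq, mul_one]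
    exact A.inv_mem hg
  have hs := closure_sound orbitH_check (u := u) (x := x) (y := y) (w := 1) h.hu (one_mul 1)
    (QuotientGroup.mk (1 : G) : G ⧸ A) (by
      intro r hr
      rcases List.mem_append.1 hr with hr | hr
      · exact h.rels 1 r hr
      · rw [List.mem_singleton.1 hr]; simp [ev_five])
    (by
      intro r hr
      simp only [List.mem_cons, List.not_mem_nil, or_false] at hr
      rcases hr with rfl | rfl <;> simp only [evW_cons, evW_nil, mul_one]
      · exact hfix u hu'
      · exact hfix x hx')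
  have hle : Subgroup.closure ({u, x, y} : Set G) ≤
      Subgroup.closure {g | ∃ a ∈ [0, 1, 3], ev u x y 1 a = g} := by
    refine Subgroup.closure_mono ?_
    rintro g (rfl | rfl | rfl)
    · exact ⟨0, by simp, rfl⟩
    · exact ⟨1, by simp, rfl⟩
    · exact ⟨3, by simp, rfl⟩
  let S : Finset G := (orbitHReps.map (evW (ev u x y 1))).toFinset
  have hfin : (A : Set G).Finite := by
    by_contra hinf
    have hs' := closure_sound tetra_check (u := u) (x := x) (y := 1) (w := 1) h.hu (one_mul 1) (1 : G)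
      (by simp [evW_pw, ev_zero, ev_one, ev_three, ev_five, h.nine.hx, h.hux]) (by simp)
    apply hinf
    refine Set.Finite.subset ((tetraReps.map (evW (ev u x 1 1))).toFinset.finite_toSet) ?_
    intro g hg
    obtain ⟨r, hr, e⟩ := hs' g (Subgroup.closure_mono (by
      rintro g (rfl | rfl)
      · exact ⟨0, by simp, rfl⟩
      · exact ⟨1, by simp, rfl⟩) hg)
    simp only [smul_eq_mul, mul_one] at e
    simpa using ⟨r, hr, e.symm⟩
  have hsub : (Subgroup.closure ({u, x, y} : Set G) : Set G) ⊆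
      (fun p : G × G => p.1 * p.2) '' ((S : Set G) ×ˢ (A : Set G)) := by
    intro g hg
    obtain ⟨r, hr, e⟩ := hs g (hle hg)
    rw [MulAction.Quotient.smul_mk, MulAction.Quotient.smul_mk, smul_eq_mul, smul_eq_mul, mul_one,
      mul_one, eq_comm, QuotientGroup.eq] at e
    exact ⟨(evW (ev u x y 1) r, (evW (ev u x y 1) r)⁻¹ * g), ⟨by simpa [S] using ⟨r, hr, rfl⟩, e⟩,
      by simp⟩
  have hfin' : ((S : Set G) ×ˢ (A : Set G)).Finite := S.finite_toSet.prod hfin
  rw [← SetLike.coe_sort_coe, Nat.card_coe_set_eq]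
  calc _ ≤ _ := Set.ncard_le_ncard hsub (hfin'.image _)
    _ ≤ _ := Set.ncard_image_le hfin'
    _ = (S : Set G).ncard * (A : Set G).ncard := Set.ncard_prod
    _ ≤ 30 * 12 := Nat.mul_le_mul
      (by rw [Set.ncard_coe_finset]; exact (List.toFinset_card_le _).trans (by rw [List.length_map, orbitHReps_length]))
      (by rw [← Nat.card_coe_set_eq]; exact h.card_tetra)

theorem adjoinCases_cover : ∀ p ∈ [((4, 5, 5), [2, 4, 0, 5]), ((5, 4, 5), [0, 3, 5, 1]),
    ((5, 5, 4), [0, 3, 5, 1])], ∀ k ∈ List.range' 1 5,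
    (p.1, p.2, k) ∈ adjoinCases.map fun c => (c.1, c.2.1, c.2.2.1) := by decide +kernel

theorem W_eq_four [Finite G] (hG : Small G) (h : Frame u x y) {a : G} (ha : a ∈ W u x) :
    a = 1 ∨ a = u ∨ a = fv u x ∨ a = u * fv u x := by
  obtain ⟨hcomm, hsq⟩ := h.W_elementary hG
  have hvv := h.v_sq
  by_contra hne
  push Not at hne
  obtain ⟨n1, n2, n3, n4⟩ := hne
  -- an element of `W` commuting with `z`, outside `⟨u⟩`
  obtain ⟨w, hwW, hwz, hw1, hwu⟩ :
      ∃ w ∈ W u x, fz u y * w * fz u y = w ∧ w ≠ 1 ∧ w ≠ u := by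
    have hb := h.conj_z_mem ha
    by_cases e : a * (fz u y * a * fz u y) = 1 ∨ a * (fz u y * a * fz u y) = u
    · rcases e with e | e
      · exact ⟨a, ha, (inv_eq_of_mul_eq_one_right e).symm.trans (inv_eq_of_mul_eq_one_right (hsq a ha)),
          n1, n2⟩
      · have e' : fz u y * a * fz u y = a * u :=
          calc fz u y * a * fz u y = a * a * (fz u y * a * fz u y) := by rw [hsq a ha, one_mul]
            _ = a * (a * (fz u y * a * fz u y)) := mul_assoc _ _ _
            _ = a * u := congrArg (a * ·) e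
        refine ⟨a * fv u x, (W u x).mul_mem ha h.v_mem, ?_, ?_, ?_⟩
        · rw [show fz u y * (a * fv u x) * fz u y =
            fz u y * a * fz u y * ((fz u y)⁻¹ * fv u x * fz u y) by group, e', h.z_inv, h.z_v,
            mul_assoc, ← mul_assoc u u, h.hu, one_mul]
        · intro hh
          exact n3 (by rw [eq_inv_of_mul_eq_one_left hh, inv_eq_of_mul_eq_one_right hvv])
        · intro hh
          exact n4 (calc a = a * fv u x * fv u x := by rw [mul_assoc, hvv, mul_one]
            _ = u * fv u x := congrArg (· * fv u x) hh)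
    · push Not at e
      refine ⟨_, (W u x).mul_mem ha hb, ?_, e.1, e.2⟩
      rw [show fz u y * (a * (fz u y * a * fz u y)) * fz u y =
        fz u y * a * fz u y * a * (fz u y * fz u y) by group, h.hzz, mul_one, hcomm _ hb a ha]
  have hwv : w ≠ fv u x ∧ w ≠ u * fv u x := by
    constructor
    · rintro rfl
      rw [h.z_v] at hwz
      exact h.hu1 (mul_eq_right.1 hwz)
    · rintro rfl
      rw [show fz u y * (u * fv u x) * fz u y =
        fz u y * u * fz u y * ((fz u y)⁻¹ * fv u x * fz u y) by group, h.z_inv, h.z_v,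
        show fz u y * u * fz u y = u by rw [← h.z_u.eq, mul_assoc, h.hzz, mul_one]] at hwz
      exact h.hu1 (mul_eq_right.1 (mul_left_cancel hwz))
  have hww := hsq w hwW
  have hwx : (w * x) ^ 3 = 1 := by
    have hp := h.conj_x_mem hwW
    have hq := h.conj_x_inv_mem hwW
    have e : (w * x) ^ 3 = w * ((x * w * x⁻¹) * (x⁻¹ * w * x)) := by
      have hxx := h.x_sq
      calc (w * x) ^ 3 = w * (x * w * x⁻¹ * ((x * x) * w * x)) := by rw [pow_succ, sq]; group
        _ = _ := by rw [hxx]
    rw [e]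
    have hn : w * ((x * w * x⁻¹) * (x⁻¹ * w * x)) ∈ W u x :=
      (W u x).mul_mem hwW ((W u x).mul_mem hp hq)
    refine h.W_fix hG hn (mul_inv_eq_iff_eq_mul.1 ?_)
    calc x * (w * (x * w * x⁻¹ * (x⁻¹ * w * x))) * x⁻¹
        = (x * w * x⁻¹) * (((x * x) * w * (x * x)⁻¹) * w) := by group
      _ = (x * w * x⁻¹) * ((x⁻¹ * w * x) * w) := by rw [h.x_sq, inv_inv]
      _ = _ := by
        rw [← mul_assoc, hcomm _ ((W u x).mul_mem hp hq) w hwW]
  -- `w` lies in `⟨u, x, y⟩`
  set H := Subgroup.closure ({u, x, y} : Set G) with hH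
  have hwH : w ∈ H := by
    obtain ⟨ks, ew, hp, hks⟩ : ∃ ks ew, (ks, ew) ∈ [((4, 5, 5), [2, 4, 0, 5]),
        ((5, 4, 5), [0, 3, 5, 1]), ((5, 5, 4), [0, 3, 5, 1])] ∧
        (orderOf (w * y), orderOf (w * (x * y)), orderOf (w * (x * y⁻¹))) = ks := by
      rcases lines hG hww hw1 h.nine hwx with e | e | e
      · exact ⟨_, [2, 4, 0, 5], List.mem_cons_self, e⟩
      · exact ⟨_, [0, 3, 5, 1], List.mem_cons_of_mem _ List.mem_cons_self, e⟩
      · exact ⟨_, [0, 3, 5, 1],
          List.mem_cons_of_mem _ (List.mem_cons_of_mem _ List.mem_cons_self), e⟩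
    obtain ⟨k, hk⟩ : ∃ k, orderOf (evW (ev u x y w) ew) = k := ⟨_, rfl⟩
    have hk15 : k ∈ List.range' 1 5 := by
      obtain ⟨h0, h5⟩ := hG (evW (ev u x y w) ew)
      rw [List.mem_range'_1]; omega
    obtain ⟨c, hc, hce⟩ := List.mem_map.1 (adjoinCases_cover _ hp k hk15)
    simp only [Prod.mk.injEq] at hce
    obtain ⟨rfl, rfl, rfl⟩ := hce
    have hck := List.all_eq_true.1 adjoinCases_check c hc
    have hfix : ∀ g ∈ H, g • (QuotientGroup.mk (1 : G) : G ⧸ H) = QuotientGroup.mk 1 := by
      intro g hg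
      rw [MulAction.Quotient.smul_mk, smul_eq_mul, mul_one, QuotientGroup.eq, mul_one]
      exact H.inv_mem hg
    have := check_sound hck (u := u) (x := x) (y := y) (w := w) h.hu hww
      (QuotientGroup.mk (1 : G) : G ⧸ H) ?_ ?_ _ (List.mem_singleton_self _)
    · simp only [evW_cons, evW_nil, ev_five, mul_one] at this
      rw [MulAction.Quotient.smul_mk, smul_eq_mul, mul_one, eq_comm, QuotientGroup.eq, inv_one,
        one_mul] at this
      exact this
    · obtain ⟨hwu', hwv'⟩ := mem_W.1 hwW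
      have hzz : fz u y * w * (fz u y * w) = 1 := by
        rw [← mul_assoc, show fz u y * w * fz u y = w from hwz, hww]
      have e1 : evW (ev u x y w) zWord = fz u y := by
        simp [zWord, fz, ev_zero, ev_three, ev_four, mul_assoc]
      have huw : (u * w) ^ 2 = 1 := by
        rw [hwu'.mul_pow, sq, sq, h.hu, hww, one_mul]
      have hvw : (fv u x * w) ^ 2 = 1 := by rw [hwv'.mul_pow, sq, sq, hvv, hww, one_mul]
      have huvw : (x * u * x⁻¹ * w) ^ 2 = 1 := by
        rw [← h.uv_eq, (hwu'.mul_left hwv').mul_pow, h.comm_uv.mul_pow, sq, sq, sq, h.hu, hvv, hww,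
          one_mul, one_mul]
      intro r hr
      simp only [List.mem_append, relsW, List.mem_cons, List.not_mem_nil, or_false, vrels] at hr
      rcases hr with ((hr | rfl | rfl | rfl | rfl | rfl) | rfl | rfl | rfl) | rfl
      · exact h.rels w r hr
      · simpa [evW_pw, ev_one, ev_five] using hwx
      · simpa [evW_pw, ev_zero, ev_five] using huw
      · simpa [evW_pw, ev_zero, ev_one, ev_two, ev_five, fv, mul_assoc] using hvw
      · simpa [evW_pw, ev_zero, ev_one, ev_two, ev_five, mul_assoc] using huvw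
      · simp [evW_pw, evW_append, e1, ev_five, sq, hzz]
      · rw [← hks]; simp [evW_pw, ev_three, ev_five, pow_orderOf_eq_one]
      · rw [← hks]; simp [evW_pw, ev_one, ev_three, ev_five, pow_orderOf_eq_one]
      · rw [← hks]; simp [evW_pw, ev_one, ev_four, ev_five, pow_orderOf_eq_one]
      · rw [evW_pw, ← hk, pow_orderOf_eq_one]
    · intro r hr
      simp only [List.mem_cons, List.not_mem_nil, or_false] at hr
      rcases hr with rfl | rfl | rfl <;> simp only [evW_cons, evW_nil, mul_one]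
      · exact hfix _ (Subgroup.subset_closure (by simp [ev_zero]))
      · exact hfix _ (Subgroup.subset_closure (by simp [ev_one]))
      · exact hfix _ (Subgroup.subset_closure (by simp [ev_three]))
  have hu' : u ∈ H := Subgroup.subset_closure (by simp)
  have hx' : x ∈ H := Subgroup.subset_closure (by simp)
  have hy' : y ∈ H := Subgroup.subset_closure (by simp)
  have hz' : fz u y ∈ H :=
    H.mul_mem (H.mul_mem (H.mul_mem (H.mul_mem (H.mul_mem hu' hy') hu') (H.inv_mem hy')) hu') hy'
  have hv' : fv u x ∈ H := H.mul_mem (H.mul_mem (H.inv_mem hx') hu') hx'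
  have d5 : 5 ∣ Nat.card H := by
    have := orderOf_dvd_natCard (⟨u * (x * y), H.mul_mem hu' (H.mul_mem hx' hy')⟩ : H)
    rwa [Subgroup.orderOf_mk, h.huxy] at this
  have d9 : 9 ∣ Nat.card H := by
    let P := H ⊓ Subgroup.centralizer ({x} : Set G)
    have hP : IsPGroup 3 P := fun g => ⟨1, Subtype.ext (by
      simpa using hG.three_centralizer h.nine.hx h.nine.hx1
        (show Commute x (g : G) from (Subgroup.mem_centralizer_singleton_iff.1 g.2.2).symm))⟩
    have := Fact.mk Nat.prime_three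
    obtain ⟨e, he⟩ := IsPGroup.iff_card.1 hP
    have h4 : 4 ≤ Nat.card P := by
      classical
      have hmem : ∀ g ∈ ({1, x, y, x * y} : Finset G), g ∈ P := by
        intro g hg
        simp only [Finset.mem_insert, Finset.mem_singleton] at hg
        rcases hg with rfl | rfl | rfl | rfl
        · exact P.one_mem
        · exact ⟨hx', Subgroup.mem_centralizer_singleton_iff.2 rfl⟩
        · exact ⟨hy', Subgroup.mem_centralizer_singleton_iff.2 h.nine.hc.eq.symm⟩
        · exact ⟨H.mul_mem hx' hy', Subgroup.mem_centralizer_singleton_iff.2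
            ((Commute.refl x).mul_right h.nine.hc).eq.symm⟩
      have hc4 : ({1, x, y, x * y} : Finset G).card = 4 := by
        have hxy : x ≠ y := fun e => h.nine.hne' (by rw [e, mul_inv_cancel])
        rw [Finset.card_insert_of_notMem, Finset.card_insert_of_notMem, Finset.card_insert_of_notMem,
          Finset.card_singleton]
        · simp [h.nine.hx1]
        · simp [hxy, h.nine.hy1]
        · simp [h.nine.hx1.symm, h.nine.hy1.symm, h.nine.hne.symm]
      have := Nat.card_mono (P : Set G).toFinite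
        (show (({1, x, y, x * y} : Finset G) : Set G) ⊆ P from hmem)
      rw [Nat.card_coe_set_eq, Set.ncard_coe_finset, hc4] at this
      simpa using this
    rw [he] at h4
    have h2 : 2 ≤ e := by
      by_contra hlt
      interval_cases e <;> omega
    have h9 : 3 ^ 2 ∣ Nat.card P := by rw [he]; exact pow_dvd_pow 3 h2
    exact (show 9 = 3 ^ 2 by norm_num) ▸ h9.trans (Subgroup.card_dvd_of_le inf_le_left)
  have d16 : 16 ∣ Nat.card H := by
    let Q := H ⊓ Subgroup.centralizer ({u} : Set G)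
    let K := H ⊓ W u x
    have hKQ : K ≤ Q := inf_le_inf_left _ inf_le_left
    have := Fact.mk Nat.prime_two
    have hQ : IsPGroup 2 Q := fun g => ⟨2, Subtype.ext (by
      simpa using hG.two_centralizer h.hu h.hu1
        (show Commute u (g : G) from (Subgroup.mem_centralizer_singleton_iff.1 g.2.2).symm))⟩
    obtain ⟨e, he⟩ := IsPGroup.iff_card.1 hQ
    obtain ⟨f, hf⟩ := IsPGroup.iff_card.1 (hQ.to_le hKQ)
    have h5 : 5 ≤ Nat.card K := by
      classical
      have hmem : ∀ g ∈ ({1, u, fv u x, u * fv u x, w} : Finset G), g ∈ K := by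
        intro g hg
        simp only [Finset.mem_insert, Finset.mem_singleton] at hg
        rcases hg with rfl | rfl | rfl | rfl | rfl
        · exact K.one_mem
        · exact ⟨hu', h.u_mem⟩
        · exact ⟨hv', h.v_mem⟩
        · exact ⟨H.mul_mem hu' hv', Subgroup.mul_mem _ h.u_mem h.v_mem⟩
        · exact ⟨hwH, hwW⟩
      have hc5 : ({1, u, fv u x, u * fv u x, w} : Finset G).card = 5 := by
        have huv1 : u * fv u x ≠ 1 := fun e => h.v_ne_u
          (by rw [← inv_eq_of_mul_eq_one_right e, inv_eq_of_mul_eq_one_right h.hu])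
        rw [Finset.card_insert_of_notMem, Finset.card_insert_of_notMem, Finset.card_insert_of_notMem,
          Finset.card_insert_of_notMem, Finset.card_singleton]
        · simp [hwv.2.symm]
        · simp [hwv.1.symm, h.hu1]
        · simp [h.v_ne_u.symm, hwu.symm, h.v_ne]
        · simp [h.hu1.symm, h.v_ne.symm, huv1.symm, hw1.symm]
      have := Nat.card_mono (K : Set G).toFinite
        (show (({1, u, fv u x, u * fv u x, w} : Finset G) : Set G) ⊆ K from hmem)
      rw [Nat.card_coe_set_eq, Set.ncard_coe_finset, hc5] at this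
      simpa using this
    have hlt : Nat.card K < Nat.card Q := by
      refine lt_of_le_of_ne (Nat.le_of_dvd Nat.card_pos (Subgroup.card_dvd_of_le hKQ)) fun hcard => ?_
      have hzK : fz u y ∈ K := by
        rw [Subgroup.eq_of_le_of_card_ge hKQ hcard.ge]
        exact ⟨hz', Subgroup.mem_centralizer_singleton_iff.2 h.z_u.eq.symm⟩
      have := (mem_W.1 hzK.2).2
      have h' := h.z_v
      rw [← this.eq, mul_assoc, h.hzz, mul_one] at h'
      exact h.hu1 (mul_eq_right.1 h'.symm)
    rw [hf] at h5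
    rw [he, hf, Nat.pow_lt_pow_iff_right (by norm_num)] at hlt
    have h3 : 3 ≤ f := by
      by_contra h'
      interval_cases f <;> omega
    have h16 : 2 ^ 4 ∣ Nat.card Q := by rw [he]; exact pow_dvd_pow 2 (by omega)
    exact (show 16 = 2 ^ 4 by norm_num) ▸ h16.trans (Subgroup.card_dvd_of_le inf_le_left)
  have d720 : 720 ∣ Nat.card H :=
    Nat.Coprime.mul_dvd_of_dvd_of_dvd (m := 16 * 9) (n := 5) (by norm_num)
      (Nat.Coprime.mul_dvd_of_dvd_of_dvd (by norm_num) d16 d9) d5
  have := Nat.le_of_dvd Nat.card_pos d720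
  have := h.card_H
  rw [← hH] at this
  omega

end Frame

end CfsgLib.Recog.OrdersFive
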