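import Cfsg.Agent.Lib.Recog.OrdersFiveCerts

/-!
Two commuting elements `x`, `y` of order three and an involution `u` with `(u * x) ^ 3 = 1` in a group
with element orders at most five.
-/

set_option autoImplicit false

namespace CfsgLib.Recog.OrdersFive

open CfsgLib.Presented

/-- All element orders are at most five. -/
def Small (G : Type*) [Group G] : Prop := ∀ g : G, 0 < orderOf g ∧ orderOf g ≤ 5

variable {G : Type*} [Group G]

theorem Small.eq_one_of_commute (h : Small G) {a b : G} (hab : Commute a b)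
    (hco : (orderOf a).Coprime (orderOf b)) : a = 1 ∨ b = 1 := by
  by_contra hne
  push Not at hne
  have ha := (h a).1
  have hb := (h b).1
  have ha1 : orderOf a ≠ 1 := fun e => hne.1 (orderOf_eq_one_iff.1 e)
  have hb1 : orderOf b ≠ 1 := fun e => hne.2 (orderOf_eq_one_iff.1 e)
  have h5 := (h (a * b)).2
  rw [hab.orderOf_mul_eq_mul_orderOf_of_coprime hco] at h5
  have h1 : orderOf a * 2 ≤ 5 := le_trans (Nat.mul_le_mul_left _ (by omega)) h5
  have h2 : 2 * orderOf b ≤ 5 := le_trans (Nat.mul_le_mul_right _ (by omega)) h5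
  rw [show orderOf a = 2 by omega, show orderOf b = 2 by omega] at hco
  norm_num at hco

theorem Small.cases (h : Small G) (g : G) :
    g = 1 ∨ orderOf g = 2 ∨ orderOf g = 3 ∨ orderOf g = 4 ∨ orderOf g = 5 := by
  obtain ⟨h0, h5⟩ := h g
  rcases Nat.lt_or_ge (orderOf g) 2 with h1 | h1
  · exact Or.inl (orderOf_eq_one_iff.1 (by omega))
  · omega

theorem Small.two_centralizer (h : Small G) {t g : G} (ht : t * t = 1) (ht1 : t ≠ 1)
    (hc : Commute t g) : g ^ 4 = 1 := by
  have h2 : orderOf t = 2 := orderOf_eq_prime (by rw [sq]; exact ht) ht1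
  rcases h.cases g with hg | hg | hg | hg | hg
  · rw [hg, one_pow]
  · exact orderOf_dvd_iff_pow_eq_one.1 (by rw [hg]; norm_num)
  · rcases h.eq_one_of_commute hc (by rw [h2, hg]; norm_num) with e | e
    · exact absurd e ht1
    · rw [e, one_pow]
  · rw [← hg, pow_orderOf_eq_one]
  · rcases h.eq_one_of_commute hc (by rw [h2, hg]; norm_num) with e | e
    · exact absurd e ht1
    · rw [e, one_pow]

theorem Small.three_centralizer (h : Small G) {x g : G} (hx : x ^ 3 = 1) (hx1 : x ≠ 1)
    (hc : Commute x g) : g ^ 3 = 1 := by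
  have h3 : orderOf x = 3 := orderOf_eq_prime hx hx1
  rcases h.cases g with hg | hg | hg | hg | hg
  · rw [hg, one_pow]
  · rcases h.eq_one_of_commute hc (by rw [h3, hg]; norm_num) with e | e
    · exact absurd e hx1
    · rw [e, one_pow]
  · rw [← hg, pow_orderOf_eq_one]
  · rcases h.eq_one_of_commute hc (by rw [h3, hg]; norm_num) with e | e
    · exact absurd e hx1
    · rw [e, one_pow]
  · rcases h.eq_one_of_commute hc (by rw [h3, hg]; norm_num) with e | e
    · exact absurd e hx1
    · rw [e, one_pow]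

theorem eq_one_of_sq_of_cube {g : G} (h2 : g * g = 1) (h3 : g ^ 3 = 1) : g = 1 := by
  rw [pow_succ, sq, h2, one_mul] at h3
  exact h3

theorem orderOf_mul_inv_right {u : G} (hu : u * u = 1) (a : G) :
    orderOf (u * a⁻¹) = orderOf (u * a) := by
  rw [← orderOf_inv, mul_inv_rev, inv_inv, inv_eq_of_mul_eq_one_right hu]
  exact SemiconjBy.orderOf_eq u (show u * (a * u) = u * a * u by rw [mul_assoc])

theorem check_one {rels targets : List (List ℕ)} {D : Data} (h : check rels [] targets D = true)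
    {u x y w : G} (hu : u * u = 1) (hw : w * w = 1)
    (hrels : ∀ r ∈ rels, evW (ev u x y w) r = 1) : ∀ t ∈ targets, evW (ev u x y w) t = 1 := by
  intro t ht
  simpa using check_sound h hu hw (1 : G) hrels (by simp) t ht

theorem ev_zero (u x y w : G) : ev u x y w 0 = u := rfl
theorem ev_one (u x y w : G) : ev u x y w 1 = x := rfl
theorem ev_two (u x y w : G) : ev u x y w 2 = x⁻¹ := rfl
theorem ev_three (u x y w : G) : ev u x y w 3 = y := rfl
theorem ev_four (u x y w : G) : ev u x y w 4 = y⁻¹ := rfl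
theorem ev_five (u x y w : G) : ev u x y w 5 = w := rfl

/-- `x` and `y` generate an elementary abelian group of order nine. -/
structure Nine (x y : G) : Prop where
  hx : x ^ 3 = 1
  hx1 : x ≠ 1
  hy : y ^ 3 = 1
  hy1 : y ≠ 1
  hc : Commute x y
  hne : x * y ≠ 1
  hne' : x * y⁻¹ ≠ 1

theorem Nine.pow_three {x y : G} (h : Nine x y) : (x * y) ^ 3 = 1 ∧ (x * y⁻¹) ^ 3 = 1 := by
  constructor
  · rw [h.hc.mul_pow, h.hx, h.hy, one_mul]
  · rw [h.hc.inv_right.mul_pow, inv_pow, h.hx, h.hy, inv_one, one_mul]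

theorem Nine.comm4 {x y : G} (h : Nine x y) : x * (y * (x⁻¹ * y⁻¹)) = 1 := by
  rw [← mul_assoc, h.hc.eq, mul_assoc, mul_inv_cancel_left, mul_inv_cancel]

theorem lines (hG : Small G) {u x y : G} (hu : u * u = 1) (hu1 : u ≠ 1) (h : Nine x y)
    (hux : (u * x) ^ 3 = 1) :
    (orderOf (u * y), orderOf (u * (x * y)), orderOf (u * (x * y⁻¹))) = (4, 5, 5) ∨
      (orderOf (u * y), orderOf (u * (x * y)), orderOf (u * (x * y⁻¹))) = (5, 4, 5) ∨
      (orderOf (u * y), orderOf (u * (x * y)), orderOf (u * (x * y⁻¹))) = (5, 5, 4) := by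
  have key : ∀ a : G, a ^ 3 = 1 → orderOf (u * a) ∈ List.range' 2 4 := by
    intro a ha
    have hne : orderOf (u * a) ≠ 1 := by
      intro e
      have e' : u = a⁻¹ := eq_inv_of_mul_eq_one_left (orderOf_eq_one_iff.1 e)
      exact hu1 (eq_one_of_sq_of_cube hu (by rw [e', inv_pow, ha, inv_one]))
    obtain ⟨h0, h5⟩ := hG (u * a)
    rw [List.mem_range'_1]
    omega
  obtain ⟨hk1, hk2⟩ := h.pow_three
  generalize e : (orderOf (u * y), orderOf (u * (x * y)), orderOf (u * (x * y⁻¹))) = t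
  rcases lineCases_cover t (by
      rw [← e, List.pair_mem_product, List.pair_mem_product]
      exact ⟨key _ h.hy, key _ hk1, key _ hk2⟩) with hm | hm
  · obtain ⟨c, hc, hct⟩ := List.mem_map.1 hm
    subst e
    exfalso
    have hck := List.all_eq_true.1 lineCases_check c hc
    have hi := List.all_eq_true.1 lineTargets_lt c hc
    rw [Nat.blt_eq] at hi
    have hr : ∀ r ∈ baseRels ++ vrels c.1 0, evW (ev u x y 1) r = 1 := by
      rw [hct]
      simp [baseRels, vrels, evW_pw, ev_zero, ev_one, ev_two, ev_three, ev_four, h.hx, h.hy, hux,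
        pow_orderOf_eq_one, h.comm4]
    have := check_one hck (u := u) (x := x) (y := y) (w := 1) hu (one_mul 1) hr _
      (List.mem_singleton_self _)
    obtain ⟨i, hi'⟩ : ∃ i, c.2.1 = i := ⟨_, rfl⟩
    rw [hi'] at this hi
    interval_cases i <;>
      simp [lineTargets, ev_zero, ev_one, ev_three, ev_four, hu1, h.hx1, h.hy1, h.hne, h.hne'] at this
  · exact hm

/-- The configuration generating `A₆`. -/
structure Frame (u x y : G) : Prop where
  nine : Nine x y
  hu : u * u = 1
  hu1 : u ≠ 1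
  hux : (u * x) ^ 3 = 1
  huy : (u * y) ^ 4 = 1
  huxy : orderOf (u * (x * y)) = 5
  huxy' : orderOf (u * (x * y⁻¹)) = 5

theorem exists_frame (hG : Small G) {u x y : G} (hu : u * u = 1) (hu1 : u ≠ 1) (h : Nine x y)
    (hux : (u * x) ^ 3 = 1) : ∃ y', Frame u x y' := by
  have hx2 : x * x = x⁻¹ := (inv_eq_of_mul_eq_one_right (by rw [← mul_assoc, ← sq, ← pow_succ, h.hx])).symm
  rcases lines hG hu hu1 h hux with e | e | e <;> simp only [Prod.mk.injEq] at e <;>
    obtain ⟨e1, e2, e3⟩ := e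
  · exact ⟨y, h, hu, hu1, hux, e1 ▸ pow_orderOf_eq_one _, e2, e3⟩
  · have i1 : x * (x * y) = (x * y⁻¹)⁻¹ := by
      rw [← mul_assoc, hx2, mul_inv_rev, inv_inv, h.hc.inv_left.eq]
    have i2 : x * (x * y)⁻¹ = y⁻¹ := by rw [h.hc.eq, mul_inv_rev, mul_inv_cancel_left]
    refine ⟨x * y, ⟨h.hx, h.hx1, h.pow_three.1, h.hne, (Commute.refl x).mul_right h.hc, ?_, ?_⟩,
      hu, hu1, hux, e2 ▸ pow_orderOf_eq_one _, ?_, ?_⟩
    · rw [i1]; exact inv_ne_one.2 h.hne'
    · rw [i2]; exact inv_ne_one.2 h.hy1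
    · rw [i1, orderOf_mul_inv_right hu, e3]
    · rw [i2, orderOf_mul_inv_right hu, e1]
  · have i1 : x * (x * y⁻¹) = (x * y)⁻¹ := by
      rw [← mul_assoc, hx2, mul_inv_rev, h.hc.inv_left.inv_right.eq]
    have i2 : x * (x * y⁻¹)⁻¹ = y := by
      rw [h.hc.inv_right.eq, mul_inv_rev, mul_inv_cancel_left, inv_inv]
    refine ⟨x * y⁻¹, ⟨h.hx, h.hx1, h.pow_three.2, h.hne', (Commute.refl x).mul_right h.hc.inv_right,
      ?_, ?_⟩, hu, hu1, hux, e3 ▸ pow_orderOf_eq_one _, ?_, ?_⟩
    · rw [i1]; exact inv_ne_one.2 h.hne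
    · rw [i2]; exact h.hy1
    · rw [i1, orderOf_mul_inv_right hu, e2]
    · rw [i2, e1]

/-- Finding a conjugate of an involution whose product with `x` has order three. -/
theorem exists_u (hG : Small G) {t x : G} (ht : t * t = 1) (ht1 : t ≠ 1) (hx : x ^ 3 = 1)
    (hinv : t * x * t ≠ x⁻¹) : ∃ u : G, u * u = 1 ∧ u ≠ 1 ∧ (u * x) ^ 3 = 1 := by
  have hti : t⁻¹ = t := inv_eq_of_mul_eq_one_right ht
  rcases hG.cases (t * x) with h | h | h | h | h
  · have e' : t = x⁻¹ := eq_inv_of_mul_eq_one_left h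
    exact absurd (eq_one_of_sq_of_cube ht (by rw [e', inv_pow, hx, inv_one])) ht1
  · refine absurd ?_ hinv
    have h' := pow_orderOf_eq_one (t * x)
    rw [h, sq] at h'
    exact eq_inv_of_mul_eq_one_left (by simpa [mul_assoc] using h')
  · exact ⟨t, ht, ht1, h ▸ pow_orderOf_eq_one _⟩
  · refine ⟨(t * x) ^ 2, ?_, ?_, ?_⟩
    · rw [← pow_add, show 2 + 2 = orderOf (t * x) by rw [h]]; exact pow_orderOf_eq_one _
    · exact fun e => by
        have := orderOf_dvd_of_pow_eq_one e
        rw [h] at this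
        norm_num at this
    · have := check_one cubeFour_check (u := t) (x := x) (y := 1) (w := 1) ht (one_mul 1) (by
        simp [evW_pw, ev_zero, ev_one, hx, ← h, pow_orderOf_eq_one]) _ (List.mem_singleton_self _)
      have hx2 : x * x = x⁻¹ := (inv_eq_of_mul_eq_one_right (by rw [← mul_assoc, ← sq, ← pow_succ, hx])).symm
      simpa [evW_pw, ev_zero, ev_one, ev_two, sq, mul_assoc, hx2] using this
  · refine ⟨t * x * t * x⁻¹ * t, ?_, ?_, ?_⟩
    · simp only [mul_assoc]
      rw [← mul_assoc t t, ht, one_mul, inv_mul_cancel_left, ← mul_assoc t t, ht, one_mul,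
        mul_inv_cancel_left, ht]
    · intro e
      apply ht1
      have e' : (t * x) * t * (t * x)⁻¹ = 1 := by rw [mul_inv_rev, hti]; simpa [mul_assoc] using e
      exact conj_eq_one_iff.1 e'
    · have := check_one cubeFive_check (u := t) (x := x) (y := 1) (w := 1) ht (one_mul 1) (by
        simp [evW_pw, ev_zero, ev_one, hx, ← h, pow_orderOf_eq_one]) _ (List.mem_singleton_self _)
      simpa [evW_pw, ev_zero, ev_one, ev_two, mul_assoc] using this

end CfsgLib.Recog.OrdersFive
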