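import Mathlib
import Cfsg.Agent.Lib.Recog.Isospectral
import Cfsg.Agent.Lib.Recog.MatList
import Cfsg.Agent.Lib.Recog.PGL2Spectrum

/-!
The Frobenius group 3⁴ : (5 : 8) is isospectral to PGL(2,9).
-/

namespace CfsgLib.Recog.NineFrob

open MatList

/-- Generator data. -/
def na : List ℕ := [0,0,0,2,1,0,0,2,0,1,0,2,0,0,1,2]
/-- Generator data. -/
def nai : List ℕ := [2,1,0,0,2,0,1,0,2,0,0,1,2,0,0,0]
/-- Generator data. -/
def nb : List ℕ := [0,1,1,0,0,2,1,1,1,0,1,2,2,0,2,0]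
/-- Generator data. -/
def nbi : List ℕ := [1,1,1,0,2,1,1,1,2,2,2,2,0,0,2,2]
/-- All forty elements. -/
def elemsNine : List (List ℕ) :=
  [[1,0,0,0,0,1,0,0,0,0,1,0,0,0,0,1],
   [0,0,0,2,1,0,0,2,0,1,0,2,0,0,1,2],
   [0,1,1,0,0,2,1,1,1,0,1,2,2,0,2,0],
   [0,0,2,1,0,0,2,0,1,0,2,0,0,1,2,0],
   [1,1,0,1,2,1,1,2,0,1,2,2,0,2,0,2],
   [1,0,1,0,1,1,2,0,1,2,2,1,2,0,2,2],
   [1,2,2,0,0,1,2,1,2,1,0,2,2,2,1,1],
   [0,2,1,0,0,2,0,1,0,2,0,0,1,2,0,0],
   [0,1,0,1,1,2,0,2,2,2,1,0,0,2,2,0],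
   [2,2,0,1,1,2,1,2,1,0,2,1,2,1,1,0],
   [1,0,1,1,2,0,2,1,2,1,0,1,2,2,0,2],
   [2,0,1,1,2,1,2,0,0,2,1,2,1,1,0,2],
   [1,1,2,2,2,0,1,2,1,2,1,0,0,2,2,1],
   [2,2,2,0,1,2,2,2,1,1,1,1,0,0,1,1],
   [2,1,0,0,2,0,1,0,2,0,0,1,2,0,0,0],
   [0,1,1,2,1,2,0,1,2,1,2,1,1,0,2,2],
   [2,2,0,0,2,2,2,2,1,1,1,2,0,1,1,1],
   [2,0,0,2,2,2,2,1,1,1,2,1,1,1,1,0],
   [0,2,2,2,2,1,2,2,2,1,1,1,1,0,0,1],
   [0,0,2,2,2,2,1,2,1,2,1,1,1,1,0,0],
   [2,0,0,0,0,2,0,0,0,0,2,0,0,0,0,2],
   [0,0,0,1,2,0,0,1,0,2,0,1,0,0,2,1],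
   [0,0,1,2,0,0,1,0,2,0,1,0,0,2,1,0],
   [1,2,0,0,1,0,2,0,1,0,0,2,1,0,0,0],
   [0,1,2,0,0,1,0,2,0,1,0,0,2,1,0,0],
   [0,2,2,0,0,1,2,2,2,0,2,1,1,0,1,0],
   [2,2,0,2,1,2,2,1,0,2,1,1,0,1,0,1],
   [2,0,2,0,2,2,1,0,2,1,1,2,1,0,1,1],
   [2,0,2,2,1,0,1,2,1,2,0,2,1,1,0,1],
   [0,2,0,2,2,1,0,1,1,1,2,0,0,1,1,0],
   [2,1,1,0,0,2,1,2,1,2,0,1,1,1,2,2],
   [1,1,0,2,2,1,2,1,2,0,1,2,1,2,2,0],
   [1,0,2,2,1,2,1,0,0,1,2,1,2,2,0,1],
   [2,2,1,1,1,0,2,1,2,1,2,0,0,1,1,2],
   [0,2,2,1,2,1,0,2,1,2,1,2,2,0,1,1],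
   [1,1,1,0,2,1,1,1,2,2,2,2,0,0,2,2],
   [1,1,0,0,1,1,1,1,2,2,2,1,0,2,2,2],
   [1,0,0,1,1,1,1,2,2,2,1,2,2,2,2,0],
   [0,1,1,1,1,2,1,1,1,2,2,2,2,0,0,2],
   [0,0,1,1,1,1,2,1,2,1,2,2,2,2,0,0]]

/-- Minus one. -/
def negNine : List ℕ := (oneL 4).map (fun x => x * 2)

/-- Identity, a power minus one, or a root of the fifth cyclotomic polynomial. -/
def goodNine (a : List ℕ) : Bool :=
  ((a == oneL 4) || ([1, 2, 4, 5].any fun k => powL 3 4 a k == negNine) ||
    ((List.range 16).all fun t =>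
      ((powL 3 4 a 4).getD t 0 + (powL 3 4 a 3).getD t 0 + (powL 3 4 a 2).getD t 0 + a.getD t 0 + (oneL 4).getD t 0) % 3 == 0)) &&
  ((powL 3 4 a 8 == oneL 4) || (powL 3 4 a 10 == oneL 4))

theorem all_good : elemsNine.all goodNine = true := by decide +kernel

theorem closed_nine :
    elemsNine.all (fun l => elemsNine.contains (mulL 3 4 na l) && elemsNine.contains (mulL 3 4 nb l)) = true := by
  decide +kernel

theorem inv_facts : mulL 3 4 na nai = oneL 4 ∧ mulL 3 4 nai na = oneL 4 ∧ mulL 3 4 nb nbi = oneL 4 ∧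
    mulL 3 4 nbi nb = oneL 4 := by decide +kernel

theorem one_mem_elems : oneL 4 ∈ elemsNine := by decide +kernel

theorem negNine_eq : toMat 3 4 negNine = -1 := by decide +kernel

theorem key_two : ∀ x : ZMod 3, -x = x → x = 0 := by decide

theorem key_five : ∀ x : ZMod 3, x + x + x + x + x = 0 → x = 0 := by decide

/-- GL(4,3). -/
abbrev GL43 := Matrix.GeneralLinearGroup (Fin 4) (ZMod 3)

/-- First generator. -/
def nA : GL43 := unitL 3 4 na nai inv_facts.1 inv_facts.2.1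
/-- Second generator. -/
def nB : GL43 := unitL 3 4 nb nbi inv_facts.2.2.1 inv_facts.2.2.2

/-- The group of order forty. -/
def grpNine : Subgroup GL43 := Subgroup.closure {nA, nB}

theorem classify (g : grpNine) :
    (∀ v : Fin 4 → ZMod 3, Matrix.mulVec ((g : GL43) : Matrix (Fin 4) (Fin 4) (ZMod 3)) v = v → g ≠ 1 → v = 0) ∧
      (g ^ 8 = 1 ∨ g ^ 10 = 1) := by
  obtain ⟨l, hl, he⟩ := mem_list_of_mem_closure (A := nA) (B := nB) (ga := na) (gb := nb) rfl rfl elemsNine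
    one_mem_elems (fun l hl => by simpa using List.all_eq_true.1 closed_nine l hl) g.2
  set M := ((g : GL43) : Matrix (Fin 4) (Fin 4) (ZMod 3)) with hM
  have hinj : ∀ k, powL 3 4 l k = oneL 4 → g ^ k = 1 := fun k hk => by
    apply Subtype.ext; apply Units.ext
    simp [← hM, he, ← toMat_powL, hk, toMat_oneL]
  have hg := List.all_eq_true.1 all_good l hl
  simp only [goodNine, Bool.and_eq_true, Bool.or_eq_true, beq_iff_eq, List.any_eq_true, List.all_eq_true,
    List.mem_range] at hg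
  refine ⟨fun v hv hne => ?_, hg.2.imp (hinj 8) (hinj 10)⟩
  have hk' : ∀ m, Matrix.mulVec (M ^ m) v = v := by
    intro m
    induction m with
    | zero => simp
    | succ m ih => rw [pow_succ, ← Matrix.mulVec_mulVec, hv, ih]
  rcases hg.1 with (h | ⟨k, -, h⟩) | h
  · exact absurd (Subtype.ext (Units.ext (by rw [← hM, he, h, toMat_oneL]; rfl))) hne
  · have h5 := hk' k
    rw [he, ← toMat_powL, h, negNine_eq, Matrix.neg_mulVec, Matrix.one_mulVec] at h5
    exact funext fun i => key_two _ (congrFun h5 i)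
  · have h4 : M ^ 4 + M ^ 3 + M ^ 2 + M + 1 = 0 := by
      rw [he, ← toMat_powL, ← toMat_powL, ← toMat_powL, ← toMat_oneL 3 4]
      ext i j
      simp only [Matrix.add_apply, toMat, Matrix.of_apply, Matrix.zero_apply]
      rw [← Nat.cast_add, ← Nat.cast_add, ← Nat.cast_add, ← Nat.cast_add, ZMod.natCast_eq_zero_iff]
      exact Nat.dvd_of_mod_eq_zero (h _ (index_lt i j))
    have h5 := congrArg (fun N => Matrix.mulVec N v) h4
    simp only [Matrix.add_mulVec, hk', hv, Matrix.one_mulVec, Matrix.zero_mulVec] at h5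
    exact funext fun i => key_five _ (congrFun h5 i)

/-- The action on the natural module. -/
def actFn (g : grpNine) (v : Multiplicative (Fin 4 → ZMod 3)) : Multiplicative (Fin 4 → ZMod 3) :=
  Multiplicative.ofAdd (Matrix.mulVec ((g : GL43) : Matrix (Fin 4) (Fin 4) (ZMod 3)) v.toAdd)

theorem actFn_mul (g h : grpNine) (v : Multiplicative (Fin 4 → ZMod 3)) :
    actFn (g * h) v = actFn g (actFn h v) := by
  simp [actFn, Matrix.mulVec_mulVec]

theorem actFn_one (v : Multiplicative (Fin 4 → ZMod 3)) : actFn 1 v = v := by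
  simp [actFn]

/-- The action. -/
def actNine : grpNine →* MulAut (Multiplicative (Fin 4 → ZMod 3)) where
  toFun g :=
    { toFun := actFn g
      invFun := actFn g⁻¹
      left_inv := fun v => by rw [← actFn_mul, inv_mul_cancel, actFn_one]
      right_inv := fun v => by rw [← actFn_mul, mul_inv_cancel, actFn_one]
      map_mul' := fun v w => by simp [actFn, Matrix.mulVec_add] }
  map_one' := MulEquiv.ext actFn_one
  map_mul' g h := MulEquiv.ext (actFn_mul g h)

/-- The Frobenius group. -/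
abbrev Frob := Multiplicative (Fin 4 → ZMod 3) ⋊[actNine] grpNine

theorem exp_three (v : Multiplicative (Fin 4 → ZMod 3)) : v ^ 3 = 1 := by
  apply Multiplicative.toAdd.injective
  rw [toAdd_pow, toAdd_one]
  funext i
  simp only [Pi.smul_apply, Pi.zero_apply, nsmul_eq_mul]
  rw [show ((3 : ℕ) : ZMod 3) = 0 from by decide, zero_mul]

theorem orderOf_frob (x : Frob) : orderOf x ∣ 8 ∨ orderOf x ∣ 10 ∨ orderOf x ∣ 3 := by
  by_cases hx : x.right = 1
  · refine Or.inr (Or.inr (orderOf_dvd_of_pow_eq_one ?_))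
    rw [show x = SemidirectProduct.inl x.left from SemidirectProduct.ext rfl hx, ← map_pow, exp_three, map_one]
  obtain ⟨hfpf, hord⟩ := classify x.right
  have hz : ∀ k, x.right ^ k = 1 → x ^ k = 1 := by
    intro k hk
    have hr : (x ^ k).right = 1 := by
      have := map_pow SemidirectProduct.rightHom x k
      rw [SemidirectProduct.rightHom_eq_right] at this
      rw [this, hk]
    have h := congrArg SemidirectProduct.left ((Commute.refl x).pow_right k).eq
    rw [SemidirectProduct.mul_left, SemidirectProduct.mul_left, hr, map_one, MulAut.one_apply,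
      mul_comm x.left, mul_left_inj] at h
    exact SemidirectProduct.ext (Multiplicative.toAdd.injective (hfpf _ (congrArg Multiplicative.toAdd h) hx)) hr
  rcases hord with h | h
  · exact Or.inl (orderOf_dvd_of_pow_eq_one (hz 8 h))
  · exact Or.inr (Or.inl (orderOf_dvd_of_pow_eq_one (hz 10 h)))

theorem order_eight : toMat 3 4 (powL 3 4 nb 8) = 1 ∧
    toMat 3 4 (powL 3 4 nb 4) = -1 ∧ toMat 3 4 (powL 3 4 na 5) = 1 ∧ toMat 3 4 na ≠ 1 ∧
    (-1 : Matrix (Fin 4) (Fin 4) (ZMod 3)) ≠ 1 := by decide +kernel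

theorem range_orderOf_frob {F : Type*} [Field F] [Fintype F] (hF : Fintype.card F = 9) :
    Set.range (orderOf : Frob → ℕ) = Set.range (orderOf : PGL2.PGL F → ℕ) := by
  haveI : Fact (Nat.Prime 3) := ⟨Nat.prime_three⟩
  haveI : CharP F 3 := charP_of_card_eq_prime_pow (f := 2) (by norm_num [hF])
  rw [PGL2.range_orderOf_pgl (p := 3) (n := 2) (by norm_num) (by norm_num [hF]), hF]
  haveI : Finite (Multiplicative (Fin 4 → ZMod 3)) := inferInstanceAs (Finite (Fin 4 → ZMod 3))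
  haveI : Finite Frob := Finite.of_equiv _ SemidirectProduct.equivProd.symm
  apply Set.Subset.antisymm
  · rintro _ ⟨x, rfl⟩
    rcases orderOf_frob x with h | h | h
    exacts [Or.inl h, Or.inr (Or.inl h), Or.inr (Or.inr h)]
  · have hd : ∀ {m k : ℕ}, m ∣ k → (∃ x : Frob, orderOf x = k) → m ∈ Set.range (orderOf : Frob → ℕ) := by
      rintro m k hmk ⟨x, rfl⟩
      exact ⟨x ^ (orderOf x / m), orderOf_pow_orderOf_div (orderOf_pos x).ne' hmk⟩
    obtain ⟨b8, b4, a5, a1, hne⟩ := order_eight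
    let A : grpNine := ⟨nA, Subgroup.subset_closure (Set.mem_insert _ _)⟩
    let B : grpNine := ⟨nB, Subgroup.subset_closure (Set.mem_insert_of_mem _ rfl)⟩
    have hA : ∀ k, (((A ^ k : grpNine) : GL43) : Matrix (Fin 4) (Fin 4) (ZMod 3)) = toMat 3 4 (powL 3 4 na k) :=
      fun k => by rw [toMat_powL]; rfl
    have hB : ∀ k, (((B ^ k : grpNine) : GL43) : Matrix (Fin 4) (Fin 4) (ZMod 3)) = toMat 3 4 (powL 3 4 nb k) :=
      fun k => by rw [toMat_powL]; rfl
    haveI : Fact (Nat.Prime 2) := ⟨Nat.prime_two⟩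
    have oB : orderOf B = 8 := by
      refine orderOf_eq_prime_pow (p := 2) (n := 2) ?_ ?_
      · intro h
        rw [show (2 : ℕ) ^ 2 = 4 from rfl] at h
        apply hne
        rw [← b4, ← hB, h]
        rfl
      · apply Subtype.ext; apply Units.ext
        rw [show (2 : ℕ) ^ (2 + 1) = 8 from rfl, hB, b8]; rfl
    have oA : orderOf A = 5 := by
      haveI : Fact (Nat.Prime 5) := ⟨Nat.prime_five⟩
      refine orderOf_eq_prime ?_ (fun h => a1 ?_)
      · apply Subtype.ext; apply Units.ext; rw [hA, a5]; rfl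
      · rw [show toMat 3 4 na = ((A : GL43) : Matrix (Fin 4) (Fin 4) (ZMod 3)) from rfl, h]; rfl
    have oB4 : orderOf (B ^ 4) = 2 := by rw [orderOf_pow_of_dvd (by norm_num) (by rw [oB]; norm_num), oB]
    have hcomm : Commute (B ^ 4) A := by
      apply Subtype.ext; apply Units.ext
      rw [Subgroup.coe_mul, Subgroup.coe_mul, Units.val_mul, Units.val_mul, hB, b4]
      simp
    have w10 : ∃ x : Frob, orderOf x = 10 := by
      refine ⟨SemidirectProduct.inr (B ^ 4 * A), ?_⟩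
      rw [orderOf_injective _ SemidirectProduct.inr_injective,
        hcomm.orderOf_mul_eq_mul_orderOf_of_coprime (by rw [oB4, oA]; decide), oB4, oA]
    have w8 : ∃ x : Frob, orderOf x = 8 :=
      ⟨SemidirectProduct.inr B, by rw [orderOf_injective _ SemidirectProduct.inr_injective, oB]⟩
    have w3 : ∃ x : Frob, orderOf x = 3 := by
      refine ⟨SemidirectProduct.inl (Multiplicative.ofAdd (fun _ => 1)), ?_⟩
      rw [orderOf_injective _ SemidirectProduct.inl_injective]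
      exact orderOf_eq_prime (exp_three _)
        (fun e => one_ne_zero (α := ZMod 3) (congrFun (congrArg Multiplicative.toAdd e) 0))
    rintro d (h | h | h)
    exacts [hd h w8, hd h w10, hd h w3]

theorem unbounded {F : Type*} [Field F] [Fintype F] (hF : Fintype.card F = 9) (N : ℕ) :
    ∃ (H : Type) (_ : Group H) (_ : Fintype H), N < Fintype.card H ∧
      Set.range (orderOf : H → ℕ) = Set.range (orderOf : PGL2.PGL F → ℕ) := by
  haveI : Finite (Multiplicative (Fin 4 → ZMod 3)) := inferInstanceAs (Finite (Fin 4 → ZMod 3))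
  haveI : Finite Frob := Finite.of_equiv _ SemidirectProduct.equivProd.symm
  rw [← range_orderOf_frob hF]
  refine exists_large_isospectral_of_exponent (SemidirectProduct.rightHom : Frob →* grpNine).ker ?_ Nat.prime_three ?_ N
  · intro h
    have hm : (SemidirectProduct.inl (Multiplicative.ofAdd fun _ => (1 : ZMod 3)) : Frob) ∈
        (SemidirectProduct.rightHom : Frob →* grpNine).ker := by simp
    rw [h, Subgroup.mem_bot] at hm
    have h2 := congrFun (congrArg (fun x : Frob => x.left.toAdd) hm) 0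
    simp at h2
  · intro x hx
    have hr : x.right = 1 := by simpa using hx
    rw [show x = SemidirectProduct.inl x.left from SemidirectProduct.ext rfl hr, ← map_pow, exp_three, map_one]

end CfsgLib.Recog.NineFrob
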