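import Cfsg.Agent.Lib.OrderCount.ClassSize
import Cfsg.Agent.Lib.PermSmall.Recognition
import Cfsg.Agent.Lib.PermSmall.Kernel

/-!
Groups of order `q (q ^ 2 - 1)`, `q` an odd prime power, recognised as `PGL(2, q)` by the numbers of elements of
given orders.
-/

set_option autoImplicit false
set_option linter.unusedSectionVars false

namespace CfsgLib.PGL2Nse

open Subgroup MulAction CfsgLib.OrderCount

universe u

variable {G : Type u} [Group G] [Finite G] {p q : ℕ}

/-- A set of elements cut out by their orders. -/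
theorem dvd_card_filter [Fintype G] (P : ℕ → Prop) [DecidablePred P] (d : ℕ)
    (h : ∀ g : G, P (orderOf g) → d ∣ cnt G (orderOf g)) :
    d ∣ (Finset.univ.filter fun g : G => P (orderOf g)).card := by
  classical
  rw [Finset.card_eq_sum_card_image orderOf]
  refine Finset.dvd_sum fun k hk => ?_
  obtain ⟨g, hg, rfl⟩ := Finset.mem_image.1 hk
  have hPg : P (orderOf g) := (Finset.mem_filter.1 hg).2
  refine dvd_trans (h g hPg) (dvd_of_eq ?_)
  rw [cnt, Nat.card_eq_fintype_card, Fintype.card_subtype, Finset.filter_filter]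
  refine congrArg Finset.card (Finset.filter_congr fun x _ => ?_)
  exact ⟨fun e => ⟨e ▸ hPg, e⟩, fun e => e.2⟩

theorem eq_of_congruences {q a : ℕ} (hq : 2 ≤ q) (h1 : q ∣ a + 1) (h2 : q * q - 1 ∣ a)
    (hlt : a < q * (q * q - 1)) : a = q * q - 1 := by
  obtain ⟨m, rfl⟩ := h2
  have hm : m < q := Nat.lt_of_mul_lt_mul_left (by linarith [Nat.mul_comm q (q * q - 1)] :
    (q * q - 1) * m < (q * q - 1) * q)
  have h3 : (q : ℤ) ∣ (((q * q - 1) * m + 1 : ℕ) : ℤ) := Int.natCast_dvd_natCast.2 h1
  have hqq : 1 ≤ q * q := Nat.one_le_iff_ne_zero.2 (by positivity)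
  rw [Nat.cast_add, Nat.cast_mul, Nat.cast_sub hqq, Nat.cast_mul, Nat.cast_one] at h3
  have h4 : (q : ℤ) ∣ (1 - (m : ℤ)) := by
    have h5 := dvd_sub h3 (dvd_mul_right (q : ℤ) ((q : ℤ) * m))
    rwa [show ((q : ℤ) * q - 1) * m + 1 - q * (q * m) = 1 - (m : ℤ) by ring] at h5
  have h6 : (1 : ℤ) - m = 0 := Int.eq_zero_of_abs_lt_dvd h4 (by rw [abs_lt]; omega)
  rw [show m = 1 by omega, mul_one]

theorem coprime_sq_sub_one {q : ℕ} (hq : 1 ≤ q) : Nat.Coprime q (q * q - 1) := by
  refine Nat.coprime_of_dvd fun k hk h1 h2 => hk.one_lt.ne' (Nat.dvd_one.1 ?_)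
  have h3 : k ∣ q * q := dvd_mul_of_dvd_left h1 _
  have h4 := Nat.dvd_sub h3 h2
  rwa [Nat.sub_sub_self (Nat.one_le_iff_ne_zero.2 (by positivity))] at h4

/-- The elements of order prime to `p` are the roots of `x ^ (q ^ 2 - 1) = 1`. -/
theorem dvd_card_regular [hp : Fact p.Prime] [Fintype G] {f : ℕ} (hf : 0 < f) (hq : q = p ^ f)
    (hN : Nat.card G = q * (q * q - 1)) :
    q * q - 1 ∣ (Finset.univ.filter fun g : G => ¬ p ∣ orderOf g).card := by
  classical
  have hq1 : 1 ≤ q := hq ▸ Nat.one_le_pow _ _ hp.out.pos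
  have h := dvd_card_pow_eq_one (G := G) (m := q * q - 1) (hN ▸ dvd_mul_left _ _)
  rw [Nat.card_eq_fintype_card, Fintype.card_subtype] at h
  refine h.trans (dvd_of_eq (congrArg Finset.card (Finset.filter_congr fun g _ => ?_)))
  have hdiv : orderOf g ∣ q * (q * q - 1) := hN ▸ orderOf_dvd_natCard g
  constructor
  · intro hg hpd
    have h1 := Nat.dvd_gcd ((dvd_pow_self p hf.ne').trans (dvd_of_eq hq.symm))
      (hpd.trans (orderOf_dvd_of_pow_eq_one hg))
    rw [(coprime_sq_sub_one hq1).gcd_eq_one, Nat.dvd_one] at h1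
    exact hp.out.one_lt.ne' h1
  · intro hpd
    refine orderOf_dvd_iff_pow_eq_one.1 ?_
    have hco : Nat.Coprime (orderOf g) q := hq ▸ (hp.out.coprime_iff_not_dvd.2 hpd).symm.pow_right f
    exact hco.dvd_of_dvd_mul_left hdiv

/-- If all element counts are `q ^ 2 - 1` or multiples of `q`, then the `p`-singular elements are the `q ^ 2 - 1`
elements of order `p`. -/
theorem counts [hp : Fact p.Prime] {f : ℕ} (hp2 : p ≠ 2) (hf : 0 < f) (hq : q = p ^ f)
    (hN : Nat.card G = q * (q * q - 1))
    (hval : ∀ k, 2 < k → 0 < cnt G k → q ∣ cnt G k ∨ cnt G k = q * q - 1) (h2 : q ∣ cnt G 2) :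
    cnt G p = q * q - 1 ∧ ∀ g : G, p ∣ orderOf g → orderOf g = p := by
  classical
  have : Fintype G := Fintype.ofFinite G
  have hp3 : 2 < p := lt_of_le_of_ne hp.out.two_le (Ne.symm hp2)
  have hq1 : 2 ≤ q := le_trans hp.out.two_le (hq ▸ Nat.le_self_pow hf.ne' p)
  have hqq : 1 < q * q := by nlinarith
  have hpq : p ∣ q := hq ▸ dvd_pow_self p hf.ne'
  have hpN : p ∣ Nat.card G := hN ▸ dvd_mul_of_dvd_left hpq _
  have hnp : cnt G p = q * q - 1 := by
    rcases hval p hp3 (cnt_pos_prime hp.out hpN) with h | h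
    · have h1 := Nat.dvd_sub (prime_dvd_one_add_cnt hp.out hpN) (hpq.trans h)
      rw [Nat.add_sub_cancel, Nat.dvd_one] at h1
      omega
    · exact h
  set Bad := (Finset.univ.image (orderOf : G → ℕ)).filter fun k => 1 < k ∧ cnt G k = q * q - 1 with hBad
  have hpBad : p ∈ Bad := by
    obtain ⟨g, hg⟩ := cnt_pos_iff.1 (cnt_pos_prime hp.out hpN)
    exact Finset.mem_filter.2 ⟨Finset.mem_image.2 ⟨g, Finset.mem_univ _, hg⟩, hp.out.one_lt, hnp⟩
  have hgood : ∀ g : G, orderOf g ≠ 1 → orderOf g ∉ Bad → q ∣ cnt G (orderOf g) := fun g h1 hnb => by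
    have hpos := orderOf_pos g
    rcases (by omega : orderOf g = 2 ∨ 2 < orderOf g) with h | h
    · rw [h]; exact h2
    · refine (hval _ h (cnt_pos_iff.2 ⟨g, rfl⟩)).resolve_right fun e => hnb ?_
      exact Finset.mem_filter.2 ⟨Finset.mem_image_of_mem _ (Finset.mem_univ _), by omega, e⟩
  have hB : (Finset.univ.filter fun g : G => orderOf g ∈ Bad).card = Bad.card * (q * q - 1) := by
    have h := Finset.card_eq_sum_card_fiberwise (f := orderOf)
      (s := Finset.univ.filter fun g : G => orderOf g ∈ Bad) (t := Bad) (fun g hg => (Finset.mem_filter.1 hg).2)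
    rw [h]
    refine Finset.sum_const_nat fun k hk => ?_
    rw [← (Finset.mem_filter.1 hk).2.2, cnt, Nat.card_eq_fintype_card, Fintype.card_subtype, Finset.filter_filter]
    exact congrArg Finset.card (Finset.filter_congr fun x _ => ⟨fun e => e.2, fun e => ⟨e ▸ hk, e⟩⟩)
  have hD : q ∣ (Finset.univ.filter fun g : G => orderOf g ≠ 1 ∧ orderOf g ∉ Bad).card :=
    dvd_card_filter (fun k => k ≠ 1 ∧ k ∉ Bad) q fun g hg => hgood g hg.1 hg.2
  have h1Bad : 1 ∉ Bad := fun h => lt_irrefl _ (Finset.mem_filter.1 h).2.1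
  have hone : (Finset.univ.filter fun g : G => orderOf g = 1).card = 1 := by
    rw [Finset.card_eq_one]
    exact ⟨1, by ext g; simp [orderOf_eq_one_iff]⟩
  have htot : Nat.card G = 1 + Bad.card * (q * q - 1) +
      (Finset.univ.filter fun g : G => orderOf g ≠ 1 ∧ orderOf g ∉ Bad).card := by
    rw [← hB]
    refine Eq.trans ?_ (congrArg (fun x => x + _ + _) hone)
    rw [← Finset.card_union_of_disjoint
      (Finset.disjoint_filter.2 fun g _ (a : orderOf g = 1) b => h1Bad (by rw [← a]; exact b)), ← Finset.card_union_of_disjoint ?_,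
      Nat.card_eq_fintype_card, ← Finset.card_univ]
    · congr 1
      ext g
      simp only [Finset.mem_univ, Finset.mem_union, Finset.mem_filter, true_and, true_iff]
      tauto
    · rw [← Finset.filter_or]
      exact Finset.disjoint_filter.2 fun g _ a b => a.elim b.1 b.2
  have hcard1 : Bad.card * (q * q - 1) = q * q - 1 := by
    refine eq_of_congruences hq1 ?_ (dvd_mul_left _ _) (hN ▸ by omega)
    rw [add_comm (Bad.card * _)]
    refine (Nat.dvd_add_left hD).1 ?_
    rw [← htot, hN]
    exact dvd_mul_right _ _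
  obtain ⟨b, hb⟩ := Finset.card_eq_one.1
    (Nat.eq_of_mul_eq_mul_right (by omega) (hcard1.trans (one_mul _).symm))
  have hBad1 : ∀ k, k ∈ Bad → k = p := fun k hk => by
    rw [hb, Finset.mem_singleton] at hk hpBad
    rw [hk, hpBad]
  refine ⟨hnp, ?_⟩
  set T := Finset.univ.filter fun g : G => p ∣ orderOf g ∧ orderOf g ≠ p with hT
  have hTq : q ∣ T.card := dvd_card_filter (fun k => p ∣ k ∧ k ≠ p) q fun g hg =>
    hgood g (fun h => hp.out.one_lt.ne' (Nat.dvd_one.1 (h ▸ hg.1))) fun h => hg.2 (hBad1 _ h)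
  have hsplit : (Finset.univ.filter fun g : G => ¬ p ∣ orderOf g).card + cnt G p + T.card = Nat.card G := by
    rw [cnt, Nat.card_eq_fintype_card, Nat.card_eq_fintype_card, Fintype.card_subtype, hT,
      ← Finset.card_union_of_disjoint (Finset.disjoint_filter.2 fun g _ a b => a (b ▸ dvd_rfl)),
      ← Finset.card_union_of_disjoint ?_, ← Finset.card_univ]
    · congr 1
      ext g
      simp only [Finset.mem_univ, Finset.mem_union, Finset.mem_filter, true_and, iff_true]
      tauto
    · rw [← Finset.filter_or]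
      exact Finset.disjoint_filter.2 fun g _ a b => a.elim (fun h => h b.1) b.2
  have hTd : q * q - 1 ∣ T.card := by
    have h1 : q * q - 1 ∣ Nat.card G := hN ▸ dvd_mul_left _ _
    rw [← hsplit, hnp] at h1
    exact (Nat.dvd_add_right (dvd_add (dvd_card_regular hf hq hN) dvd_rfl)).1 h1
  have hT0 : T.card = 0 := by
    refine Nat.eq_zero_of_dvd_of_lt ((coprime_sq_sub_one (by omega)).mul_dvd_of_dvd_of_dvd hTq hTd) ?_
    omega
  intro g hg
  by_contra h
  exact Finset.notMem_empty g (Finset.card_eq_zero.1 hT0 ▸ Finset.mem_filter.2 ⟨Finset.mem_univ _, hg, h⟩)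

/-- A group of order `q (q ^ 2 - 1)` with `q ^ 2 - 1` elements of order `p`, no other `p`-singular elements and at
least `q ^ 2` involutions is `PGL(2, q)`. -/
theorem iso_pgl [hp : Fact p.Prime] {f : ℕ} (hp2 : p ≠ 2) (hf : 0 < f) (hq : q = p ^ f)
    (hN : Nat.card G = q * (q * q - 1)) (hnp : cnt G p = q * q - 1)
    (hsing : ∀ g : G, p ∣ orderOf g → orderOf g = p) (hinv : q * q ≤ cnt G 2) :
    ∃ (K : Type) (_ : Field K) (_ : Fintype K), Fintype.card K = q ∧
      Nonempty (G ≃* Matrix.ProjGenLinGroup (Fin 2) K) := by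
  classical
  have : Fintype G := Fintype.ofFinite G
  have hp3 : 2 < p := lt_of_le_of_ne hp.out.two_le (Ne.symm hp2)
  have hq3 : 3 ≤ q := le_trans hp3 (hq ▸ Nat.le_self_pow hf.ne' p)
  have hfac : (Nat.card G).factorization p = f := by
    rw [hN, Nat.factorization_mul (by omega) (by nlinarith [Nat.sub_pos_of_lt (show 1 < q * q by nlinarith)]),
      Finsupp.add_apply, hq, Nat.Prime.factorization_pow hp.out, Finsupp.single_eq_same,
      Nat.factorization_eq_zero_of_not_dvd, add_zero]
    intro h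
    have h' := Nat.dvd_gcd (dvd_pow_self p hf.ne') h
    rw [(coprime_sq_sub_one (q := p ^ f) (Nat.one_le_pow _ _ hp.out.pos)).gcd_eq_one, Nat.dvd_one] at h'
    exact hp.out.one_lt.ne' h'
  -- no element of order prime to `p` centralises one of order `p`
  have hprime : ∀ x y : G, orderOf x = p → Commute x y → p.Coprime (orderOf y) → y = 1 := fun x y hx hxy hc => by
    have h := hxy.orderOf_mul_eq_mul_orderOf_of_coprime (by rwa [hx])
    rw [hx] at h
    have h1 := hsing (x * y) (h ▸ dvd_mul_right _ _)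
    rw [h] at h1
    exact orderOf_eq_one_iff.1 ((Nat.mul_eq_left hp.out.ne_zero).1 h1)
  set C : G → Subgroup G := fun x => centralizer ({x} : Set G) with hC
  have hmemC : ∀ x y, y ∈ C x ↔ Commute x y := fun x y => by
    rw [hC, mem_centralizer_singleton_iff]
    exact ⟨fun h => h.symm, fun h => h.symm⟩
  have hconjC : ∀ x g y, y ∈ C (g * x * g⁻¹) ↔ g⁻¹ * y * g ∈ C x := fun x g y => by
    rw [hmemC, hmemC, commute_iff_eq, commute_iff_eq]
    constructor
    · intro h
      have := congrArg (fun z => g⁻¹ * z * g) h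
      simpa [mul_assoc] using this
    · intro h
      have := congrArg (fun z => g * z * g⁻¹) h
      simpa [mul_assoc] using this
  -- centralisers of elements of order `p`
  have hCcard : ∀ x : G, orderOf x = p →
      Nat.card (C x) = q ∧ ∀ y : G, orderOf y = p → ∃ g : G, g * x * g⁻¹ = y := by
    intro x hx
    have hpg : IsPGroup p (C x) := by
      intro y
      obtain ⟨j, w, hw, hj⟩ := Nat.exists_eq_pow_mul_and_not_dvd (orderOf_pos (y : G)).ne' p hp.out.ne_one
      refine ⟨j, Subtype.ext ?_⟩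
      refine hprime x _ hx (((hmemC x _).1 y.2).pow_right _) ?_
      rw [SubgroupClass.coe_pow, orderOf_pow' _ (pow_ne_zero _ hp.out.ne_zero), hj, Nat.gcd_mul_right_left,
        Nat.mul_div_cancel_left _ (pow_pos hp.out.pos _)]
      exact hp.out.coprime_iff_not_dvd.2 hw
    obtain ⟨j, hj⟩ := IsPGroup.iff_card.1 hpg
    have hjf : j ≤ f := by
      have h : p ^ j ∣ Nat.card G := hj ▸ card_subgroup_dvd_card _
      exact hfac ▸ (hp.out.pow_dvd_iff_le_factorization Nat.card_pos.ne').1 h
    have hle : Nat.card (C x) ≤ q := hj ▸ hq ▸ Nat.pow_le_pow_right hp.out.pos hjf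
    let φ : G ⧸ C x → {g : G // orderOf g = p} := fun c => ⟨c.out * x * c.out⁻¹, by rw [orderOf_conj', hx]⟩
    have hφ : Function.Injective φ := fun c d h => by
      have h' : c.out * x * c.out⁻¹ = d.out * x * d.out⁻¹ := congrArg Subtype.val h
      rw [← QuotientGroup.out_eq' c, ← QuotientGroup.out_eq' d, QuotientGroup.eq, hmemC, commute_iff_eq]
      have := congrArg (fun z => c.out⁻¹ * z * d.out) h'
      simpa [mul_assoc] using this
    have hidx : (C x).index ≤ q * q - 1 := hnp ▸ Nat.card_le_card_of_injective φ hφ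
    have hmul := (C x).card_mul_index
    rw [hN] at hmul
    have hpos : 0 < q * q - 1 := Nat.sub_pos_of_lt (by nlinarith)
    have hCq : Nat.card (C x) = q := by
      refine le_antisymm hle (Nat.le_of_mul_le_mul_right ?_ hpos)
      rw [← hmul]
      exact Nat.mul_le_mul_left _ hidx
    have hindex : (C x).index = q * q - 1 := Nat.eq_of_mul_eq_mul_left (show 0 < q by omega) (by rw [← hmul, hCq])
    refine ⟨hCq, fun y hy => ?_⟩
    obtain ⟨c, hc⟩ := (Function.Injective.bijective_of_nat_card_le hφ (by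
      show cnt G p ≤ _
      rw [hnp, ← hindex]
      exact le_rfl)).2 ⟨y, hy⟩
    exact ⟨c.out, congrArg Subtype.val hc⟩
  -- they are abelian
  have hCcomm : ∀ x : G, orderOf x = p → ∀ a ∈ C x, ∀ b ∈ C x, Commute a b := by
    intro x hx
    obtain ⟨g, hg⟩ := (hCcard x hx).2 x⁻¹ (by rw [orderOf_inv, hx])
    have hx1 : x⁻¹ ≠ x := fun h => by
      have h2 : x ^ 2 = 1 := by rw [pow_two]; exact mul_eq_one_iff_inv_eq.2 h
      have := Nat.le_of_dvd two_pos (hx ▸ orderOf_dvd_of_pow_eq_one h2)
      omega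
    have hg2C : g * g ∈ C x := by
      rw [hmemC, commute_iff_eq]
      have h : g * g * x * (g * g)⁻¹ = x := by
        calc g * g * x * (g * g)⁻¹ = g * (g * x * g⁻¹) * g⁻¹ := by group
          _ = g * x⁻¹ * g⁻¹ := by rw [hg]
          _ = (g * x * g⁻¹)⁻¹ := by group
          _ = x := by rw [hg, inv_inv]
      calc x * (g * g) = g * g * x * (g * g)⁻¹ * (g * g) := by rw [h]
        _ = g * g * x := by group
    have hgp : ¬ p ∣ orderOf g := fun h => hx1 (by
      have ho := hsing g h
      obtain ⟨m, hm⟩ : ∃ m, p = 2 * m + 1 := hp.out.odd_of_ne_two hp2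
      have hgC : g ∈ C x := by
        have e : (g * g) ^ (m + 1) = g := by
          rw [← pow_two, ← pow_mul, show 2 * (m + 1) = p + 1 by omega, pow_succ, ← ho, pow_orderOf_eq_one, one_mul]
        rw [← e]
        exact pow_mem hg2C _
      rw [hmemC, commute_iff_eq] at hgC
      rw [← hg, ← hgC]
      group)
    have hg2 : g * g = 1 := by
      refine hprime x _ hx ((hmemC x _).1 hg2C) ?_
      rw [← pow_two]
      exact Nat.Coprime.coprime_dvd_right (orderOf_pow_dvd 2) (hp.out.coprime_iff_not_dvd.2 hgp)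
    have hnorm : ∀ y ∈ C x, g * y * g⁻¹ ∈ C x := fun y hy => by
      rw [hmemC] at hy ⊢
      have h := hy.inv_left
      rw [← hg, commute_iff_eq] at h
      rw [commute_iff_eq]
      calc x * (g * y * g⁻¹) = g * ((g⁻¹ * x * g) * y) * g⁻¹ := by group
        _ = g * ((g * x * g⁻¹) * y) * g⁻¹ := by rw [show g⁻¹ = g from inv_eq_of_mul_eq_one_left hg2]
        _ = g * (y * (g * x * g⁻¹)) * g⁻¹ := by rw [h]
        _ = g * (y * (g⁻¹ * x * g)) * g⁻¹ := by rw [show g⁻¹ = g from inv_eq_of_mul_eq_one_left hg2]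
        _ = g * y * g⁻¹ * x := by group
    let σ : C x →* C x :=
      { toFun := fun y => ⟨g * y * g⁻¹, hnorm y y.2⟩
        map_one' := Subtype.ext (by simp)
        map_mul' := fun y z => Subtype.ext (by simp [mul_assoc]) }
    have hinvol : Function.Involutive σ := fun y => Subtype.ext (by
      show g * (g * (y : G) * g⁻¹) * g⁻¹ = y
      rw [show g * (g * (y : G) * g⁻¹) * g⁻¹ = (g * g) * y * (g * g)⁻¹ by group, hg2]
      simp)
    have hfpf : MonoidHom.FixedPointFree σ := fun y hy => by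
      have hy' : g * (y : G) * g⁻¹ = y := congrArg Subtype.val hy
      by_contra hne
      have hyo : orderOf (y : G) = p := hsing _ (by
        by_contra hnd
        exact hne (Subtype.ext (hprime x _ hx ((hmemC x _).1 y.2) (hp.out.coprime_iff_not_dvd.2 hnd))))
      have hg1 := hprime (y : G) g hyo (by
        rw [commute_iff_eq]
        calc (y : G) * g = g * y * g⁻¹ * g := by rw [hy']
          _ = g * y := by group) (hp.out.coprime_iff_not_dvd.2 hgp)
      rw [hg1, one_mul, inv_one, mul_one] at hg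
      exact hx1 hg.symm
    intro a ha b hb
    exact congrArg Subtype.val (hfpf.commute_all_of_involutive hinvol ⟨a, ha⟩ ⟨b, hb⟩)
  -- Sylow subgroups are these centralisers
  have hsylC : ∀ (Q : Sylow p G) (x : G), x ∈ (Q : Subgroup G) → x ≠ 1 → orderOf x = p ∧ (Q : Subgroup G) = C x := by
    intro Q
    have hQcard : Nat.card (Q : Subgroup G) = q := by rw [Q.card_eq_multiplicity, hfac, hq]
    have hord : ∀ x ∈ (Q : Subgroup G), x ≠ 1 → orderOf x = p := fun x hxQ hx1 => by
      obtain ⟨j, hj⟩ := Q.isPGroup' ⟨x, hxQ⟩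
      obtain ⟨i, -, hi⟩ := (Nat.dvd_prime_pow hp.out).1
        (orderOf_dvd_of_pow_eq_one (show x ^ p ^ j = 1 from congrArg Subtype.val hj))
      rcases i with _ | i
      · rw [pow_zero, orderOf_eq_one_iff] at hi
        exact absurd hi hx1
      · exact hsing x (hi ▸ dvd_pow_self p (by omega))
    have : Nontrivial (Q : Subgroup G) := Finite.one_lt_card_iff_nontrivial.1 (by omega)
    have := Q.isPGroup'.center_nontrivial
    obtain ⟨⟨z, hz⟩, hz1⟩ := exists_ne (1 : Subgroup.center (Q : Subgroup G))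
    have hzG : (z : G) ≠ 1 := fun h => hz1 (Subtype.ext (Subtype.ext h))
    have hzo := hord z z.2 hzG
    have hQz : (Q : Subgroup G) = C z := by
      refine Subgroup.eq_of_le_of_card_ge (fun y hy => ?_) (by rw [(hCcard z hzo).1, hQcard])
      rw [hmemC]
      exact (congrArg Subtype.val (Subgroup.mem_center_iff.1 hz ⟨y, hy⟩)).symm
    intro x hxQ hx1
    refine ⟨hord x hxQ hx1, Subgroup.eq_of_le_of_card_ge (fun y hy => ?_) ?_⟩
    · rw [hmemC]
      rw [hQz] at hxQ hy
      exact hCcomm z hzo x hxQ y hy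
    · rw [(hCcard x (hord x hxQ hx1)).1, hQcard]
  have hQcard : ∀ Q : Sylow p G, Nat.card (Q : Subgroup G) = q := fun Q => by
    rw [Q.card_eq_multiplicity, hfac, hq]
  -- there are `q + 1` Sylow subgroups
  have : Fintype (Sylow p G) := Fintype.ofFinite _
  have hΩ : Fintype.card (Sylow p G) = q + 1 := by
    let ψ : (Σ Q : Sylow p G, {x : (Q : Subgroup G) // x ≠ 1}) → {g : G // orderOf g = p} :=
      fun s => ⟨s.2.1.1, (hsylC s.1 _ s.2.1.2 fun h => s.2.2 (Subtype.ext h)).1⟩
    have hψ : Function.Bijective ψ := by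
      constructor
      · rintro ⟨Q, ⟨x, hx⟩⟩ ⟨Q', ⟨y, hy⟩⟩ h
        have hxy : (x : G) = y := congrArg Subtype.val h
        have hQQ : Q = Q' := by
          apply Sylow.ext
          rw [(hsylC Q _ x.2 fun e => hx (Subtype.ext e)).2, (hsylC Q' _ y.2 fun e => hy (Subtype.ext e)).2, hxy]
        subst hQQ
        have : x = y := Subtype.ext hxy
        subst this
        rfl
      · intro g
        let Q : Sylow p G := Sylow.ofCard (C g.1) (by rw [(hCcard g.1 g.2).1, hfac, hq])
        have hgQ : g.1 ∈ (Q : Subgroup G) := by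
          rw [Sylow.coe_ofCard, hmemC]
        refine ⟨⟨Q, ⟨⟨g.1, hgQ⟩, fun h => ?_⟩⟩, rfl⟩
        have h1 : g.1 = 1 := congrArg Subtype.val h
        have := g.2
        rw [h1, orderOf_one] at this
        exact hp.out.one_lt.ne this
    have h := Nat.card_eq_of_bijective ψ hψ
    rw [Nat.card_sigma, show Nat.card {g : G // orderOf g = p} = q * q - 1 from hnp,
      Finset.sum_congr rfl (fun (Q : Sylow p G) _ => show Nat.card {x : (Q : Subgroup G) // x ≠ 1} = q - 1 by
        rw [Nat.card_eq_fintype_card, Fintype.card_subtype_compl, Fintype.card_subtype_eq, ← Nat.card_eq_fintype_card,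
          hQcard Q]),
      Finset.sum_const, Finset.card_univ, smul_eq_mul] at h
    refine Nat.eq_of_mul_eq_mul_right (show 0 < q - 1 by omega) (h.trans ?_)
    rw [← Nat.mul_self_sub_mul_self_eq, one_mul]
  -- three points
  obtain ⟨a⟩ : Nonempty (Sylow p G) := inferInstance
  obtain ⟨b, hba⟩ := Fintype.exists_ne_of_one_lt_card (by omega) a
  have hab : a ≠ b := hba.symm
  obtain ⟨c, hca, hcb⟩ : ∃ c, c ≠ a ∧ c ≠ b := by
    by_contra hall
    simp only [not_exists, not_and, not_not] at hall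
    have h1 : (Finset.univ : Finset (Sylow p G)) ⊆ {a, b} := fun x _ => by
      by_cases hx : x = a
      · simp [hx]
      · simp [hall x hx]
    have := (Finset.card_le_card h1).trans Finset.card_le_two
    rw [Finset.card_univ, hΩ] at this
    omega
  set F : Subgroup G := (a : Subgroup G) with hF
  set S : Subgroup G := stabilizer G a with hS
  have hSnorm : ∀ g, g ∈ S ↔ g ∈ normalizer ((a : Subgroup G) : Set G) := fun g => Sylow.smul_eq_iff_mem_normalizer
  have hFS : F ≤ S := fun u hu => (hSnorm u).2 (Subgroup.le_normalizer hu)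
  have hFn : (F.subgroupOf S).Normal := ⟨fun u hu g => by
    rw [Subgroup.mem_subgroupOf] at hu ⊢
    exact (Subgroup.mem_normalizer_iff.1 ((hSnorm g).1 g.2) _).1 hu⟩
  have hFcomm : ∀ u ∈ F, ∀ v ∈ F, Commute u v := fun u hu v hv => by
    by_cases hu1 : u = 1
    · rw [hu1]; exact Commute.one_left v
    · obtain ⟨-, e⟩ := hsylC a u hu hu1
      rw [hF, e] at hv
      exact (hmemC u v).1 hv
  have hFfix : ∀ u ∈ F, ∀ Q : Sylow p G, Q ≠ a → u • Q = Q → u = 1 := fun u hu Q hQ hfix => by
    by_contra hu1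
    have hn : u ∈ normalizer ((Q : Subgroup G) : Set G) := Sylow.smul_eq_iff_mem_normalizer.1 hfix
    have huQ : u ∈ (Q : Subgroup G) := by
      have hle : Subgroup.zpowers u ≤ normalizer ((Q : Subgroup G) : Set G) := Subgroup.zpowers_le.2 hn
      have hpg : IsPGroup p (Subgroup.zpowers u) := a.isPGroup'.to_le (Subgroup.zpowers_le.2 hu)
      have h := hpg.inf_normalizer_sylow Q
      have hu' : u ∈ Subgroup.zpowers u ⊓ normalizer ((Q : Subgroup G) : Set G) :=
        ⟨Subgroup.mem_zpowers u, hn⟩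
      replace hu' : u ∈ Subgroup.zpowers u ⊓ (Q : Subgroup G) := h ▸ hu'
      exact hu'.2
    exact hQ (Sylow.ext ((hsylC Q u huQ hu1).2.trans (hsylC a u hu hu1).2.symm))
  have hcompl : Fintype.card {y : Sylow p G // y ≠ a} = q := by
    rw [Fintype.card_subtype_compl, Fintype.card_subtype_eq, hΩ]
    omega
  have hreg : ∀ y z : Sylow p G, y ≠ a → z ≠ a → ∃! u : F, (u : G) • y = z := by
    intro y z hy hz
    let χ : F → {w : Sylow p G // w ≠ a} := fun u => ⟨(u : G) • y, fun e => hy (by
      rw [← inv_smul_smul (u : G) y, e]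
      exact (inv_mem (hFS u.2) : (u : G)⁻¹ ∈ S))⟩
    have hχ : Function.Injective χ := fun u v e => by
      have e' : (u : G) • y = (v : G) • y := congrArg Subtype.val e
      refine Subtype.ext (inv_mul_eq_one.1 (hFfix _ (mul_mem (inv_mem v.2) u.2) y hy ?_)).symm
      rw [mul_smul, e', inv_smul_smul]
    obtain ⟨u, hu⟩ := (Function.Injective.bijective_of_nat_card_le hχ (by
      rw [Nat.card_eq_fintype_card, hcompl, hQcard a])).2 ⟨z, hz⟩
    exact ⟨u, congrArg Subtype.val hu, fun v hv => hχ (Subtype.ext (hv.trans (congrArg Subtype.val hu).symm))⟩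
  set H := CfsgLib.PermSmall.Zassenhaus.pairStab G a b with hH
  have hnormF : ∀ g ∈ S, ∀ u ∈ F, g * u * g⁻¹ ∈ F := fun g hg u hu =>
    (Subgroup.mem_normalizer_iff.1 ((hSnorm g).1 hg) u).1 hu
  have hthree : ∀ g : G, g • a = a → g • b = b → g • c = c → g = 1 := fun g hga hgb hgc => by
    obtain ⟨u, hu, huu⟩ := hreg b c hba hca
    have h1 : g * u * g⁻¹ = (u : G) := by
      refine congrArg Subtype.val (huu ⟨_, hnormF g hga u u.2⟩ ?_)
      show (g * (u : G) * g⁻¹) • b = c
      rw [mul_smul, mul_smul, inv_smul_eq_iff.2 hgb.symm, hu, hgc]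
    have hu1 : (u : G) ≠ 1 := fun e => hcb (by rw [← hu, e, one_smul])
    have hgF : g ∈ F := by
      rw [hF, (hsylC a u u.2 hu1).2, hmemC, commute_iff_eq]
      conv_lhs => rw [← h1]
      group
    exact hFfix g hgF b hba hgb
  -- the stabiliser of `a`
  have hScard : Nat.card S = q * (q - 1) := by
    have h1 := S.card_mul_index
    rw [hS, index_stabilizer_of_transitive, Nat.card_eq_fintype_card (α := Sylow p G), hΩ, hN] at h1
    refine Nat.eq_of_mul_eq_mul_right (show 0 < q + 1 by omega) (h1.trans ?_)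
    rw [mul_assoc, Nat.mul_comm (q - 1), ← Nat.mul_self_sub_mul_self_eq, one_mul]
  have hHcard : Nat.card H = q - 1 := by
    let χ : F × H → S := fun s => ⟨(s.1 : G) * s.2, mul_mem (hFS s.1.2) s.2.2.1⟩
    have hχ : Function.Bijective χ := by
      constructor
      · rintro ⟨u, h⟩ ⟨v, k⟩ e
        have e' : (u : G) * h = v * k := congrArg Subtype.val e
        have e'' : (u : G) • b = (v : G) • b := by
          have := congrArg (· • b) e'
          simpa only [mul_smul, show (h : G) • b = b from h.2.2, show (k : G) • b = b from k.2.2] using this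
        have huv : u = v := (hreg b ((v : G) • b) hba (fun e => hba (by
          rw [← inv_smul_smul (v : G) b, e]; exact (inv_mem (hFS v.2) : (v : G)⁻¹ ∈ S)))).unique e'' rfl
        subst huv
        exact Prod.ext rfl (Subtype.ext (mul_left_cancel e'))
      · intro g
        obtain ⟨u, hu, -⟩ := hreg b ((g : G) • b) hba (fun e => hba (by
          rw [← inv_smul_smul (g : G) b, e]; exact (inv_mem g.2 : (g : G)⁻¹ ∈ S)))
        refine ⟨⟨u, ⟨(u : G)⁻¹ * g, (mul_mem (inv_mem (hFS u.2)) g.2 : (u : G)⁻¹ * g ∈ S), ?_⟩⟩,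
          Subtype.ext (mul_inv_cancel_left _ _)⟩
        show ((u : G)⁻¹ * (g : G)) • b = b
        rw [mul_smul, ← hu, inv_smul_smul]
    have h := Nat.card_eq_of_bijective χ hχ
    rw [Nat.card_prod, hScard, hQcard a] at h
    exact Nat.eq_of_mul_eq_mul_left (by omega) h
  have htr : ∀ x y : Sylow p G, x ≠ a → x ≠ b → y ≠ a → y ≠ b → ∃ h ∈ H, h • x = y := by
    have horb : ∀ y, y ≠ a → y ≠ b → ∃ h ∈ H, h • c = y := by
      intro y hy hy'
      let χ : H → {w : Sylow p G // ¬ (w = a ∨ w = b)} := fun h => ⟨(h : G) • c, by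
        rintro (e | e)
        · exact hca (smul_left_cancel (h : G) (e.trans h.2.1.symm))
        · exact hcb (smul_left_cancel (h : G) (e.trans h.2.2.symm))⟩
      have hχ : Function.Injective χ := fun h k e => by
        have e' : (h : G) • c = (k : G) • c := congrArg Subtype.val e
        refine Subtype.ext (inv_mul_eq_one.1 (hthree _ ?_ ?_ ?_)).symm
        · exact (mul_mem (inv_mem k.2) h.2).1
        · exact (mul_mem (inv_mem k.2) h.2).2
        · rw [mul_smul, e', inv_smul_smul]
      obtain ⟨h, hh⟩ := (Function.Injective.bijective_of_nat_card_le hχ (by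
        rw [hHcard, Nat.card_eq_fintype_card, Fintype.card_subtype_compl, hΩ, Fintype.card_subtype,
          show (Finset.univ.filter fun w : Sylow p G => w = a ∨ w = b) = {a, b} by ext w; simp,
          Finset.card_pair hab]
        omega)).2 ⟨y, not_or.2 ⟨hy, hy'⟩⟩
      exact ⟨h, h.2, congrArg Subtype.val hh⟩
    intro x y hx hx' hy hy'
    obtain ⟨h, hh, rfl⟩ := horb x hx hx'
    obtain ⟨k, hk, rfl⟩ := horb y hy hy'
    exact ⟨k * h⁻¹, mul_mem hk (inv_mem hh), by rw [mul_smul, inv_smul_smul]⟩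
  -- involutions
  have hinvstab : (Finset.univ.filter fun g : G => orderOf g = 2 ∧ g ∈ S).card ≤ q := by
    rcases Finset.eq_empty_or_nonempty (Finset.univ.filter fun g : G => orderOf g = 2 ∧ g ∈ S) with e | ⟨t, ht⟩
    · rw [e, Finset.card_empty]; omega
    obtain ⟨-, ht2, htS⟩ := Finset.mem_filter.1 ht
    have : Nontrivial F := Finite.one_lt_card_iff_nontrivial.1 (by rw [hQcard a]; omega)
    obtain ⟨u, hu1⟩ := exists_ne (1 : F)
    obtain ⟨huo, -⟩ := hsylC a u u.2 fun e => hu1 (Subtype.ext e)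
    have hinverts : ∀ t : G, orderOf t = 2 → t ∈ S → t * u * t⁻¹ = (u : G)⁻¹ := by
      intro t ht2 htS
      have htt : t * t = 1 := by rw [← pow_two, ← ht2, pow_orderOf_eq_one]
      let σ : F →* F :=
        { toFun := fun v => ⟨t * v * t⁻¹, hnormF t htS v v.2⟩
          map_one' := Subtype.ext (by simp)
          map_mul' := fun v w => Subtype.ext (by simp [mul_assoc]) }
      have hinvol : Function.Involutive σ := fun v => Subtype.ext (by
        show t * (t * (v : G) * t⁻¹) * t⁻¹ = v
        rw [show t * (t * (v : G) * t⁻¹) * t⁻¹ = (t * t) * v * (t * t)⁻¹ by group, htt]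
        simp)
      have hfpf : MonoidHom.FixedPointFree σ := fun v hv => by
        by_contra hne
        obtain ⟨hvo, -⟩ := hsylC a v v.2 fun e => hne (Subtype.ext e)
        have hv' : t * (v : G) * t⁻¹ = v := congrArg Subtype.val hv
        have hcom : Commute (v : G) t := by
          rw [commute_iff_eq]
          calc (v : G) * t = t * v * t⁻¹ * t := by rw [hv']
            _ = t * v := by group
        have hcop : p.Coprime (orderOf t) := by
          rw [ht2]
          exact hp.out.coprime_iff_not_dvd.2 fun h => hp2 ((Nat.prime_dvd_prime_iff_eq hp.out Nat.prime_two).1 h)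
        have := hprime (v : G) t hvo hcom hcop
        rw [this, orderOf_one] at ht2
        omega
      exact congrArg Subtype.val (congrFun (hfpf.coe_eq_inv_of_involutive hinvol) u)
    rw [← hQcard a, Nat.card_eq_fintype_card, ← Finset.card_univ]
    refine Finset.card_le_card_of_injOn (fun g => if h : t * g ∈ F then (⟨t * g, h⟩ : F) else 1)
      (fun _ _ => Finset.mem_univ _) fun g hg g' hg' e => ?_
    have key : ∀ g, g ∈ Finset.univ.filter (fun g : G => orderOf g = 2 ∧ g ∈ S) → t * g ∈ F := fun g hg => by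
      obtain ⟨-, hg2, hgS⟩ := Finset.mem_filter.1 hg
      rw [hF, (hsylC a u u.2 fun e => hu1 (Subtype.ext e)).2, hmemC, commute_iff_eq]
      have h1 := hinverts g hg2 hgS
      have h2 := hinverts t ht2 htS
      have h3 : t * g * (u : G) * (t * g)⁻¹ = u := by
        calc t * g * (u : G) * (t * g)⁻¹ = t * (g * (u : G) * g⁻¹) * t⁻¹ := by group
          _ = (t * (u : G) * t⁻¹)⁻¹ := by rw [h1]; group
          _ = u := by rw [h2, inv_inv]
      calc (u : G) * (t * g) = t * g * (u : G) * (t * g)⁻¹ * (t * g) := by rw [h3]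
        _ = t * g * u := by group
    simp only [dif_pos (key g hg), dif_pos (key g' hg'), Subtype.mk.injEq, mul_right_inj] at e
    exact e
  set Sw := Finset.univ.filter fun g : G => g • a ≠ a ∧ g • g • a = a with hSw
  set I := Finset.univ.filter fun g : G => orderOf g = 2 ∧ g ∉ S with hI
  have hsub : I ⊆ Sw := fun g hg => by
    obtain ⟨-, hg2, hgS⟩ := Finset.mem_filter.1 hg
    refine Finset.mem_filter.2 ⟨Finset.mem_univ _, hgS, ?_⟩
    rw [← mul_smul, ← pow_two, ← hg2, pow_orderOf_eq_one, one_smul]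
  have hfib : ∀ y ∈ Sw.image (fun g : G => g • a), (Sw.filter fun g => g • a = y).card ≤ q - 1 := by
    intro y hy
    obtain ⟨g₀, hg₀, rfl⟩ := Finset.mem_image.1 hy
    obtain ⟨-, hg₀a, hg₀b⟩ := Finset.mem_filter.1 hg₀
    have : ∀ g ∈ Sw.filter (fun g => g • a = g₀ • a), g₀⁻¹ * g ∈ CfsgLib.PermSmall.Zassenhaus.pairStab G a (g₀ • a) := by
      intro g hg
      obtain ⟨hgS, hga⟩ := Finset.mem_filter.1 hg
      obtain ⟨-, -, hgb⟩ := Finset.mem_filter.1 hgS
      rw [CfsgLib.PermSmall.Zassenhaus.mem_pairStab]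
      constructor
      · rw [mul_smul, hga, inv_smul_smul]
      · rw [mul_smul, ← hga, hgb, inv_smul_eq_iff, hga, hg₀b]
    have hcard : Nat.card (CfsgLib.PermSmall.Zassenhaus.pairStab G a (g₀ • a)) = q - 1 := by
      obtain ⟨u, hu, -⟩ := hreg b (g₀ • a) hba hg₀a
      rw [← hHcard]
      refine (Nat.card_congr ((MulAut.conj (u : G)).toEquiv.subtypeEquiv fun h => ?_)).symm
      show h ∈ H ↔ (u : G) * h * (u : G)⁻¹ ∈ CfsgLib.PermSmall.Zassenhaus.pairStab G a (g₀ • a)
      have hua : (u : G) • a = a := hFS u.2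
      rw [hH, CfsgLib.PermSmall.Zassenhaus.mem_pairStab, CfsgLib.PermSmall.Zassenhaus.mem_pairStab, mul_smul,
        mul_smul, mul_smul, mul_smul, inv_smul_eq_iff.2 hua.symm, inv_smul_eq_iff.2 hu.symm]
      constructor
      · rintro ⟨h1, h2⟩; rw [h1, h2]; exact ⟨hua, hu⟩
      · rintro ⟨h1, h2⟩
        exact ⟨smul_left_cancel (u : G) (h1.trans hua.symm), smul_left_cancel (u : G) (h2.trans hu.symm)⟩
    rw [← hcard, Nat.card_eq_fintype_card, ← Finset.card_univ]
    refine Finset.card_le_card_of_injOn (fun g => if h : g₀⁻¹ * g ∈ _ then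
      (⟨g₀⁻¹ * g, h⟩ : CfsgLib.PermSmall.Zassenhaus.pairStab G a (g₀ • a)) else 1)
      (fun _ _ => Finset.mem_univ _) fun g hg g' hg' e => ?_
    simp only [dif_pos (this g hg), dif_pos (this g' hg'), Subtype.mk.injEq, mul_right_inj] at e
    exact e
  have hswle : Sw.card ≤ (q - 1) * q := by
    refine (Finset.card_le_mul_card_image (f := fun g : G => g • a) Sw (q - 1) hfib).trans ?_
    refine Nat.mul_le_mul_left _ ?_
    rw [← hcompl, Fintype.card_subtype]
    refine Finset.card_le_card fun y hy => ?_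
    obtain ⟨g, hg, rfl⟩ := Finset.mem_image.1 hy
    exact Finset.mem_filter.2 ⟨Finset.mem_univ _, (Finset.mem_filter.1 hg).2.1⟩
  have hIge : (q - 1) * q ≤ I.card := by
    have h : cnt G 2 = (Finset.univ.filter fun g : G => orderOf g = 2 ∧ g ∈ S).card + I.card := by
      rw [cnt, Nat.card_eq_fintype_card, Fintype.card_subtype, hI,
        ← Finset.card_union_of_disjoint (Finset.disjoint_filter.2 fun g _ x y => y.2 x.2)]
      congr 1
      ext g
      simp only [Finset.mem_union, Finset.mem_filter, Finset.mem_univ, true_and]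
      tauto
    rw [Nat.sub_mul, one_mul]
    omega
  have hswap : ∀ g : G, g • a = b → g • b = a → g * g = 1 := fun g hga hgb => by
    have hg : g ∈ Sw := Finset.mem_filter.2 ⟨Finset.mem_univ _, by rw [hga]; exact hba, by rw [hga, hgb]⟩
    rw [← Finset.eq_of_subset_of_card_le hsub (hswle.trans hIge)] at hg
    rw [← pow_two, ← (Finset.mem_filter.1 hg).2.1, pow_orderOf_eq_one]
  -- an involution exchanging `a` and `b` and fixing `c`
  obtain ⟨g₀, hg₀a, hg₀b⟩ : ∃ g : G, g • a = b ∧ g • b = a := by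
    obtain ⟨g, hg, hgab⟩ : ∃ g ∈ I, g • a = b := by
      by_contra hcon
      push Not at hcon
      have hlt : (I.image fun g : G => g • a).card < q := by
        rw [← hcompl, Fintype.card_subtype]
        refine Finset.card_lt_card ((Finset.ssubset_iff_of_subset fun y hy => ?_).2 ⟨b, ?_, ?_⟩)
        · obtain ⟨g, hg, rfl⟩ := Finset.mem_image.1 hy
          exact Finset.mem_filter.2 ⟨Finset.mem_univ _, (Finset.mem_filter.1 hg).2.2⟩
        · exact Finset.mem_filter.2 ⟨Finset.mem_univ _, hba⟩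
        · intro hb
          obtain ⟨g, hg, e⟩ := Finset.mem_image.1 hb
          exact hcon g hg e
      have hle : I.card ≤ (q - 1) * (I.image fun g : G => g • a).card := by
        refine Finset.card_le_mul_card_image (f := fun g : G => g • a) I (q - 1) fun y hy => ?_
        exact (Finset.card_le_card (Finset.filter_subset_filter _ hsub)).trans
          (hfib y (Finset.image_subset_image hsub hy))
      exact absurd (hle.trans_lt (Nat.mul_lt_mul_of_pos_left hlt (by omega))) (not_lt.2 hIge)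
    refine ⟨g, hgab, ?_⟩
    rw [← hgab, ← mul_smul, ← pow_two, ← (Finset.mem_filter.1 hg).2.1, pow_orderOf_eq_one, one_smul]
  obtain ⟨h₀, hh₀, hh₀c⟩ := htr (g₀ • c) c (fun e => hcb (smul_left_cancel g₀ (e.trans hg₀b.symm)))
    (fun e => hca (smul_left_cancel g₀ (e.trans hg₀a.symm))) hca hcb
  set s := h₀ * g₀ with hs
  have hsa : s • a = b := by rw [hs, mul_smul, hg₀a]; exact hh₀.2
  have hsb : s • b = a := by rw [hs, mul_smul, hg₀b]; exact hh₀.1
  have hsc : s • c = c := by rw [hs, mul_smul, hh₀c]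
  have hinverse : ∀ h ∈ H, s * h * s⁻¹ = h⁻¹ := fun h hh => by
    have hss := hswap s hsa hsb
    have h2 := hswap (s * h) (by rw [mul_smul, hh.1, hsa]) (by rw [mul_smul, hh.2, hsb])
    rw [show s⁻¹ = s from inv_eq_of_mul_eq_one_left hss]
    exact eq_inv_of_mul_eq_one_left (by rw [mul_assoc _ s h]; exact h2)
  have hHc : IsMulCommutative H := ⟨⟨fun h k => Subtype.ext (by
    have e := hinverse _ (mul_mem h.2 k.2)
    rw [show s * ((h : G) * k) * s⁻¹ = (s * h * s⁻¹) * (s * k * s⁻¹) by group, hinverse _ h.2, hinverse _ k.2,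
      mul_inv_rev] at e
    have := congrArg Inv.inv e
    simpa using this.symm)⟩⟩
  have : FaithfulSMul G (Sylow p G) := ⟨fun {g₁ g₂} h => by
    refine (inv_mul_eq_one.1 (hthree _ ?_ ?_ ?_)).symm <;> rw [mul_smul, h, inv_smul_smul]⟩
  have hFc : IsMulCommutative F := ⟨⟨fun u v => Subtype.ext (hFcomm u u.2 v v.2)⟩⟩
  have hnormH : ∀ g ∈ H, ∀ u ∈ F, g * u * g⁻¹ ∈ F := fun g hg => hnormF g hg.1
  obtain ⟨K, iK, fK, hK, hiso⟩ := CfsgLib.PermSmall.Recognition.pgl_of_inverted hab hca.symm hcb.symm hthree F hFS hFn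
    hFc hreg hHc (CfsgLib.PermSmall.Kernel.irreducible_of_transitive hab hFS hnormH hreg htr)
    (by rw [hHcard, hΩ]; omega) s hsa hsb hsc hinverse
  exact ⟨K, iK, fK, by rw [hK, hΩ]; omega, hiso⟩

end CfsgLib.PGL2Nse
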