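import Mathlib
import Cfsg.Agent.Lib.Recog.Isospectral
import Cfsg.Agent.Lib.Recog.PGL2Spectrum

/-!
For a prime `p` the group PGL(2,p) is isospectral to an extension of an elementary abelian 2-group by PSL(2,p):
the module is the space of even functions on SL(2,p) whose sums along all unipotent translates vanish.
-/

namespace CfsgLib.Recog.PGL2

open Matrix

noncomputable section

variable (F : Type*) [Field F] [Fintype F]

/-- SL(2,F). -/
abbrev SL2 := Matrix.SpecialLinearGroup (Fin 2) F

/-- Functions which are invariant under the centre and have zero sum along translates of elements of order p. -/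
def lineSpace : AddSubgroup (SL2 F → ZMod 2) where
  carrier := {φ | (∀ z ∈ Subgroup.center (SL2 F), ∀ h, φ (z * h) = φ h) ∧
    ∀ g : SL2 F, g ≠ 1 → g ^ Fintype.card F = 1 → ∀ h, ∑ t ∈ Finset.range (Fintype.card F), φ (g ^ t * h) = 0}
  add_mem' := fun {a b} ha hb =>
    ⟨fun z hz h => by simp [ha.1 z hz h, hb.1 z hz h],
      fun g g1 g2 h => by simp [Finset.sum_add_distrib, ha.2 g g1 g2 h, hb.2 g g1 g2 h]⟩
  zero_mem' := ⟨fun z _ h => rfl, fun g _ _ h => by simp⟩
  neg_mem' := fun {a} ha =>
    ⟨fun z hz h => by simp [ha.1 z hz h], fun g g1 g2 h => by simp [Finset.sum_neg_distrib, ha.2 g g1 g2 h]⟩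

variable {F}

theorem translate_mem (g₀ : SL2 F) {φ : SL2 F → ZMod 2} (hφ : φ ∈ lineSpace F) :
    (fun h => φ (g₀⁻¹ * h)) ∈ lineSpace F := by
  refine ⟨fun z hz h => ?_, fun g g1 g2 h => ?_⟩
  · change φ (g₀⁻¹ * (z * h)) = φ (g₀⁻¹ * h)
    rw [← mul_assoc, Subgroup.mem_center_iff.1 hz g₀⁻¹, mul_assoc, hφ.1 z hz]
  · have h1 := hφ.2 (g₀⁻¹ * g * g₀) (fun e => g1 (by
      have := congrArg (fun x => g₀ * x * g₀⁻¹) e
      simpa [mul_assoc] using this)) (by
      have := conj_pow (i := Fintype.card F) (a := g₀⁻¹) (b := g)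
      rw [inv_inv] at this
      rw [this, g2]; simp) (g₀⁻¹ * h)
    rw [← h1]
    refine Finset.sum_congr rfl fun t _ => ?_
    have := conj_pow (i := t) (a := g₀⁻¹) (b := g)
    rw [inv_inv] at this
    rw [this]
    simp [mul_assoc]

/-- The translation by one element. -/
def transFun (g : SL2 F) (x : Multiplicative (lineSpace F)) : Multiplicative (lineSpace F) :=
  Multiplicative.ofAdd ⟨fun h => (x.toAdd : SL2 F → ZMod 2) (g⁻¹ * h), translate_mem g x.toAdd.2⟩

theorem transFun_mul (g h : SL2 F) (x : Multiplicative (lineSpace F)) :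
    transFun (g * h) x = transFun g (transFun h x) := by
  simp [transFun, mul_assoc]

theorem transFun_one (x : Multiplicative (lineSpace F)) : transFun 1 x = x := by
  simp [transFun]

/-- Translation action of SL(2,F). -/
def transHom : SL2 F →* MulAut (Multiplicative (lineSpace F)) where
  toFun g :=
    { toFun := transFun g
      invFun := transFun g⁻¹
      left_inv := fun x => by rw [← transFun_mul, inv_mul_cancel, transFun_one]
      right_inv := fun x => by rw [← transFun_mul, mul_inv_cancel, transFun_one]
      map_mul' := fun x y => rfl }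
  map_one' := MulEquiv.ext transFun_one
  map_mul' g h := MulEquiv.ext (transFun_mul g h)

theorem center_acts_trivially (z : SL2 F) (hz : z ∈ Subgroup.center (SL2 F)) :
    transHom z = 1 := by
  refine MulEquiv.ext fun x => ?_
  change transFun z x = x
  apply Multiplicative.toAdd.injective
  apply Subtype.ext
  funext h
  exact x.toAdd.2.1 _ (inv_mem hz) h

/-- The action of PSL(2,F). -/
def pslAct : SL2 F ⧸ Subgroup.center (SL2 F) →* MulAut (Multiplicative (lineSpace F)) :=
  QuotientGroup.lift _ transHom (fun z hz => center_acts_trivially z hz)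

/-- The extension. -/
abbrev Ext (F : Type*) [Field F] [Fintype F] :=
  Multiplicative (lineSpace F) ⋊[pslAct] (SL2 F ⧸ Subgroup.center (SL2 F))

theorem scalar_mem_center {g : SL2 F} {c : F} (h : (g : Matrix (Fin 2) (Fin 2) F) = c • 1) :
    g ∈ Subgroup.center (SL2 F) := by
  rw [Subgroup.mem_center_iff]
  intro x
  apply Subtype.ext
  rw [Matrix.SpecialLinearGroup.coe_mul, Matrix.SpecialLinearGroup.coe_mul, h, Matrix.mul_smul, Matrix.smul_mul,
    Matrix.mul_one, Matrix.one_mul]

theorem mem_center_of_sq {h : SL2 F} (hF2 : (2 : F) ≠ 0) (hh : h ^ 2 = 1) : h ∈ Subgroup.center (SL2 F) := by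
  set H := (h : Matrix (Fin 2) (Fin 2) F) with hH
  have h1 : H * H = 1 := by
    rw [← pow_two, hH, ← Matrix.SpecialLinearGroup.coe_pow, hh]; rfl
  have h2 : H.trace • H = (2 : F) • 1 := by
    have := charmat_two H
    rw [h1, h.2, one_smul, eq_sub_iff_add_eq] at this
    rw [← this, two_smul]
  have h3 : H.trace ≠ 0 := by
    intro e
    rw [e, zero_smul] at h2
    have h4 := congrFun (congrFun h2 0) 0
    simp at h4
    exact hF2 h4.symm
  refine scalar_mem_center (c := H.trace⁻¹ * 2) ?_
  rw [← hH, ← smul_smul, ← h2, smul_smul, inv_mul_cancel₀ h3, one_smul]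

theorem exponent_two (v : Multiplicative (lineSpace F)) : v ^ 2 = 1 := by
  apply Multiplicative.toAdd.injective
  rw [toAdd_pow, toAdd_one]
  apply Subtype.ext; funext h
  simp only [AddSubmonoidClass.coe_nsmul, Pi.smul_apply, ZeroMemClass.coe_zero, Pi.zero_apply, nsmul_eq_mul]
  rw [show ((2 : ℕ) : ZMod 2) = 0 from by decide, zero_mul]

theorem ext_pow_double (x : Ext F) {k : ℕ} (hk : x.right ^ k = 1) : x ^ (2 * k) = 1 := by
  have hr : (x ^ k).right = 1 := by
    have := map_pow SemidirectProduct.rightHom x k
    rw [SemidirectProduct.rightHom_eq_right] at this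
    rw [this, hk]
  rw [mul_comm, pow_mul, show x ^ k = SemidirectProduct.inl (x ^ k).left from SemidirectProduct.ext rfl hr,
    ← map_pow, exponent_two, map_one]

theorem orderOf_ext_dvd {p : ℕ} [Fact p.Prime] [CharP F p] (hp : p ≠ 2) (hq : Fintype.card F = p) (x : Ext F) :
    orderOf x ∣ Fintype.card F - 1 ∨ orderOf x ∣ Fintype.card F + 1 ∨ orderOf x ∣ p := by
  have hF2' : ringChar F ≠ 2 := by rw [ringChar.eq F p]; exact hp
  have hF2 : (2 : F) ≠ 0 := Ring.two_ne_zero hF2'
  have hodd : Fintype.card F % 2 = 1 := FiniteField.odd_card_of_char_ne_two hF2'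
  obtain ⟨g, hg⟩ := QuotientGroup.mk'_surjective (Subgroup.center (SL2 F)) x.right
  by_cases hx : x.right = 1
  · left
    refine (orderOf_dvd_of_pow_eq_one (n := 2) ?_).trans (by omega)
    exact ext_pow_double (k := 1) x (by rw [hx, one_pow])
  set M := (g : Matrix (Fin 2) (Fin 2) F)
  have hdet : M.det = 1 := g.2
  have half : ∀ k, g ^ (2 * k) = 1 → x ^ (2 * k) = 1 := by
    intro k hk
    refine ext_pow_double x ?_
    rw [← hg, ← map_pow, QuotientGroup.mk'_apply, QuotientGroup.eq_one_iff]
    exact mem_center_of_sq hF2 (by rw [← pow_mul, mul_comm, hk])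
  rcases pow_card_trichotomy hp (n := 1) (by rw [pow_one, hq]) M with ⟨-, -, h⟩ | ⟨-, h⟩ | ⟨-, -, h⟩
  · left
    apply orderOf_dvd_of_pow_eq_one
    rw [show Fintype.card F - 1 = 2 * (Fintype.card F / 2) by omega]
    apply half
    have h1 : g ^ (Fintype.card F - 1) * g = 1 * g := by
      rw [one_mul, ← pow_succ, Nat.sub_add_cancel Fintype.card_pos]
      exact Subtype.ext (by rw [Matrix.SpecialLinearGroup.coe_pow]; exact h)
    rw [show 2 * (Fintype.card F / 2) = Fintype.card F - 1 by omega]
    exact mul_right_cancel h1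
  · refine Or.inr (Or.inl (orderOf_dvd_of_pow_eq_one ?_))
    rw [show Fintype.card F + 1 = 2 * (Fintype.card F / 2 + 1) by omega]
    apply half
    rw [show 2 * (Fintype.card F / 2 + 1) = Fintype.card F + 1 by omega]
    apply Subtype.ext
    rw [Matrix.SpecialLinearGroup.coe_pow, h, hdet, one_smul]; rfl
  · refine Or.inr (Or.inr (orderOf_dvd_of_pow_eq_one ?_))
    set c := (M.trace / 2) ^ p
    have hgc : g ^ p ∈ Subgroup.center (SL2 F) :=
      scalar_mem_center (c := c) (by rw [Matrix.SpecialLinearGroup.coe_pow]; exact h)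
    have hxp : x.right ^ p = 1 := by
      rw [← hg, ← map_pow, QuotientGroup.mk'_apply, QuotientGroup.eq_one_iff]; exact hgc
    obtain ⟨j, hj⟩ : ∃ j, p + 1 = 2 * j := ⟨(p + 1) / 2, by omega⟩
    -- a representative of order p
    set g' := g * (g ^ p)⁻¹ with hg'
    have hgg : QuotientGroup.mk' (Subgroup.center (SL2 F)) g' = x.right := by
      rw [hg', map_mul, map_inv, map_pow, hg, hxp, inv_one, mul_one]
    have hz2 : (g ^ p) ^ 2 = 1 := by
      apply Subtype.ext
      have hd : ((g ^ p : SL2 F) : Matrix (Fin 2) (Fin 2) F).det = 1 := (g ^ p).2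
      rw [Matrix.SpecialLinearGroup.coe_pow, h, Matrix.det_smul, Matrix.det_one, mul_one, Fintype.card_fin] at hd
      rw [Matrix.SpecialLinearGroup.coe_pow, Matrix.SpecialLinearGroup.coe_pow, h, smul_pow, one_pow, hd, one_smul]
      rfl
    have hz3 : (g ^ p) ^ p = g ^ p := by
      calc (g ^ p) ^ p = (g ^ p) ^ (2 * (p / 2) + 1) := by rw [show 2 * (p / 2) + 1 = p by omega]
        _ = g ^ p := by rw [pow_succ, pow_mul, hz2, one_pow, one_mul]
    have hg'p : g' ^ p = 1 := by
      rw [hg', (((Commute.refl g).pow_right p).inv_right).mul_pow, inv_pow, hz3, mul_inv_cancel]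
    have hg'1 : g' ≠ 1 := fun e => hx (by rw [← hgg, e, map_one])
    have hfix : transFun g' (x ^ p).left = (x ^ p).left := by
      have hr : (x ^ p).right = 1 := by
        have := map_pow SemidirectProduct.rightHom x p
        rw [SemidirectProduct.rightHom_eq_right] at this
        rw [this, hxp]
      have h1 := congrArg SemidirectProduct.left ((Commute.refl x).pow_right p).eq
      rw [SemidirectProduct.mul_left, SemidirectProduct.mul_left, hr, map_one, MulAut.one_apply,
        mul_comm x.left, mul_left_inj, ← hgg] at h1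
      exact h1
    have hrr : (x ^ p).right = 1 := by
      have := map_pow SemidirectProduct.rightHom x p
      rw [SemidirectProduct.rightHom_eq_right] at this
      rw [this, hxp]
    refine SemidirectProduct.ext ?_ hrr
    apply Multiplicative.toAdd.injective
    apply Subtype.ext; funext y
    set φ := ((x ^ p).left.toAdd : SL2 F → ZMod 2)
    have hinv : ∀ t, ∀ y, φ (g' ^ t * y) = φ y := by
      intro t
      induction t with
      | zero => simp
      | succ t ih =>
        intro y
        have h2 : φ (g'⁻¹ * (g' ^ (t + 1) * y)) = φ (g' ^ (t + 1) * y) :=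
          congrArg (fun w : Multiplicative (lineSpace F) => (w.toAdd : SL2 F → ZMod 2) (g' ^ (t + 1) * y)) hfix
        rw [← h2, pow_succ', mul_assoc, inv_mul_cancel_left]
        exact ih y
    have hs := (x ^ p).left.toAdd.2.2 g' hg'1 (by rw [hq]; exact hg'p) y
    rw [Finset.sum_congr rfl (fun t _ => hinv t y), Finset.sum_const, Finset.card_range, nsmul_eq_mul] at hs
    have hodd' : ((Fintype.card F : ℕ) : ZMod 2) = 1 := by
      rw [← Nat.div_add_mod (Fintype.card F) 2, hodd, Nat.cast_add, Nat.cast_mul, show ((2 : ℕ) : ZMod 2) = 0 from by decide]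
      simp
    rwa [hodd', one_mul] at hs

/-- Indicator of `±2` evaluated at `tr (A M)`. -/
def witnessFun (A : Matrix (Fin 2) (Fin 2) F) (M : SL2 F) : ZMod 2 := by
  classical exact if (A * (M : Matrix (Fin 2) (Fin 2) F)).trace = 2 ∨ (A * (M : Matrix (Fin 2) (Fin 2) F)).trace = -2 then 1 else 0

theorem witnessFun_mem {p : ℕ} [Fact p.Prime] [CharP F p] (hp : p ≠ 2) (hq : Fintype.card F = p)
    (A : Matrix (Fin 2) (Fin 2) F) (hA : ¬ IsSquare (1 - A.det)) :
    witnessFun A ∈ lineSpace F := by
  classical
  have hF2' : ringChar F ≠ 2 := by rw [ringChar.eq F p]; exact hp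
  have hF2 : (2 : F) ≠ 0 := Ring.two_ne_zero hF2'
  refine ⟨fun z hz h => ?_, fun g g1 g2 h => ?_⟩
  · have hz' := Matrix.SpecialLinearGroup.scalar_eq_self_of_mem_center hz 0
    set r := (z : Matrix (Fin 2) (Fin 2) F) 0 0
    have hd : (z : Matrix (Fin 2) (Fin 2) F).det = 1 := z.2
    rw [← hz'] at hd
    simp [Matrix.det_diagonal] at hd
    have hm : ((z * h : SL2 F) : Matrix (Fin 2) (Fin 2) F) = r • (h : Matrix (Fin 2) (Fin 2) F) := by
      rw [Matrix.SpecialLinearGroup.coe_mul, ← hz', Matrix.scalar_apply, ← Matrix.smul_one_eq_diagonal, Matrix.smul_mul, Matrix.one_mul]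
    have hr : r = 1 ∨ r = -1 := by
      simpa using hd
    simp only [witnessFun, hm, Matrix.mul_smul, Matrix.trace_smul, smul_eq_mul]
    rcases hr with hr | hr <;> rw [hr]
    · simp
    · congr 1
      rw [neg_one_mul, neg_eq_iff_eq_neg, neg_eq_iff_eq_neg, neg_neg]
      exact propext or_comm
  · set G := (g : Matrix (Fin 2) (Fin 2) F) with hG
    set N := G - 1 with hN
    haveI : CharP (Matrix (Fin 2) (Fin 2) F) p := inferInstance
    have hNp : N ^ p = 0 := by
      rw [hN, sub_pow_char_of_commute p (Commute.one_right G), hG, ← Matrix.SpecialLinearGroup.coe_pow, ← hq, g2]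
      simp
    have hdetN : N.det = 0 := by
      have := congrArg Matrix.det hNp
      rw [Matrix.det_pow, Matrix.det_zero] at this
      exact eq_zero_of_pow_eq_zero this
    have hNN : N * N = N.trace • N := by rw [charmat_two N, hdetN, zero_smul, sub_zero]
    have hpow : ∀ j : ℕ, N ^ (j + 1) = N.trace ^ j • N := by
      intro j
      induction j with
      | zero => simp
      | succ j ih => rw [pow_succ, ih, Matrix.smul_mul, hNN, smul_smul, pow_succ]
    have hN0 : N ≠ 0 := fun e => g1 (Subtype.ext (sub_eq_zero.1 (hN ▸ e)))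
    have htr : N.trace = 0 := by
      have := hpow (p - 1)
      rw [Nat.sub_add_cancel (Fact.out : p.Prime).one_lt.le, hNp] at this
      exact eq_zero_of_pow_eq_zero ((smul_eq_zero.1 this.symm).resolve_right hN0)
    have hgt : ∀ t : ℕ, ((g ^ t : SL2 F) : Matrix (Fin 2) (Fin 2) F) = 1 + (t : F) • N := by
      intro t
      induction t with
      | zero => simp
      | succ t ih =>
        rw [pow_succ, Matrix.SpecialLinearGroup.coe_mul, ih, ← hG, show G = 1 + N by rw [hN]; abel, add_mul, one_mul,
          mul_add, mul_one, Matrix.smul_mul, hNN, htr, zero_smul, smul_zero, add_zero, Nat.cast_succ, add_smul, one_smul]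
        abel
    set H := (h : Matrix (Fin 2) (Fin 2) F)
    set α := (A * H).trace
    set β := (A * (N * H)).trace
    have hf : ∀ t : ℕ, witnessFun A (g ^ t * h) =
        if α + (t : F) * β = 2 ∨ α + (t : F) * β = -2 then 1 else 0 := by
      intro t
      simp only [witnessFun, Matrix.SpecialLinearGroup.coe_mul, hgt, add_mul, one_mul, Matrix.smul_mul, mul_add,
        Matrix.mul_smul, Matrix.trace_add, Matrix.trace_smul, smul_eq_mul, α, β, H]
    simp only [hf, hq]
    have hbij : ∀ (f : F → ZMod 2), ∑ t ∈ Finset.range p, f (t : F) = ∑ a : F, f a := by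
      intro f
      refine Finset.sum_nbij (fun t => (t : F)) (fun _ _ => Finset.mem_univ _) ?_ ?_ (fun _ _ => rfl)
      · intro a ha b hb hab
        exact CharP.natCast_injOn_Iio F p (by simpa using ha) (by simpa using hb) hab
      · have hinj : Set.InjOn (fun t : ℕ => (t : F)) (Finset.range p : Finset ℕ) := fun a ha b hb hab =>
          CharP.natCast_injOn_Iio F p (by simpa using ha) (by simpa using hb) hab
        exact Finset.surjOn_of_injOn_of_card_le _ (fun _ _ => Finset.mem_univ _) hinj (by simp [hq])
    rw [hbij (fun a : F => if α + a * β = 2 ∨ α + a * β = -2 then (1 : ZMod 2) else 0)]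
    by_cases hβ : β = 0
    · have hα : ¬ (α = 2 ∨ α = -2) := by
        intro hα
        apply hA
        set B := H * A with hB
        have e1 : B.det = A.det := by rw [hB, Matrix.det_mul, show H.det = 1 from h.2, one_mul]
        have e2 : B.trace = α := Matrix.trace_mul_comm _ _
        have e3 : (N * B).trace = 0 := by
          rw [hB, ← mul_assoc, Matrix.trace_mul_comm]; exact hβ
        set a := N 0 0 with ha
        set b := N 0 1 with hb
        set c := N 1 0 with hc
        have hd' : N 1 1 = -a := by
          rw [Matrix.trace_fin_two] at htr; linear_combination htr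
        have hdet' : -(a * a) - b * c = 0 := by
          rw [← hdetN, Matrix.det_fin_two, hd']; ring
        have h3 : a * B 0 0 + b * B 1 0 + (c * B 0 1 + -a * B 1 1) = 0 := by
          rw [← e3, Matrix.trace_fin_two, Matrix.mul_apply, Matrix.mul_apply, Fin.sum_univ_two, Fin.sum_univ_two, hd']
        suffices hsq : IsSquare ((B 0 0 - B 1 1) ^ 2 + 4 * B 0 1 * B 1 0) by
          obtain ⟨w, hw⟩ := hsq
          refine ⟨w / 2, ?_⟩
          rw [Matrix.det_fin_two] at e1
          rw [Matrix.trace_fin_two] at e2
          have hα2 : α ^ 2 = 4 := by rcases hα with e | e <;> rw [e] <;> norm_num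
          field_simp
          linear_combination hw - hα2 - (B 0 0 + B 1 1 + α) * e2 + 4 * e1
        by_cases hb0 : b = 0
        · have ha0 : a = 0 := by
            have : a * a = 0 := by rw [hb0] at hdet'; linear_combination -hdet'
            exact mul_self_eq_zero.1 this
          have hc0 : c ≠ 0 := by
            intro hc0
            exact hN0 (by ext i j; fin_cases i <;> fin_cases j <;> simp [← ha, ← hb, ← hc, hd', ha0, hb0, hc0])
          have : B 0 1 = 0 := by
            rw [ha0, hb0] at h3
            have : c * B 0 1 = 0 := by linear_combination h3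
            exact (mul_eq_zero.1 this).resolve_left hc0
          exact ⟨B 0 0 - B 1 1, by rw [this]; ring⟩
        · refine ⟨(B 0 0 - B 1 1) - 2 * a * B 0 1 / b, ?_⟩
          field_simp
          grind
      simp [hβ, hα]
    · rw [Fintype.sum_equiv ((Equiv.mulRight₀ β hβ).trans (Equiv.addLeft α))
        (fun a => if α + a * β = 2 ∨ α + a * β = -2 then (1 : ZMod 2) else 0)
        (fun a => if a = 2 ∨ a = -2 then (1 : ZMod 2) else 0) (fun a => rfl), Finset.sum_boole]
      have hne : (2 : F) ≠ -2 := fun e => hF2 (by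
        have : (2 : F) * 2 = 0 := by linear_combination e
        exact mul_self_eq_zero.1 this)
      rw [show (Finset.univ.filter fun a : F => a = 2 ∨ a = -2) = {2, -2} by ext; simp, Finset.card_pair hne]
      decide

theorem exists_order_double {p : ℕ} [Fact p.Prime] [CharP F p] (hp : p ≠ 2) (hq : Fintype.card F = p)
    (g : SL2 F) (k : ℕ) (hk : 0 < k)
    (hgk : g ^ k ∈ Subgroup.center (SL2 F)) (A : Matrix (Fin 2) (Fin 2) F) (hA : ¬ IsSquare (1 - A.det))
    (hA1 : A.trace = 2)
    (hone : ∀ j : ℕ, ((A * ((g ^ j : SL2 F) : Matrix (Fin 2) (Fin 2) F)).trace = 2 ∨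
        (A * ((g ^ j : SL2 F) : Matrix (Fin 2) (Fin 2) F)).trace = -2) → k ∣ j)
    (hmin : ∀ j : ℕ, g ^ j ∈ Subgroup.center (SL2 F) → k ∣ j) :
    ∃ x : Ext F, orderOf x = 2 * k := by
  classical
  let v : Multiplicative (lineSpace F) := Multiplicative.ofAdd ⟨witnessFun A, witnessFun_mem hp hq A hA⟩
  let gb := QuotientGroup.mk' (Subgroup.center (SL2 F)) g
  let x : Ext F := ⟨v, gb⟩
  have hord : orderOf gb = k := by
    refine Nat.dvd_antisymm (orderOf_dvd_of_pow_eq_one ?_) (hmin _ ?_)
    · rw [← map_pow, QuotientGroup.mk'_apply, QuotientGroup.eq_one_iff]; exact hgk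
    · rw [← QuotientGroup.eq_one_iff, ← QuotientGroup.mk'_apply, map_pow]; exact pow_orderOf_eq_one gb
  refine ⟨x, ?_⟩
  have hformula : ∀ m : ℕ, (∀ y, ((x ^ m).left.toAdd : SL2 F → ZMod 2) y =
      ∑ i ∈ Finset.range m, witnessFun A ((g ^ i)⁻¹ * y)) ∧ (x ^ m).right = gb ^ m := by
    intro m
    induction m with
    | zero => simp
    | succ m ih =>
      refine ⟨fun y => ?_, by rw [pow_succ, SemidirectProduct.mul_right, ih.2, pow_succ]⟩
      rw [pow_succ, SemidirectProduct.mul_left, ih.2, toAdd_mul, AddSubgroup.coe_add, Pi.add_apply,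
        Finset.sum_range_succ, ih.1, ← map_pow]
      rfl
  have hxk : x ^ k ≠ 1 := by
    intro e
    have h := (hformula k).1 (g ^ (k - 1))
    rw [e, SemidirectProduct.one_left, toAdd_one] at h
    have hsum : ∑ i ∈ Finset.range k, witnessFun A ((g ^ i)⁻¹ * g ^ (k - 1)) = 1 := by
      have hstep : ∀ i ∈ Finset.range k, (g ^ i)⁻¹ * g ^ (k - 1) = g ^ (k - 1 - i) := by
        intro i hi
        rw [inv_mul_eq_iff_eq_mul, ← pow_add]
        have := Finset.mem_range.1 hi
        congr 1; omega
      rw [Finset.sum_congr rfl (fun i hi => by rw [hstep i hi]), Finset.sum_eq_single (k - 1)]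
      · simp [witnessFun, hA1]
      · intro i hi hne
        have := Finset.mem_range.1 hi
        simp only [witnessFun]
        rw [if_neg]
        intro hh
        have := Nat.le_of_dvd (by omega) (hone _ hh)
        omega
      · intro hh; exact absurd (Finset.mem_range.2 (by omega)) hh
    rw [hsum] at h
    simp at h
  have hd1 : k ∣ orderOf x := by
    have h : orderOf gb ∣ orderOf x := orderOf_map_dvd SemidirectProduct.rightHom x
    rwa [hord] at h
  have hd2 : orderOf x ∣ 2 * k :=
    orderOf_dvd_of_pow_eq_one (ext_pow_double x (by rw [show x.right = gb from rfl, ← hord]; exact pow_orderOf_eq_one gb))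
  obtain ⟨c, hc⟩ := hd1
  rw [hc, mul_comm 2 k] at hd2
  rcases (Nat.dvd_prime Nat.prime_two).1 (Nat.dvd_of_mul_dvd_mul_left hk hd2) with rfl | rfl
  · exact absurd (by rw [← mul_one k, ← hc]; exact pow_orderOf_eq_one x) hxk
  · rw [hc, mul_comm]

theorem range_orderOf_ext {p : ℕ} [Fact p.Prime] [CharP F p] (hp : p ≠ 2) (hq : Fintype.card F = p) :
    Set.range (orderOf : Ext F → ℕ) = Set.range (orderOf : PGL F → ℕ) := by
  classical
  rw [range_orderOf_pgl (n := 1) hp (by rw [pow_one, hq])]
  haveI : Finite (Multiplicative (lineSpace F)) := inferInstanceAs (Finite (lineSpace F))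
  haveI : Finite (Ext F) := Finite.of_equiv _ SemidirectProduct.equivProd.symm
  have hF2' : ringChar F ≠ 2 := by rw [ringChar.eq F p]; exact hp
  have hF2 : (2 : F) ≠ 0 := Ring.two_ne_zero hF2'
  have hodd : Fintype.card F % 2 = 1 := FiniteField.odd_card_of_char_ne_two hF2'
  have hq1 : 1 < Fintype.card F := Fintype.one_lt_card
  apply Set.Subset.antisymm
  · rintro _ ⟨x, rfl⟩
    exact orderOf_ext_dvd hp hq x
  · have hd : ∀ {m k : ℕ}, m ∣ k → (∃ x : Ext F, orderOf x = k) → m ∈ Set.range (orderOf : Ext F → ℕ) := by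
      rintro m k hmk ⟨x, rfl⟩
      exact ⟨x ^ (orderOf x / m), orderOf_pow_orderOf_div (orderOf_pos x).ne' hmk⟩
    obtain ⟨η, hη⟩ := FiniteField.exists_nonsquare hF2'
    have hminus : ∃ x : Ext F, orderOf x = Fintype.card F - 1 := by
      obtain ⟨z, hz⟩ := IsCyclic.exists_ofOrder_eq_natCard (α := Fˣ)
      rw [Nat.card_units, Nat.card_eq_fintype_card] at hz
      let g : SL2 F := ⟨!![(z : F), 0; 0, (z : F)⁻¹], by simp [Matrix.det_fin_two]⟩
      have hgp : ∀ j, ((g ^ j : SL2 F) : Matrix (Fin 2) (Fin 2) F) = !![(z : F) ^ j, 0; 0, ((z : F) ^ j)⁻¹] := by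
        intro j
        induction j with
        | zero => ext i k; fin_cases i <;> fin_cases k <;> simp
        | succ j ih =>
          rw [pow_succ, Matrix.SpecialLinearGroup.coe_mul, ih]
          ext i k; fin_cases i <;> fin_cases k <;> simp [g, Matrix.mul_apply, Fin.sum_univ_two, pow_succ, mul_comm]
      have hpm : ∀ j, ((z : F) ^ j = 1 ∨ (z : F) ^ j = -1) → (Fintype.card F / 2) ∣ j := by
        intro j hj
        have h1 : z ^ (2 * j) = 1 := by
          apply Units.ext
          rw [Units.val_pow_eq_pow_val, mul_comm, pow_mul]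
          rcases hj with e | e <;> simp [e]
        have h2 := orderOf_dvd_of_pow_eq_one h1
        rw [hz, show Fintype.card F - 1 = 2 * (Fintype.card F / 2) by omega] at h2
        exact Nat.dvd_of_mul_dvd_mul_left two_pos h2
      rw [show Fintype.card F - 1 = 2 * (Fintype.card F / 2) by omega]
      refine exists_order_double hp hq g _ (by omega) ?_ !![1, η; 1, 1] ?_ ?_ ?_ ?_
      · refine scalar_mem_center (c := (z : F) ^ (Fintype.card F / 2)) ?_
        have hinv : ((z : F) ^ (Fintype.card F / 2))⁻¹ = (z : F) ^ (Fintype.card F / 2) := by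
          apply inv_eq_of_mul_eq_one_right
          rw [← pow_add, show Fintype.card F / 2 + Fintype.card F / 2 = Fintype.card F - 1 by omega]
          exact FiniteField.pow_card_sub_one_eq_one _ z.ne_zero
        rw [hgp, hinv]
        ext i k; fin_cases i <;> fin_cases k <;> simp
      · rw [Matrix.det_fin_two_of]; simpa using hη
      · simp [Matrix.trace_fin_two]; norm_num
      · intro j hj
        rw [hgp] at hj
        simp [Matrix.trace_fin_two, Matrix.mul_apply, Fin.sum_univ_two] at hj
        set w := (z : F) ^ j with hw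
        have hw0 : w ≠ 0 := pow_ne_zero _ z.ne_zero
        apply hpm
        rcases hj with e | e
        · left
          field_simp at e
          have : (w - 1) ^ 2 = 0 := by linear_combination e
          exact sub_eq_zero.1 (eq_zero_of_pow_eq_zero this)
        · right
          field_simp at e
          have : (w + 1) ^ 2 = 0 := by linear_combination e
          exact eq_neg_of_add_eq_zero_left (eq_zero_of_pow_eq_zero this)
      · intro j hj
        have h := Matrix.SpecialLinearGroup.scalar_eq_self_of_mem_center hj 0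
        have h00 := congrFun (congrFun h 1) 1
        rw [hgp] at h00
        simp at h00
        apply hpm
        have hw0 : (z : F) ^ j ≠ 0 := pow_ne_zero _ z.ne_zero
        have : ((z : F) ^ j) * ((z : F) ^ j) = 1 := by
          nth_rewrite 2 [h00]
          exact mul_inv_cancel₀ hw0
        exact mul_self_eq_one_iff.1 this
    have hplus : ∃ x : Ext F, orderOf x = Fintype.card F + 1 := by
      obtain ⟨ε, hε, a, b, hab⟩ := exists_quadratic_generator (F := F) hF2'
      set G0 : Matrix (Fin 2) (Fin 2) F := !![a, ε * b; b, a]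
      have hdet0 : G0.det ≠ 0 := by
        rw [Matrix.det_fin_two_of]
        intro h
        rcases eq_or_ne b 0 with hb | hb
        · have h1 := (hab 1).1 (by simp [G0, hb])
          have h2 := Nat.le_of_dvd one_pos h1
          omega
        · exact hε ⟨a / b, by field_simp; linear_combination -h⟩
      let g : SL2 F := ⟨G0 ^ (Fintype.card F - 1), by
        rw [Matrix.det_pow, FiniteField.pow_card_sub_one_eq_one _ hdet0]⟩
      have hgp : ∀ j, ((g ^ j : SL2 F) : Matrix (Fin 2) (Fin 2) F) = G0 ^ ((Fintype.card F - 1) * j) := by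
        intro j
        rw [Matrix.SpecialLinearGroup.coe_pow, pow_mul]
      obtain ⟨r, s, hrs⟩ : ∃ r s : F, r ^ 2 - ε * s ^ 2 = η := by
        obtain ⟨r, s, h⟩ := FiniteField.exists_root_sum_quadratic (R := F)
          (f := Polynomial.X ^ 2 - Polynomial.C η) (g := -Polynomial.C ε * Polynomial.X ^ 2)
          (Polynomial.degree_X_pow_sub_C (by norm_num) η)
          (by
            rw [← map_neg, Polynomial.degree_C_mul_X_pow 2 (neg_ne_zero.2 fun e => hε (by rw [e]; exact IsSquare.zero))]
            rfl) hodd
        exact ⟨r, s, by simp at h; linear_combination h⟩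
      have hbzero : ∀ j, ((g ^ j : SL2 F) : Matrix (Fin 2) (Fin 2) F) 1 0 = 0 → (Fintype.card F / 2 + 1) ∣ j := by
        intro j hj
        rw [hgp] at hj
        have h := (hab _).1 hj
        rw [show Fintype.card F + 1 = 2 * (Fintype.card F / 2 + 1) by omega,
          show Fintype.card F - 1 = 2 * (Fintype.card F / 2) by omega, mul_assoc] at h
        refine Nat.Coprime.dvd_of_dvd_mul_left ?_ (Nat.dvd_of_mul_dvd_mul_left two_pos h)
        rw [add_comm, Nat.coprime_add_self_left]
        exact Nat.coprime_one_left _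
      rw [show Fintype.card F + 1 = 2 * (Fintype.card F / 2 + 1) by omega]
      refine exists_order_double hp hq g _ (by omega) ?_ !![1 + r, -(s * ε); s, 1 - r] ?_ ?_ ?_ ?_
      · rcases pow_card_trichotomy hp (n := 1) (by rw [pow_one, hq]) G0 with ⟨-, -, h⟩ | ⟨-, h⟩ | ⟨-, -, h⟩
        · have h1 : G0 ^ (Fintype.card F - 1) * G0 = 1 * G0 := by
            rw [one_mul, ← pow_succ, Nat.sub_add_cancel hq1.le, h]
          have h2 : G0 ^ (Fintype.card F - 1) = 1 :=
            (Matrix.isUnit_iff_isUnit_det G0).2 (Ne.isUnit hdet0) |>.mul_right_cancel h1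
          refine scalar_mem_center (c := 1) ?_
          rw [hgp, pow_mul, h2, one_pow, one_smul]
        · refine scalar_mem_center (c := G0.det ^ (Fintype.card F / 2)) ?_
          rw [hgp, show (Fintype.card F - 1) * (Fintype.card F / 2 + 1) = (Fintype.card F + 1) * (Fintype.card F / 2) by
            obtain ⟨m, hm⟩ : ∃ m, Fintype.card F = 2 * m + 1 := ⟨Fintype.card F / 2, by omega⟩
            rw [hm, show (2 * m + 1) / 2 = m by omega, show 2 * m + 1 - 1 = 2 * m by omega]
            ring, pow_mul, h, smul_pow, one_pow]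
        · have h1 := (hab p).1 (by rw [h]; simp)
          have := Nat.le_of_dvd (Fact.out : p.Prime).pos h1
          omega
      · rw [Matrix.det_fin_two_of]
        intro hsq
        apply hη
        rw [← hrs, show r ^ 2 - ε * s ^ 2 = 1 - ((1 + r) * (1 - r) - -(s * ε) * s) by ring]
        exact hsq
      · simp [Matrix.trace_fin_two]; ring
      · intro j hj
        obtain ⟨c, d, hcd⟩ := (hab ((Fintype.card F - 1) * j)).2
        have hdj : ((g ^ j : SL2 F) : Matrix (Fin 2) (Fin 2) F).det = 1 := (g ^ j).2
        rw [hgp, hcd, Matrix.det_fin_two_of] at hdj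
        rw [hgp, hcd] at hj
        simp [Matrix.trace_fin_two, Matrix.mul_apply, Fin.sum_univ_two] at hj
        have hc : c ^ 2 = 1 := by
          have h4 : ((2 : F) * c) ^ 2 = 2 ^ 2 := by
            rcases hj with e | e
            · rw [show (2 : F) * c = 2 by linear_combination e]
            · rw [show (2 : F) * c = -2 by linear_combination e]; ring
          rw [mul_pow] at h4
          exact mul_left_cancel₀ (pow_ne_zero 2 hF2) (h4.trans (mul_one _).symm)
        apply hbzero
        rw [hgp, hcd]
        have hd0 : d = 0 := by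
          have : ε * d ^ 2 = 0 := by linear_combination hc - hdj
          exact eq_zero_of_pow_eq_zero ((mul_eq_zero.1 this).resolve_left (fun e => hε (by rw [e]; exact IsSquare.zero)))
        simp [hd0]
      · intro j hj
        apply hbzero
        have h := Matrix.SpecialLinearGroup.scalar_eq_self_of_mem_center hj 0
        rw [← h]; simp
    have hpp : ∃ x : Ext F, orderOf x = p := by
      let u : SL2 F := ⟨!![1, 1; 0, 1], by simp [Matrix.det_fin_two]⟩
      refine ⟨SemidirectProduct.inr (QuotientGroup.mk' _ u), ?_⟩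
      rw [orderOf_injective _ SemidirectProduct.inr_injective]
      have hup : ∀ j : ℕ, ((u ^ j : SL2 F) : Matrix (Fin 2) (Fin 2) F) = !![1, (j : F); 0, 1] := by
        intro j
        induction j with
        | zero => ext i k; fin_cases i <;> fin_cases k <;> simp
        | succ j ih =>
          rw [pow_succ, Matrix.SpecialLinearGroup.coe_mul, ih]
          ext i k; fin_cases i <;> fin_cases k <;> simp [u, Matrix.mul_apply, Fin.sum_univ_two] <;> ring
      refine orderOf_eq_prime ?_ ?_
      · rw [← map_pow, QuotientGroup.mk'_apply, QuotientGroup.eq_one_iff]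
        refine scalar_mem_center (c := 1) ?_
        rw [hup, CharP.cast_eq_zero, one_smul]
        ext i k; fin_cases i <;> fin_cases k <;> simp
      · intro h
        rw [QuotientGroup.mk'_apply, QuotientGroup.eq_one_iff] at h
        have h01 := congrFun (congrFun (Matrix.SpecialLinearGroup.scalar_eq_self_of_mem_center h 0) 0) 1
        simp [u] at h01
    rintro d (h | h | h)
    exacts [hd h hminus, hd h hplus, hd h hpp]

end

end CfsgLib.Recog.PGL2
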