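import Mathlib
import Cfsg.Prelude.Def_Classical
import Cfsg.Agent.Lib.Recog.Companion

/-!
The element orders of PSp(4,3).
-/

namespace CfsgLib.Recog.Sp43

open Companion Matrix Polynomial

/-- The order list. -/
def ords : List ℕ := [1, 2, 3, 4, 5, 6, 9, 12]

theorem mem_ords_of_dvd : ∀ d : ℕ, (d ∣ 5 ∨ d ∣ 9 ∨ d ∣ 12) → d ∈ ords := by
  intro d hd
  have hd0 : d ≠ 0 := by rintro rfl; simp at hd
  have hle : d ≤ 12 := by
    rcases hd with h | h | h <;> have := Nat.le_of_dvd (by norm_num) h <;> omega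
  interval_cases d <;> first | exact absurd rfl hd0 | (revert hd; decide)

theorem cases_decide : ∀ a b : ZMod 3, ∃ k : Fin 3, ∃ z : Bool,
    iter4 a b a (-1) (([5, 9, 12] : List ℕ).getD k 0) = (0, 0, 0, if z then 1 else -1) := by
  decide +kernel

theorem quartic_of_symplectic {F : Type*} [Field F] (g : symplecticGroup (Fin 2) F) :
    ∃ a b : F, (g : Matrix (Fin 2 ⊕ Fin 2) (Fin 2 ⊕ Fin 2) F) ^ 4 =
      a • (g : Matrix (Fin 2 ⊕ Fin 2) (Fin 2 ⊕ Fin 2) F) ^ 3 +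
        b • (g : Matrix (Fin 2 ⊕ Fin 2) (Fin 2 ⊕ Fin 2) F) ^ 2 +
        a • (g : Matrix (Fin 2 ⊕ Fin 2) (Fin 2 ⊕ Fin 2) F) + (-1 : F) • 1 := by
  set M := (g : Matrix (Fin 2 ⊕ Fin 2) (Fin 2 ⊕ Fin 2) F) with hM
  have hdet : M.det = 1 := SymplecticGroup.det_eq_one g.2
  have hunit : IsUnit M := (Matrix.isUnit_iff_isUnit_det M).2 (by rw [hdet]; exact isUnit_one)
  have hinv : M⁻¹.charpoly = M.charpoly := by
    rw [← SymplecticGroup.coe_inv', SymplecticGroup.coe_inv, ← hM]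
    rw [Matrix.charpoly_mul_comm, ← mul_assoc, mul_neg, J_squared, neg_neg, one_mul, Matrix.charpoly_transpose]
  rw [Matrix.charpoly_inv M hunit, hdet, Ring.inverse_one, map_one, mul_one, ← Matrix.reverse_charpoly] at hinv
  have hsign : ((-1 : F[X]) ^ Fintype.card (Fin 2 ⊕ Fin 2)) = 1 := by
    rw [show Fintype.card (Fin 2 ⊕ Fin 2) = 4 from by simp]; ring
  rw [hsign, one_mul] at hinv
  set f := M.charpoly with hf
  have hdeg : f.natDegree = 4 := by rw [hf, Matrix.charpoly_natDegree_eq_dim]; simp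
  have h4 : f.coeff 4 = 1 := by rw [← hdeg]; exact (Matrix.charpoly_monic M).coeff_natDegree
  have h31 : f.coeff 3 = f.coeff 1 := by
    conv_rhs => rw [← hinv, Polynomial.coeff_reverse, hdeg]
    rfl
  have h0 : f.coeff 0 = 1 := by
    conv_lhs => rw [← hinv, Polynomial.coeff_reverse, hdeg]
    exact h4
  have hch := Matrix.aeval_self_charpoly M
  rw [← hf, Polynomial.aeval_eq_sum_range, hdeg] at hch
  simp only [Finset.sum_range_succ, Finset.sum_range_zero, zero_add, pow_zero, pow_one, h4, h0, h31, one_smul] at hch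
  refine ⟨-f.coeff 1, -f.coeff 2, ?_⟩
  rw [← sub_eq_zero, ← hch]
  module

theorem iter_map {S T : Type*} [CommRing S] [CommRing T] (φ : S →+* T) (a b c d : S) (k : ℕ) :
    iter4 (φ a) (φ b) (φ c) (φ d) k =
      (φ (iter4 a b c d k).1, φ (iter4 a b c d k).2.1, φ (iter4 a b c d k).2.2.1, φ (iter4 a b c d k).2.2.2) := by
  induction k with
  | zero => simp [iter4]
  | succ k ih => simp only [iter4, step4, ih, map_add, map_mul]

theorem neg_one_mem (F : Type*) [Field F] :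
    (-1 : Matrix (Fin 2 ⊕ Fin 2) (Fin 2 ⊕ Fin 2) F) ∈ symplecticGroup (Fin 2) F :=
  SymplecticGroup.neg_mem (one_mem _)

theorem pow_cases {F : Type*} [Field F] [Fintype F] (hF : Fintype.card F = 3)
    (g : symplecticGroup (Fin 2) F) :
    ∃ k ∈ ([5, 9, 12] : List ℕ), g ^ k ∈ Subgroup.center (symplecticGroup (Fin 2) F) := by
  let φ : ZMod 3 ≃+* F := ZMod.ringEquivOfPrime F Nat.prime_three hF
  obtain ⟨a, b, h⟩ := quartic_of_symplectic g
  obtain ⟨a, rfl⟩ := φ.surjective a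
  obtain ⟨b, rfl⟩ := φ.surjective b
  obtain ⟨k, z, hk⟩ := cases_decide a b
  have hkm : ([5, 9, 12] : List ℕ).getD k 0 ∈ ([5, 9, 12] : List ℕ) := by fin_cases k <;> simp
  refine ⟨_, hkm, ?_⟩
  set n := ([5, 9, 12] : List ℕ).getD k 0
  have hpow : (g : Matrix (Fin 2 ⊕ Fin 2) (Fin 2 ⊕ Fin 2) F) ^ n = (φ (if z then 1 else -1)) • 1 := by
    refine pow_eq_of_iter4 (φ := (φ : ZMod 3 →+* F)) (a := a) (b := b) (c := a) (d := -1) ?_ hk
    simpa using h
  rw [Subgroup.mem_center_iff]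
  intro x
  apply Subtype.ext
  change (x : Matrix (Fin 2 ⊕ Fin 2) (Fin 2 ⊕ Fin 2) F) * ((g : Matrix (Fin 2 ⊕ Fin 2) (Fin 2 ⊕ Fin 2) F) ^ n) =
    (g : Matrix (Fin 2 ⊕ Fin 2) (Fin 2 ⊕ Fin 2) F) ^ n * (x : Matrix (Fin 2 ⊕ Fin 2) (Fin 2 ⊕ Fin 2) F)
  rw [hpow, Matrix.mul_smul, Matrix.smul_mul, one_mul, mul_one]

/-- The model group over `ZMod 3`. -/
abbrev Sp3 := symplecticGroup (Fin 2) (ZMod 3)

/-- Build a 4×4 matrix in block indices. -/
def blk (A B C D : Matrix (Fin 2) (Fin 2) (ZMod 3)) : Matrix (Fin 2 ⊕ Fin 2) (Fin 2 ⊕ Fin 2) (ZMod 3) :=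
  Matrix.fromBlocks A B C D

theorem witness5 : ∃ g h : Matrix (Fin 2 ⊕ Fin 2) (Fin 2 ⊕ Fin 2) (ZMod 3),
    g * J (Fin 2) (ZMod 3) * gᵀ = J (Fin 2) (ZMod 3) ∧ h * J (Fin 2) (ZMod 3) * hᵀ = J (Fin 2) (ZMod 3) ∧
    (g ^ 5 = 1 ∨ g ^ 5 = -1) ∧ ∀ p : ℕ, p ≤ 5 → p.Prime → p ∣ 5 → g ^ (5 / p) * h ≠ h * g ^ (5 / p) := by
  refine ⟨blk !![1, 2; 1, 1] !![2, 0; 0, 1] !![0, 1; 1, 0] !![1, 0; 0, 1], blk 1 !![1, 0; 0, 0] 0 1,
    by decide +kernel, by decide +kernel, by decide +kernel, ?_⟩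
  intro p hp hpp hd
  interval_cases p <;> first | (norm_num at hpp; done) | (norm_num at hd; done) | decide +kernel

theorem witness9 : ∃ g h : Matrix (Fin 2 ⊕ Fin 2) (Fin 2 ⊕ Fin 2) (ZMod 3),
    g * J (Fin 2) (ZMod 3) * gᵀ = J (Fin 2) (ZMod 3) ∧ h * J (Fin 2) (ZMod 3) * hᵀ = J (Fin 2) (ZMod 3) ∧
    (g ^ 9 = 1 ∨ g ^ 9 = -1) ∧ ∀ p : ℕ, p ≤ 9 → p.Prime → p ∣ 9 → g ^ (9 / p) * h ≠ h * g ^ (9 / p) := by
  refine ⟨blk !![1, 1; 0, 1] !![1, 0; 0, 0] !![0, 1; 1, 0] !![1, 0; 0, 1], blk 1 !![0, 0; 0, 1] 0 1,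
    by decide +kernel, by decide +kernel, by decide +kernel, ?_⟩
  intro p hp hpp hd
  interval_cases p <;> first | (norm_num at hpp; done) | (norm_num at hd; done) | decide +kernel

theorem witness12 : ∃ g h : Matrix (Fin 2 ⊕ Fin 2) (Fin 2 ⊕ Fin 2) (ZMod 3),
    g * J (Fin 2) (ZMod 3) * gᵀ = J (Fin 2) (ZMod 3) ∧ h * J (Fin 2) (ZMod 3) * hᵀ = J (Fin 2) (ZMod 3) ∧
    (g ^ 12 = 1 ∨ g ^ 12 = -1) ∧ ∀ p : ℕ, p ≤ 12 → p.Prime → p ∣ 12 → g ^ (12 / p) * h ≠ h * g ^ (12 / p) := by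
  refine ⟨blk !![2, 0; 0, 1] !![1, 0; 0, 1] !![1, 0; 0, 0] !![1, 0; 0, 1], blk 1 0 !![1, 1; 1, 1] 1,
    by decide +kernel, by decide +kernel, by decide +kernel, ?_⟩
  intro p hp hpp hd
  interval_cases p <;> first | (norm_num at hpp; done) | (norm_num at hd; done) | decide +kernel

theorem exists_order {F : Type*} [Field F] [Fintype F] (hF : Fintype.card F = 3) {n : ℕ} (hn : 0 < n)
    (hw : ∃ g h : Matrix (Fin 2 ⊕ Fin 2) (Fin 2 ⊕ Fin 2) (ZMod 3),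
      g * J (Fin 2) (ZMod 3) * gᵀ = J (Fin 2) (ZMod 3) ∧ h * J (Fin 2) (ZMod 3) * hᵀ = J (Fin 2) (ZMod 3) ∧
      (g ^ n = 1 ∨ g ^ n = -1) ∧ ∀ p : ℕ, p ≤ n → p.Prime → p ∣ n → g ^ (n / p) * h ≠ h * g ^ (n / p)) :
    ∃ y : Cfsg.PSp 2 F, orderOf y = n := by
  let φ : ZMod 3 ≃+* F := ZMod.ringEquivOfPrime F Nat.prime_three hF
  obtain ⟨g, h, hg, hh, hpow, hne⟩ := hw
  let Φ := (φ : ZMod 3 →+* F).mapMatrix (m := Fin 2 ⊕ Fin 2)
  let g' : symplecticGroup (Fin 2) F := ⟨Φ g, SymplecticGroup.map_mem (SymplecticGroup.mem_iff.2 hg) (φ : ZMod 3 →+* F)⟩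
  let h' : symplecticGroup (Fin 2) F := ⟨Φ h, SymplecticGroup.map_mem (SymplecticGroup.mem_iff.2 hh) (φ : ZMod 3 →+* F)⟩
  have hgk : ∀ k : ℕ, ((g' ^ k : symplecticGroup (Fin 2) F) : Matrix (Fin 2 ⊕ Fin 2) (Fin 2 ⊕ Fin 2) F) = Φ (g ^ k) := by
    intro k
    rw [map_pow]
    rfl
  refine ⟨QuotientGroup.mk' _ g', orderOf_of_pow ?_ hn ?_⟩
  · rw [← map_pow, QuotientGroup.mk'_apply, QuotientGroup.eq_one_iff, Subgroup.mem_center_iff]
    intro x
    apply Subtype.ext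
    rw [Submonoid.coe_mul, Submonoid.coe_mul, hgk]
    rcases hpow with e | e <;> rw [e]
    · rw [map_one, mul_one, one_mul]
    · rw [map_neg, map_one]; simp
  · intro p hp hd hcon
    rw [← map_pow, QuotientGroup.mk'_apply, QuotientGroup.eq_one_iff, Subgroup.mem_center_iff] at hcon
    apply hne p (Nat.le_of_dvd hn hd) hp hd
    have e := congrArg Subtype.val (hcon h')
    simp only [Submonoid.coe_mul, hgk] at e
    have e' : Φ (h * g ^ (n / p)) = Φ (g ^ (n / p) * h) := by rw [map_mul, map_mul]; exact e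
    ext i j
    exact φ.injective (congrFun (congrFun e' i) j).symm

theorem range_orderOf_psp43 {F : Type*} [Field F] [Fintype F] (hF : Fintype.card F = 3) :
    Set.range (orderOf : Cfsg.PSp 2 F → ℕ) = {k | k ∈ ords} := by
  apply Set.Subset.antisymm
  · rintro _ ⟨y, rfl⟩
    obtain ⟨g, rfl⟩ := QuotientGroup.mk'_surjective _ y
    refine mem_ords_of_dvd _ ?_
    obtain ⟨k, hk, hc⟩ := pow_cases hF g
    have hd : orderOf (QuotientGroup.mk' (Subgroup.center (symplecticGroup (Fin 2) F)) g) ∣ k := by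
      apply orderOf_dvd_of_pow_eq_one
      rw [← map_pow, QuotientGroup.mk'_apply, QuotientGroup.eq_one_iff]
      exact hc
    simp only [List.mem_cons, List.not_mem_nil, or_false] at hk
    rcases hk with rfl | rfl | rfl
    exacts [Or.inl hd, Or.inr (Or.inl hd), Or.inr (Or.inr hd)]
  · have hd : ∀ {m n : ℕ}, m ∣ n → 0 < n → (∃ y : Cfsg.PSp 2 F, orderOf y = n) →
        m ∈ Set.range (orderOf : Cfsg.PSp 2 F → ℕ) := by
      rintro m n hmn hn ⟨y, rfl⟩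
      exact ⟨y ^ (orderOf y / m), orderOf_pow_orderOf_div (by omega) hmn⟩
    have a := exists_order hF (n := 5) (by norm_num) witness5
    have b := exists_order hF (n := 9) (by norm_num) witness9
    have c := exists_order hF (n := 12) (by norm_num) witness12
    intro k hk
    change k ∈ ords at hk
    fin_cases hk
    exacts [hd (by norm_num) (by norm_num) a, hd (by norm_num) (by norm_num) c, hd (by norm_num) (by norm_num) b,
      hd (by norm_num) (by norm_num) c, hd dvd_rfl (by norm_num) a, hd (by norm_num) (by norm_num) c,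
      hd dvd_rfl (by norm_num) b, hd dvd_rfl (by norm_num) c]

end CfsgLib.Recog.Sp43
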