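import Mathlib
import Cfsg.Agent.Lib.Recog.SpectrumSp4

/-!
A solvable group with the element orders of PSp(4,3): a class-three 3-group extended by the Frobenius group
of order 20.
-/

namespace CfsgLib.Recog.TwentyExt

noncomputable section

/-- The units of `ZMod 5`. -/
abbrev U5 := (ZMod 5)ˣ

/-- The unit 3. -/
def c3 : U5 := ⟨3, 2, by decide, by decide⟩

/-- The unit 4. -/
def c4 : U5 := -1

/-- The field with 81 elements. -/
abbrev F81 := GaloisField 3 4

/-- The 3-group. -/
@[ext] structure AGrp where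
  /-- first degree one part -/
  v : U5 → F81
  /-- second degree one part -/
  w : U5 → F81
  /-- degree two -/
  y1 : U5 → F81
  /-- degree two -/
  y2 : U5 → F81
  /-- degree two -/
  y3 : U5 → F81
  /-- degree two -/
  y4 : U5 → F81
  /-- degree three -/
  z : U5 → F81

namespace AGrp

instance instMulAGrp : Mul AGrp where
  mul a b :=
    { v := fun k => a.v k + b.v k
      w := fun k => a.w k + b.w k
      y1 := fun k => a.y1 k + b.y1 k + a.v k * b.v (c3 * k)
      y2 := fun k => a.y2 k + b.y2 k + a.w k * b.v (c3 * k)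
      y3 := fun k => a.y3 k + b.y3 k + a.v (c3 * k) * b.w (c4 * k)
      y4 := fun k => a.y4 k + b.y4 k + a.v (c3 * k) * b.v (c4 * k)
      z := fun k => a.z k + b.z k + (a.v k * b.y3 k - a.w k * b.y4 k)
        + (a.y1 k * b.w (c4 * k) - a.y2 k * b.v (c4 * k)) }

instance instOneAGrp : One AGrp where
  one := ⟨0, 0, 0, 0, 0, 0, 0⟩

instance instInvAGrp : Inv AGrp where
  inv a :=
    { v := fun k => -a.v k
      w := fun k => -a.w k
      y1 := fun k => -a.y1 k + a.v k * a.v (c3 * k)
      y2 := fun k => -a.y2 k + a.w k * a.v (c3 * k)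
      y3 := fun k => -a.y3 k + a.v (c3 * k) * a.w (c4 * k)
      y4 := fun k => -a.y4 k + a.v (c3 * k) * a.v (c4 * k)
      z := fun k => -a.z k - (a.v k * (-a.y3 k + a.v (c3 * k) * a.w (c4 * k))
          - a.w k * (-a.y4 k + a.v (c3 * k) * a.v (c4 * k)))
        + (a.y1 k * a.w (c4 * k) - a.y2 k * a.v (c4 * k)) }

section simps
variable (a b : AGrp) (k : U5)
@[simp] theorem mul_v : (a * b).v k = a.v k + b.v k := rfl
@[simp] theorem mul_w : (a * b).w k = a.w k + b.w k := rfl
@[simp] theorem mul_y1 : (a * b).y1 k = a.y1 k + b.y1 k + a.v k * b.v (c3 * k) := rfl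
@[simp] theorem mul_y2 : (a * b).y2 k = a.y2 k + b.y2 k + a.w k * b.v (c3 * k) := rfl
@[simp] theorem mul_y3 : (a * b).y3 k = a.y3 k + b.y3 k + a.v (c3 * k) * b.w (c4 * k) := rfl
@[simp] theorem mul_y4 : (a * b).y4 k = a.y4 k + b.y4 k + a.v (c3 * k) * b.v (c4 * k) := rfl
@[simp] theorem mul_z : (a * b).z k = a.z k + b.z k + (a.v k * b.y3 k - a.w k * b.y4 k)
    + (a.y1 k * b.w (c4 * k) - a.y2 k * b.v (c4 * k)) := rfl
@[simp] theorem one_v : (1 : AGrp).v k = 0 := rfl
@[simp] theorem one_w : (1 : AGrp).w k = 0 := rfl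
@[simp] theorem one_y1 : (1 : AGrp).y1 k = 0 := rfl
@[simp] theorem one_y2 : (1 : AGrp).y2 k = 0 := rfl
@[simp] theorem one_y3 : (1 : AGrp).y3 k = 0 := rfl
@[simp] theorem one_y4 : (1 : AGrp).y4 k = 0 := rfl
@[simp] theorem one_z : (1 : AGrp).z k = 0 := rfl
@[simp] theorem inv_v : a⁻¹.v k = -a.v k := rfl
@[simp] theorem inv_w : a⁻¹.w k = -a.w k := rfl
@[simp] theorem inv_y1 : a⁻¹.y1 k = -a.y1 k + a.v k * a.v (c3 * k) := rfl
@[simp] theorem inv_y2 : a⁻¹.y2 k = -a.y2 k + a.w k * a.v (c3 * k) := rfl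
@[simp] theorem inv_y3 : a⁻¹.y3 k = -a.y3 k + a.v (c3 * k) * a.w (c4 * k) := rfl
@[simp] theorem inv_y4 : a⁻¹.y4 k = -a.y4 k + a.v (c3 * k) * a.v (c4 * k) := rfl
@[simp] theorem inv_z : a⁻¹.z k = -a.z k - (a.v k * (-a.y3 k + a.v (c3 * k) * a.w (c4 * k))
    - a.w k * (-a.y4 k + a.v (c3 * k) * a.v (c4 * k)))
    + (a.y1 k * a.w (c4 * k) - a.y2 k * a.v (c4 * k)) := rfl
end simps

instance instGroupAGrp : Group AGrp :=
  Group.ofLeftAxioms
    (fun a b c => by ext k <;> simp <;> ring)
    (fun a => by ext k <;> simp)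
    (fun a => by ext k <;> simp <;> ring)

/-- The tuple of a group element. -/
def toTuple (a : AGrp) :
    (U5 → F81) × (U5 → F81) × (U5 → F81) × (U5 → F81) × (U5 → F81) × (U5 → F81) × (U5 → F81) :=
  (a.v, a.w, a.y1, a.y2, a.y3, a.y4, a.z)

instance instFiniteAGrp : Finite AGrp :=
  Finite.of_injective toTuple (fun a b h => by
    simp only [toTuple, Prod.mk.injEq] at h
    obtain ⟨h1, h2, h3, h4, h5, h6, h7⟩ := h
    exact AGrp.ext h1 h2 h3 h4 h5 h6 h7)

theorem three_eq_zero : (3 : F81) = 0 := by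
  exact_mod_cast CharP.cast_eq_zero F81 3

/-- The cubic invariant. -/
def cubeVal (a : AGrp) (k : U5) : F81 :=
  a.v k * a.v (c3 * k) * a.w (c4 * k) - a.w k * a.v (c3 * k) * a.v (c4 * k)

theorem pow_three_eq (a : AGrp) : a ^ 3 = ⟨0, 0, 0, 0, 0, 0, cubeVal a⟩ := by
  rw [pow_three]
  have h := three_eq_zero
  ext k <;> simp [cubeVal] <;> linear_combination (norm := skip) h * 0 <;> grind

theorem pow_nine (a : AGrp) : a ^ 9 = 1 := by
  rw [show (9 : ℕ) = 3 * 3 from rfl, pow_mul, pow_three_eq a, pow_three_eq]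
  ext k <;> simp [cubeVal]

end AGrp

/-- The Frobenius group of order 20. -/
@[ext] structure Aff5 where
  /-- translation -/
  c : ZMod 5
  /-- multiplier -/
  u : U5
deriving DecidableEq

namespace Aff5

instance instMulAff5 : Mul Aff5 where mul p q := ⟨p.c + p.u * q.c, p.u * q.u⟩
instance instOneAff5 : One Aff5 where one := ⟨0, 1⟩
instance instInvAff5 : Inv Aff5 where inv p := ⟨-((p.u⁻¹ : U5) * p.c), p.u⁻¹⟩

@[simp] theorem mul_c (p q : Aff5) : (p * q).c = p.c + p.u * q.c := rfl
@[simp] theorem mul_u (p q : Aff5) : (p * q).u = p.u * q.u := rfl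
@[simp] theorem one_c : (1 : Aff5).c = 0 := rfl
@[simp] theorem one_u : (1 : Aff5).u = 1 := rfl
@[simp] theorem inv_c (p : Aff5) : p⁻¹.c = -((p.u⁻¹ : U5) * p.c) := rfl
@[simp] theorem inv_u (p : Aff5) : p⁻¹.u = p.u⁻¹ := rfl

instance instGroupAff5 : Group Aff5 :=
  Group.ofLeftAxioms
    (fun a b c => by ext <;> simp <;> ring)
    (fun a => by ext <;> simp)
    (fun a => by ext <;> simp)

/-- The pair of an element. -/
def equivPair : Aff5 ≃ ZMod 5 × U5 where
  toFun p := (p.c, p.u)
  invFun p := ⟨p.1, p.2⟩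
  left_inv _ := rfl
  right_inv _ := rfl

instance instFintypeAff5 : Fintype Aff5 := Fintype.ofEquiv _ equivPair.symm

/-- The multiplier as a homomorphism. -/
def uHom : Aff5 →* U5 where
  toFun p := p.u
  map_one' := rfl
  map_mul' _ _ := rfl

theorem pow_facts : ∀ p : Aff5, (p.u = 1 → p ^ 5 = 1) ∧ (p.u ≠ 1 → p ^ 4 = 1 ∧ (p.u = c4 ∨ (p ^ 2).u = c4)) := by
  decide +kernel

theorem isSolvable : Group.IsSolvable Aff5 := by
  haveI : Group.IsSolvable uHom.ker := Group.isSolvable_of_comm fun a b => by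
    have ha : (a : Aff5).u = 1 := a.2
    have hb : (b : Aff5).u = 1 := b.2
    apply Subtype.ext
    ext <;> simp [ha, hb, add_comm]
  haveI : Group.IsSolvable U5 := Group.isSolvable_of_comm mul_comm
  exact Group.isSolvable_of_ker_le_range uHom.ker.subtype uHom (fun x hx => ⟨⟨x, hx⟩, rfl⟩)

end Aff5

theorem exists_zeta : ∃ χ : Multiplicative (ZMod 5) →* F81, ∀ a, χ a = 1 → a = 1 := by
  haveI : Fact (Nat.Prime 3) := ⟨Nat.prime_three⟩
  have h5 : (5 : ℕ) ∣ Nat.card F81ˣ := by
    rw [Nat.card_units, GaloisField.card 3 4 (by norm_num)]; norm_num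
  obtain ⟨x, hx⟩ := exists_prime_orderOf_dvd_card' (hp := ⟨Nat.prime_five⟩) 5 h5
  refine ⟨AddMonoidHom.toMultiplicativeLeft (ZMod.lift 5 ⟨(zmultiplesHom (Additive F81ˣ) (Additive.ofMul x)), by
    simp only [zmultiplesHom_apply]
    rw [natCast_zsmul, ← ofMul_pow, ← hx, pow_orderOf_eq_one, ofMul_one]⟩) |> (Units.coeHom F81).comp, ?_⟩
  intro a ha
  obtain ⟨n, hn⟩ := ZMod.intCast_surjective a.toAdd
  have h1 : x ^ n = 1 := by
    apply Units.ext
    rw [Units.val_one, ← ha]
    simp [← hn, zmultiplesHom_apply, toMul_zsmul]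
  rw [← orderOf_dvd_iff_zpow_eq_one, hx] at h1
  apply Multiplicative.toAdd.injective
  rw [← hn, toAdd_one]
  exact (ZMod.intCast_zmod_eq_zero_iff_dvd n 5).2 h1

/-- The character. -/
def chi : Multiplicative (ZMod 5) →* F81 := Classical.choose exists_zeta

/-- The factor of translation `c` on weight `i`. -/
def e (c : ZMod 5) (i : U5) : F81 := chi (Multiplicative.ofAdd (c * (i : ZMod 5)))

theorem e_zero (i : U5) : e 0 i = 1 := by simp [e]

theorem e_comp (c d : ZMod 5) (u i : U5) : e (c + u * d) i = e c i * e d (u * i) := by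
  rw [e, e, e, ← map_mul, ← ofAdd_add, Units.val_mul, add_mul]
  congr 3
  ring

theorem e_ne_zero (c : ZMod 5) (i : U5) : e c i ≠ 0 := by
  intro h
  have h' : e c i * e (-c) i = 1 := by
    rw [e, e, ← map_mul, ← ofAdd_add, neg_mul, add_neg_cancel, ofAdd_zero, map_one]
  rw [h, zero_mul] at h'
  exact zero_ne_one h'

theorem chi_eq_one {a : ZMod 5} (h : chi (Multiplicative.ofAdd a) = 1) : a = 0 :=
  Multiplicative.ofAdd.injective ((Classical.choose_spec exists_zeta _ h).trans ofAdd_zero.symm)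

/-- The action of one element. -/
def actFun (s : Aff5) (a : AGrp) : AGrp where
  v k := e s.c k * a.v (s.u * k)
  w k := e s.c k * a.w (s.u * k)
  y1 k := e s.c k * e s.c (c3 * k) * a.y1 (s.u * k)
  y2 k := e s.c k * e s.c (c3 * k) * a.y2 (s.u * k)
  y3 k := e s.c (c3 * k) * e s.c (c4 * k) * a.y3 (s.u * k)
  y4 k := e s.c (c3 * k) * e s.c (c4 * k) * a.y4 (s.u * k)
  z k := e s.c k * e s.c (c3 * k) * e s.c (c4 * k) * a.z (s.u * k)

theorem actFun_one (a : AGrp) : actFun 1 a = a := by
  ext k <;> simp [actFun, e_zero]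

theorem actFun_mul (s t : Aff5) (a : AGrp) : actFun (s * t) a = actFun s (actFun t a) := by
  have i1 : ∀ k : U5, s.u * t.u * k = t.u * (s.u * k) := fun k => by rw [mul_comm s.u t.u, mul_assoc]
  have i2 : ∀ k : U5, s.u * (c3 * k) = c3 * (s.u * k) := fun k => mul_left_comm _ _ _
  have i3 : ∀ k : U5, s.u * (c4 * k) = c4 * (s.u * k) := fun k => mul_left_comm _ _ _
  ext k <;> simp only [actFun, Aff5.mul_c, Aff5.mul_u, e_comp, i1, i2, i3] <;> ring

theorem actFun_map_mul (s : Aff5) (a b : AGrp) : actFun s (a * b) = actFun s a * actFun s b := by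
  ext k <;> simp [actFun, mul_left_comm s.u] <;> ring

/-- The action. -/
def act : Aff5 →* MulAut AGrp where
  toFun s :=
    { toFun := actFun s
      invFun := actFun s⁻¹
      left_inv := fun x => by rw [← actFun_mul, inv_mul_cancel, actFun_one]
      right_inv := fun x => by rw [← actFun_mul, mul_inv_cancel, actFun_one]
      map_mul' := actFun_map_mul s }
  map_one' := MulEquiv.ext actFun_one
  map_mul' s t := MulEquiv.ext (actFun_mul s t)

/-- The whole group. -/
abbrev Big := AGrp ⋊[act] Aff5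

theorem weight_facts : ∀ k : U5, (k : ZMod 5) + ((c3 * k : U5) : ZMod 5) ≠ 0 ∧
      ((c3 * k : U5) : ZMod 5) + ((c4 * k : U5) : ZMod 5) ≠ 0 ∧
      (k : ZMod 5) + ((c3 * k : U5) : ZMod 5) + ((c4 * k : U5) : ZMod 5) ≠ 0 := by decide +kernel

theorem eq_one_of_fixed_translation {s : Aff5} (hu : s.u = 1) (hc : s.c ≠ 0) {a b : AGrp}
    (h : b * actFun s a = a * b) : a = 1 := by
  have key : ∀ (f x : F81), f ≠ 1 → f * x = x → x = 0 := fun f x hf hx => by
    have : (f - 1) * x = 0 := by linear_combination hx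
    exact (mul_eq_zero.1 this).resolve_left (sub_ne_zero.2 hf)
  haveI : Fact (Nat.Prime 5) := ⟨Nat.prime_five⟩
  have h1 : ∀ i : U5, e s.c i ≠ 1 := fun i hi => hc ((mul_eq_zero.1 (chi_eq_one hi)).resolve_right i.ne_zero)
  have h2 : ∀ i j : U5, (i : ZMod 5) + j ≠ 0 → e s.c i * e s.c j ≠ 1 := fun i j hij hh => by
    rw [e, e, ← map_mul, ← ofAdd_add, ← mul_add] at hh
    exact hc ((mul_eq_zero.1 (chi_eq_one hh)).resolve_right hij)
  have h3 : ∀ i j l : U5, (i : ZMod 5) + j + l ≠ 0 → e s.c i * e s.c j * e s.c l ≠ 1 := fun i j l hij hh => by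
    rw [e, e, e, ← map_mul, ← map_mul, ← ofAdd_add, ← ofAdd_add, ← mul_add, ← mul_add] at hh
    exact hc ((mul_eq_zero.1 (chi_eq_one hh)).resolve_right hij)
  have wt := weight_facts
  have hv : ∀ k, a.v k = 0 := fun k => key _ _ (h1 k) (by
    have := congrFun (congrArg AGrp.v h) k
    simp [actFun, hu] at this
    linear_combination this)
  have hw : ∀ k, a.w k = 0 := fun k => key _ _ (h1 k) (by
    have := congrFun (congrArg AGrp.w h) k
    simp [actFun, hu] at this
    linear_combination this)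
  have hy1 : ∀ k, a.y1 k = 0 := fun k => key _ _ (h2 _ _ (wt k).1) (by
    have := congrFun (congrArg AGrp.y1 h) k
    simp [actFun, hu, hv, hw] at this
    linear_combination this)
  have hy2 : ∀ k, a.y2 k = 0 := fun k => key _ _ (h2 _ _ (wt k).1) (by
    have := congrFun (congrArg AGrp.y2 h) k
    simp [actFun, hu, hv, hw] at this
    linear_combination this)
  have hy3 : ∀ k, a.y3 k = 0 := fun k => key _ _ (h2 _ _ (wt k).2.1) (by
    have := congrFun (congrArg AGrp.y3 h) k
    simp [actFun, hu, hv, hw] at this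
    linear_combination this)
  have hy4 : ∀ k, a.y4 k = 0 := fun k => key _ _ (h2 _ _ (wt k).2.1) (by
    have := congrFun (congrArg AGrp.y4 h) k
    simp [actFun, hu, hv, hw] at this
    linear_combination this)
  have hz : ∀ k, a.z k = 0 := fun k => key _ _ (h3 _ _ _ (wt k).2.2) (by
    have := congrFun (congrArg AGrp.z h) k
    simp [actFun, hu, hv, hw, hy1, hy2, hy3, hy4] at this
    linear_combination this)
  ext k <;> simp [hv, hw, hy1, hy2, hy3, hy4, hz]

theorem pow_three_of_fixed_involution {s : Aff5} (hu : s.u = c4) {a b : AGrp} (h : b * actFun s a = a * b) :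
    a ^ 3 = 1 := by
  rw [AGrp.pow_three_eq]
  have hzero : AGrp.cubeVal a = fun _ => 0 := by
    funext k
    have hkk : c4 * (c4 * k) = k := by simp [c4]
    have hv : e s.c (c4 * k) * a.v k = a.v (c4 * k) := by
      have := congrFun (congrArg AGrp.v h) (c4 * k)
      simp [actFun, hu, hkk] at this
      linear_combination this
    have hw : e s.c (c4 * k) * a.w k = a.w (c4 * k) := by
      have := congrFun (congrArg AGrp.w h) (c4 * k)
      simp [actFun, hu, hkk] at this
      linear_combination this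
    rw [AGrp.cubeVal, ← hv, ← hw]
    ring
  rw [hzero]
  ext k <;> simp

theorem orderOf_dvd_list (x : Big) : orderOf x ∣ 5 ∨ orderOf x ∣ 9 ∨ orderOf x ∣ 12 := by
  obtain ⟨h5, h4⟩ := Aff5.pow_facts x.right
  by_cases hr : x.right = 1
  · refine Or.inr (Or.inl (orderOf_dvd_of_pow_eq_one ?_))
    rw [show x = SemidirectProduct.inl x.left from SemidirectProduct.ext rfl hr, ← map_pow, AGrp.pow_nine, map_one]
  have hfix : ∀ m, x.right ^ m = 1 → (x ^ m).right = 1 ∧ ∀ j,
      ∃ b, b * actFun (x.right ^ j) (x ^ m).left = (x ^ m).left * b := by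
    intro m hm
    have hpr : ∀ j, (x ^ j).right = x.right ^ j := by
      intro j
      have := map_pow SemidirectProduct.rightHom x j
      rwa [SemidirectProduct.rightHom_eq_right] at this
    have hrm : (x ^ m).right = 1 := by rw [hpr, hm]
    refine ⟨hrm, fun j => ⟨(x ^ j).left, ?_⟩⟩
    have h := congrArg SemidirectProduct.left (Commute.pow_pow_self x j m).eq
    rw [SemidirectProduct.mul_left, SemidirectProduct.mul_left, hrm, map_one, MulAut.one_apply, hpr] at h
    exact h
  by_cases hu : x.right.u = 1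
  · have hc : x.right.c ≠ 0 := fun hc => hr (Aff5.ext hc hu)
    obtain ⟨hrm, hf⟩ := hfix 5 (h5 hu)
    refine Or.inl (orderOf_dvd_of_pow_eq_one (SemidirectProduct.ext ?_ hrm))
    obtain ⟨b, hb⟩ := hf 1
    rw [pow_one] at hb
    exact eq_one_of_fixed_translation hu hc hb
  · obtain ⟨hq4, hj⟩ := h4 hu
    obtain ⟨hrm, hf⟩ := hfix 4 hq4
    refine Or.inr (Or.inr (orderOf_dvd_of_pow_eq_one ?_))
    rw [show (12 : ℕ) = 4 * 3 from rfl, pow_mul,
      show x ^ 4 = SemidirectProduct.inl (x ^ 4).left from SemidirectProduct.ext rfl hrm, ← map_pow]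
    refine (congrArg _ ?_).trans (map_one _)
    rcases hj with hj | hj
    · obtain ⟨b, hb⟩ := hf 1
      rw [pow_one] at hb
      exact pow_three_of_fixed_involution hj hb
    · obtain ⟨b, hb⟩ := hf 2
      exact pow_three_of_fixed_involution hj hb

theorem range_orderOf_big : Set.range (orderOf : Big → ℕ) = {k | k ∈ Sp43.ords} := by
  haveI : Finite Big := Finite.of_equiv _ SemidirectProduct.equivProd.symm
  apply Set.Subset.antisymm
  · rintro _ ⟨x, rfl⟩
    exact Sp43.mem_ords_of_dvd _ (orderOf_dvd_list x)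
  · have hd : ∀ {m n : ℕ}, m ∣ n → 0 < n → (∃ x : Big, orderOf x = n) → m ∈ Set.range (orderOf : Big → ℕ) := by
      rintro m n hmn hn ⟨x, rfl⟩
      exact ⟨x ^ (orderOf x / m), orderOf_pow_orderOf_div (by omega) hmn⟩
    have w5 : ∃ x : Big, orderOf x = 5 := by
      haveI : Fact (Nat.Prime 5) := ⟨Nat.prime_five⟩
      have h : (⟨1, 1⟩ : Aff5) ^ 5 = 1 := (Aff5.pow_facts _).1 rfl
      exact ⟨SemidirectProduct.inr ⟨1, 1⟩, (orderOf_injective _ SemidirectProduct.inr_injective _).trans
        (orderOf_eq_prime h (fun e => one_ne_zero (congrArg Aff5.c e)))⟩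
    have w9 : ∃ x : Big, orderOf x = 9 := by
      haveI : Fact (Nat.Prime 3) := ⟨Nat.prime_three⟩
      let a : AGrp := ⟨fun k => if k = 1 ∨ k = c3 then 1 else 0, fun k => if k = c4 then 1 else 0, 0, 0, 0, 0, 0⟩
      have ha : a ^ 3 ≠ 1 := by
        rw [AGrp.pow_three_eq]
        intro h
        have h1 := congrFun (congrArg AGrp.z h) 1
        have n1 : (1 : U5) ≠ c4 := by decide
        simp [AGrp.cubeVal, a, n1] at h1
      refine ⟨SemidirectProduct.inl a, (orderOf_injective _ SemidirectProduct.inl_injective _).trans ?_⟩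
      exact orderOf_eq_prime_pow (p := 3) (n := 1) (by simpa using ha) (by simpa using AGrp.pow_nine a)
    have w12 : ∃ x : Big, orderOf x = 12 := by
      let s : Aff5 := ⟨0, ⟨2, 3, by decide, by decide⟩⟩
      let a : AGrp := ⟨fun _ => 1, 0, 0, 0, 0, 0, 0⟩
      have hfixa : actFun s a = a := by
        ext k <;> simp [actFun, s, a, e_zero]
      have hcomm : Commute (SemidirectProduct.inl a : Big) (SemidirectProduct.inr s) := by
        refine SemidirectProduct.ext ?_ (by simp)
        simp only [SemidirectProduct.mul_left, SemidirectProduct.left_inl, SemidirectProduct.left_inr,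
          SemidirectProduct.right_inl, SemidirectProduct.right_inr, map_one, mul_one, one_mul]
        exact hfixa.symm
      have ho : orderOf s = 4 := by
        haveI : Fact (Nat.Prime 2) := ⟨Nat.prime_two⟩
        have f1 : ¬ s ^ 2 = 1 := fun h => absurd (congrArg Aff5.u h) (by decide +kernel)
        exact orderOf_eq_prime_pow (p := 2) (n := 1) f1 ((Aff5.pow_facts s).2 (by decide +kernel)).1
      have hoa : orderOf a = 3 := by
        haveI : Fact (Nat.Prime 3) := ⟨Nat.prime_three⟩
        refine orderOf_eq_prime ?_ (fun h => one_ne_zero (congrFun (congrArg AGrp.v h) 1 : (1 : F81) = 0))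
        rw [AGrp.pow_three_eq]
        ext k <;> simp [AGrp.cubeVal, a]
      refine ⟨SemidirectProduct.inl a * SemidirectProduct.inr s, ?_⟩
      rw [hcomm.orderOf_mul_eq_mul_orderOf_of_coprime (by
        rw [orderOf_injective _ SemidirectProduct.inl_injective, orderOf_injective _ SemidirectProduct.inr_injective, ho, hoa]; decide),
        orderOf_injective _ SemidirectProduct.inl_injective, orderOf_injective _ SemidirectProduct.inr_injective, ho, hoa]
    intro k hk
    change k ∈ Sp43.ords at hk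
    fin_cases hk
    exacts [hd (by norm_num) (by norm_num) w5, hd (by norm_num) (by norm_num) w12, hd (by norm_num) (by norm_num) w9,
      hd (by norm_num) (by norm_num) w12, hd dvd_rfl (by norm_num) w5, hd (by norm_num) (by norm_num) w12,
      hd dvd_rfl (by norm_num) w9, hd dvd_rfl (by norm_num) w12]

theorem exists_solvable : ∃ (H : Type) (_ : Group H) (_ : Fintype H), Group.IsSolvable H ∧
    Set.range (orderOf : H → ℕ) = {k | k ∈ Sp43.ords} := by
  haveI : Finite Big := Finite.of_equiv _ SemidirectProduct.equivProd.symm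
  haveI : Fintype Big := Fintype.ofFinite Big
  refine ⟨Big, inferInstance, inferInstance, ?_, range_orderOf_big⟩
  haveI : Fact (Nat.Prime 3) := ⟨Nat.prime_three⟩
  haveI : Group.IsNilpotent AGrp := (show IsPGroup 3 AGrp from fun a => ⟨2, by simpa using AGrp.pow_nine a⟩).isNilpotent
  haveI := Aff5.isSolvable
  exact Group.isSolvable_of_ker_le_range SemidirectProduct.inl SemidirectProduct.rightHom
    (le_of_eq SemidirectProduct.range_inl_eq_ker_rightHom.symm)

end

end CfsgLib.Recog.TwentyExt
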