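import Mathlib
import Cfsg.Prelude.Def_Classical
import Cfsg.Agent.Lib.Sp.Group
import Cfsg.Agent.Lib.Recog.SpectrumSp4
import Cfsg.Agent.Lib.Recog.RootPowers

/-!
The element orders of `PSp₄(q)` for every `q`.
-/

set_option autoImplicit false

namespace CfsgLib.Recog.PSp4

open Matrix CfsgLib.Recog.RootPowers

/-- The element orders of `PSp₄(q)`, `q` a power of `p`. -/
def spec (p q : ℕ) : Set ℕ :=
  {d | d ∣ (q ^ 2 - 1) / half p ∨ d ∣ (q ^ 2 + 1) / half p ∨ d ∣ p * (q - 1) ∨ d ∣ p * (q + 1) ∨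
    d ∣ p ^ (if p ≤ 3 then 2 else 1)}

theorem spec_of_dvd {p q d e : ℕ} (h : d ∣ e) (he : e ∈ spec p q) : d ∈ spec p q := by
  rcases he with h1 | h1 | h1 | h1 | h1
  · exact Or.inl (h.trans h1)
  · exact Or.inr (Or.inl (h.trans h1))
  · exact Or.inr (Or.inr (Or.inl (h.trans h1)))
  · exact Or.inr (Or.inr (Or.inr (Or.inl (h.trans h1))))
  · exact Or.inr (Or.inr (Or.inr (Or.inr (h.trans h1))))

abbrev Idx := Fin 2 ⊕ Fin 2

variable {F : Type*} [Field F]

theorem half_dvd {p n : ℕ} [Fact p.Prime] : half p ∣ p ^ n - 1 ∧ half p ∣ p ^ n + 1 := by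
  unfold half
  split_ifs with h2
  · simp
  · have hodd : p ^ n % 2 = 1 := Nat.odd_iff.1 (((Fact.out : p.Prime).odd_of_ne_two h2).pow)
    omega

theorem mul_pred (q : ℕ) : q ^ 2 - 1 = (q + 1) * (q - 1) := by
  rw [← Nat.sq_sub_sq]

open scoped Classical in
theorem count_le_two {L : Type*} [Field L] {r s : L} (h : ¬ (r⁻¹ = r ∧ s = r)) (x : L) :
    ({r, r⁻¹, s, s⁻¹} : Multiset L).count x ≤ 2 := by
  have h1 : r⁻¹ = r → s⁻¹ = r → False := fun a b => h ⟨a, by rw [← inv_inv s, b, a]⟩
  have h2 : s = r → s⁻¹ = r → False := fun a b => h ⟨by rw [← a, b, a], a⟩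
  have h3 : s = r⁻¹ → s⁻¹ = r⁻¹ → False := fun a b => by
    have e := inv_inj.1 b
    exact h ⟨by rw [← a, e], e⟩
  simp only [Multiset.insert_eq_cons, Multiset.count_cons, Multiset.count_singleton]
  split_ifs <;> first
    | omega
    | exact (h ⟨(‹x = r⁻¹›).symm.trans ‹x = r›, (‹x = s›).symm.trans ‹x = r›⟩).elim
    | exact (h1 ((‹x = r⁻¹›).symm.trans ‹x = r›) ((‹x = s⁻¹›).symm.trans ‹x = r›)).elim
    | exact (h2 ((‹x = s›).symm.trans ‹x = r›) ((‹x = s⁻¹›).symm.trans ‹x = r›)).elim
    | exact (h3 ((‹x = s›).symm.trans ‹x = r⁻¹›) ((‹x = s⁻¹›).symm.trans ‹x = r⁻¹›)).elim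

theorem nodup_four {L : Type*} {a b c d : L} (h1 : a ≠ b) (h2 : a ≠ c) (h3 : a ≠ d) (h4 : b ≠ c)
    (h5 : b ≠ d) (h6 : c ≠ d) : ({a, b, c, d} : Multiset L).Nodup := by
  simp [h1, h2, h3, h4, h5, h6]

theorem exists_pow_scalar [Fintype F] {p n : ℕ} [Fact p.Prime] [CharP F p]
    (hq : Fintype.card F = p ^ n) (g : symplecticGroup (Fin 2) F) :
    ∃ k ∈ spec p (Fintype.card F), ((g : Matrix Idx Idx F) ^ k = 1 ∨ (g : Matrix Idx Idx F) ^ k = -1) := by
  classical
  set q := Fintype.card F with hqdef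
  have hp := (Fact.out : p.Prime)
  have hq1 : 1 < q := Fintype.one_lt_card
  obtain ⟨a, b, hg⟩ := Sp43.quartic_of_symplectic g
  set M := (g : Matrix Idx Idx F) with hMdef
  let L := AlgebraicClosure F
  haveI : CharP L p := charP_of_injective_algebraMap (algebraMap F L).injective p
  let c := algebraMap F L
  obtain ⟨y, hy⟩ := IsAlgClosed.exists_root
    ((Polynomial.X : Polynomial L) ^ 2 + (Polynomial.C (-c a) * Polynomial.X + Polynomial.C (-c b - 2)))
    (by
      rw [Polynomial.degree_add_eq_left_of_degree_lt, Polynomial.degree_X_pow]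
      · norm_num
      · rw [Polynomial.degree_X_pow]
        exact Polynomial.degree_linear_le.trans_lt (by norm_num))
  simp only [Polynomial.IsRoot, Polynomial.eval_add, Polynomial.eval_pow, Polynomial.eval_X,
    Polynomial.eval_mul, Polynomial.eval_C] at hy
  obtain ⟨r, hr0, hr⟩ := exists_root_pair y
  obtain ⟨s, hs0, hs⟩ := exists_root_pair (c a - y)
  set f : Polynomial F := Polynomial.X ^ 4 - Polynomial.C a * Polynomial.X ^ 3 -
    Polynomial.C b * Polynomial.X ^ 2 - Polynomial.C a * Polynomial.X + 1 with hf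
  have hfac : f.map c =
      (({r, r⁻¹, s, s⁻¹} : Multiset L).map fun x => Polynomial.X - Polynomial.C x).prod := by
    have h1 : (Polynomial.C r : Polynomial L) * Polynomial.C r⁻¹ = 1 := by
      rw [← Polynomial.C_mul, mul_inv_cancel₀ hr0, Polynomial.C_1]
    have h2 : (Polynomial.C s : Polynomial L) * Polynomial.C s⁻¹ = 1 := by
      rw [← Polynomial.C_mul, mul_inv_cancel₀ hs0, Polynomial.C_1]
    have ha : Polynomial.C (c a) = Polynomial.C r + Polynomial.C r⁻¹ + (Polynomial.C s + Polynomial.C s⁻¹) := by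
      rw [← Polynomial.C_add, ← Polynomial.C_add, ← Polynomial.C_add, hr, hs]; congr 1; ring
    have hb : Polynomial.C (c b) =
        -2 - (Polynomial.C r + Polynomial.C r⁻¹) * (Polynomial.C s + Polynomial.C s⁻¹) := by
      rw [← Polynomial.C_add, ← Polynomial.C_add, ← Polynomial.C_mul, hr, hs,
        show (-2 : Polynomial L) = Polynomial.C (-2) by simp [map_ofNat], ← Polynomial.C_sub]
      congr 1
      linear_combination -hy
    simp only [hf, Polynomial.map_add, Polynomial.map_sub, Polynomial.map_mul, Polynomial.map_pow,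
      Polynomial.map_X, Polynomial.map_C, Polynomial.map_one, ha, hb, Multiset.insert_eq_cons,
      Multiset.map_cons, Multiset.map_singleton, Multiset.prod_cons, Multiset.prod_singleton]
    linear_combination (-(Polynomial.X ^ 2) + (Polynomial.C s + Polynomial.C s⁻¹) * Polynomial.X -
      Polynomial.C s * Polynomial.C s⁻¹) * h1 +
      (-(Polynomial.X ^ 2) + (Polynomial.C r + Polynomial.C r⁻¹) * Polynomial.X - 1) * h2
  have hM : Polynomial.aeval M f = 0 := by
    simp only [hf, map_add, map_sub, map_mul, map_pow, Polynomial.aeval_X, Polynomial.aeval_C,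
      map_one, Algebra.algebraMap_eq_smul_one, smul_mul_assoc, one_mul, hg]
    module
  have hmem : ∀ x ∈ ({r, r⁻¹, s, s⁻¹} : Multiset L),
      x ^ q = r ∨ x ^ q = r⁻¹ ∨ x ^ q = s ∨ x ^ q = s⁻¹ := by
    intro x hx
    have h0 : Polynomial.aeval x f = 0 := by
      rw [← Polynomial.eval_map_algebraMap, hfac, Polynomial.eval_multiset_prod, Multiset.prod_eq_zero_iff,
        Multiset.map_map, Multiset.mem_map]
      exact ⟨x, hx, by simp⟩
    have h1 : Polynomial.aeval (x ^ q) f = 0 := by
      rw [← Polynomial.expand_aeval, hqdef, FiniteField.expand_card, map_pow, h0,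
        zero_pow Fintype.card_ne_zero]
    rw [← Polynomial.eval_map_algebraMap, hfac, Polynomial.eval_multiset_prod, Multiset.prod_eq_zero_iff,
      Multiset.map_map, Multiset.mem_map] at h1
    obtain ⟨z, hz, hzx⟩ := h1
    simp only [Function.comp, Polynomial.eval_sub, Polynomial.eval_X, Polynomial.eval_C, sub_eq_zero] at hzx
    simp only [Multiset.insert_eq_cons, Multiset.mem_cons, Multiset.mem_singleton] at hz
    rw [hzx]; exact hz
  have hinj : ∀ x z : L, x ^ q = z ^ q → x = z := fun x z h => by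
    rw [hq] at h
    exact iterateFrobenius_inj L p n (by simpa [iterateFrobenius_def] using h)
  -- packaging
  have fin : ∀ (e m : ℕ) (ε : F), (ε = 1 ∨ ε = -1) → m ≠ 0 → p ^ e * m ∈ spec p q →
      (∀ x ∈ ({r, r⁻¹, s, s⁻¹} : Multiset L), x ^ m = c ε) →
      (∀ x ∈ ({r, r⁻¹, s, s⁻¹} : Multiset L), ({r, r⁻¹, s, s⁻¹} : Multiset L).count x ≤ p ^ e) →
      ∃ k ∈ spec p q, (M ^ k = 1 ∨ M ^ k = -1) := by
    intro e m ε hε hm hk h1 h2
    refine ⟨_, hk, ?_⟩
    have h := pow_eq_of_roots (p := p) f _ hfac ε (sign_pow_char hε) hm e h1 h2 M hM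
    rcases hε with rfl | rfl
    · exact Or.inl (by rw [h, one_smul])
    · exact Or.inr (by rw [h, neg_one_smul])
  have hall : ∀ (m : ℕ) (ε : F), (ε = 1 ∨ ε = -1) → r ^ m = c ε → s ^ m = c ε →
      ∀ x ∈ ({r, r⁻¹, s, s⁻¹} : Multiset L), x ^ m = c ε := by
    intro m ε hε h1 h2 x hx
    have hεi : (c ε)⁻¹ = c ε := by rcases hε with rfl | rfl <;> simp [c, inv_neg]
    simp only [Multiset.insert_eq_cons, Multiset.mem_cons, Multiset.mem_singleton] at hx
    rcases hx with rfl | rfl | rfl | rfl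
    · exact h1
    · rw [inv_pow, h1, hεi]
    · exact h2
    · rw [inv_pow, h2, hεi]
  have hrmem := hmem r (by simp)
  have hsmem := hmem s (by simp)
  by_cases hI : (r ^ q = r ∨ r ^ q = r⁻¹) ∧ (s ^ q = s ∨ s ^ q = s⁻¹)
  · obtain ⟨hrI, hsI⟩ := hI
    have e1 := pow_eq_one_or_pow hr0 hrI hq1.le
    have e2 := pow_eq_one_or_pow hs0 hsI hq1.le
    by_cases hnd : ({r, r⁻¹, s, s⁻¹} : Multiset L).Nodup
    · -- four distinct roots
      obtain ⟨hd1, hd2⟩ := hq ▸ half_dvd (p := p) (n := n)
      have key : ∀ x : L, x ^ (q - 1) = 1 ∨ x ^ (q + 1) = 1 → x ^ ((q ^ 2 - 1) / half p) = c 1 := by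
        intro x hx
        rw [map_one, mul_pred]
        rcases hx with h | h
        · rw [mul_comm, Nat.mul_div_assoc _ hd2, pow_mul, h, one_pow]
        · rw [Nat.mul_div_assoc _ hd1, pow_mul, h, one_pow]
      refine fin 0 _ 1 (Or.inl rfl) ?_ ?_ (hall _ 1 (Or.inl rfl) (key r e1) (key s e2))
        (fun x _ => by rw [pow_zero]; exact Multiset.nodup_iff_count_le_one.1 hnd x)
      · rw [mul_pred, Nat.mul_div_assoc _ hd1]
        refine mul_ne_zero (by omega) ?_
        intro h0
        have := Nat.eq_mul_of_div_eq_right hd1 h0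
        omega
      · rw [pow_zero, one_mul]; exact Or.inl dvd_rfl
    · by_cases hbad : r⁻¹ = r ∧ s = r
      · -- a single root
        obtain ⟨hri, rfl⟩ := hbad
        have hr1 : s * s = 1 := by nth_rewrite 2 [← hri]; exact mul_inv_cancel₀ hs0
        obtain ⟨ε, hε, hrε⟩ : ∃ ε : F, (ε = 1 ∨ ε = -1) ∧ s = c ε := by
          rcases mul_self_eq_one_iff.1 hr1 with e | e
          · exact ⟨1, Or.inl rfl, by rw [e, map_one]⟩
          · exact ⟨-1, Or.inr rfl, by rw [e, map_neg, map_one]⟩
        refine fin (if p ≤ 3 then 2 else 1) 1 ε hε one_ne_zero ?_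
          (hall 1 ε hε (by rw [pow_one, hrε]) (by rw [pow_one, hrε])) (fun x _ => ?_)
        · rw [mul_one]; exact Or.inr (Or.inr (Or.inr (Or.inr dvd_rfl)))
        · refine (Multiset.count_le_card _ _).trans ?_
          have := hp.two_le
          split_ifs with h3
          · simpa using Nat.pow_le_pow_left this 2
          · simp; omega
      · -- a double root
        have hsq : ∀ x : L, x⁻¹ = x → x ≠ 0 → ∀ m, (m = q - 1 ∨ m = q + 1) → x ^ m = 1 := by
          intro x hx hx0 m hm
          have hx1 : x * x = 1 := by nth_rewrite 2 [← hx]; exact mul_inv_cancel₀ hx0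
          rcases mul_self_eq_one_iff.1 hx1 with e | e
          · rw [e, one_pow]
          · by_cases h2 : p = 2
            · subst h2; rw [e, CharTwo.neg_eq, one_pow]
            · have hodd : q % 2 = 1 := hq ▸ Nat.odd_iff.1 ((hp.odd_of_ne_two h2).pow)
              rw [e, Even.neg_one_pow]
              rw [Nat.even_iff]; omega
        obtain ⟨m, hm, hrm, hsm⟩ : ∃ m, (m = q - 1 ∨ m = q + 1) ∧ r ^ m = 1 ∧ s ^ m = 1 := by
          by_cases hr' : r⁻¹ = r
          · rcases e2 with h | h
            · exact ⟨_, Or.inl rfl, hsq r hr' hr0 _ (Or.inl rfl), h⟩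
            · exact ⟨_, Or.inr rfl, hsq r hr' hr0 _ (Or.inr rfl), h⟩
          by_cases hs' : s⁻¹ = s
          · rcases e1 with h | h
            · exact ⟨_, Or.inl rfl, h, hsq s hs' hs0 _ (Or.inl rfl)⟩
            · exact ⟨_, Or.inr rfl, h, hsq s hs' hs0 _ (Or.inr rfl)⟩
          have hsr : s = r ∨ s = r⁻¹ := by
            by_contra hne
            push Not at hne
            apply hnd
            have a1 : r ≠ s⁻¹ := fun e => hne.2 (by rw [e, inv_inv])
            have a2 : r⁻¹ ≠ s⁻¹ := fun e => hne.1 (inv_inj.1 e).symm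
            exact nodup_four (Ne.symm hr') (Ne.symm hne.1) a1 (Ne.symm hne.2) a2 (Ne.symm hs')
          rcases e1 with h | h
          · refine ⟨_, Or.inl rfl, h, ?_⟩
            rcases hsr with e | e
            · rw [e, h]
            · rw [e, inv_pow, h, inv_one]
          · refine ⟨_, Or.inr rfl, h, ?_⟩
            rcases hsr with e | e
            · rw [e, h]
            · rw [e, inv_pow, h, inv_one]
        refine fin 1 m 1 (Or.inl rfl) (by omega) ?_
          (hall m 1 (Or.inl rfl) (by rw [hrm, map_one]) (by rw [hsm, map_one]))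
          (fun x _ => (count_le_two hbad x).trans (by rw [pow_one]; exact hp.two_le))
        rcases hm with rfl | rfl
        · exact Or.inr (Or.inr (Or.inl (by rw [pow_one])))
        · exact Or.inr (Or.inr (Or.inr (Or.inl (by rw [pow_one]))))
  · -- the two pairs are exchanged
    have hne : s ≠ r ∧ s ≠ r⁻¹ := by
      refine ⟨fun e => hI ?_, fun e => hI ?_⟩
      · subst e
        have : s ^ q = s ∨ s ^ q = s⁻¹ := by
          rcases hrmem with h | h | h | h
          exacts [Or.inl h, Or.inr h, Or.inl h, Or.inr h]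
        exact ⟨this, this⟩
      · subst e
        have hr' : r ^ q = r ∨ r ^ q = r⁻¹ := by
          rcases hrmem with h | h | h | h
          · exact Or.inl h
          · exact Or.inr h
          · exact Or.inr h
          · exact Or.inl (h.trans (inv_inv r))
        refine ⟨hr', ?_⟩
        rcases hr' with h | h
        · exact Or.inl (by rw [inv_pow, h])
        · exact Or.inr (by rw [inv_pow, h])
    have hinvq : ∀ x : L, x⁻¹ ^ q = (x ^ q)⁻¹ := fun x => inv_pow x q
    -- if one pair is fixed then so is the other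
    have hrP : r ^ q = s ∨ r ^ q = s⁻¹ := by
      by_contra hcon
      push Not at hcon
      have hr' : r ^ q = r ∨ r ^ q = r⁻¹ := by tauto
      refine hI ⟨hr', ?_⟩
      rcases hsmem with h | h | h | h
      · exfalso
        rcases hr' with e | e
        · exact hne.1 (hinj _ _ (h.trans e.symm))
        · exact hne.2 (hinj _ _ (by rw [h, hinvq, e, inv_inv]))
      · exfalso
        rcases hr' with e | e
        · exact hne.2 (hinj _ _ (by rw [h, hinvq, e]))
        · exact hne.1 (hinj _ _ (h.trans e.symm))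
      · exact Or.inl h
      · exact Or.inr h
    have hsP : s ^ q = r ∨ s ^ q = r⁻¹ := by
      by_contra hcon
      push Not at hcon
      have hs' : s ^ q = s ∨ s ^ q = s⁻¹ := by tauto
      rcases hrP with e | e <;> rcases hs' with h | h
      · exact hne.1 (hinj _ _ (h.trans e.symm))
      · exact hne.2 (hinj _ _ (by rw [h, hinvq, e]))
      · exact hne.2 (hinj _ _ (by rw [h, hinvq, e, inv_inv]))
      · exact hne.1 (hinj _ _ (h.trans e.symm))
    have hr2 : r ^ q ^ 2 = r ∨ r ^ q ^ 2 = r⁻¹ := by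
      rw [pow_two, pow_mul]
      rcases hrP with e | e <;> rcases hsP with h | h <;> rw [e] <;> simp [h, inv_pow]
    have hrne : r⁻¹ ≠ r := by
      intro e
      have hr1 : r * r = 1 := by nth_rewrite 2 [← e]; exact mul_inv_cancel₀ hr0
      have hrq : r ^ q = r := by
        rcases mul_self_eq_one_iff.1 hr1 with h | h
        · rw [h, one_pow]
        · rw [h, hq]; exact neg_one_pow_char_pow L p n
      rcases hrP with h | h
      · exact hne.1 (h.symm.trans hrq)
      · exact hne.2 (by rw [← hrq, h, inv_inv])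
    have hsne : s⁻¹ ≠ s := by
      intro e
      rcases hrP with h | h
      · exact hrne (hinj _ _ (by rw [hinvq, h, e]))
      · exact hrne (hinj _ _ (by rw [hinvq, h, inv_inv, e]))
    have hnd : ({r, r⁻¹, s, s⁻¹} : Multiset L).Nodup := by
      have a1 : r ≠ s⁻¹ := fun e => hne.2 (by rw [e, inv_inv])
      have a2 : r⁻¹ ≠ s⁻¹ := fun e => hne.1 (inv_inj.1 e).symm
      exact nodup_four (Ne.symm hrne) (Ne.symm hne.1) a1 (Ne.symm hne.2) a2 (Ne.symm hsne)
    obtain ⟨hd1, hd2⟩ : half p ∣ q ^ 2 - 1 ∧ half p ∣ q ^ 2 + 1 := by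
      rw [hq, ← pow_mul]; exact half_dvd
    have hq4 : 2 ^ 2 ≤ q ^ 2 := Nat.pow_le_pow_left hq1 2
    have main : ∀ k, half p ∣ k → k ≠ 0 → k / half p ∈ spec p q → r ^ k = 1 →
        ∃ k' ∈ spec p q, (M ^ k' = 1 ∨ M ^ k' = -1) := by
      intro k hk hk0 hspec hrk
      obtain ⟨ε, hε, hre⟩ := sign_of_half (F := F) hk hrk
      have hk0' : k / half p ≠ 0 := by
        intro h0
        have := Nat.eq_mul_of_div_eq_right hk h0
        omega
      have hεq : (c ε) ^ q = c ε := by rw [← map_pow, hqdef, FiniteField.pow_card]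
      have hεi : (c ε)⁻¹ = c ε := by rcases hε with rfl | rfl <;> simp [c, inv_neg]
      have hse : s ^ (k / half p) = c ε := by
        rcases hrP with e | e
        · rw [← e, ← pow_mul, mul_comm, pow_mul, hre]; exact hεq
        · rw [← inv_inv s, ← e, inv_pow, ← pow_mul, mul_comm, pow_mul, hre, show (algebraMap F L ε) ^ q = c ε from hεq, hεi]
      refine fin 0 (k / half p) ε hε hk0' (by rwa [pow_zero, one_mul]) (hall _ ε hε hre hse)
        (fun x _ => by rw [pow_zero]; exact Multiset.nodup_iff_count_le_one.1 hnd x)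
    rcases pow_eq_one_or_pow hr0 hr2 (by omega) with h | h
    · exact main _ hd1 (by omega) (Or.inl dvd_rfl) h
    · exact main _ hd2 (by omega) (Or.inr (Or.inl dvd_rfl)) h

section Embeddings

variable (n : F)

/-- The symmetrising matrix of the regular representation. -/
def sym : Matrix (Fin 2) (Fin 2) F := !![0, 1; 1, 1]

/-- Its inverse. -/
def symInv : Matrix (Fin 2) (Fin 2) F := !![-1, 1; 1, 0]

theorem sym_mul_inv : (sym : Matrix (Fin 2) (Fin 2) F) * symInv = 1 := by
  ext i j; fin_cases i <;> fin_cases j <;> simp [sym, symInv, Matrix.mul_apply, Fin.sum_univ_two]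

theorem inv_mul_sym : (symInv : Matrix (Fin 2) (Fin 2) F) * sym = 1 :=
  mul_eq_one_comm.1 sym_mul_inv

theorem reg_transpose (x : QuadraticAlgebra F n 1) : (reg n x)ᵀ = sym * reg n x * symInv := by
  ext i j
  fin_cases i <;> fin_cases j <;>
    simp [reg, sym, symInv, Matrix.mul_apply, Fin.sum_univ_two] <;> ring

/-- The embedding of `2 × 2` matrices over the quadratic extension. -/
def emb : Matrix (Fin 2) (Fin 2) (QuadraticAlgebra F n 1) →+* Matrix Idx Idx F where
  toFun g := fromBlocks (reg n (g 0 0)) (reg n (g 0 1) * symInv) (sym * reg n (g 1 0))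
    (sym * reg n (g 1 1) * symInv)
  map_one' := by
    simp [sym_mul_inv, fromBlocks_one]
  map_mul' g h := by
    have e : ∀ X Y : Matrix (Fin 2) (Fin 2) F, symInv * (sym * X) * Y = X * Y := fun X Y => by
      rw [← mul_assoc, inv_mul_sym, one_mul]
    rw [fromBlocks_multiply]
    simp only [Matrix.mul_apply, Fin.sum_univ_two, map_add, map_mul, add_mul, mul_add, mul_assoc]
    congr 1 <;> simp [← mul_assoc, mul_assoc _ symInv sym, inv_mul_sym]
  map_zero' := by simp
  map_add' g h := by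
    rw [fromBlocks_add]
    simp [mul_add, add_mul]

theorem emb_injective : Function.Injective (emb n) := by
  intro g h e
  have hs : ∀ x y : QuadraticAlgebra F n 1, sym * reg n x = sym * reg n y → x = y := by
    intro x y e
    apply reg_injective n
    calc reg n x = symInv * (sym * reg n x) := by rw [← mul_assoc, inv_mul_sym, one_mul]
      _ = _ := by rw [e, ← mul_assoc, inv_mul_sym, one_mul]
  have hs' : ∀ x y : Matrix (Fin 2) (Fin 2) F, x * symInv = y * symInv → x = y := by
    intro x y e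
    calc x = x * symInv * sym := by rw [mul_assoc, inv_mul_sym, mul_one]
      _ = _ := by rw [e, mul_assoc, inv_mul_sym, mul_one]
  obtain ⟨h00, h01, h10, h11⟩ := fromBlocks_inj.1 e
  ext i j : 1
  fin_cases i <;> fin_cases j
  · exact reg_injective n h00
  · exact reg_injective n (hs' _ _ h01)
  · exact hs _ _ h10
  · exact hs _ _ (hs' _ _ h11)

theorem emb_mem (g : Matrix.SpecialLinearGroup (Fin 2) (QuadraticAlgebra F n 1)) :
    emb n g.1 ∈ symplecticGroup (Fin 2) F := by
  rw [SymplecticGroup.mem_iff]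
  have hd := g.2
  rw [Matrix.det_fin_two] at hd
  set a := g.1 0 0; set b := g.1 0 1; set c := g.1 1 0; set d := g.1 1 1
  have hst : (symInv : Matrix (Fin 2) (Fin 2) F)ᵀ = symInv := by
    ext i j; fin_cases i <;> fin_cases j <;> simp [symInv]
  have hs : (sym : Matrix (Fin 2) (Fin 2) F)ᵀ = sym := by
    ext i j; fin_cases i <;> fin_cases j <;> simp [sym]
  have c1 : ∀ X : Matrix (Fin 2) (Fin 2) F, symInv * (sym * X) = X := fun X => by
    rw [← mul_assoc, inv_mul_sym, one_mul]
  show fromBlocks _ _ _ _ * J (Fin 2) F * (fromBlocks _ _ _ _)ᵀ = J (Fin 2) F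
  rw [J, fromBlocks_transpose, fromBlocks_multiply, fromBlocks_multiply]
  simp only [transpose_mul, reg_transpose, hst, hs, mul_zero, zero_mul, zero_add, add_zero, mul_neg,
    neg_mul, mul_one, mul_assoc, inv_mul_sym, c1]
  have k1 : reg n b * reg n c - reg n a * reg n d = -1 := by
    rw [← map_mul, ← map_mul, ← map_sub, show b * c - a * d = -1 by linear_combination -hd,
      map_neg, map_one]
  congr 1
  · rw [← mul_assoc, ← mul_assoc, ← map_mul, ← map_mul, mul_comm b a]; simp [a, b]
  · rw [← k1, sub_eq_add_neg]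
  · rw [← mul_assoc (reg n d), ← mul_assoc (reg n c), ← map_mul, ← map_mul, ← sub_eq_add_neg,
      ← mul_sub, ← sub_mul, ← map_sub, show d * a - c * b = 1 by linear_combination hd, map_one, one_mul,
      sym_mul_inv]
  · rw [← map_mul, ← map_mul, mul_comm c d]; simp [c, d]

/-- Two `2 × 2` blocks. -/
def pairBlocks : Matrix (Fin 2) (Fin 2) F × Matrix (Fin 2) (Fin 2) F →+* Matrix Idx Idx F where
  toFun g := fromBlocks (diagonal ![g.1 0 0, g.2 0 0]) (diagonal ![g.1 0 1, g.2 0 1])
    (diagonal ![g.1 1 0, g.2 1 0]) (diagonal ![g.1 1 1, g.2 1 1])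
  map_one' := by
    ext (i | i) (j | j) <;> fin_cases i <;> fin_cases j <;> simp
  map_mul' g h := by
    ext (i | i) (j | j) <;> fin_cases i <;> fin_cases j <;>
      simp [Matrix.mul_apply, Fintype.sum_sum_type, Fin.sum_univ_two]
  map_zero' := by
    ext (i | i) (j | j) <;> fin_cases i <;> fin_cases j <;> simp
  map_add' g h := by
    ext (i | i) (j | j) <;> fin_cases i <;> fin_cases j <;> simp

theorem pairBlocks_injective : Function.Injective (pairBlocks (F := F)) := by
  intro g h e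
  obtain ⟨h00, h01, h10, h11⟩ := fromBlocks_inj.1 e
  have k : ∀ {a b c d : F}, diagonal ![a, b] = diagonal ![c, d] → a = c ∧ b = d := fun {a b c d} e =>
    ⟨by simpa using congrFun (diagonal_injective e) 0, by simpa using congrFun (diagonal_injective e) 1⟩
  ext i j <;> fin_cases i <;> fin_cases j
  exacts [(k h00).1, (k h01).1, (k h10).1, (k h11).1, (k h00).2, (k h01).2, (k h10).2, (k h11).2]

theorem pairBlocks_mem (g h : Matrix.SpecialLinearGroup (Fin 2) F) :
    pairBlocks (g.1, h.1) ∈ symplecticGroup (Fin 2) F := by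
  rw [SymplecticGroup.mem_iff]
  have hg := g.2
  have hh := h.2
  rw [Matrix.det_fin_two] at hg hh
  show fromBlocks _ _ _ _ * J (Fin 2) F * (fromBlocks _ _ _ _)ᵀ = J (Fin 2) F
  rw [J, fromBlocks_transpose, fromBlocks_multiply, fromBlocks_multiply]
  simp only [diagonal_transpose, mul_zero, zero_mul, zero_add, add_zero, mul_neg, neg_mul, mul_one,
    diagonal_mul_diagonal]
  congr 1
  · ext i j; fin_cases i <;> fin_cases j <;> simp <;> ring
  · ext i j; fin_cases i <;> fin_cases j <;> simp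
    · linear_combination -hg
    · linear_combination -hh
  · ext i j; fin_cases i <;> fin_cases j <;> simp
    · linear_combination hg
    · linear_combination hh
  · ext i j; fin_cases i <;> fin_cases j <;> simp <;> ring

end Embeddings

theorem mk_eq_one_iff (g : symplecticGroup (Fin 2) F) :
    QuotientGroup.mk' (Subgroup.center (symplecticGroup (Fin 2) F)) g = 1 ↔
      (g : Matrix Idx Idx F) = 1 ∨ (g : Matrix Idx Idx F) = -1 := by
  rw [QuotientGroup.mk'_apply, QuotientGroup.eq_one_iff, Sp.mem_center_iff]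

theorem exists_dvd_orderOf [Fintype F] {k : ℕ} (M : Matrix Idx Idx F)
    (hM : M ∈ symplecticGroup (Fin 2) F) (h : ∀ j : ℕ, M ^ j = 1 ∨ M ^ j = -1 → k ∣ j) :
    ∃ y : Cfsg.PSp 2 F, k ∣ orderOf y := by
  refine ⟨QuotientGroup.mk' _ ⟨M, hM⟩, h _ ?_⟩
  have h1 := pow_orderOf_eq_one (QuotientGroup.mk' (Subgroup.center (symplecticGroup (Fin 2) F)) ⟨M, hM⟩)
  rw [← map_pow, mk_eq_one_iff] at h1
  simpa using h1

theorem pow_half_eq_one {R : Type*} [Ring R] [Algebra F R] {p : ℕ} [CharP F p] {x : R}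
    (h : x = 1 ∨ x = -1) : x ^ half p = 1 := by
  unfold half
  split_ifs with h2
  · subst h2
    rcases h with rfl | rfl
    · simp
    · rw [pow_one, ← map_one (algebraMap F R), ← map_neg, CharTwo.neg_eq]
  · rcases h with rfl | rfl <;> simp

theorem lower_torus [Fintype F] {p k : ℕ} [CharP F p] (n : F)
    [Fact (∀ r : F, r ^ 2 ≠ n + 1 * r)] (hk : half p ∣ k)
    (hg : ∃ g : Matrix.SpecialLinearGroup (Fin 2) (QuadraticAlgebra F n 1), orderOf g = k) :
    ∃ y : Cfsg.PSp 2 F, k / half p ∣ orderOf y := by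
  obtain ⟨g, hg⟩ := hg
  refine exists_dvd_orderOf _ (emb_mem n g) fun j hj => ?_
  rw [Nat.div_dvd_iff_dvd_mul hk (half_pos p), mul_comm, ← hg]
  refine orderOf_dvd_of_pow_eq_one (Subtype.ext ?_)
  apply emb_injective n
  rw [Matrix.SpecialLinearGroup.coe_pow, pow_mul, map_pow, map_pow, Matrix.SpecialLinearGroup.coe_one,
    map_one]
  exact pow_half_eq_one (F := F) hj

theorem lower_mixed [Fintype F] {p k : ℕ} [Fact p.Prime] [CharP F p] (hk : ¬ p ∣ k)
    (t : Matrix.SpecialLinearGroup (Fin 2) F) (ht : orderOf t = k) :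
    ∃ y : Cfsg.PSp 2 F, p * k ∣ orderOf y := by
  let u : Matrix.SpecialLinearGroup (Fin 2) F := ⟨!![1, 1; 0, 1], by simp [Matrix.det_fin_two]⟩
  refine exists_dvd_orderOf _ (pairBlocks_mem u t) fun j hj => ?_
  have hu : ∀ j : ℕ, u.1 ^ j = !![1, (j : F); 0, 1] := by
    intro j
    induction j with
    | zero => ext a b; fin_cases a <;> fin_cases b <;> simp
    | succ j ih =>
      rw [pow_succ, ih]
      ext a b; fin_cases a <;> fin_cases b <;>
        simp [u, Matrix.mul_apply, Fin.sum_univ_two, add_comm]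
  have key : u.1 ^ j = 1 ∧ t.1 ^ j = 1 ∨ u.1 ^ j = -1 ∧ t.1 ^ j = -1 := by
    rcases hj with e | e
    · left
      have := pairBlocks_injective ((map_pow pairBlocks (u.1, t.1) j).trans (e.trans (map_one _).symm))
      exact Prod.mk.injEq _ _ _ _ |>.mp this
    · right
      have := pairBlocks_injective ((map_pow pairBlocks (u.1, t.1) j).trans
        (e.trans (show (-1 : Matrix Idx Idx F) = pairBlocks (-1) by rw [map_neg, map_one])))
      exact ⟨congrArg Prod.fst this, congrArg Prod.snd this⟩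
  have hboth : u.1 ^ j = 1 ∧ t.1 ^ j = 1 := by
    rcases key with e | ⟨e1, e2⟩
    · exact e
    · rw [hu] at e1
      have e00 := congrFun (congrFun e1 0) 0
      have hneg : (-1 : Matrix (Fin 2) (Fin 2) F) = 1 := by
        have h : (1 : F) = -1 := by simpa using e00
        ext a b; fin_cases a <;> fin_cases b <;> simp [← h]
      rw [hu, e1, hneg, e2, hneg]; exact ⟨rfl, rfl⟩
  obtain ⟨e1, e2⟩ := hboth
  rw [hu] at e1
  have hpj : p ∣ j := by
    have h := congrFun (congrFun e1 0) 1
    simpa [CharP.cast_eq_zero_iff F p] using h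
  have hkj : k ∣ j := ht ▸ orderOf_dvd_of_pow_eq_one (Subtype.ext (by simpa using e2))
  exact Nat.Coprime.mul_dvd_of_dvd_of_dvd (((Fact.out : p.Prime).coprime_iff_not_dvd).2 hk) hpj hkj

/-- A regular unipotent element over `ZMod p`. -/
def regUnip (p : ℕ) : Matrix Idx Idx (ZMod p) :=
  fromBlocks !![1, 1; 0, 1] !![0, 1; 0, 1] 0 !![1, 0; -1, 1]

theorem regUnip_two : regUnip 2 * J (Fin 2) (ZMod 2) * (regUnip 2)ᵀ = J (Fin 2) (ZMod 2) ∧
    regUnip 2 ^ 2 ^ 2 = 1 ∧ regUnip 2 ^ 2 ≠ 1 ∧ regUnip 2 ^ 2 ≠ -1 := by decide +kernel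

theorem regUnip_three : regUnip 3 * J (Fin 2) (ZMod 3) * (regUnip 3)ᵀ = J (Fin 2) (ZMod 3) ∧
    regUnip 3 ^ 3 ^ 2 = 1 ∧ regUnip 3 ^ 3 ≠ 1 ∧ regUnip 3 ^ 3 ≠ -1 := by decide +kernel

theorem lower_unipotent [Fintype F] {p : ℕ} [Fact p.Prime] [CharP F p] (hp3 : p ≤ 3) :
    ∃ y : Cfsg.PSp 2 F, p ^ 2 ∣ orderOf y := by
  let φ : ZMod p →+* F := ZMod.castHom dvd_rfl F
  let Φ := φ.mapMatrix (m := Idx)
  have hΦ : Function.Injective Φ := fun a b h => by
    ext i j; exact φ.injective (congrFun (congrFun h i) j)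
  have hdata : regUnip p ∈ symplecticGroup (Fin 2) (ZMod p) ∧ regUnip p ^ (p ^ 2) = 1 ∧
      regUnip p ^ p ≠ 1 ∧ regUnip p ^ p ≠ -1 := by
    have := (Fact.out : p.Prime).two_le
    interval_cases p
    · rw [SymplecticGroup.mem_iff]; exact regUnip_two
    · rw [SymplecticGroup.mem_iff]; exact regUnip_three
  obtain ⟨hmem, h2, hne1, hne2⟩ := hdata
  let g : symplecticGroup (Fin 2) F := ⟨Φ (regUnip p), SymplecticGroup.map_mem hmem φ⟩
  let π := QuotientGroup.mk' (Subgroup.center (symplecticGroup (Fin 2) F))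
  have hpow : ∀ i : ℕ, ((g ^ i : symplecticGroup (Fin 2) F) : Matrix Idx Idx F) = Φ (regUnip p ^ i) :=
    fun i => by rw [map_pow]; rfl
  refine ⟨π g, dvd_of_eq (orderOf_eq_prime_pow (p := p) (n := 1) ?_ ?_).symm⟩
  · rw [pow_one, ← map_pow, mk_eq_one_iff, hpow]
    rintro (e | e)
    · exact hne1 (hΦ (by rw [e, map_one]))
    · exact hne2 (hΦ (by rw [e, map_neg, map_one]))
  · rw [← map_pow, mk_eq_one_iff, hpow, h2, map_one]; exact Or.inl rfl

theorem range_orderOf [Fintype F] {p n : ℕ} [Fact p.Prime] [CharP F p] (hq : Fintype.card F = p ^ n) :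
    Set.range (orderOf : Cfsg.PSp 2 F → ℕ) = spec p (Fintype.card F) := by
  classical
  refine Set.Subset.antisymm ?_ ?_
  · rintro _ ⟨y, rfl⟩
    obtain ⟨g, rfl⟩ := QuotientGroup.mk'_surjective _ y
    obtain ⟨k, hk, hgk⟩ := exists_pow_scalar hq g
    refine spec_of_dvd (orderOf_dvd_of_pow_eq_one ?_) hk
    rw [← map_pow, mk_eq_one_iff]
    simpa using hgk
  · have hp := (Fact.out : p.Prime)
    have hd : ∀ {d k : ℕ}, d ∣ k → (∃ y : Cfsg.PSp 2 F, k ∣ orderOf y) →
        d ∈ Set.range (orderOf : Cfsg.PSp 2 F → ℕ) := by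
      rintro d k hdk ⟨y, hy⟩
      exact ⟨y ^ (orderOf y / d), orderOf_pow_orderOf_div (orderOf_pos y).ne' (hdk.trans hy)⟩
    obtain ⟨m, hm⟩ := exists_no_root (F := F)
    haveI : Fact (∀ r : F, r ^ 2 ≠ m + 1 * r) := ⟨hm⟩
    have hK : Nat.card (QuadraticAlgebra F m 1) = Fintype.card F ^ 2 := by
      rw [card_quad, Nat.card_eq_fintype_card]
    obtain ⟨h1, h2⟩ : half p ∣ Fintype.card F ^ 2 - 1 ∧ half p ∣ Fintype.card F ^ 2 + 1 := by
      rw [hq, ← pow_mul]; exact half_dvd
    have hq1 : 1 < Fintype.card F := Fintype.one_lt_card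
    have hn : n ≠ 0 := by rintro rfl; rw [pow_zero] at hq; omega
    have hnp : ¬ p ∣ Fintype.card F - 1 ∧ ¬ p ∣ Fintype.card F + 1 := by
      have hpq : p ∣ Fintype.card F := hq ▸ dvd_pow_self p hn
      refine ⟨fun h => hp.one_lt.ne' (Nat.dvd_one.1 ?_), fun h => hp.one_lt.ne' (Nat.dvd_one.1 ((Nat.dvd_add_right hpq).1 h))⟩
      have := Nat.dvd_sub hpq h
      rwa [Nat.sub_sub_self hq1.le] at this
    intro d hd'
    rcases hd' with h | h | h | h | h
    · refine hd h (lower_torus m h1 ?_)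
      obtain ⟨g, hg⟩ := exists_orderOf_sub_one (F := QuadraticAlgebra F m 1)
      exact ⟨g, by rw [hg, hK]⟩
    · refine hd h (lower_torus m h2 ?_)
      obtain ⟨g, hg⟩ := exists_orderOf_add_one (F := QuadraticAlgebra F m 1)
      exact ⟨g, by rw [hg, hK]⟩
    · obtain ⟨t, ht⟩ := exists_orderOf_sub_one (F := F)
      rw [Nat.card_eq_fintype_card] at ht
      exact hd h (lower_mixed hnp.1 t ht)
    · obtain ⟨t, ht⟩ := exists_orderOf_add_one (F := F)
      rw [Nat.card_eq_fintype_card] at ht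
      exact hd h (lower_mixed hnp.2 t ht)
    · split_ifs at h with h3
      · exact hd h (lower_unipotent h3)
      · obtain ⟨t, ht⟩ := exists_orderOf_sub_one (F := F)
        rw [Nat.card_eq_fintype_card] at ht
        rw [pow_one] at h
        exact hd (h.trans (dvd_mul_right _ _)) (lower_mixed hnp.1 t ht)

end CfsgLib.Recog.PSp4
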