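import Mathlib
import Cfsg.Agent.Lib.Recog.LinearSemidirect
import Cfsg.Agent.Lib.Recog.RootPowers
import Cfsg.Agent.Lib.Recog.PSp4Spectrum

/-!
For `p ≠ 3` the module `W ⊗ W^(q)` of `SL₂(q²)`, extended by the exchange of the two factors when
`p` is odd, gives a group with the element orders of `PSp₄(q)`.
-/

set_option autoImplicit false

namespace CfsgLib.Recog.PSp4Twisted

open Matrix CfsgLib.Recog.LinearSemidirect CfsgLib.Recog.RootPowers

variable {K : Type*} [Field K]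

abbrev Sp2 (K : Type*) [Field K] := Matrix.SpecialLinearGroup (Fin 2) K

abbrev Mod (K : Type*) [Field K] := Matrix (Fin 2) (Fin 2) K

variable (σ : K →+* K)

/-- `X ↦ g X (g^σ)ᵀ`. -/
def rhoEnd : Sp2 K →* Module.End K (Mod K) where
  toFun g :=
    { toFun := fun X => (g : Mod K) * X * ((g : Mod K).map σ)ᵀ
      map_add' := fun X Y => by rw [mul_add, add_mul]
      map_smul' := fun c X => by simp }
  map_one' := LinearMap.ext fun X => by
    simp [Matrix.map_one σ (map_zero σ) (map_one σ)]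
  map_mul' g h := LinearMap.ext fun X => by
    simp [Matrix.map_mul, mul_assoc]

/-- The action as linear automorphisms. -/
def rho : Sp2 K →* (Mod K ≃ₗ[K] Mod K) :=
  (LinearMap.GeneralLinearGroup.generalLinearEquiv K (Mod K)).toMonoidHom.comp
    (rhoEnd σ).toHomUnits

theorem rho_apply (g : Sp2 K) (X : Mod K) :
    rho σ g X = (g : Mod K) * X * ((g : Mod K).map σ)ᵀ := rfl

/-- Transposition. -/
def swap : Mod K ≃ₗ[K] Mod K := Matrix.transposeLinearEquiv (Fin 2) (Fin 2) K K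

theorem swap_apply (X : Mod K) : swap X = Xᵀ := rfl

theorem swap_mul_swap : (swap : Mod K ≃ₗ[K] Mod K) * swap = 1 := LinearEquiv.ext fun X => by
  show Xᵀᵀ = X
  exact transpose_transpose X

theorem mul_apply' (a b : Mod K ≃ₗ[K] Mod K) (X : Mod K) : (a * b) X = a (b X) := rfl

/-- The conjugate of an element of `SL₂`. -/
def bar : Sp2 K →* Sp2 K := Matrix.SpecialLinearGroup.map σ

variable (hσ : ∀ x, σ (σ x) = x)

include hσ in
theorem map_map_bar (g : Sp2 K) : ((bar σ g : Sp2 K) : Mod K).map σ = (g : Mod K) := by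
  ext i j; exact hσ _

include hσ in
theorem rho_mul_swap (g : Sp2 K) : rho σ g * swap = swap * rho σ (bar σ g) := by
  refine LinearEquiv.ext fun X => ?_
  rw [mul_apply', mul_apply', rho_apply, rho_apply, swap_apply, swap_apply, map_map_bar σ hσ,
    transpose_mul, transpose_mul, transpose_transpose, mul_assoc]
  rfl

/-- The group of the even case. -/
def innerGrp : Subgroup (Mod K ≃ₗ[K] Mod K) := (rho σ).range

/-- The group of the odd case. -/
def outerGrp : Subgroup (Mod K ≃ₗ[K] Mod K) where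
  carrier := {h | ∃ g : Sp2 K, h = rho σ g ∨ h = swap * rho σ g}
  one_mem' := ⟨1, Or.inl (map_one _).symm⟩
  mul_mem' := by
    rintro _ _ ⟨g, rfl | rfl⟩ ⟨g', rfl | rfl⟩
    · exact ⟨g * g', Or.inl (map_mul _ _ _).symm⟩
    · exact ⟨bar σ g * g', Or.inr (by rw [← mul_assoc, rho_mul_swap σ hσ, mul_assoc, map_mul])⟩
    · exact ⟨g * g', Or.inr (by rw [mul_assoc, map_mul])⟩
    · exact ⟨bar σ g * g', Or.inl (by
        rw [mul_assoc swap, ← mul_assoc (rho σ g), rho_mul_swap σ hσ, mul_assoc swap (rho σ (bar σ g)),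
          ← mul_assoc, swap_mul_swap, one_mul, map_mul])⟩
  inv_mem' := by
    rintro _ ⟨g, rfl | rfl⟩
    · exact ⟨g⁻¹, Or.inl (map_inv _ _).symm⟩
    · refine ⟨bar σ g⁻¹, Or.inr ?_⟩
      rw [_root_.mul_inv_rev, inv_eq_of_mul_eq_one_right (a := swap) swap_mul_swap, ← map_inv,
        rho_mul_swap σ hσ]

theorem mem_inner (g : Sp2 K) : rho σ g ∈ innerGrp σ := MonoidHom.mem_range.2 ⟨g, rfl⟩

theorem mem_outer_rho (g : Sp2 K) : rho σ g ∈ outerGrp σ hσ := by
  show ∃ g' : Sp2 K, _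
  exact ⟨g, Or.inl rfl⟩

theorem mem_outer_swap (g : Sp2 K) : swap * rho σ g ∈ outerGrp σ hσ := by
  show ∃ g' : Sp2 K, _
  exact ⟨g, Or.inr rfl⟩

theorem rho_of_sign {g : Sp2 K} (h : (g : Mod K) = 1 ∨ (g : Mod K) = -1) : rho σ g = 1 := by
  refine LinearEquiv.ext fun X => ?_
  rw [rho_apply]
  rcases h with e | e <;> simp [e, Matrix.map_one σ (map_zero σ) (map_one σ), Matrix.map_neg σ (map_neg σ)]

theorem sign_of_rho {g : Sp2 K} (h : rho σ g = 1) : (g : Mod K) = 1 ∨ (g : Mod K) = -1 := by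
  have e1 := congrArg (fun f : Mod K ≃ₗ[K] Mod K => f !![1, 0; 0, 0]) h
  have e2 := congrArg (fun f : Mod K ≃ₗ[K] Mod K => f !![0, 0; 0, 1]) h
  have e3 := congrArg (fun f : Mod K ≃ₗ[K] Mod K => f !![0, 1; 0, 0]) h
  simp only [rho_apply, LinearEquiv.coe_one, id_eq] at e1 e2 e3
  have a00 := congrFun (congrFun e1 0) 0
  have a11 := congrFun (congrFun e1 1) 1
  have b00 := congrFun (congrFun e2 0) 0
  have c01 := congrFun (congrFun e3 0) 1
  simp [Matrix.mul_apply, Fin.sum_univ_two, Matrix.vecMul, dotProduct] at a00 a11 b00 c01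
  have hd := g.2
  rw [Matrix.det_fin_two, a11, b00, zero_mul, sub_zero] at hd
  have hfixed : σ ((g : Mod K) 0 0) = (g : Mod K) 0 0 := by
    have h1 : σ ((g : Mod K) 0 0) * σ ((g : Mod K) 1 1) = 1 := by rw [← map_mul, hd, map_one]
    linear_combination (g : Mod K) 0 0 * h1 - σ ((g : Mod K) 0 0) * c01
  have hs : (g : Mod K) 0 0 * (g : Mod K) 0 0 = 1 := by
    rw [hfixed] at a00
    exact a00
  rcases mul_self_eq_one_iff.1 hs with e | e
  · left
    rw [e, one_mul] at hd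
    ext i j; fin_cases i <;> fin_cases j <;> simp [e, hd, a11, b00]
  · right
    have : (g : Mod K) 1 1 = -1 := by rw [e] at hd; linear_combination -hd
    ext i j; fin_cases i <;> fin_cases j <;> simp [e, this, a11, b00]

theorem sq_eq' (M : Mod K) (hd : M.det = 1) : M * M = M.trace • M - 1 := by
  have := RootPowers.sq_eq ⟨M, hd⟩
  rwa [pow_two] at this

theorem trace_of_fixed {g : Sp2 K} {X : Mod K} (hX : X ≠ 0) (h : rho σ g X = X) :
    σ (g : Mod K).trace = (g : Mod K).trace := by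
  rw [rho_apply] at h
  set μ : Mod K := ((g : Mod K).map σ)ᵀ with hμ
  have hμd : μ.det = 1 := by
    rw [hμ, det_transpose, ← RingHom.mapMatrix_apply, ← RingHom.map_det, g.2, map_one]
  have hμt : μ.trace = σ (g : Mod K).trace := by
    rw [hμ, trace_transpose]; simp [Matrix.trace]
  have e1 : (g : Mod K) * X = (g : Mod K).trace • X - X * μ := by
    calc (g : Mod K) * X = (g : Mod K) * ((g : Mod K) * X * μ) := by rw [h]
      _ = ((g : Mod K) * (g : Mod K)) * X * μ := by simp only [mul_assoc]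
      _ = _ := by
        rw [sq_eq' _ g.2, sub_mul, sub_mul, one_mul, smul_mul_assoc, smul_mul_assoc, h]
  have e2 : X * μ = σ (g : Mod K).trace • X - (g : Mod K) * X := by
    calc X * μ = ((g : Mod K) * X * μ) * μ := by rw [h]
      _ = (g : Mod K) * X * (μ * μ) := by simp only [mul_assoc]
      _ = _ := by rw [sq_eq' _ hμd, mul_sub, mul_one, mul_smul_comm, h, hμt]
  rw [e1] at e2
  have e3 : (σ (g : Mod K).trace - (g : Mod K).trace) • X = 0 := by
    calc (σ (g : Mod K).trace - (g : Mod K).trace) • X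
        = (σ (g : Mod K).trace • X - ((g : Mod K).trace • X - X * μ)) - X * μ := by module
      _ = 0 := by rw [← e2, sub_self]
  exact sub_eq_zero.1 ((smul_eq_zero.1 e3).resolve_right hX)

variable {p n : ℕ} [Fact p.Prime] [CharP K p]

theorem rho_pow_eq_one {g : Sp2 K} {k : ℕ}
    (h : (g : Mod K) ^ k = 1 ∨ (g : Mod K) ^ k = -1) : rho σ g ^ k = 1 := by
  rw [← map_pow]
  exact rho_of_sign σ (by simpa using h)

theorem sign_of_rho_pow {g : Sp2 K} {j : ℕ} (h : rho σ g ^ j = 1) :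
    (g : Mod K) ^ j = 1 ∨ (g : Mod K) ^ j = -1 := by
  rw [← map_pow] at h
  simpa using sign_of_rho σ h

theorem dvd_half_mul {g : Sp2 K} {j : ℕ} (h : rho σ g ^ j = 1) : orderOf g ∣ half p * j := by
  refine orderOf_dvd_of_pow_eq_one (Subtype.ext ?_)
  rw [Matrix.SpecialLinearGroup.coe_pow, mul_comm, pow_mul, Matrix.SpecialLinearGroup.coe_one]
  exact PSp4.pow_half_eq_one (F := K) (sign_of_rho_pow σ h)

theorem sumPow_unipotent {g : Sp2 K} (hp : 5 ≤ p) (h : rho σ g ^ p = 1) :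
    sumPow (rho σ g) p = 0 := by
  have hp' := (Fact.out : p.Prime)
  obtain ⟨ε, hε, hgp⟩ : ∃ ε : K, (ε = 1 ∨ ε = -1) ∧ (g : Mod K) ^ p = ε • 1 := by
    rcases sign_of_rho_pow σ h with e | e
    · exact ⟨1, Or.inl rfl, by rw [e, one_smul]⟩
    · exact ⟨-1, Or.inr rfl, by rw [e, neg_one_smul]⟩
  set ν : Mod K := ε • (g : Mod K) - 1 with hν
  have hεε : ε * ε = 1 := by rcases hε with rfl | rfl <;> ring
  have hνp : ν ^ p = 0 := by
    rw [hν, sub_pow_char_of_commute p (Commute.one_right _), smul_pow, one_pow, hgp, smul_smul,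
      sign_pow_char hε, hεε, one_smul, sub_self]
  have hν2 : ν * ν = 0 := by
    have hdet : ν.det = 0 := eq_zero_of_pow_eq_zero (n := p) (by rw [← det_pow, hνp]; simp)
    have hsq : ν * ν = ν.trace • ν := by
      rw [det_fin_two] at hdet
      ext i j
      fin_cases i <;> fin_cases j <;> simp [Matrix.mul_apply, Fin.sum_univ_two, Matrix.vecMul, dotProduct, Matrix.trace]
      · linear_combination -hdet
      · ring
      · ring
      · linear_combination -hdet
    by_cases ht : ν.trace = 0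
    · rw [hsq, ht, zero_smul]
    · have hpow : ∀ m : ℕ, ν ^ (m + 1) = ν.trace ^ m • ν := by
        intro m
        induction m with
        | zero => simp
        | succ m ih => rw [pow_succ, ih, smul_mul_assoc, hsq, smul_smul, ← pow_succ]
      have h0 := hpow (p - 1)
      rw [Nat.sub_add_cancel hp'.one_le, hνp] at h0
      rw [(smul_eq_zero.1 h0.symm).resolve_left (pow_ne_zero _ ht), mul_zero]
  set μ : Mod K := (ν.map σ)ᵀ with hμ
  have hμ2 : μ * μ = 0 := by
    rw [hμ, ← transpose_mul, ← Matrix.map_mul, hν2]; simp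
  have hεσ : σ ε = ε := by rcases hε with rfl | rfl <;> simp
  have hg : (g : Mod K) = ε • (1 + ν) := by
    rw [hν, add_sub_cancel, smul_smul, hεε, one_smul]
  have hgσ : ((g : Mod K).map σ)ᵀ = ε • (1 + μ) := by
    rw [hg, hμ]
    ext i j
    fin_cases i <;> fin_cases j <;> simp [hεσ, map_one, map_zero, mul_add]
  refine sumPow_eq_zero_of_nilpotent (rho σ g) (e := 3) (by omega) (LinearMap.ext fun X => ?_)
  have hD : ∀ Y : Mod K, ((rho σ g : Mod K →ₗ[K] Mod K) - 1) Y = ν * Y + Y * μ + ν * Y * μ := by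
    intro Y
    show rho σ g Y - Y = _
    rw [rho_apply, hgσ, hg, smul_mul_assoc, smul_mul_assoc, mul_smul_comm, smul_smul, hεε, one_smul]
    noncomm_ring
  have z1 : ∀ Y : Mod K, ν * (ν * Y) = 0 := fun Y => by rw [← mul_assoc, hν2, zero_mul]
  have z2 : ∀ Y : Mod K, Y * μ * μ = 0 := fun Y => by rw [mul_assoc, hμ2, mul_zero]
  rw [pow_succ, pow_succ, pow_one]
  simp only [Module.End.mul_apply, hD, LinearMap.zero_apply, mul_add, add_mul, ← mul_assoc, hν2,
    zero_mul, z2, mul_assoc _ μ μ, hμ2, mul_zero, add_zero, zero_add]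

variable [Fintype K]

theorem mem_spec_self (q : ℕ) {k : ℕ}
    (hk : k = (q ^ 2 - 1) / half p ∨ k = (q ^ 2 + 1) / half p) : k ∈ PSp4.spec p q := by
  rcases hk with rfl | rfl
  exacts [Or.inl dvd_rfl, Or.inr (Or.inl dvd_rfl)]

theorem mem_spec_pp (q : ℕ) (hp : p ≤ 3) : p * p ∈ PSp4.spec p q :=
  Or.inr (Or.inr (Or.inr (Or.inr (by rw [if_pos hp, pow_two]))))

theorem mem_spec_p (q : ℕ) : p * (q - 1) ∈ PSp4.spec p q ∧ p * (q + 1) ∈ PSp4.spec p q :=
  ⟨Or.inr (Or.inr (Or.inl dvd_rfl)), Or.inr (Or.inr (Or.inr (Or.inl dvd_rfl)))⟩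

theorem dvd_sub_add {k : ℕ} {q : ℕ} (hk : k = (q - 1) / half p ∨ k = (q + 1) / half p)
    (hd : half p ∣ q - 1 ∧ half p ∣ q + 1) : k ∣ q - 1 ∨ k ∣ q + 1 := by
  rcases hk with rfl | rfl
  exacts [Or.inl (Nat.div_dvd_of_dvd hd.1), Or.inr (Nat.div_dvd_of_dvd hd.2)]

variable (hq : ∀ x : K, σ x = x ^ p ^ n) (hn : n ≠ 0) (hK : Fintype.card K = (p ^ n) ^ 2)

include hq hn hK in
theorem rho_cases (g : Sp2 K) :
    (∃ k, rho σ g ^ k = 1 ∧ p * k ∈ PSp4.spec p (p ^ n)) ∨
      (∃ k ∈ PSp4.spec p (p ^ n), rho σ g ^ k = 1 ∧ sumPow (rho σ g) k = 0) := by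
  have hp := (Fact.out : p.Prime)
  have hpp : ∀ {g : Sp2 K}, rho σ g ^ p = 1 →
      (∃ k, rho σ g ^ k = 1 ∧ p * k ∈ PSp4.spec p (p ^ n)) ∨
        (∃ k ∈ PSp4.spec p (p ^ n), rho σ g ^ k = 1 ∧ sumPow (rho σ g) k = 0) := by
    intro g h
    by_cases h3 : p ≤ 3
    · exact Or.inl ⟨p, h, mem_spec_pp _ h3⟩
    · have : p ≠ 4 := fun e => absurd (e ▸ hp) (by norm_num)
      exact Or.inr ⟨p, PSp4.spec_of_dvd (dvd_mul_right p _) (mem_spec_p (p ^ n)).1, h,
        sumPow_unipotent σ (by omega) h⟩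
  obtain ⟨k, hk, hgk⟩ := sl2_pow_cases (p := p) (n := 2 * n) g (by omega)
    (by rw [mul_comm, pow_mul, ← hK, FiniteField.pow_card])
  rw [mul_comm 2 n, pow_mul] at hk
  have hone := rho_pow_eq_one σ hgk
  rcases hk with hk | hk | rfl
  rotate_left 2
  · exact hpp hone
  all_goals
    by_cases hfix : ∀ X, rho σ g X = X → X = 0
    · exact Or.inr ⟨k, mem_spec_self _ (by simp [hk]), hone,
        sumPow_eq_zero_of_no_fixed _ hone hfix⟩
    · push Not at hfix
      obtain ⟨X, hX, hX0⟩ := hfix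
      obtain ⟨k', hk', hgk'⟩ := sl2_pow_cases (p := p) (n := n) g hn
        (by rw [← hq]; exact trace_of_fixed σ hX0 hX)
      have hone' := rho_pow_eq_one σ hgk'
      rcases hk' with hk' | hk' | rfl
      · refine Or.inl ⟨k', hone', PSp4.spec_of_dvd ?_ (mem_spec_p (p ^ n)).1⟩
        exact Nat.mul_dvd_mul_left p (hk' ▸ Nat.div_dvd_of_dvd PSp4.half_dvd.1)
      · refine Or.inl ⟨k', hone', PSp4.spec_of_dvd ?_ (mem_spec_p (p ^ n)).2⟩
        exact Nat.mul_dvd_mul_left p (hk' ▸ Nat.div_dvd_of_dvd PSp4.half_dvd.2)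
      · exact hpp hone'

include hq hn hσ in
theorem swap_cases (hp5 : 5 ≤ p) (g : Sp2 K) :
    (∃ k, (swap * rho σ g) ^ k = 1 ∧ p * k ∈ PSp4.spec p (p ^ n)) ∨
      (∃ k ∈ PSp4.spec p (p ^ n), (swap * rho σ g) ^ k = 1 ∧ sumPow (swap * rho σ g) k = 0) := by
  have hsq : (swap * rho σ g) ^ 2 = rho σ (bar σ g * g) := by
    rw [pow_two, mul_assoc, ← mul_assoc (rho σ g), rho_mul_swap σ hσ, mul_assoc swap,
      ← mul_assoc, swap_mul_swap, one_mul, map_mul]
  have htr : σ ((bar σ g * g : Sp2 K) : Mod K).trace = ((bar σ g * g : Sp2 K) : Mod K).trace := by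
    have h1 : σ ((bar σ g * g : Sp2 K) : Mod K).trace =
        ((((bar σ g * g : Sp2 K) : Mod K)).map σ).trace := by
      simp [Matrix.trace, Matrix.mul_apply]
    rw [h1, Matrix.SpecialLinearGroup.coe_mul, Matrix.map_mul, map_map_bar σ hσ, Matrix.trace_mul_comm]
    rfl
  obtain ⟨k, hk, hgk⟩ := sl2_pow_cases (p := p) (n := n) (bar σ g * g) hn (by rw [← hq]; exact htr)
  have hone := rho_pow_eq_one σ hgk
  rw [← hsq, ← pow_mul] at hone
  have hh : half p = 2 := if_neg (by omega)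
  obtain ⟨hd1, hd2⟩ := PSp4.half_dvd (p := p) (n := n)
  rcases hk with hk | hk | rfl
  · refine Or.inl ⟨_, hone, PSp4.spec_of_dvd (Nat.mul_dvd_mul_left p ?_) (mem_spec_p (p ^ n)).1⟩
    rw [hk, ← hh, Nat.mul_div_cancel' hd1]
  · refine Or.inl ⟨_, hone, PSp4.spec_of_dvd (Nat.mul_dvd_mul_left p ?_) (mem_spec_p (p ^ n)).2⟩
    rw [hk, ← hh, Nat.mul_div_cancel' hd2]
  · refine Or.inr ⟨2 * k, PSp4.spec_of_dvd ?_ (mem_spec_p (k ^ n)).1, hone, ?_⟩
    · rw [mul_comm]; exact Nat.mul_dvd_mul_left k (hh ▸ hd1)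
    · rw [sumPow_two_mul, hsq, sumPow_unipotent σ hp5 (by rw [← hsq, ← pow_mul]; exact hone), mul_zero]

/-- The diagonal element. -/
def dg : Kˣ →* Sp2 K where
  toFun c := ⟨!![(c : K), 0; 0, ((c⁻¹ : Kˣ) : K)], by simp [Matrix.det_fin_two]⟩
  map_one' := Subtype.ext (by ext i j; fin_cases i <;> fin_cases j <;> simp)
  map_mul' a b := Subtype.ext (by
    show _ = !![(a : K), 0; 0, ((a⁻¹ : Kˣ) : K)] * !![(b : K), 0; 0, ((b⁻¹ : Kˣ) : K)]
    ext i j; fin_cases i <;> fin_cases j <;> simp [Matrix.mul_apply, Fin.sum_univ_two, Matrix.vecMul, dotProduct, mul_comm])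

theorem dg_val (c : Kˣ) : ((dg c : Sp2 K) : Mod K) = !![(c : K), 0; 0, ((c⁻¹ : Kˣ) : K)] := rfl

theorem units_dvd_of_rho_dg {c : Kˣ} {j : ℕ} (h : rho σ (dg c) ^ j = 1) :
    orderOf c ∣ half p * j := by
  have h1 := pow_half_eq_one' (sign_of_rho_pow σ h)
  refine orderOf_dvd_of_pow_eq_one (Units.ext ?_)
  have h00 := congrFun (congrFun h1 0) 0
  rw [← pow_mul, ← Matrix.SpecialLinearGroup.coe_pow, ← map_pow, dg_val, mul_comm] at h00
  simpa using h00
where
  pow_half_eq_one' {x : Mod K} (h : x = 1 ∨ x = -1) : x ^ half p = 1 :=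
    PSp4.pow_half_eq_one (F := K) h

theorem exists_units_order {k : ℕ} (hk : k ∣ Fintype.card K - 1) : ∃ c : Kˣ, orderOf c = k := by
  obtain ⟨γ, hγ⟩ := IsCyclic.exists_ofOrder_eq_natCard (α := Kˣ)
  rw [Nat.card_units, Nat.card_eq_fintype_card] at hγ
  exact ⟨γ ^ (orderOf γ / k), orderOf_pow_orderOf_div (orderOf_pos γ).ne' (hγ ▸ hk)⟩

include hn in
theorem facts :
    1 < p ^ n ∧ ¬ p ∣ p ^ n - 1 ∧ ¬ p ∣ p ^ n + 1 ∧
      (p ^ n) ^ 2 - 1 = (p ^ n + 1) * (p ^ n - 1) := by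
  have hp := (Fact.out : p.Prime)
  have hq1 : 1 < p ^ n := Nat.one_lt_pow hn hp.one_lt
  have hpq : p ∣ p ^ n := dvd_pow_self p hn
  refine ⟨hq1, fun h => hp.one_lt.ne' (Nat.dvd_one.1 ?_),
    fun h => hp.one_lt.ne' (Nat.dvd_one.1 ((Nat.dvd_add_right hpq).1 h)), PSp4.mul_pred _⟩
  have := Nat.dvd_sub hpq h
  rwa [Nat.sub_sub_self hq1.le] at this

include hn hK in
theorem lower_torus (H : Subgroup (Mod K ≃ₗ[K] Mod K)) (hH : ∀ g, rho σ g ∈ H) {d : ℕ}
    (hd : d ∣ ((p ^ n) ^ 2 - 1) / half p ∨ d ∣ ((p ^ n) ^ 2 + 1) / half p) :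
    d ∈ Set.range (orderOf : Semi H → ℕ) := by
  have hmain : ∀ k, half p ∣ k → (∃ g : Sp2 K, orderOf g = k) → d ∣ k / half p →
      d ∈ Set.range (orderOf : Semi H → ℕ) := by
    rintro k hk ⟨g, hg⟩ hdk
    obtain ⟨x, hx⟩ := exists_dvd H (hH g) (k := k / half p) (fun j hj =>
      (Nat.div_dvd_iff_dvd_mul hk (half_pos p)).2 (hg ▸ dvd_half_mul σ hj))
    exact ⟨x ^ (orderOf x / d), orderOf_pow_orderOf_div (orderOf_pos x).ne' (hdk.trans hx)⟩
  obtain ⟨h1, h2⟩ : half p ∣ (p ^ n) ^ 2 - 1 ∧ half p ∣ (p ^ n) ^ 2 + 1 := by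
    rw [← pow_mul]; exact PSp4.half_dvd
  rcases hd with h | h
  · obtain ⟨g, hg⟩ := exists_orderOf_sub_one (F := K)
    exact hmain _ h1 ⟨g, by rw [hg, Nat.card_eq_fintype_card, hK]⟩ h
  · obtain ⟨g, hg⟩ := exists_orderOf_add_one (F := K)
    exact hmain _ h2 ⟨g, by rw [hg, Nat.card_eq_fintype_card, hK]⟩ h

include hq hn hK in
theorem range_inner (hp2 : p = 2) :
    Set.range (orderOf : Semi (innerGrp σ) → ℕ) = PSp4.spec p (p ^ n) := by
  refine Set.Subset.antisymm (range_subset (p := p) _ _ (fun _ _ => PSp4.spec_of_dvd) ?_) ?_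
  · rintro _ ⟨g, rfl⟩; exact rho_cases σ hq hn hK g
  obtain ⟨hq1, hn1, hn2, hmul⟩ := facts (p := p) hn
  have hh : half p = 1 := if_pos hp2
  have pull : ∀ {d k : ℕ}, d ∣ k → (∃ x : Semi (innerGrp σ), k ∣ orderOf x) →
      d ∈ Set.range (orderOf : Semi (innerGrp σ) → ℕ) := by
    rintro d k hdk ⟨x, hx⟩
    exact ⟨x ^ (orderOf x / d), orderOf_pow_orderOf_div (orderOf_pos x).ne' (hdk.trans hx)⟩
  have mixed : ∀ {k : ℕ}, k ∣ Fintype.card K - 1 → ¬ p ∣ k →
      (∀ c : Kˣ, orderOf c = k → ∃ X : Mod K, X ≠ 0 ∧ rho σ (dg c) X = X) →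
      ∃ x : Semi (innerGrp σ), p * k ∣ orderOf x := by
    intro k hk hpk hfix
    obtain ⟨c, hc⟩ := exists_units_order hk
    obtain ⟨X, hX0, hX⟩ := hfix c hc
    refine exists_dvd_mul (p := p) _ (mem_inner σ (dg c)) (fun j hj => ?_) hpk hX0 hX
    have := units_dvd_of_rho_dg (p := p) σ hj
    rwa [hh, one_mul, hc] at this
  intro d hd
  rcases hd with h | h | h | h | h
  · exact lower_torus σ hn hK _ (mem_inner σ) (Or.inl h)
  · exact lower_torus σ hn hK _ (mem_inner σ) (Or.inr h)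
  · refine pull h (mixed (by rw [hK, hmul]; exact dvd_mul_left _ _) hn1 fun c hc => ?_)
    refine ⟨!![0, 1; 0, 0], fun e => one_ne_zero (congrFun (congrFun e 0) 1), ?_⟩
    have hcq : (c : K) ^ (p ^ n - 1) = 1 := by
      rw [← Units.val_pow_eq_pow_val, ← hc, pow_orderOf_eq_one, Units.val_one]
    have hcσ : σ (c : K) = c := by
      rw [hq]
      calc (c : K) ^ p ^ n = (c : K) ^ (p ^ n - 1) * c := by
            rw [← pow_succ, Nat.sub_add_cancel hq1.le]
        _ = c := by rw [hcq, one_mul]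
    rw [rho_apply, dg_val]
    ext i j
    fin_cases i <;> fin_cases j <;> simp [Matrix.mul_apply, Fin.sum_univ_two, Matrix.vecMul, dotProduct, hcσ]
  · refine pull h (mixed (by rw [hK, hmul]; exact dvd_mul_right _ _) hn2 fun c hc => ?_)
    refine ⟨!![1, 0; 0, 0], fun e => one_ne_zero (congrFun (congrFun e 0) 0), ?_⟩
    have hcq : (c : K) * σ c = 1 := by
      rw [hq, ← pow_succ', ← Units.val_pow_eq_pow_val, ← hc, pow_orderOf_eq_one, Units.val_one]
    rw [rho_apply, dg_val]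
    ext i j
    fin_cases i <;> fin_cases j <;> simp [Matrix.mul_apply, Fin.sum_univ_two, Matrix.vecMul, dotProduct, hcq]
  · subst hp2
    rw [if_pos (by norm_num)] at h
    let u : Sp2 K := ⟨!![1, 1; 0, 1], by simp [Matrix.det_fin_two]⟩
    have hu2 : rho σ u ^ 2 = 1 := rho_pow_eq_one σ (Or.inl (by
      rw [pow_two]
      ext i j
      fin_cases i <;> fin_cases j <;> simp [u, Matrix.mul_apply, Fin.sum_univ_two, Matrix.vecMul, dotProduct, CharTwo.add_self_eq_zero]))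
    refine pull h (exists_dvd_sq (p := 2) (innerGrp σ) (mem_inner σ u) hu2 (v := !![0, 0; 0, 1]) ?_)
    rw [sumPow_apply, Finset.sum_range_succ, Finset.sum_range_one, pow_zero, pow_one, rho_apply]
    intro e
    have := congrFun (congrFun e 0) 1
    simp [u, Matrix.mul_apply, Fin.sum_univ_two, Matrix.vecMul, dotProduct] at this

include hq hn hK hσ in
theorem range_outer (hp5 : 5 ≤ p) :
    Set.range (orderOf : Semi (outerGrp σ hσ) → ℕ) = PSp4.spec p (p ^ n) := by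
  refine Set.Subset.antisymm (range_subset (p := p) _ _ (fun _ _ => PSp4.spec_of_dvd) ?_) ?_
  · rintro _ ⟨g, rfl | rfl⟩
    · exact rho_cases σ hq hn hK g
    · exact swap_cases σ hσ hq hn hp5 g
  obtain ⟨hq1, hn1, hn2, hmul⟩ := facts (p := p) hn
  have hh : half p = 2 := if_neg (by omega)
  obtain ⟨hd1, hd2⟩ := PSp4.half_dvd (p := p) (n := n)
  have pull : ∀ {d k : ℕ}, d ∣ k → (∃ x : Semi (outerGrp σ hσ), k ∣ orderOf x) →
      d ∈ Set.range (orderOf : Semi (outerGrp σ hσ) → ℕ) := by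
    rintro d k hdk ⟨x, hx⟩
    exact ⟨x ^ (orderOf x / d), orderOf_pow_orderOf_div (orderOf_pos x).ne' (hdk.trans hx)⟩
  obtain ⟨γ, hγ⟩ := IsCyclic.exists_ofOrder_eq_natCard (α := Kˣ)
  rw [Nat.card_units, Nat.card_eq_fintype_card, hK, hmul] at hγ
  have hσu : ∀ x : Kˣ, σ (x : K) = ((x ^ p ^ n : Kˣ) : K) := fun x => by
    rw [hq, Units.val_pow_eq_pow_val]
  have sq : ∀ g : Sp2 K, ∀ j, (swap * rho σ g) ^ (2 * j) = rho σ ((bar σ g * g) ^ j) := by
    intro g j
    rw [pow_mul, map_pow]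
    congr 1
    rw [pow_two, mul_assoc, ← mul_assoc (rho σ g), rho_mul_swap σ hσ, mul_assoc swap,
      ← mul_assoc, swap_mul_swap, one_mul, map_mul]
  -- an element whose square is diagonal, not fixing the position `E`
  have mixed : ∀ {k : ℕ} (g : Sp2 K) (c : Kˣ), k = orderOf c → bar σ g * g = dg c → ¬ p ∣ k →
      (∀ i : ℕ, rho σ (dg c ^ i) * (swap * rho σ g) ≠ 1) →
      (∃ X : Mod K, X ≠ 0 ∧ (swap * rho σ g : Mod K ≃ₗ[K] Mod K) X = X) →
      ∃ x : Semi (outerGrp σ hσ), p * k ∣ orderOf x := by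
    rintro k g c hk hgg hpk hodd ⟨X, hX0, hX⟩
    refine exists_dvd_mul (p := p) _ (mem_outer_swap σ hσ g) (fun j hj => ?_) hpk hX0 hX
    rcases Nat.even_or_odd j with ⟨i, rfl⟩ | ⟨i, rfl⟩
    · rw [← two_mul, sq, hgg, map_pow] at hj
      have := units_dvd_of_rho_dg (p := p) σ hj
      rwa [hh, two_mul, ← hk] at this
    · rw [pow_succ, sq, hgg] at hj
      exact absurd hj (hodd i)
  have hdgi : ∀ (c : Kˣ) (i : ℕ), ((dg c ^ i : Sp2 K) : Mod K) = !![((c ^ i : Kˣ) : K), 0; 0, (((c ^ i)⁻¹ : Kˣ) : K)] :=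
    fun c i => by rw [← map_pow, dg_val]
  intro d hd
  rcases hd with h | h | h | h | h
  · exact lower_torus σ hn hK _ (mem_outer_rho σ hσ) (Or.inl h)
  · exact lower_torus σ hn hK _ (mem_outer_rho σ hσ) (Or.inr h)
  · -- order `q - 1`
    have hord : p ^ n - 1 = orderOf (γ ^ (p ^ n + 1)) := by
      rw [orderOf_pow, hγ, Nat.gcd_eq_right (dvd_mul_right _ _), Nat.mul_div_cancel_left _ (by omega)]
    refine pull h (mixed (dg γ) (γ ^ (p ^ n + 1)) hord ?_ hn1 ?_ ?_)
    · rw [pow_succ, map_mul]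
      congr 1
      refine Subtype.ext ?_
      show ((dg γ : Sp2 K) : Mod K).map σ = _
      rw [dg_val, dg_val]
      ext i j
      fin_cases i <;> fin_cases j <;> simp [hσu, inv_pow]
    · intro i hi
      have := congrArg (fun f : Mod K ≃ₗ[K] Mod K => f !![0, 1; 0, 0] 0 1) hi
      simp [-map_pow, mul_apply', rho_apply, swap_apply, hdgi, dg_val, Matrix.mul_apply, Fin.sum_univ_two, Matrix.vecMul, dotProduct] at this
    · refine ⟨!![0, σ γ; (γ : K), 0], fun e => γ.ne_zero (congrFun (congrFun e 1) 0), ?_⟩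
      rw [mul_apply', swap_apply, rho_apply, dg_val]
      ext i j
      fin_cases i <;> fin_cases j <;> simp [Matrix.mul_apply, Fin.sum_univ_two, Matrix.vecMul, dotProduct, map_inv₀] <;> field_simp
  · -- order `q + 1`
    set m := (p ^ n + 1) / 2 with hm
    have hm2 : 2 * m = p ^ n + 1 := Nat.mul_div_cancel' (hh ▸ hd2)
    set a : Kˣ := γ ^ (1 + m) with ha
    have hneg : γ ^ ((p ^ n - 1) * m) = -1 := by
      apply Units.ext
      have hne : γ ^ ((p ^ n - 1) * m) ≠ 1 := by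
        intro e
        have h1 := orderOf_dvd_of_pow_eq_one e
        rw [hγ, ← hm2] at h1
        have h3 : 0 < (p ^ n - 1) * m := Nat.mul_pos (by omega) (by omega)
        have h2 := Nat.le_of_dvd h3 h1
        rw [mul_assoc, mul_comm m] at h2
        omega
      have hsq : ((γ ^ ((p ^ n - 1) * m) : Kˣ) : K) * ((γ ^ ((p ^ n - 1) * m) : Kˣ) : K) = 1 := by
        rw [← Units.val_mul, ← pow_add, show (p ^ n - 1) * m + (p ^ n - 1) * m = orderOf γ by
          rw [hγ, ← hm2]; ring, pow_orderOf_eq_one, Units.val_one]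
      rcases mul_self_eq_one_iff.1 hsq with e | e
      · exact absurd (Units.ext e) hne
      · simpa using e
    have hord : p ^ n + 1 = orderOf (γ ^ (p ^ n - 1)) := by
      rw [orderOf_pow, hγ, Nat.gcd_eq_right (dvd_mul_left _ _), Nat.mul_div_cancel _ (by omega)]
    have hkey : a ^ (p ^ n - 1) = -γ ^ (p ^ n - 1) := by
      rw [ha, ← pow_mul, add_mul, one_mul, pow_add, mul_comm m, hneg, mul_neg, mul_one]
    let g : Sp2 K := ⟨!![0, (a : K); -((a⁻¹ : Kˣ) : K), 0], by simp [Matrix.det_fin_two]⟩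
    refine pull h (mixed g (γ ^ (p ^ n - 1)) hord ?_ hn2 ?_ ?_)
    · refine Subtype.ext ?_
      show (g : Mod K).map σ * (g : Mod K) = _
      rw [dg_val, show γ ^ (p ^ n - 1) = -(a ^ p ^ n * a⁻¹) by
        rw [← pow_sub_one_mul' (Nat.pos_iff_ne_zero.1 (by omega)) a, mul_inv_cancel_right, hkey, neg_neg]]
      ext i j
      fin_cases i <;> fin_cases j <;> simp [g, Matrix.mul_apply, Fin.sum_univ_two, Matrix.vecMul, dotProduct, hσu, inv_pow, mul_comm]
    · intro i hi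
      have := congrArg (fun f : Mod K ≃ₗ[K] Mod K => f !![1, 0; 0, 0] 0 0) hi
      rw [mul_apply', mul_apply', rho_apply, swap_apply, rho_apply, hdgi] at this
      simp [hdgi, g, Matrix.mul_apply, Fin.sum_univ_two, Matrix.vecMul, dotProduct] at this
    · refine ⟨!![σ a * a, 0; 0, 1], fun e => one_ne_zero (congrFun (congrFun e 1) 1), ?_⟩
      rw [mul_apply', swap_apply, rho_apply]
      have ha0 : (a : K) ≠ 0 := a.ne_zero
      have hsa : σ (a : K) ≠ 0 := by rw [hσu]; exact Units.ne_zero _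
      ext i j
      fin_cases i <;> fin_cases j <;> simp [g, Matrix.mul_apply, Fin.sum_univ_two, Matrix.vecMul, dotProduct, map_inv₀] <;> field_simp
  · rw [if_neg (by omega), pow_one] at h
    obtain ⟨x, hx⟩ : ∃ x : Semi (outerGrp σ hσ), p ∣ orderOf x := by
      obtain ⟨x, hx⟩ := exists_dvd_mul (p := p) (outerGrp σ hσ) (one_mem _) (k := 1)
        (fun j _ => one_dvd j) (Fact.out : p.Prime).not_dvd_one (v := (1 : Mod K)) one_ne_zero rfl
      exact ⟨x, by rwa [mul_one] at hx⟩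
    exact pull h ⟨x, hx⟩
where
  pow_sub_one_mul' {k : ℕ} (hk : k ≠ 0) (a : Kˣ) : a ^ (k - 1) * a = a ^ k := by
    rw [← pow_succ, Nat.sub_add_cancel (Nat.pos_of_ne_zero hk)]

end CfsgLib.Recog.PSp4Twisted
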