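import Mathlib
import Cfsg.Agent.Lib.Recog.LinearSemidirect
import Cfsg.Agent.Lib.Recog.RootPowers
import Cfsg.Agent.Lib.Recog.PSp4Spectrum
import Cfsg.Agent.Lib.Recog.PSp4Twisted

/-!
For `q` an even power of three the module `W ⊗ W^(3) ⊗ W^(q) ⊗ W^(q)` of `SL₂(q²)` gives a group
with the element orders of `PSp₄(q)`.
-/

set_option autoImplicit false

namespace CfsgLib.Recog.PSp4Kronecker

open Matrix CfsgLib.Recog.LinearSemidirect CfsgLib.Recog.RootPowers
open scoped Kronecker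

abbrev Ix := (Fin 2 × Fin 2) × (Fin 2 × Fin 2)

section Kr

variable {L : Type*} [Field L] [CharP L 3] (n : ℕ)

/-- The fourfold product of a matrix with its Frobenius twists. -/
def kr (A : Matrix (Fin 2) (Fin 2) L) : Matrix Ix Ix L :=
  (A ⊗ₖ A.map (iterateFrobenius L 3 1)) ⊗ₖ
    (A.map (iterateFrobenius L 3 n) ⊗ₖ A.map (iterateFrobenius L 3 n))

theorem kr_apply (A : Matrix (Fin 2) (Fin 2) L) (i j : Ix) :
    kr n A i j = A i.1.1 j.1.1 * (A i.1.2 j.1.2) ^ 3 *
      ((A i.2.1 j.2.1) ^ 3 ^ n * (A i.2.2 j.2.2) ^ 3 ^ n) := by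
  simp [kr, Matrix.kroneckerMap_apply, iterateFrobenius_def, frobenius_def]

theorem kr_mul (A B : Matrix (Fin 2) (Fin 2) L) : kr n (A * B) = kr n A * kr n B := by
  simp only [kr, Matrix.map_mul, mul_kronecker_mul]

theorem kr_one : kr n (1 : Matrix (Fin 2) (Fin 2) L) = 1 := by
  simp only [kr, Matrix.map_one _ (map_zero _) (map_one _), one_kronecker_one]

theorem kr_smul (c : L) (A : Matrix (Fin 2) (Fin 2) L) :
    kr n (c • A) = (c * c ^ 3 * (c ^ 3 ^ n * c ^ 3 ^ n)) • kr n A := by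
  ext i j
  simp only [kr_apply, Matrix.smul_apply, smul_eq_mul, mul_pow]
  ring

theorem kr_sign {A : Matrix (Fin 2) (Fin 2) L} (h : A = 1 ∨ A = -1) : kr n A = 1 := by
  rcases h with rfl | rfl
  · exact kr_one n
  · have hodd : Odd (3 ^ n : ℕ) := (by decide : Odd 3).pow
    rw [show (-1 : Matrix (Fin 2) (Fin 2) L) = (-1 : L) • 1 from (neg_one_smul L 1).symm, kr_smul,
      kr_one, hodd.neg_one_pow]
    simp [pow_succ]

theorem kr_map {M : Type*} [Field M] [CharP M 3] (f : L →+* M) (A : Matrix (Fin 2) (Fin 2) L) :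
    kr n (A.map f) = (kr n A).map f := by
  ext i j
  simp [kr_apply]

theorem kr_diagonal (d : Fin 2 → L) :
    kr n (diagonal d) = diagonal (fun i : Ix =>
      d i.1.1 * d i.1.2 ^ 3 * (d i.2.1 ^ 3 ^ n * d i.2.2 ^ 3 ^ n)) := by
  have hd : ∀ f : L →+* L, (diagonal d).map f = diagonal (fun i => f (d i)) :=
    fun f => diagonal_map (map_zero f)
  simp only [kr, hd, diagonal_kronecker_diagonal, iterateFrobenius_def, pow_one]

end Kr

variable {K : Type*} [Field K] [CharP K 3] (n : ℕ)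

/-- The action of `SL₂`. -/
def rhoEnd : Matrix.SpecialLinearGroup (Fin 2) K →* Module.End K (Ix → K) where
  toFun g := Matrix.toLinAlgEquiv' (kr n (g : Matrix (Fin 2) (Fin 2) K))
  map_one' := by rw [Matrix.SpecialLinearGroup.coe_one, kr_one, map_one]
  map_mul' g h := by rw [Matrix.SpecialLinearGroup.coe_mul, kr_mul, map_mul]

/-- The action as linear automorphisms. -/
def rho : Matrix.SpecialLinearGroup (Fin 2) K →* ((Ix → K) ≃ₗ[K] (Ix → K)) :=
  (LinearMap.GeneralLinearGroup.generalLinearEquiv K (Ix → K)).toMonoidHom.comp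
    (rhoEnd n).toHomUnits

theorem rho_apply (g : Matrix.SpecialLinearGroup (Fin 2) K) (v : Ix → K) :
    rho n g v = kr n (g : Matrix (Fin 2) (Fin 2) K) *ᵥ v := rfl

theorem rho_of_sign {g : Matrix.SpecialLinearGroup (Fin 2) K}
    (h : (g : Matrix (Fin 2) (Fin 2) K) = 1 ∨ (g : Matrix (Fin 2) (Fin 2) K) = -1) : rho n g = 1 :=
  LinearEquiv.ext fun v => by rw [rho_apply, kr_sign n h, one_mulVec]; rfl

theorem sign_of_rho {g : Matrix.SpecialLinearGroup (Fin 2) K} (h : rho n g = 1) :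
    (g : Matrix (Fin 2) (Fin 2) K) = 1 ∨ (g : Matrix (Fin 2) (Fin 2) K) = -1 := by
  have e : ∀ i j : Ix, kr n (g : Matrix (Fin 2) (Fin 2) K) i j = if i = j then 1 else 0 := by
    intro i j
    have := congrArg (fun f : (Ix → K) ≃ₗ[K] (Ix → K) => f (Pi.single j 1) i) h
    simp only [rho_apply, mulVec_single_one, LinearEquiv.coe_one, id_eq] at this
    simpa [Pi.single_apply] using this
  simp only [kr_apply] at e
  have d0 := e ((0, 0), (0, 0)) ((0, 0), (0, 0))
  have d1 := e ((1, 1), (1, 1)) ((1, 1), (1, 1))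
  have o1 := e ((0, 0), (0, 0)) ((1, 0), (0, 0))
  have o2 := e ((1, 0), (0, 0)) ((0, 0), (0, 0))
  have m := e ((0, 1), (0, 0)) ((0, 1), (0, 0))
  simp at d0 d1 o1 o2 m
  set a := (g : Matrix (Fin 2) (Fin 2) K) 0 0
  set b := (g : Matrix (Fin 2) (Fin 2) K) 0 1
  set c := (g : Matrix (Fin 2) (Fin 2) K) 1 0
  set d := (g : Matrix (Fin 2) (Fin 2) K) 1 1
  have ha : a ≠ 0 := fun h0 => by rw [h0] at d0; simp at d0
  have hb : b = 0 := by
    by_contra h0
    simp [h0, ha] at o1
  have hc : c = 0 := by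
    by_contra h0
    simp [h0, ha] at o2
  have hdet := g.2
  rw [det_fin_two] at hdet
  change a * d - b * c = 1 at hdet
  rw [hb, zero_mul, sub_zero] at hdet
  have h3 : d ^ 3 = a ^ 3 := by
    have hne : a * (a ^ 3 ^ n * a ^ 3 ^ n) ≠ 0 := by simp [ha]
    refine mul_left_cancel₀ hne ?_
    calc _ = a * d ^ 3 * (a ^ 3 ^ n * a ^ 3 ^ n) := by ring
      _ = a * a ^ 3 * (a ^ 3 ^ n * a ^ 3 ^ n) := by rw [m, d0]
      _ = _ := by ring
  haveI : Fact (Nat.Prime 3) := ⟨Nat.prime_three⟩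
  have hda : d = a := frobenius_inj K 3 (by simpa [frobenius_def] using h3)
  rw [hda] at hdet
  rcases mul_self_eq_one_iff.1 hdet with h0 | h0
  · left; ext i j
    fin_cases i <;> fin_cases j <;> simp [a, b, c, d] at * <;> simp [*]
  · right; ext i j
    fin_cases i <;> fin_cases j <;> simp [a, b, c, d] at * <;> simp [*]

/-- The group. -/
def grp : Subgroup ((Ix → K) ≃ₗ[K] (Ix → K)) := (rho n).range

theorem mem_grp (g : Matrix.SpecialLinearGroup (Fin 2) K) : rho n g ∈ grp n :=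
  MonoidHom.mem_range.2 ⟨g, rfl⟩

theorem rho_pow_eq_one {g : Matrix.SpecialLinearGroup (Fin 2) K} {k : ℕ}
    (h : (g : Matrix (Fin 2) (Fin 2) K) ^ k = 1 ∨ (g : Matrix (Fin 2) (Fin 2) K) ^ k = -1) :
    rho n g ^ k = 1 := by
  rw [← map_pow]
  exact rho_of_sign n (by simpa using h)

theorem dvd_two_mul {g : Matrix.SpecialLinearGroup (Fin 2) K} {j : ℕ} (h : rho n g ^ j = 1) :
    orderOf g ∣ 2 * j := by
  rw [← map_pow] at h
  refine orderOf_dvd_of_pow_eq_one (Subtype.ext ?_)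
  rw [mul_comm, pow_mul, Matrix.SpecialLinearGroup.coe_pow, Matrix.SpecialLinearGroup.coe_one]
  rcases sign_of_rho n h with e | e <;> simp [e]

/-- The arithmetic of the weights `±1 ± 3 + q (±1 ± 1)`. -/
theorem exp_cases {q o : ℕ} (h2 : q % 2 = 1) (h3 : q % 3 = 0) (h5 : q % 5 = 1 ∨ q % 5 = 4)
    (ho : o ∣ q * q - 1 ∨ o ∣ q * q + 1) (a b c d : Fin 2)
    (he : (o : ℤ) ∣ (![1, -1] a : ℤ) + 3 * (![1, -1] b : ℤ) +
      (q : ℤ) * ((![1, -1] c : ℤ) + (![1, -1] d : ℤ))) :
    o ∣ 2 * (q - 1) ∨ o ∣ 2 * (q + 1) := by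
  have hq : 1 ≤ q := by omega
  have hqq : 1 ≤ q * q := Nat.mul_le_mul hq hq
  have e1 : ((q - 1 : ℕ) : ℤ) = (q : ℤ) - 1 := by omega
  have up : ∀ m : ℕ, (o : ℤ) ∣ (m : ℤ) → o ∣ m := fun m h => Int.natCast_dvd_natCast.1 h
  have four : (o : ℤ) ∣ 4 → o ∣ 2 * (q - 1) ∨ o ∣ 2 * (q + 1) := fun h =>
    Or.inl ((up 4 (by simpa using h)).trans (by omega))
  have plus : (o : ℤ) ∣ 2 + 2 * q → o ∣ 2 * (q - 1) ∨ o ∣ 2 * (q + 1) := fun h =>
    Or.inr (up _ (by push_cast; rwa [mul_add, mul_one, add_comm]))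
  have minus : (o : ℤ) ∣ 2 * q - 2 → o ∣ 2 * (q - 1) ∨ o ∣ 2 * (q + 1) := fun h =>
    Or.inl (up _ (by push_cast [e1]; rwa [mul_sub, mul_one]))
  have bad : ∀ s : ℤ, (s = 2 * q + 4 ∨ s = 2 * q - 4) → (o : ℤ) ∣ s → o ∣ 2 * (q - 1) ∨ o ∣ 2 * (q + 1) := by
    intro s hs h
    have hprod : (o : ℤ) ∣ (2 * (q : ℤ) + 4) * (2 * q - 4) := by
      rcases hs with rfl | rfl
      · exact dvd_mul_of_dvd_left h _
      · exact dvd_mul_of_dvd_right h _
    have h20 : o ∣ 12 ∨ o ∣ 20 := by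
      rcases ho with h1 | h1
      · left
        have h1' : (o : ℤ) ∣ (q : ℤ) * q - 1 := by
          have := Int.natCast_dvd_natCast.2 h1; push_cast [hqq] at this; exact this
        refine up 12 ?_
        have := (h1'.mul_left 4).sub hprod
        rw [show (4 : ℤ) * ((q : ℤ) * q - 1) - (2 * q + 4) * (2 * q - 4) = 12 by ring] at this
        exact_mod_cast this
      · right
        have h1' : (o : ℤ) ∣ (q : ℤ) * q + 1 := by
          have := Int.natCast_dvd_natCast.2 h1; push_cast at this; exact this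
        refine up 20 ?_
        have := (h1'.mul_left 4).sub hprod
        rw [show (4 : ℤ) * ((q : ℤ) * q + 1) - (2 * q + 4) * (2 * q - 4) = 20 by ring] at this
        exact_mod_cast this
    have hle : o ≤ 20 := by
      rcases h20 with h' | h' <;> have := Nat.le_of_dvd (by norm_num) h' <;> omega
    left
    interval_cases o <;> omega
  have cv : ∀ x y : ℤ, x = y ∨ x = -y → (o : ℤ) ∣ x → (o : ℤ) ∣ y := by
    rintro x y (rfl | rfl) h
    exacts [h, dvd_neg.1 h]
  have hA : (![1, -1] a : ℤ) + 3 * (![1, -1] b : ℤ) ∈ ([4, -2, 2, -4] : List ℤ) := by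
    fin_cases a <;> fin_cases b <;> decide
  have hB : (![1, -1] c : ℤ) + (![1, -1] d : ℤ) ∈ ([2, 0, -2] : List ℤ) := by
    fin_cases c <;> fin_cases d <;> decide
  generalize hgA : (![1, -1] a : ℤ) + 3 * (![1, -1] b : ℤ) = A at hA he
  generalize hgB : (![1, -1] c : ℤ) + (![1, -1] d : ℤ) = B at hB he
  simp only [List.mem_cons, List.not_mem_nil, or_false] at hA hB
  have two : (o : ℤ) ∣ 2 → (o : ℤ) ∣ 4 := fun h => h.trans (by norm_num)
  rcases hA with rfl | rfl | rfl | rfl <;> rcases hB with rfl | rfl | rfl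
  · exact bad _ (Or.inl rfl) (cv _ _ (Or.inl (by ring)) he)
  · exact four (cv _ _ (Or.inl (by ring)) he)
  · exact bad _ (Or.inr rfl) (cv _ _ (Or.inr (by ring)) he)
  · exact minus (cv _ _ (Or.inl (by ring)) he)
  · exact four (two (cv _ _ (Or.inr (by ring)) he))
  · exact plus (cv _ _ (Or.inr (by ring)) he)
  · exact plus (cv _ _ (Or.inl (by ring)) he)
  · exact four (two (cv _ _ (Or.inl (by ring)) he))
  · exact minus (cv _ _ (Or.inr (by ring)) he)
  · exact bad _ (Or.inr rfl) (cv _ _ (Or.inl (by ring)) he)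
  · exact four (cv _ _ (Or.inr (by ring)) he)
  · exact bad _ (Or.inl rfl) (cv _ _ (Or.inr (by ring)) he)

theorem exists_diag {L : Type*} [Field L] [IsAlgClosed L] (A : Matrix (Fin 2) (Fin 2) L) (hdet : A.det = 1)
    (hne : A.trace ≠ 2 ∧ A.trace ≠ -2) :
    ∃ (x : L) (P : Matrix (Fin 2) (Fin 2) L), x ≠ 0 ∧ IsUnit P.det ∧
      A * P = P * diagonal ![x, x⁻¹] := by
  obtain ⟨r, hr0, hr⟩ := exists_root_pair A.trace
  have hd : r⁻¹ ≠ r := by
    intro e
    have h1 : r * r = 1 := by nth_rewrite 2 [← e]; exact mul_inv_cancel₀ hr0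
    rw [e] at hr
    rcases mul_self_eq_one_iff.1 h1 with h | h <;> rw [h] at hr
    · exact hne.1 (by rw [← hr]; norm_num)
    · exact hne.2 (by rw [← hr]; norm_num)
  rw [det_fin_two] at hdet
  rw [trace_fin_two] at hr
  have hinv := mul_inv_cancel₀ hr0
  by_cases hb : A 0 1 = 0
  · by_cases hc : A 1 0 = 0
    · have ha : A 0 0 * A 1 1 = 1 := by rw [← hdet, hb]; ring
      refine ⟨A 0 0, 1, left_ne_zero_of_mul_eq_one ha, by simp, ?_⟩
      rw [inv_eq_of_mul_eq_one_right ha, mul_one, one_mul]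
      ext i j; fin_cases i <;> fin_cases j <;> simp [hb, hc]
    · refine ⟨r, !![r - A 1 1, r⁻¹ - A 1 1; A 1 0, A 1 0], hr0, ?_, ?_⟩
      · refine isUnit_iff_ne_zero.2 ?_
        rw [det_fin_two_of]
        intro e
        exact mul_ne_zero hc (sub_ne_zero.2 hd.symm) (by linear_combination e)
      · ext i j; fin_cases i <;> fin_cases j <;> simp [Matrix.mul_apply, Fin.sum_univ_two]
        · linear_combination (r - A 1 1) * 0 + (-hdet) + (- r) * hr + hinv
        · linear_combination (-hdet) + (- r⁻¹) * hr + hinv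
        · ring
        · ring
  · refine ⟨r, !![A 0 1, A 0 1; r - A 0 0, r⁻¹ - A 0 0], hr0, ?_, ?_⟩
    · refine isUnit_iff_ne_zero.2 ?_
      rw [det_fin_two_of]
      intro e
      exact mul_ne_zero hb (sub_ne_zero.2 hd) (by linear_combination e)
    · ext i j; fin_cases i <;> fin_cases j <;> simp [Matrix.mul_apply, Fin.sum_univ_two]
      · ring
      · ring
      · linear_combination (-hdet) + (- r) * hr + hinv
      · linear_combination (-hdet) + (- r⁻¹) * hr + hinv

variable [Fintype K] (hn : n ≠ 0) (he : Even n) (hK : Fintype.card K = (3 ^ n) ^ 2)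

include hn he in
theorem q_facts : 3 ^ n % 2 = 1 ∧ 3 ^ n % 3 = 0 ∧ (3 ^ n % 5 = 1 ∨ 3 ^ n % 5 = 4) := by
  refine ⟨Nat.odd_iff.1 ((by decide : Odd 3).pow), Nat.mod_eq_zero_of_dvd (dvd_pow_self 3 hn), ?_⟩
  obtain ⟨m, rfl⟩ := he
  rw [← two_mul, pow_mul, show 3 ^ 2 = 9 from rfl]
  clear hn
  induction m with
  | zero => simp
  | succ m ih => rw [pow_succ, Nat.mul_mod]; rcases ih with h | h <;> simp [h]

include hn he hK in
theorem rho_cases (g : Matrix.SpecialLinearGroup (Fin 2) K) :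
    (∃ k, rho n g ^ k = 1 ∧ 3 * k ∈ PSp4.spec 3 (3 ^ n)) ∨
      (∃ k ∈ PSp4.spec 3 (3 ^ n), rho n g ^ k = 1 ∧ sumPow (rho n g) k = 0) := by
  haveI : Fact (Nat.Prime 3) := ⟨Nat.prime_three⟩
  obtain ⟨q2, q3, q5⟩ := q_facts n hn he
  have hpp : ∀ k, k = 3 → rho n g ^ k = 1 →
      ∃ k, rho n g ^ k = 1 ∧ 3 * k ∈ PSp4.spec 3 (3 ^ n) := fun k hk h =>
    ⟨k, h, hk ▸ PSp4Twisted.mem_spec_pp (p := 3) _ le_rfl⟩
  by_cases ht : (g : Matrix (Fin 2) (Fin 2) K).trace ^ 3 ^ n = (g : Matrix (Fin 2) (Fin 2) K).trace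
  · left
    obtain ⟨k, hk, hgk⟩ := sl2_pow_cases (p := 3) (n := n) g hn ht
    rcases hk with hk | hk | hk
    · exact ⟨k, rho_pow_eq_one n hgk, PSp4.spec_of_dvd (Nat.mul_dvd_mul_left 3
        (hk ▸ Nat.div_dvd_of_dvd PSp4.half_dvd.1)) (PSp4Twisted.mem_spec_p _).1⟩
    · exact ⟨k, rho_pow_eq_one n hgk, PSp4.spec_of_dvd (Nat.mul_dvd_mul_left 3
        (hk ▸ Nat.div_dvd_of_dvd PSp4.half_dvd.2)) (PSp4Twisted.mem_spec_p _).2⟩
    · exact hpp k hk (rho_pow_eq_one n hgk)
  obtain ⟨k, hk, hgk⟩ := sl2_pow_cases (p := 3) (n := 2 * n) g (by omega)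
    (by rw [mul_comm, pow_mul, ← hK, FiniteField.pow_card])
  rw [mul_comm 2 n, pow_mul] at hk
  rcases hk with hk | hk | hk
  rotate_left 2
  · exact Or.inl (hpp k hk (rho_pow_eq_one n hgk))
  all_goals
    by_cases hfix : ∀ v, rho n g v = v → v = 0
    · refine Or.inr ⟨k, ?_, rho_pow_eq_one n hgk,
        sumPow_eq_zero_of_no_fixed _ (rho_pow_eq_one n hgk) hfix⟩
      first | exact Or.inl (hk ▸ dvd_rfl) | exact Or.inr (Or.inl (hk ▸ dvd_rfl))
    · push Not at hfix
      obtain ⟨v, hv, hv0⟩ := hfix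
      left
      let L := AlgebraicClosure K
      haveI : CharP L 3 := charP_of_injective_algebraMap (algebraMap K L).injective 3
      let f := algebraMap K L
      set A : Matrix (Fin 2) (Fin 2) L := (g : Matrix (Fin 2) (Fin 2) K).map f with hA
      have hAdet : A.det = 1 := by
        rw [hA, ← RingHom.mapMatrix_apply, ← RingHom.map_det, g.2, map_one]
      have hAtr : A.trace = f (g : Matrix (Fin 2) (Fin 2) K).trace := by simp [hA, Matrix.trace]
      have hne : A.trace ≠ 2 ∧ A.trace ≠ -2 := by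
        have h2q : (2 : L) ^ 3 ^ n = 2 := by
          exact_mod_cast frobenius_iterate_fixed L (a := 2)
        constructor <;> intro e <;> apply ht <;> apply f.injective <;> rw [map_pow, ← hAtr, e]
        · exact h2q
        · rw [(Nat.odd_iff.2 q2).neg_pow, h2q]
      obtain ⟨x, P, hx0, hP, hAP⟩ := exists_diag A hAdet hne
      set D : Matrix (Fin 2) (Fin 2) L := diagonal ![x, x⁻¹] with hD
      have hPP' : P * P⁻¹ = 1 := mul_nonsing_inv P hP
      have hP'P : P⁻¹ * P = 1 := nonsing_inv_mul P hP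
      have hpowA : ∀ j : ℕ, A ^ j * P = P * D ^ j := by
        intro j
        induction j with
        | zero => simp
        | succ j ih => rw [pow_succ, mul_assoc, hAP, ← mul_assoc, ih, mul_assoc, ← pow_succ]
      -- the order of the eigenvalue
      have hD2 : D ^ (2 * k) = 1 := by
        have h1 : A ^ (2 * k) = 1 := by
          rw [hA, ← RingHom.mapMatrix_apply, ← map_pow, mul_comm, pow_mul]
          rcases hgk with e | e <;> simp [e]
        calc D ^ (2 * k) = P⁻¹ * (P * D ^ (2 * k)) := by rw [← mul_assoc, hP'P, one_mul]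
          _ = 1 := by rw [← hpowA, h1, one_mul, hP'P]
      set u : Lˣ := Units.mk0 x hx0 with hu
      have hu2 : orderOf u ∣ 2 * k := by
        refine orderOf_dvd_of_pow_eq_one (Units.ext ?_)
        have := congrFun (congrFun hD2 0) 0
        rw [hD, diagonal_pow] at this
        simpa [hu] using this
      -- a weight is trivial
      have hdet0 : (kr n A - 1).det = 0 := by
        rw [hA, kr_map, show (1 : Matrix Ix Ix L) = (1 : Matrix Ix Ix K).map f by
          rw [Matrix.map_one f (map_zero f) (map_one f)], ← Matrix.map_sub f (map_sub f),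
          ← RingHom.mapMatrix_apply, ← RingHom.map_det,
          (Matrix.exists_mulVec_eq_zero_iff.1 ⟨v, hv0, by
            rw [sub_mulVec, one_mulVec, ← rho_apply, hv, sub_self]⟩), map_zero]
      have hDdet : (kr n D - 1).det = 0 := by
        have hcj : kr n A - 1 = kr n P * (kr n D - 1) * kr n P⁻¹ := by
          rw [mul_sub, sub_mul, mul_one, ← kr_mul, ← kr_mul, ← kr_mul, hPP', kr_one, ← hAP,
            mul_assoc, hPP', mul_one]
        have hu' : (kr n P).det * (kr n P⁻¹).det = 1 := by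
          rw [← det_mul, ← kr_mul, hPP', kr_one, det_one]
        rw [hcj, det_mul, det_mul, mul_right_comm, hu', one_mul] at hdet0
        exact hdet0
      rw [hD, kr_diagonal, ← diagonal_one, diagonal_sub, det_diagonal, Finset.prod_eq_zero_iff] at hDdet
      obtain ⟨⟨⟨a, b⟩, ⟨c, d⟩⟩, -, hw⟩ := hDdet
      have hs : ∀ i : Fin 2, (![x, x⁻¹] i : L) = ((u ^ (![1, -1] i : ℤ) : Lˣ) : L) := by
        intro i; fin_cases i <;> simp [hu]
      rw [sub_eq_zero] at hw
      simp only [hs] at hw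
      have he0 : u ^ ((![1, -1] a : ℤ) + 3 * (![1, -1] b : ℤ) +
          ((3 ^ n : ℕ) : ℤ) * ((![1, -1] c : ℤ) + (![1, -1] d : ℤ))) = 1 := by
        apply Units.ext
        rw [_root_.zpow_add, _root_.zpow_add, mul_comm (3 : ℤ), _root_.zpow_mul, mul_add, _root_.zpow_add,
          mul_comm ((3 ^ n : ℕ) : ℤ), mul_comm ((3 ^ n : ℕ) : ℤ), _root_.zpow_mul, _root_.zpow_mul,
          show (3 : ℤ) = ((3 : ℕ) : ℤ) from rfl, zpow_natCast, zpow_natCast, zpow_natCast]
        simp only [Units.val_mul, Units.val_pow_eq_pow_val, Units.val_one]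
        rw [← hw]
      have hk' : orderOf u ∣ 3 ^ n * 3 ^ n - 1 ∨ orderOf u ∣ 3 ^ n * 3 ^ n + 1 := by
        rw [← pow_two]
        obtain ⟨h1, h2⟩ : half 3 ∣ (3 ^ n) ^ 2 - 1 ∧ half 3 ∣ (3 ^ n) ^ 2 + 1 := by
          rw [← pow_mul]; exact PSp4.half_dvd
        rw [hk] at hu2
        first
          | (left; rwa [show 2 * (((3 ^ n) ^ 2 - 1) / half 3) = (3 ^ n) ^ 2 - 1 from Nat.mul_div_cancel' h1] at hu2)
          | (right; rwa [show 2 * (((3 ^ n) ^ 2 + 1) / half 3) = (3 ^ n) ^ 2 + 1 from Nat.mul_div_cancel' h2] at hu2)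
      have hfin := exp_cases q2 q3 q5 hk' a b c d (orderOf_dvd_iff_zpow_eq_one.2 he0)
      obtain ⟨m, hm, hum⟩ : ∃ m, 3 * m ∈ PSp4.spec 3 (3 ^ n) ∧ orderOf u ∣ 2 * m := by
        rcases hfin with h | h
        exacts [⟨_, (PSp4Twisted.mem_spec_p _).1, h⟩, ⟨_, (PSp4Twisted.mem_spec_p _).2, h⟩]
      refine ⟨m, rho_pow_eq_one n ?_, hm⟩
      have hxm : x ^ (2 * m) = 1 := by
        have := congrArg (fun z : Lˣ => (z : L)) (orderOf_dvd_iff_pow_eq_one.1 hum)
        simpa [hu] using this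
      rw [mul_comm, pow_mul, sq] at hxm
      have hDm : D ^ m = 1 ∨ D ^ m = -1 := by
        rw [hD, diagonal_pow]
        rcases mul_self_eq_one_iff.1 hxm with e | e
        · left
          rw [show (![x, x⁻¹] : Fin 2 → L) ^ m = fun _ => (1 : L) from funext fun i => by
            fin_cases i <;> simp [inv_pow, e], diagonal_one]
        · right
          rw [show (![x, x⁻¹] : Fin 2 → L) ^ m = fun _ => (-1 : L) from funext fun i => by
            fin_cases i <;> simp [inv_pow, e, inv_neg]]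
          ext i j
          fin_cases i <;> fin_cases j <;> simp
      have hAm : A ^ m = 1 ∨ A ^ m = -1 := by
        have : A ^ m = P * D ^ m * P⁻¹ := by rw [← hpowA, mul_assoc, hPP', mul_one]
        rcases hDm with e | e <;> rw [this, e] <;> simp [hPP']
      rw [hA, ← RingHom.mapMatrix_apply, ← map_pow] at hAm
      rcases hAm with e | e
      · exact Or.inl (Matrix.map_injective f.injective (e.trans (map_one (f.mapMatrix (m := Fin 2))).symm))
      · exact Or.inr (Matrix.map_injective f.injective (e.trans (show (-1 : Matrix (Fin 2) (Fin 2) L) =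
          f.mapMatrix (-1) by rw [map_neg, map_one])))
where
  frobenius_iterate_fixed (L : Type _) [Field L] [CharP L 3] {a : ℕ} : ((a : L)) ^ 3 ^ n = (a : L) := by
    haveI : Fact (Nat.Prime 3) := ⟨Nat.prime_three⟩
    rw [← iterateFrobenius_def, map_natCast]

include hn he hK in
theorem range_grp :
    Set.range (orderOf : Semi (grp (K := K) n) → ℕ) = PSp4.spec 3 (3 ^ n) := by
  haveI : Fact (Nat.Prime 3) := ⟨Nat.prime_three⟩
  refine Set.Subset.antisymm (range_subset (p := 3) _ _ (fun _ _ => PSp4.spec_of_dvd) ?_) ?_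
  · rintro _ ⟨g, rfl⟩; exact rho_cases n hn he hK g
  obtain ⟨q2, -, -⟩ := q_facts n hn he
  obtain ⟨hq1, hn1, hn2, hmul⟩ := PSp4Twisted.facts (p := 3) hn
  have hh : half 3 = 2 := rfl
  have pull : ∀ {d k : ℕ}, d ∣ k → (∃ x : Semi (grp (K := K) n), k ∣ orderOf x) →
      d ∈ Set.range (orderOf : Semi (grp (K := K) n) → ℕ) := by
    rintro d k hdk ⟨x, hx⟩
    exact ⟨x ^ (orderOf x / d), orderOf_pow_orderOf_div (orderOf_pos x).ne' (hdk.trans hx)⟩
  have torus : ∀ k, 2 ∣ k → (∃ g : Matrix.SpecialLinearGroup (Fin 2) K, orderOf g = k) →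
      ∃ x : Semi (grp (K := K) n), k / 2 ∣ orderOf x := by
    rintro k hk ⟨g, hg⟩
    exact exists_dvd _ (mem_grp n g) (fun j hj =>
      (Nat.div_dvd_iff_dvd_mul hk two_pos).2 (hg ▸ dvd_two_mul n hj))
  have mixed : ∀ {k : ℕ}, 2 * k ∣ Fintype.card K - 1 → ¬ 3 ∣ k → ∀ i : Ix,
      (∀ c : Kˣ, orderOf c = 2 * k →
        kr n ((PSp4Twisted.dg c : Matrix.SpecialLinearGroup (Fin 2) K) : Matrix (Fin 2) (Fin 2) K) i i = 1) →
      ∃ x : Semi (grp (K := K) n), 3 * k ∣ orderOf x := by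
    intro k hk hpk i hfix
    obtain ⟨c, hc⟩ := PSp4Twisted.exists_units_order hk
    have hdiag : ((PSp4Twisted.dg c : Matrix.SpecialLinearGroup (Fin 2) K) : Matrix (Fin 2) (Fin 2) K)
        = diagonal ![(c : K), ((c⁻¹ : Kˣ) : K)] := by
      rw [PSp4Twisted.dg_val]
      ext a b; fin_cases a <;> fin_cases b <;> simp
    refine exists_dvd_mul (p := 3) _ (mem_grp n (PSp4Twisted.dg c)) (fun j hj => ?_) hpk
      (v := Pi.single i 1) (by simp) ?_
    · rw [← map_pow, ← map_pow] at hj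
      refine (Nat.mul_dvd_mul_iff_left two_pos).1 ?_
      rw [← hc]
      refine orderOf_dvd_of_pow_eq_one (Units.ext ?_)
      have h00 := sign_of_rho n hj
      rw [PSp4Twisted.dg_val] at h00
      rw [mul_comm, pow_mul, Units.val_pow_eq_pow_val, Units.val_one, sq, mul_self_eq_one_iff]
      rcases h00 with e | e
      · exact Or.inl (by simpa using congrFun (congrFun e 0) 0)
      · exact Or.inr (by simpa using congrFun (congrFun e 0) 0)
    · have hi := hfix c hc
      rw [hdiag, kr_diagonal, diagonal_apply_eq] at hi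
      rw [rho_apply, hdiag, kr_diagonal, diagonal_mulVec_single, mul_one, hi]
  intro d hd
  rcases hd with h | h | h | h | h
  · refine pull (hh ▸ h) (torus _ (hh ▸ (by rw [← pow_mul]; exact PSp4.half_dvd.1)) ?_)
    obtain ⟨g, hg⟩ := exists_orderOf_sub_one (F := K)
    exact ⟨g, by rw [hg, Nat.card_eq_fintype_card, hK]⟩
  · refine pull (hh ▸ h) (torus _ (hh ▸ (by rw [← pow_mul]; exact PSp4.half_dvd.2)) ?_)
    obtain ⟨g, hg⟩ := exists_orderOf_add_one (F := K)
    exact ⟨g, by rw [hg, Nat.card_eq_fintype_card, hK]⟩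
  · refine pull h (mixed (k := 3 ^ n - 1) ?_ hn1 ((1, 0), (1, 1)) fun c hc => ?_)
    · rw [hK, hmul]; exact Nat.mul_dvd_mul_right (by omega) _
    · have hc1 : (c : K) ^ (2 * (3 ^ n - 1)) = 1 := by
        rw [← Units.val_pow_eq_pow_val, ← hc, pow_orderOf_eq_one, Units.val_one]
      have hcq : (c : K) ^ (3 ^ n * 2) = (c : K) ^ 2 := by
        calc (c : K) ^ (3 ^ n * 2) = (c : K) ^ (2 * (3 ^ n - 1) + 2) := by congr 1; omega
          _ = _ := by rw [pow_add, hc1, one_mul]
      rw [PSp4Twisted.dg_val, kr_apply]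
      simp only [of_apply, cons_val', cons_val_zero, cons_val_one, cons_val_fin_one, Units.val_inv_eq_inv_val]
      rw [← mul_pow, ← sq, inv_pow, inv_pow, ← pow_mul, mul_comm 2 (3 ^ n), hcq]
      field_simp
  · refine pull h (mixed (k := 3 ^ n + 1) ?_ hn2 ((1, 0), (0, 0)) fun c hc => ?_)
    · rw [hK, hmul, mul_comm]; exact Nat.mul_dvd_mul_left _ (by omega)
    · have hc1 : (c : K) ^ (2 * (3 ^ n + 1)) = 1 := by
        rw [← Units.val_pow_eq_pow_val, ← hc, pow_orderOf_eq_one, Units.val_one]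
      rw [PSp4Twisted.dg_val, kr_apply]
      simp only [of_apply, cons_val', cons_val_zero, cons_val_one, cons_val_fin_one, Units.val_inv_eq_inv_val]
      rw [← hc1]
      field_simp
      ring
  · rw [if_pos le_rfl] at h
    let u : Matrix.SpecialLinearGroup (Fin 2) K := ⟨!![1, 1; 0, 1], by simp [Matrix.det_fin_two]⟩
    have hu : ∀ i : ℕ, ((u ^ i : Matrix.SpecialLinearGroup (Fin 2) K) : Matrix (Fin 2) (Fin 2) K) = !![1, (i : K); 0, 1] := by
      intro i
      induction i with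
      | zero => ext a b; fin_cases a <;> fin_cases b <;> simp
      | succ i ih =>
        rw [pow_succ, Matrix.SpecialLinearGroup.coe_mul, ih]
        ext a b; fin_cases a <;> fin_cases b <;>
          simp [u, Matrix.mul_apply, Fin.sum_univ_two, add_comm]
    have h3 : ((3 : ℕ) : K) = 0 := CharP.cast_eq_zero K 3
    have hu3 : rho n u ^ 3 = 1 := by
      rw [← map_pow]
      refine rho_of_sign n (Or.inl ?_)
      rw [hu, h3]; ext a b; fin_cases a <;> fin_cases b <;> simp
    refine pull h (exists_dvd_sq (p := 3) (grp n) (mem_grp n u) hu3 (v := Pi.single ((1, 1), (1, 1)) 1) ?_)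
    intro e
    have := congrFun e ((0, 0), (0, 0))
    rw [sumPow_apply, Finset.sum_apply] at this
    simp only [← map_pow, rho_apply, mulVec_single_one, Matrix.col_apply, kr_apply, hu] at this
    simp [Finset.sum_range_succ] at this
    have h16 : (2 : K) ^ 3 ^ n = 2 := by
      rw [show (2 : K) = ((2 : ℕ) : K) from rfl, ← iterateFrobenius_def, map_natCast]
    have h17 : (65 : K) ≠ 0 := by
      intro h17
      exact absurd ((CharP.cast_eq_zero_iff K 3 65).1 (by exact_mod_cast h17)) (by norm_num)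
    rw [h16] at this
    norm_num at this
    exact h17 this

end CfsgLib.Recog.PSp4Kronecker
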