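import Mathlib

/-!
Finite groups of unbounded order whose element orders are the proper divisors of `p * m`.

A cyclic group of order `m` acts by translation on the functions from itself with sum zero and
values in a large elementary abelian `p`-group.  A generator fixes only zero, while every other
element fixes a non-zero vector.
-/

set_option autoImplicit false

namespace CfsgLib.Recog.ProperDivisorSpectrum

variable (p m K : ℕ) [NeZero m]

/-- The coefficient group. -/
abbrev Coef : Type := Fin K → ZMod p

/-- Sum of all values. -/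
def total : (ZMod m → Coef p K) →+ Coef p K where
  toFun f := ∑ x, f x
  map_zero' := by simp
  map_add' f g := by simp [Finset.sum_add_distrib]

/-- The functions with sum zero. -/
abbrev Aug : Type := (total p m K).ker

variable {p m K}

/-- Translation of a function. -/
def shift (c : ZMod m) : Aug p m K ≃+ Aug p m K where
  toFun f := ⟨fun x => f.1 (x + c), by
    have h : ∑ x, f.1 x = 0 := f.2
    exact (Equiv.sum_comp (Equiv.addRight c) f.1).trans h⟩
  invFun f := ⟨fun x => f.1 (x - c), by
    have h : ∑ x, f.1 x = 0 := f.2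
    exact (Equiv.sum_comp (Equiv.subRight c) f.1).trans h⟩
  left_inv f := by ext x : 2; simp
  right_inv f := by ext x : 2; simp
  map_add' f g := by ext x : 2; rfl

@[simp] theorem shift_apply (c : ZMod m) (f : Aug p m K) (x : ZMod m) :
    (shift c f).1 x = f.1 (x + c) := rfl

variable (p m K) in
/-- The translation action. -/
def translate : Multiplicative (ZMod m) →* MulAut (Multiplicative (Aug p m K)) where
  toFun c := AddEquiv.toMultiplicative (shift c.toAdd)
  map_one' := by
    refine MulEquiv.ext fun f => Multiplicative.toAdd.injective ?_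
    ext x : 2
    change f.toAdd.1 (x + 0) = f.toAdd.1 x
    rw [add_zero]
  map_mul' c d := by
    refine MulEquiv.ext fun f => Multiplicative.toAdd.injective ?_
    ext x : 2
    change f.toAdd.1 (x + (c.toAdd + d.toAdd)) = f.toAdd.1 (x + c.toAdd + d.toAdd)
    rw [add_assoc]

variable (p m K) in
/-- The semidirect product. -/
abbrev Grp : Type := Multiplicative (Aug p m K) ⋊[translate p m K] Multiplicative (ZMod m)

theorem pow_p_eq_one (w : Multiplicative (Aug p m K)) : w ^ p = 1 := by
  refine Multiplicative.toAdd.injective ?_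
  ext x : 2
  simp only [toAdd_pow, toAdd_one, AddSubgroup.coe_nsmul, Pi.smul_apply, ZeroMemClass.coe_zero,
    Pi.zero_apply]
  funext i
  simp [Pi.smul_apply, nsmul_eq_mul]

/-- A vector fixed by a generator of the translations is zero. -/
theorem eq_one_of_fixed (hpm : p.Coprime m) {c : ZMod m} (hc : addOrderOf c = m)
    {w : Multiplicative (Aug p m K)} (h : translate p m K (Multiplicative.ofAdd c) w = w) :
    w = 1 := by
  have h1 : ∀ x, w.toAdd.1 (x + c) = w.toAdd.1 x := fun x =>
    congrFun (congrArg (fun v : Multiplicative (Aug p m K) => v.toAdd.1) h) x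
  have h2 : ∀ (k : ℕ), w.toAdd.1 (k • c) = w.toAdd.1 0 := by
    intro k
    induction k with
    | zero => rw [zero_smul]
    | succ k ih => rw [succ_nsmul, h1, ih]
  have hcst : ∀ x, w.toAdd.1 x = w.toAdd.1 0 := by
    intro x
    have htop : AddSubgroup.zmultiples c = ⊤ :=
      AddSubgroup.eq_top_of_card_eq _ (by rw [Nat.card_zmultiples, hc, Nat.card_zmod])
    have hmem : x ∈ AddSubgroup.zmultiples c := htop ▸ AddSubgroup.mem_top x
    rw [← mem_multiples_iff_mem_zmultiples] at hmem
    obtain ⟨k, rfl⟩ := hmem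
    exact h2 k
  have hsum : m • w.toAdd.1 0 = 0 := by
    have := w.toAdd.2
    change ∑ x, w.toAdd.1 x = 0 at this
    simpa [hcst] using this
  have hpz : p • w.toAdd.1 0 = 0 := by
    funext i
    simp [Pi.smul_apply, nsmul_eq_mul]
  have hd : addOrderOf (w.toAdd.1 0) = 1 :=
    Nat.eq_one_of_dvd_coprimes hpm (addOrderOf_dvd_of_nsmul_eq_zero hpz)
      (addOrderOf_dvd_of_nsmul_eq_zero hsum)
  rw [AddMonoid.addOrderOf_eq_one_iff] at hd
  refine Multiplicative.toAdd.injective ?_
  ext x : 2
  rw [hcst x, hd]
  rfl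

/-- The vector `δ (x + 1) - δ x`, for `δ` the indicator of the kernel of a reduction. -/
def bump {k : ℕ} (hk : k ∣ m) (a : Coef p K) : Aug p m K :=
  ⟨fun x => (if ZMod.castHom hk (ZMod k) (x + 1) = 0 then a else 0) -
      (if ZMod.castHom hk (ZMod k) x = 0 then a else 0), by
    change ∑ x : ZMod m, ((if ZMod.castHom hk (ZMod k) (x + 1) = 0 then a else 0) -
      (if ZMod.castHom hk (ZMod k) x = 0 then a else 0)) = 0
    rw [Finset.sum_sub_distrib, sub_eq_zero]
    exact Equiv.sum_comp (Equiv.addRight (1 : ZMod m))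
      (fun x => if ZMod.castHom hk (ZMod k) x = 0 then a else 0)⟩

theorem bump_zero {k : ℕ} (hk : k ∣ m) (h1 : 1 < k) (a : Coef p K) :
    (bump hk a).1 0 = -a := by
  have : Fact (1 < k) := ⟨h1⟩
  change (if ZMod.castHom hk (ZMod k) (0 + 1) = 0 then a else 0) -
    (if ZMod.castHom hk (ZMod k) 0 = 0 then a else 0) = -a
  simp only [zero_add, map_one, map_zero, one_ne_zero, if_false, if_true, zero_sub]

theorem shift_bump {k : ℕ} (hk : k ∣ m) (a : Coef p K) :
    shift (k : ZMod m) (bump hk a) = bump hk a := by
  ext x : 2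
  rw [shift_apply]
  change (if ZMod.castHom hk (ZMod k) (x + k + 1) = 0 then a else 0) -
    (if ZMod.castHom hk (ZMod k) (x + k) = 0 then a else 0) = _
  simp only [map_add, map_natCast, ZMod.natCast_self, add_zero]
  rw [← map_add]
  rfl

theorem orderOf_right_dvd (g : Grp p m K) : orderOf g.right ∣ orderOf g :=
  orderOf_map_dvd SemidirectProduct.rightHom g

theorem orderOf_dvd_mul_right (g : Grp p m K) : orderOf g ∣ p * orderOf g.right := by
  have h : SemidirectProduct.rightHom (g ^ orderOf g.right) = 1 := by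
    rw [map_pow]
    exact pow_orderOf_eq_one _
  obtain ⟨w, hw⟩ : ∃ w, SemidirectProduct.inl w = g ^ orderOf g.right := by
    refine ⟨(g ^ orderOf g.right).left, SemidirectProduct.ext ?_ ?_⟩
    · rw [SemidirectProduct.left_inl]
    · rw [SemidirectProduct.right_inl]
      exact h.symm
  refine orderOf_dvd_of_pow_eq_one ?_
  rw [mul_comm, pow_mul, ← hw, ← map_pow, pow_p_eq_one, map_one]

theorem orderOf_right_dvd_m (g : Grp p m K) : orderOf g.right ∣ m := by
  have := orderOf_dvd_natCard g.right
  rwa [Nat.card_congr Multiplicative.toAdd, Nat.card_zmod] at this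

/-- No element has order `p * m`. -/
theorem orderOf_ne (hp : p.Prime) (hpm : p.Coprime m) (g : Grp p m K) : orderOf g ≠ p * m := by
  intro h
  have hd : orderOf g.right = m := by
    refine Nat.dvd_antisymm (orderOf_right_dvd_m g) ?_
    have h' := orderOf_dvd_mul_right g
    rw [h] at h'
    exact Nat.dvd_of_mul_dvd_mul_left hp.pos h'
  obtain ⟨w, hw⟩ : ∃ w, SemidirectProduct.inl w = g ^ m := by
    refine ⟨(g ^ m).left, SemidirectProduct.ext ?_ ?_⟩
    · rw [SemidirectProduct.left_inl]
    · rw [SemidirectProduct.right_inl]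
      change 1 = SemidirectProduct.rightHom (g ^ m)
      rw [map_pow]
      change 1 = g.right ^ m
      exact (orderOf_dvd_iff_pow_eq_one.1 hd.dvd).symm
  have hc : g * SemidirectProduct.inl w = SemidirectProduct.inl w * g := by
    rw [hw]
    exact (Commute.self_pow g m).eq
  have hl := congrArg SemidirectProduct.left hc
  simp only [SemidirectProduct.mul_left, SemidirectProduct.left_inl, SemidirectProduct.right_inl,
    map_one, MulAut.one_apply] at hl
  rw [mul_comm w g.left] at hl
  have hw1 : w = 1 := eq_one_of_fixed hpm (c := g.right.toAdd)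
    (by rw [← orderOf_ofAdd_eq_addOrderOf, ofAdd_toAdd, hd])
    (by rw [ofAdd_toAdd]; exact mul_left_cancel hl)
  have hgm : g ^ m = 1 := by rw [← hw, hw1, map_one]
  have hle := Nat.le_of_dvd (NeZero.pos m) (h ▸ orderOf_dvd_of_pow_eq_one hgm)
  nlinarith [hp.two_le, NeZero.pos m]

theorem orderOf_ofAdd_natCast {d : ℕ} (hd : d ∣ m) :
    orderOf (Multiplicative.ofAdd ((m / d : ℕ) : ZMod m)) = d := by
  rw [orderOf_ofAdd_eq_addOrderOf, ZMod.addOrderOf_coe _ (NeZero.ne m),
    Nat.gcd_eq_right (Nat.div_dvd_of_dvd hd), Nat.div_div_self hd (NeZero.ne m)]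

/-- Every proper divisor of `p * m` is an order. -/
theorem exists_orderOf (hp : p.Prime) (hpm : p.Coprime m) (hK : 0 < K) {D : ℕ} (hD : D ∣ p * m)
    (hne : D ≠ p * m) : ∃ g : Grp p m K, orderOf g = D := by
  by_cases hpD : p ∣ D
  · obtain ⟨d, rfl⟩ := hpD
    have hdm : d ∣ m := Nat.dvd_of_mul_dvd_mul_left hp.pos hD
    have hd0 : 0 < d := Nat.pos_of_dvd_of_pos hdm (NeZero.pos m)
    have hk : m / d ∣ m := Nat.div_dvd_of_dvd hdm
    have hk1 : 1 < m / d := by
      obtain ⟨k, rfl⟩ := hdm
      rw [Nat.mul_div_cancel_left _ hd0]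
      rcases k with _ | _ | k
      · exact absurd (NeZero.ne (d * 0)) (by simp)
      · exact absurd (by ring) hne
      · omega
    let v : Multiplicative (Aug p m K) := Multiplicative.ofAdd (bump hk fun _ => 1)
    let c : Multiplicative (ZMod m) := Multiplicative.ofAdd ((m / d : ℕ) : ZMod m)
    have hv : v ≠ 1 := by
      intro h
      have h0 : (bump (p := p) hk fun (_ : Fin K) => (1 : ZMod p)) = 0 := ofAdd_eq_one.1 h
      have h1 := congrArg (fun f : Aug p m K => f.1 0 ⟨0, hK⟩) h0
      have : Fact (1 < p) := ⟨hp.one_lt⟩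
      simp only [bump_zero hk hk1] at h1
      simp at h1
    have hov : orderOf (SemidirectProduct.inl v : Grp p m K) = p := by
      have := Fact.mk hp
      rw [orderOf_injective _ SemidirectProduct.inl_injective]
      exact orderOf_eq_prime (pow_p_eq_one v) hv
    have hoc : orderOf (SemidirectProduct.inr c : Grp p m K) = d := by
      rw [orderOf_injective _ SemidirectProduct.inr_injective]
      exact orderOf_ofAdd_natCast hdm
    have hfix : translate p m K c v = v := congrArg Multiplicative.ofAdd (shift_bump hk _)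
    have hcomm : Commute (SemidirectProduct.inl v : Grp p m K) (SemidirectProduct.inr c) := by
      refine SemidirectProduct.ext ?_ ?_ <;> simp [hfix]
    refine ⟨SemidirectProduct.inl v * SemidirectProduct.inr c, ?_⟩
    rw [hcomm.orderOf_mul_eq_mul_orderOf_of_coprime, hov, hoc]
    rw [hov, hoc]
    exact hpm.coprime_dvd_right hdm
  · have hDm : D ∣ m := (Nat.Coprime.dvd_of_dvd_mul_left
      ((hp.coprime_iff_not_dvd.2 hpD).symm) hD)
    refine ⟨SemidirectProduct.inr (Multiplicative.ofAdd ((m / D : ℕ) : ZMod m)), ?_⟩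
    rw [orderOf_injective _ SemidirectProduct.inr_injective]
    exact orderOf_ofAdd_natCast hDm

theorem range_orderOf (hp : p.Prime) (hpm : p.Coprime m) (hK : 0 < K) :
    Set.range (orderOf : Grp p m K → ℕ) = {D | D ∣ p * m ∧ D ≠ p * m} := by
  refine Set.ext fun D => ⟨?_, fun h => exists_orderOf hp hpm hK h.1 h.2⟩
  rintro ⟨g, rfl⟩
  exact ⟨(orderOf_dvd_mul_right g).trans (Nat.mul_dvd_mul_left p (orderOf_right_dvd_m g)),
    orderOf_ne hp hpm g⟩

omit [NeZero m] in
/-- For `p` prime and `m > 1` prime to `p` there are arbitrarily large finite groups whose element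
orders are exactly the proper divisors of `p * m`. -/
theorem exists_large_group {p m : ℕ} (hp : p.Prime) (hm : 1 < m) (hpm : p.Coprime m) (N : ℕ) :
    ∃ (H : Type) (_ : Group H) (_ : Fintype H), N < Fintype.card H ∧
      Set.range (orderOf : H → ℕ) = {D | D ∣ p * m ∧ D ≠ p * m} := by
  have : NeZero m := ⟨by omega⟩
  have := Fact.mk hp
  have : Finite (Grp p m (N + 1)) := Finite.of_equiv _ SemidirectProduct.equivProd.symm
  refine ⟨Grp p m (N + 1), inferInstance, Fintype.ofFinite _, ?_,
    range_orderOf hp hpm N.succ_pos⟩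
  rw [Fintype.card_eq_nat_card]
  have hinj : Function.Injective (fun a : Coef p (N + 1) => (SemidirectProduct.inl
      (Multiplicative.ofAdd (bump (dvd_refl m) a)) : Grp p m (N + 1))) := by
    intro a b h
    have h1 := congrArg (fun f : Aug p m (N + 1) => f.1 0)
      (Multiplicative.ofAdd.injective (SemidirectProduct.inl_injective h))
    simpa [bump_zero (dvd_refl m) hm] using h1
  refine lt_of_lt_of_le ?_ (Nat.card_le_card_of_injective _ hinj)
  rw [Nat.card_fun, Nat.card_zmod, Nat.card_fin]
  exact N.lt_succ_self.trans ((N + 1).lt_pow_self hp.one_lt)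

end CfsgLib.Recog.ProperDivisorSpectrum
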