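import Cfsg.Agent.Lib.Recog.Marggraff

/-!
Jordan sets in groups all of whose non-trivial normal subgroups are transitive.
-/

set_option autoImplicit false

namespace CfsgLib.Recog.QuasiJordan

open MulAction
open scoped Pointwise
open CfsgLib.Recog.JordanSet

variable {G Ω : Type*} [Group G] [MulAction G Ω] [FaithfulSMul G Ω] [Finite Ω]

/-- Every non-trivial normal subgroup is transitive. -/
def NormalTransitive (G Ω : Type*) [Group G] [MulAction G Ω] : Prop :=
  ∀ N : Subgroup G, N.Normal → N ≠ ⊥ → IsPretransitive ↥N Ω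

theorem isPretransitive {Γ : Set Ω} (hqp : NormalTransitive G Ω) (hΓ : IsJordan G Γ)
    (h1 : 1 < Γ.ncard) : IsPretransitive G Ω := by
  obtain ⟨x, hx, y, hy, hxy⟩ := (Set.one_lt_ncard (Set.toFinite Γ)).1 h1
  obtain ⟨g, -, hg⟩ := hΓ x hx y hy
  have hne : (⊤ : Subgroup G) ≠ ⊥ := fun h => hxy (by
    have : g ∈ (⊥ : Subgroup G) := h ▸ Subgroup.mem_top g
    rw [Subgroup.mem_bot.1 this, one_smul] at hg
    exact hg)
  have := hqp ⊤ inferInstance hne
  exact ⟨fun a b => ⟨(exists_smul_eq (⊤ : Subgroup G) a b).choose.1,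
    (exists_smul_eq (⊤ : Subgroup G) a b).choose_spec⟩⟩

/-- The elements fixing every translate of a proper non-empty subset form a trivial subgroup. -/
theorem eq_one_of_fixes_translates (hqp : NormalTransitive G Ω) {B : Set Ω} (hB : B.Nonempty)
    (hB' : B ≠ Set.univ) {g : G} (hg : ∀ t : G, g • (t • B) = t • B) : g = 1 := by
  let K : Subgroup G := ⨅ t : G, stabilizer G (t • B)
  have hK : K.Normal := ⟨fun n hn a => by
    simp only [K, Subgroup.mem_iInf, mem_stabilizer_iff] at hn ⊢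
    intro t
    rw [mul_smul, mul_smul, ← mul_smul a⁻¹ t B, hn (a⁻¹ * t), mul_smul, smul_inv_smul]⟩
  by_contra hne
  have hKne : K ≠ ⊥ := fun h => hne (Subgroup.mem_bot.1 (h ▸
    (by simpa [K, Subgroup.mem_iInf] using hg : g ∈ K)))
  have := hqp K hK hKne
  obtain ⟨x, hx⟩ := hB
  refine hB' (Set.eq_univ_of_forall fun y => ?_)
  obtain ⟨k, hk⟩ := exists_smul_eq K x y
  have h1 : (k : G) • B = B := by
    have := (Subgroup.mem_iInf.1 k.2) 1
    simpa using this
  rw [← hk, ← h1]
  exact Set.smul_mem_smul_set (a := (k : G)) hx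

/-- A proper block meeting the Jordan set is contained in it. -/
theorem block_subset (hqp : NormalTransitive G Ω) {Γ B : Set Ω} (hΓ : IsJordan G Γ)
    (h1 : 1 < Γ.ncard) (hB : IsBlock G B) (hB' : B ≠ Set.univ) {x : Ω} (hx : x ∈ Γ)
    (hxB : x ∈ B) : B ⊆ Γ ∧ B ≠ Γ := by
  have hnot : ¬ Γ ⊆ B := by
    intro hsub
    obtain ⟨a, ha, b, hb, hab⟩ := (Set.one_lt_ncard (Set.toFinite Γ)).1 h1
    obtain ⟨g, hg, hgab⟩ := hΓ a ha b hb
    refine hab ?_
    rw [← hgab, eq_one_of_fixes_translates hqp ⟨x, hxB⟩ hB' (g := g) ?_, one_smul]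
    intro t
    by_cases he : t • B = B
    · rw [he]
      exact (isBlock_iff_smul_eq_of_mem.1 hB) (hsub ha) (hgab ▸ hsub hb)
    · have hd : Disjoint (t • B) B := by
        have := (isBlock_iff_smul_eq_or_disjoint.1 hB) t
        exact this.resolve_left he
      refine Set.ext fun w => ?_
      constructor
      · rintro ⟨u, hu, rfl⟩
        change g • u ∈ t • B
        rw [hg u fun h => Set.disjoint_left.1 hd hu (hsub h)]
        exact hu
      · intro hw
        exact ⟨w, hw, hg w fun h => Set.disjoint_left.1 hd hw (hsub h)⟩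
  exact ⟨(hΓ.subset_or_subset hB hx hxB).resolve_right hnot, fun h => hnot h.ge⟩

/-- Primitivity on the Jordan set gives primitivity of the group. -/
theorem isPreprimitive_of_primitive (hqp : NormalTransitive G Ω) {Γ : Set Ω}
    (h1 : 1 < Γ.ncard)
    (hJ : IsPretransitive ↥(fixingSubgroup G Γᶜ) ↥(SubMulAction.ofFixingSubgroup G Γᶜ))
    (hJp : IsPreprimitive ↥(fixingSubgroup G Γᶜ) ↥(SubMulAction.ofFixingSubgroup G Γᶜ)) :
    IsPreprimitive G Ω := by
  have hΓ := isJordan_of_isPretransitive hJ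
  have := isPretransitive hqp hΓ h1
  refine { isTrivialBlock_of_isBlock := fun {B₀} hB₀ => ?_ }
  by_contra htriv
  rw [IsTrivialBlock, not_or] at htriv
  obtain ⟨x, hx⟩ : Γ.Nonempty := Set.nonempty_of_ncard_ne_zero (by omega)
  obtain ⟨b, hb⟩ := (Set.not_subsingleton_iff.1 htriv.1).nonempty
  obtain ⟨g, hg⟩ := exists_smul_eq G b x
  set B := g • B₀ with hBdef
  have hB : IsBlock G B := hB₀.translate g
  have hBuniv : B ≠ Set.univ := fun h => htriv.2 (by
    have := congrArg (g⁻¹ • ·) h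
    simpa [hBdef] using this)
  have hxB : x ∈ B := ⟨b, hb, hg⟩
  obtain ⟨hsub, hne⟩ := block_subset hqp hΓ h1 hB hBuniv hx hxB
  set Y := SubMulAction.ofFixingSubgroup G Γᶜ
  have hBY : IsBlock ↥(fixingSubgroup G Γᶜ) (Subtype.val ⁻¹' B : Set Y) :=
    IsBlock.subtype_val_preimage (hB.subgroup)
  rcases hJp.isTrivialBlock_of_isBlock hBY with h | h
  · refine htriv.1 ?_
    intro u hu v hv
    have hmem : ∀ u ∈ B₀, g • u ∈ Y := fun u hu =>
      (SubMulAction.mem_ofFixingSubgroup_iff G).2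
        (not_not.2 (hsub (Set.smul_mem_smul_set hu)))
    have := h (x := (⟨g • u, hmem u hu⟩ : Y)) (Set.smul_mem_smul_set hu)
      (y := (⟨g • v, hmem v hv⟩ : Y)) (Set.smul_mem_smul_set hv)
    exact smul_left_cancel g (congrArg Subtype.val this)
  · refine hne (hsub.antisymm fun u hu => ?_)
    have : (⟨u, (SubMulAction.mem_ofFixingSubgroup_iff G).2 (not_not.2 hu)⟩ : Y) ∈
        (Subtype.val ⁻¹' B : Set Y) := h ▸ Set.mem_univ _
    exact this

/-- A Jordan set smaller than half of the domain forces the alternating group. -/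
theorem alternatingGroup_le {G Ω : Type*} [Group G] [MulAction G Ω] [FaithfulSMul G Ω]
    [Fintype Ω] [DecidableEq Ω] (hqp : NormalTransitive G Ω) {Γ : Set Ω} (hΓ : IsJordan G Γ)
    (h1 : 1 < Γ.ncard) (h2 : 2 * Γ.ncard < Fintype.card Ω) :
    alternatingGroup Ω ≤ (MulAction.toPermHom G Ω).range := by
  classical
  have htr := isPretransitive hqp hΓ h1
  have : Finite G := Finite.of_injective _ (MulAction.toPerm_injective (α := G) (β := Ω))
  obtain ⟨a, ha⟩ : Γ.Nonempty := Set.nonempty_of_ncard_ne_zero (by omega)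
  have : Nontrivial Ω := Fintype.one_lt_card_iff_nontrivial.1 (by omega)
  have hne : stabilizer G a ≠ ⊤ := by
    obtain ⟨b, hb⟩ := exists_ne a
    obtain ⟨g, hg⟩ := exists_smul_eq G a b
    intro h
    exact hb (hg ▸ (h ▸ Subgroup.mem_top g : g ∈ stabilizer G a))
  obtain ⟨M, hM, hle⟩ := (eq_top_or_exists_le_coatom (stabilizer G a)).resolve_left hne
  set B : Set Ω := orbit ↥M a with hBdef
  have hB : IsBlock G B := IsBlock.of_orbit hle
  have hstab : stabilizer G B = M := stabilizer_orbit_eq hle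
  have haB : a ∈ B := mem_orbit_self a
  have hBuniv : B ≠ Set.univ := by
    intro h
    refine hM.1 ?_
    rw [← hstab, h]
    ext g
    simp
  -- the action on the translates of `B`
  set Y := orbit G B
  set Δ : Set Y := {C | (C : Set Ω) ⊆ Γ}
  have hYne : ∀ C : Y, (C : Set Ω).Nonempty := by
    rintro ⟨_, g, rfl⟩
    exact ⟨g • a, Set.smul_mem_smul_set haB⟩
  have hYblock : ∀ C : Y, IsBlock G (C : Set Ω) := by
    rintro ⟨_, g, rfl⟩
    exact hB.translate g
  have hYuniv : ∀ C : Y, (C : Set Ω) ≠ Set.univ := by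
    rintro ⟨_, g, rfl⟩ h
    refine hBuniv ?_
    have := congrArg (g⁻¹ • ·) h
    simpa using this
  have hsub : ∀ C : Y, ∀ u ∈ (C : Set Ω), u ∈ Γ → C ∈ Δ := fun C u hu hu' =>
    (block_subset hqp hΓ h1 (hYblock C) (hYuniv C) hu' hu).1
  have hfixout : ∀ g : G, (∀ z ∉ Γ, g • z = z) → ∀ C : Y, C ∉ Δ → g • C = C := by
    intro g hg C hC
    obtain ⟨u, hu⟩ := hYne C
    have hu' : u ∉ Γ := fun h => hC (hsub C u hu h)
    exact Subtype.ext ((isBlock_iff_smul_eq_of_mem.1 (hYblock C)) hu (by rwa [hg u hu']))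
  have hmeet : ∀ C D : Y, ∀ u : Ω, u ∈ (C : Set Ω) → u ∈ (D : Set Ω) → C = D := by
    intro C D u hu hu'
    obtain ⟨_, t, rfl⟩ := C
    obtain ⟨_, s, rfl⟩ := D
    refine Subtype.ext ?_
    by_contra hne'
    exact Set.disjoint_left.1 (hB hne') hu hu'
  have hJY : IsJordan G Δ := by
    intro C hC D hD
    obtain ⟨u, hu⟩ := hYne C
    obtain ⟨v, hv⟩ := hYne D
    obtain ⟨g, hg, hguv⟩ := hΓ u (hC hu) v (hD hv)
    exact ⟨g, fun E hE => hfixout g hg E hE,
      hmeet (g • C) D v (by rw [orbit.coe_smul]; exact ⟨u, hu, hguv⟩) hv⟩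
  have hfaith : FaithfulSMul G Y := ⟨fun {g g'} h => by
    refine inv_mul_eq_one.1 (eq_one_of_fixes_translates hqp ⟨a, haB⟩ hBuniv (g := g⁻¹ * g') ?_)
    intro t
    have := congrArg Subtype.val (h ⟨t • B, t, rfl⟩)
    rw [orbit.coe_smul, orbit.coe_smul] at this
    have e : ((⟨t • B, t, rfl⟩ : Y) : Set Ω) = t • B := rfl
    rw [mul_smul, ← this, inv_smul_smul]⟩
  have : Fintype Y := Fintype.ofFinite Y
  have hprimY : IsPreprimitive G Y := by
    have : Nontrivial Y := by
      by_contra h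
      rw [not_nontrivial_iff_subsingleton] at h
      refine hM.1 ?_
      rw [← hstab, eq_top_iff]
      intro g _
      exact congrArg Subtype.val (Subsingleton.elim (⟨g • B, g, rfl⟩ : Y) ⟨B, 1, one_smul _ _⟩)
    refine (isCoatom_stabilizer_iff_preprimitive G (⟨B, mem_orbit_self B⟩ : Y)).1 ?_
    have : stabilizer G (⟨B, mem_orbit_self B⟩ : Y) = M := by
      rw [← hstab]
      ext g
      rw [mem_stabilizer_iff, mem_stabilizer_iff, Subtype.ext_iff, orbit.coe_smul]
    rwa [this]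
  -- sizes
  have hbc : ∀ C : Y, (C : Set Ω).ncard = B.ncard := by
    rintro ⟨_, g, rfl⟩
    exact Set.ncard_smul_set g B
  have hdisj : Set.univ.PairwiseDisjoint fun C : Y => (C : Set Ω) := by
    intro C _ D _ hCD
    rw [Function.onFun, Set.disjoint_left]
    exact fun u hu hu' => hCD (hmeet C D u hu hu')
  have hcount : ∀ S : Finset Y, (⋃ C ∈ S, (C : Set Ω)).ncard = S.card * B.ncard := by
    intro S
    induction S using Finset.induction with
    | empty => simp
    | insert C S hC ih =>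
      rw [Finset.set_biUnion_insert, Set.ncard_union_eq ?_ (Set.toFinite _) (Set.toFinite _), ih,
        hbc, Finset.card_insert_of_notMem hC]
      · ring
      · rw [Set.disjoint_iUnion₂_right]
        exact fun D hD => hdisj (Set.mem_univ C) (Set.mem_univ D) fun h => hC (h ▸ hD)
  set S : Finset Y := Finset.univ.filter fun C => C ∈ Δ with hSdef
  have hSΔ : (S : Set Y) = Δ := by ext C; simp [hSdef]
  have hΓcard : S.card * B.ncard = Γ.ncard := by
    rw [← hcount S]
    congr 1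
    ext u
    simp only [Set.mem_iUnion, exists_prop, hSdef, Finset.mem_filter, Finset.mem_univ, true_and]
    refine ⟨fun ⟨C, hC, hu⟩ => hC hu, fun hu => ?_⟩
    obtain ⟨g, hg⟩ := exists_smul_eq G a u
    exact ⟨⟨g • B, g, rfl⟩, hsub _ u ⟨a, haB, hg⟩ hu, a, haB, hg⟩
  have hΩcard : Fintype.card Y * B.ncard = Fintype.card Ω := by
    rw [← Finset.card_univ, ← hcount Finset.univ, ← Nat.card_eq_fintype_card (α := Ω),
      ← Set.ncard_univ]
    congr 1
    refine Set.eq_univ_of_forall fun u => ?_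
    obtain ⟨g, hg⟩ := exists_smul_eq G a u
    exact Set.mem_iUnion₂.2 ⟨⟨g • B, g, rfl⟩, Finset.mem_univ _, a, haB, hg⟩
  have hbpos : 0 < B.ncard := (Set.ncard_pos (Set.toFinite B)).2 ⟨a, haB⟩
  have hS2 : 2 * S.card < Fintype.card Y := by
    by_contra h
    push Not at h
    have := Nat.mul_le_mul_right B.ncard h
    rw [hΩcard, mul_assoc, hΓcard] at this
    omega
  have hS1 : 1 < S.card := by
    by_contra h
    obtain ⟨u, hu, v, hv, huv⟩ := (Set.one_lt_ncard (Set.toFinite Γ)).1 h1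
    obtain ⟨g, hg⟩ := exists_smul_eq G a u
    set C : Y := ⟨g • B, g, rfl⟩
    have hC : C ∈ S := by simpa [hSdef] using hsub C u ⟨a, haB, hg⟩ hu
    have hS : S = {C} := Finset.eq_singleton_iff_unique_mem.2
      ⟨hC, fun D hD => Finset.card_le_one.1 (by omega) D hD C hC⟩
    have hGC : Γ.ncard = (C : Set Ω).ncard := by
      rw [← hΓcard, hS, Finset.card_singleton, one_mul, hbc]
    have hCsub : (C : Set Ω) ⊆ Γ := by
      have := Finset.mem_filter.1 hC
      exact this.2
    exact (block_subset hqp hΓ h1 (hYblock C) (hYuniv C) hu ⟨a, haB, hg⟩).2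
      (Set.eq_of_subset_of_ncard_le hCsub hGC.le)
  have halt : alternatingGroup Y ≤ (MulAction.toPermHom G Y).range :=
    Marggraff.alternatingGroup_le_range hprimY (hSΔ.symm ▸ hJY) hS1 hS2
  -- the blocks are singletons
  have hsingle : M = stabilizer G a := by
    refine le_antisymm (fun g hg => ?_) hle
    by_contra hga
    have haγ : g • a ∈ B := ⟨⟨g, hg⟩, rfl⟩
    set C : Y := ⟨B, mem_orbit_self B⟩
    have hC : C ∈ Δ := hsub C a haB ha
    obtain ⟨h, hh, hha⟩ := hΓ a ha _ (hC haγ)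
    have hhC : h • C = C := Subtype.ext ((isBlock_iff_smul_eq_of_mem.1 hB) haB (hha ▸ haγ))
    -- two blocks outside `Δ`
    have hcompl : 1 < Sᶜ.card := by
      rw [Finset.card_compl]; omega
    obtain ⟨C₁, hC₁, C₂, hC₂, hne12⟩ := Finset.one_lt_card.1 hcompl
    simp only [Finset.mem_compl, hSdef, Finset.mem_filter, Finset.mem_univ, true_and] at hC₁ hC₂
    have hne1 : C ≠ C₁ := fun e => hC₁ (e ▸ hC)
    have hne2 : C ≠ C₂ := fun e => hC₂ (e ▸ hC)
    set π : Equiv.Perm Y := Equiv.swap C C₁ * Equiv.swap C C₂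
    obtain ⟨k, hk⟩ := halt (Equiv.Perm.mem_alternatingGroup.2
      (show Equiv.Perm.sign π = 1 by
        simp [π, Equiv.Perm.sign_swap hne1, Equiv.Perm.sign_swap hne2]))
    have hkap : ∀ D : Y, k • D = π D := fun D => by rw [← hk]; rfl
    have hswap : ∀ D : Y, D ≠ C → D ≠ C₁ → D ≠ C₂ → k • D = D := fun D d0 d1 d2 => by
      rw [hkap]
      simp [π, Equiv.Perm.mul_apply, Equiv.swap_apply_of_ne_of_ne d0 d2,
        Equiv.swap_apply_of_ne_of_ne d0 d1]
    have hkC₁ : k • C₁ = C := by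
      rw [hkap]
      simp [π, Equiv.Perm.mul_apply, Equiv.swap_apply_of_ne_of_ne (Ne.symm hne1) hne12]
    have hkC₂ : k • C₂ = C₁ := by
      rw [hkap]
      simp [π, Equiv.Perm.mul_apply]
    have hkC : k • C = C₂ := by
      rw [hkap]
      simp [π, Equiv.Perm.mul_apply, Equiv.swap_apply_of_ne_of_ne (Ne.symm hne2) (Ne.symm hne12)]
    have hhC₁ : h • C₁ = C₁ := hfixout h hh C₁ hC₁
    have hhC₂ : h • C₂ = C₂ := hfixout h hh C₂ hC₂
    have hcomm : k * h = h * k := by
      refine hfaith.eq_of_smul_eq_smul fun D => ?_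
      rw [mul_smul, mul_smul]
      by_cases d0 : D = C
      · rw [d0, hhC, hkC, hhC₂]
      by_cases d1 : D = C₁
      · rw [d1, hhC₁, hkC₁, hhC]
      by_cases d2 : D = C₂
      · rw [d2, hhC₂, hkC₂, hhC₁]
      rw [hswap D d0 d1 d2, hswap]
      · exact fun e => d0 (smul_left_cancel h (e.trans hhC.symm))
      · exact fun e => d1 (smul_left_cancel h (e.trans hhC₁.symm))
      · exact fun e => d2 (smul_left_cancel h (e.trans hhC₂.symm))
    have hout : k⁻¹ • a ∉ Γ := by
      intro hin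
      have h3 : k⁻¹ • a ∈ ((C₁ : Y) : Set Ω) := by
        have : a ∈ ((k • C₁ : Y) : Set Ω) := by rw [hkC₁]; exact haB
        rw [orbit.coe_smul, Set.mem_smul_set_iff_inv_smul_mem] at this
        exact this
      exact hC₁ (hsub C₁ _ h3 hin)
    refine hga ?_
    rw [mem_stabilizer_iff, ← hha]
    calc h • a = h • k • k⁻¹ • a := by rw [smul_inv_smul]
      _ = k • h • k⁻¹ • a := by rw [← mul_smul, ← hcomm, mul_smul]
      _ = a := by rw [hh _ hout, smul_inv_smul]
  have hprim : IsPreprimitive G Ω :=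
    (isCoatom_stabilizer_iff_preprimitive G a).1 (hsingle ▸ hM)
  obtain ⟨Δ', hΔ'⟩ := Γ.toFinite.exists_finset_coe
  subst hΔ'
  rw [Set.ncard_coe_finset] at h1 h2
  exact Marggraff.alternatingGroup_le_range hprim hΓ h1 h2

end CfsgLib.Recog.QuasiJordan
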