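import Cfsg.Agent.Lib.Recog.LinearSemidirect
import Cfsg.Agent.Lib.Recog.RootPowers
import Cfsg.Agent.Lib.PSL2.Line

/-!
Arbitrarily large finite groups whose element orders are the divisors of `9`, `6`, `q - 1` and
`(q + 1) / 2`, for `q` an odd power of three: extensions of `2 × PSL₂(q)` by sums of the twisted
tensor square of the natural module, on which the central involution inverts every vector.
-/

set_option autoImplicit false
set_option linter.unusedSectionVars false

namespace CfsgLib.Recog.ReeCubeExtension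

open Matrix CfsgLib.Recog.LinearSemidirect

variable {F : Type*} [Field F] [CharP F 3]

/-- The space. -/
local notation "V" => Matrix (Fin 2) (Fin 2) F

local notation "SL" => Matrix.SpecialLinearGroup (Fin 2) F

/-- The twist by the Frobenius map. -/
def twist : SL →* SL := Matrix.SpecialLinearGroup.map (frobenius F 3)

theorem twist_trace (g : SL) :
    (twist g : Matrix (Fin 2) (Fin 2) F).trace = (g : Matrix (Fin 2) (Fin 2) F).trace ^ 3 := by
  simp [twist, Matrix.trace_fin_two, frobenius_def, add_pow_char]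

/-- The linear map of an element of `SL₂`. -/
def tmap (g : SL) : V →ₗ[F] V where
  toFun X := (g : Matrix (Fin 2) (Fin 2) F) * X * ((twist g)⁻¹ : SL)
  map_add' X Y := by simp [Matrix.mul_add, Matrix.add_mul]
  map_smul' c X := by simp

theorem tmap_mul (g g' : SL) (X : V) : tmap (g * g') X = tmap g (tmap g' X) := by
  simp [tmap, map_mul, _root_.mul_inv_rev, Matrix.mul_assoc]

theorem tmap_one (X : V) : tmap (1 : SL) X = X := by simp [tmap]

/-- The action of `SL₂`. -/
def T : SL →* (V ≃ₗ[F] V) where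
  toFun g := LinearEquiv.ofLinearMap (tmap g) (tmap g⁻¹)
    (LinearMap.ext fun X => by
      show tmap g (tmap g⁻¹ X) = X
      rw [← tmap_mul, mul_inv_cancel, tmap_one])
    (LinearMap.ext fun X => by
      show tmap g⁻¹ (tmap g X) = X
      rw [← tmap_mul, inv_mul_cancel, tmap_one])
  map_one' := LinearEquiv.ext fun X => tmap_one X
  map_mul' g g' := LinearEquiv.ext fun X => tmap_mul g g' X

theorem T_apply (g : SL) (X : V) :
    T g X = (g : Matrix (Fin 2) (Fin 2) F) * X * ((twist g)⁻¹ : SL) := rfl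

/-- Negation. -/
def negE : V ≃ₗ[F] V := LinearEquiv.neg F

theorem negE_mul_self : (negE : V ≃ₗ[F] V) * negE = 1 := LinearEquiv.ext fun X => neg_neg X

theorem negE_comm (h : V ≃ₗ[F] V) : negE * h = h * negE :=
  LinearEquiv.ext fun X => (map_neg h X).symm

theorem twist_neg (g : SL) : twist (-g) = -twist g := by
  ext i j; simp [twist, frobenius_def, Odd.neg_pow (show Odd 3 by decide)]

theorem T_neg (g : SL) : T (-g) = T g := LinearEquiv.ext fun X => by
  rw [T_apply, T_apply, twist_neg, show (-twist g)⁻¹ = -(twist g)⁻¹ from inv_neg ..]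
  simp [Matrix.SpecialLinearGroup.coe_neg]

/-- The group `2 × PSL₂(q)`. -/
def H : Subgroup (V ≃ₗ[F] V) where
  carrier := {h | ∃ g : SL, h = T g ∨ h = negE * T g}
  one_mem' := ⟨1, Or.inl (map_one T).symm⟩
  mul_mem' := by
    rintro a b ⟨g, rfl | rfl⟩ ⟨g', rfl | rfl⟩
    · exact ⟨g * g', Or.inl (map_mul T g g').symm⟩
    · refine ⟨g * g', Or.inr ?_⟩
      rw [map_mul, ← mul_assoc, ← negE_comm, mul_assoc]
    · exact ⟨g * g', Or.inr (by rw [map_mul, mul_assoc])⟩
    · refine ⟨g * g', Or.inl ?_⟩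
      rw [map_mul, negE_comm (T g), mul_assoc, ← mul_assoc negE, negE_mul_self, one_mul]
  inv_mem' := by
    rintro a ⟨g, rfl | rfl⟩
    · exact ⟨g⁻¹, Or.inl (map_inv T g).symm⟩
    · refine ⟨g⁻¹, Or.inr ?_⟩
      rw [_root_.mul_inv_rev, map_inv, inv_eq_of_mul_eq_one_right negE_mul_self, negE_comm]

/-- A scalar sign. -/
theorem apply_negE_pow (j : ℕ) (X : V) : (negE ^ j : V ≃ₗ[F] V) X = (-1 : F) ^ j • X := by
  induction j with
  | zero => simp
  | succ j ih =>
    rw [pow_succ', LinearEquiv.mul_apply, ih, pow_succ', mul_smul, neg_one_smul]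
    rfl

theorem ch (g : SL) : (g : Matrix (Fin 2) (Fin 2) F) * g =
    (g : Matrix (Fin 2) (Fin 2) F).trace • (g : Matrix (Fin 2) (Fin 2) F) - 1 := by
  have hd := g.prop
  rw [Matrix.det_fin_two] at hd
  ext i j
  fin_cases i <;> fin_cases j <;>
    simp [Matrix.mul_apply, Fin.sum_univ_two, Matrix.trace_fin_two] <;> first | linear_combination hd | linear_combination -hd | ring

/-- A fixed vector forces trace `0` or `± 1`. -/
theorem trace_of_fixed (h3 : ∀ t : F, t * t ≠ -1) (g : SL) (ε : F) (hε : ε = 1 ∨ ε = -1) {X : V}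
    (hX : X ≠ 0) (hfix : ε • T g X = X) :
    let t := (g : Matrix (Fin 2) (Fin 2) F).trace
    t = 0 ∨ t = 1 ∨ t = -1 := by
  intro t
  set a : Matrix (Fin 2) (Fin 2) F := (g : Matrix (Fin 2) (Fin 2) F)
  set b : Matrix (Fin 2) (Fin 2) F := (twist g : Matrix (Fin 2) (Fin 2) F)
  have hεε : ε * ε = 1 := by rcases hε with rfl | rfl <;> ring
  have h1 : a * X = ε • (X * b) := by
    have h2 : ε • (ε • (a * X)) = ε • (X * b) := by
      congr 1
      conv_rhs => rw [← hfix, T_apply, Matrix.smul_mul, Matrix.mul_assoc,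
        ← Matrix.SpecialLinearGroup.coe_mul, inv_mul_cancel, Matrix.SpecialLinearGroup.coe_one,
        Matrix.mul_one]
    rwa [smul_smul, hεε, one_smul] at h2
  have h2 : a * a * X = X * (b * b) := by
    rw [Matrix.mul_assoc, h1, Matrix.mul_smul, ← Matrix.mul_assoc, h1, Matrix.smul_mul, smul_smul,
      hεε, one_smul, Matrix.mul_assoc]
  rw [ch g, ch (twist g), twist_trace, Matrix.sub_mul, Matrix.mul_sub, Matrix.smul_mul,
    Matrix.mul_smul, Matrix.one_mul, Matrix.mul_one, h1, smul_smul, sub_left_inj,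
    ← sub_eq_zero, ← sub_smul] at h2
  have hXb : X * b ≠ 0 := by
    intro e
    apply hX
    calc X = X * b * ((twist g)⁻¹ : SL).1 := by
          simp only [b]
          rw [Matrix.mul_assoc, ← Matrix.SpecialLinearGroup.coe_mul, mul_inv_cancel,
            Matrix.SpecialLinearGroup.coe_one, Matrix.mul_one]
      _ = 0 := by rw [e, Matrix.zero_mul]
  have h4 : t * ε - t ^ 3 = 0 := (smul_eq_zero.1 h2).resolve_right hXb
  rcases mul_eq_zero.1 (show t * (ε - t * t) = 0 by linear_combination h4) with h | h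
  · exact Or.inl h
  · rcases hε with rfl | rfl
    · exact Or.inr (mul_self_eq_one_iff.1 (by linear_combination -h))
    · exact absurd (by linear_combination -h) (h3 t)

variable [Fintype F]

theorem sq_ne_neg_one (hq : Fintype.card F % 4 = 3) : ∀ t : F, t * t ≠ -1 := fun t ht => by
  have : IsSquare (-1 : F) := ⟨t, ht.symm⟩
  rw [FiniteField.isSquare_neg_one_iff] at this
  exact this hq

/-- The element orders of the extension. -/
def orders (q : ℕ) : Set ℕ := {d | d ∣ 6 ∨ d ∣ 9 ∨ d ∣ q - 1 ∨ d ∣ (q + 1) / 2}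

theorem T_pow_eq_one_of_center {g : SL} {k : ℕ} (h : g ^ k = 1 ∨ g ^ k = -1) : T g ^ k = 1 := by
  rw [← map_pow]
  rcases h with h | h <;> rw [h]
  · exact map_one T
  · rw [T_neg, map_one]

/-- Semisimple elements: an exponent in `orders`. -/
theorem exists_exponent (hq : Fintype.card F % 4 = 3) (g : SL) :
    ∃ k, k ∈ orders (Fintype.card F) ∧ Even k ∧ T g ^ k = 1 := by
  have : Fact (Nat.Prime 3) := ⟨Nat.prime_three⟩
  have hc : ∀ w : SL, w ∈ Subgroup.center SL → w = 1 ∨ w = -1 := by
    intro w hw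
    rw [CfsgLib.SpecLin.SLTwo.mem_center_iff'] at hw
    rcases hw with h | h
    · exact Or.inl (Subtype.ext h)
    · exact Or.inr (Subtype.ext (h.trans (by simp)))
  have h2 : (2 : F) ≠ 0 := fun h => by
    have h3 : (3 : F) = 0 := CharP.cast_eq_zero F 3
    exact one_ne_zero (show (1 : F) = 0 by linear_combination h3 - h)
  rcases CfsgLib.PSL2.sl_pow_trichotomy 3 g with h | h | h
  · refine ⟨6, Or.inl dvd_rfl, by decide, T_pow_eq_one_of_center (Or.inl ?_)⟩
    rw [show 6 = 3 * 2 from rfl, pow_mul]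
    rcases hc _ h with e | e <;> simp [e]
  · exact ⟨_, Or.inr (Or.inr (Or.inl dvd_rfl)), ⟨(Fintype.card F - 1) / 2, by omega⟩,
      T_pow_eq_one_of_center (Or.inl h)⟩
  · refine ⟨(Fintype.card F + 1) / 2, Or.inr (Or.inr (Or.inr dvd_rfl)),
      ⟨(Fintype.card F + 1) / 4, by omega⟩, T_pow_eq_one_of_center (hc _ ?_)⟩
    refine CfsgLib.PSL2.mem_center_of_sq_eq_one h2 ?_
    rw [← pow_mul, show (Fintype.card F + 1) / 2 * 2 = Fintype.card F + 1 by omega, h]

theorem mul_pow_negE (g : SL) (j : ℕ) : (negE * T g) ^ j = negE ^ j * T g ^ j :=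
  Commute.mul_pow (negE_comm (T g)) j

theorem range_subset_orders (hq : Fintype.card F % 4 = 3) :
    Set.range (orderOf : Semi (H (F := F)) → ℕ) ⊆ orders (Fintype.card F) := by
  have : Fact (Nat.Prime 3) := ⟨Nat.prime_three⟩
  have h3 := sq_ne_neg_one hq
  refine range_subset (p := 3) _ _ (fun d e hd he => ?_) ?_
  · rcases he with he | he | he | he
    · exact Or.inl (hd.trans he)
    · exact Or.inr (Or.inl (hd.trans he))
    · exact Or.inr (Or.inr (Or.inl (hd.trans he)))
    · exact Or.inr (Or.inr (Or.inr (hd.trans he)))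
  rintro h ⟨g, hg⟩
  set t := (g : Matrix (Fin 2) (Fin 2) F).trace with htdef
  by_cases ht0 : t = 0
  · refine Or.inl ⟨2, ?_, Or.inl dvd_rfl⟩
    have h2 : T g ^ 2 = 1 := by
      refine T_pow_eq_one_of_center (Or.inr (Subtype.ext ?_))
      show ((g ^ 2 : SL) : Matrix (Fin 2) (Fin 2) F) = _
      rw [pow_two, Matrix.SpecialLinearGroup.coe_mul, ch g, ← htdef, ht0, zero_smul, zero_sub]
      simp
    rcases hg with rfl | rfl
    · exact h2
    · rw [mul_pow_negE, h2, mul_one, pow_two, negE_mul_self]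
  by_cases ht1 : t = 1 ∨ t = -1
  · -- unipotent up to sign
    obtain ⟨u, hu, hTu⟩ : ∃ u : SL, (u : Matrix (Fin 2) (Fin 2) F).trace = -1 ∧ T u = T g := by
      rcases ht1 with e | e
      · exact ⟨-g, by rw [Matrix.SpecialLinearGroup.coe_neg, Matrix.trace_neg, ← htdef, e],
          T_neg g⟩
      · exact ⟨g, e, rfl⟩
    have three : ∀ Y : V, (3 : ℕ) • Y = 0 := fun Y => char_smul F Y
    set N : Matrix (Fin 2) (Fin 2) F := (u : Matrix (Fin 2) (Fin 2) F) - 1 with hN
    have hNN : N * N = 0 := by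
      have h := three (u : Matrix (Fin 2) (Fin 2) F)
      rw [show (3 : ℕ) • (u : Matrix (Fin 2) (Fin 2) F) = (u : Matrix (Fin 2) (Fin 2) F) + u + u by
        abel] at h
      rw [hN, Matrix.sub_mul, Matrix.mul_sub, Matrix.one_mul, Matrix.mul_one, ch u, hu, neg_one_smul,
        ← neg_eq_zero]
      rw [← h]; abel
    set M : Matrix (Fin 2) (Fin 2) F := (((twist u)⁻¹ : SL) : Matrix (Fin 2) (Fin 2) F) - 1 with hM
    have hMM : M * M = 0 := by
      have hb : ((twist u : SL) : Matrix (Fin 2) (Fin 2) F).trace = -1 := by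
        rw [twist_trace, hu]; ring
      have hbi : (((twist u)⁻¹ : SL) : Matrix (Fin 2) (Fin 2) F).trace = -1 := by
        rw [← hb, Matrix.SpecialLinearGroup.coe_inv, Matrix.adjugate_fin_two, Matrix.trace_fin_two,
          Matrix.trace_fin_two]
        simp [add_comm]
      have h := three (((twist u)⁻¹ : SL) : Matrix (Fin 2) (Fin 2) F)
      generalize (twist u)⁻¹ = w at hbi h hM
      rw [show (3 : ℕ) • (w : Matrix (Fin 2) (Fin 2) F) = (w : Matrix (Fin 2) (Fin 2) F) + w + w by
        abel] at h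
      rw [hM, Matrix.sub_mul, Matrix.mul_sub, Matrix.one_mul, Matrix.mul_one, ch w, hbi,
        neg_one_smul, ← neg_eq_zero]
      rw [← h]; abel
    set S : Module.End F V := (T u : V →ₗ[F] V) - 1 with hS
    have hSX : ∀ X, S X = N * X + X * M + N * X * M := by
      intro X
      rw [hS, LinearMap.sub_apply, Module.End.one_apply]
      show T u X - X = _
      rw [T_apply, show ((u : Matrix (Fin 2) (Fin 2) F)) = 1 + N by rw [hN]; abel,
        show (((twist u)⁻¹ : SL) : Matrix (Fin 2) (Fin 2) F) = 1 + M by rw [hM]; abel]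
      noncomm_ring
    have hS3 : S ^ 3 = 0 := by
      refine LinearMap.ext fun X => ?_
      show S (S (S X)) = 0
      have hS2 : S (S X) = (2 : ℕ) • (N * X * M) := by
        rw [hSX (S X), hSX X]
        have e1 : N * (N * X + X * M + N * X * M) = N * X * M := by
          simp [Matrix.mul_add, ← Matrix.mul_assoc, hNN]
        have e2 : (N * X + X * M + N * X * M) * M = N * X * M := by
          simp [Matrix.add_mul, Matrix.mul_assoc, hMM]
        rw [e1, e2, Matrix.mul_assoc N X M, Matrix.mul_assoc N (X * M) M, Matrix.mul_assoc X M M,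
          hMM, Matrix.mul_zero, Matrix.mul_zero, two_nsmul, add_zero]
      rw [hS2, map_nsmul, hSX (N * X * M)]
      simp [← Matrix.mul_assoc, hNN]
      simp [Matrix.mul_assoc, hMM]
    have hTS : (T u : V →ₗ[F] V) = 1 + S := by rw [hS]; abel
    have three' : (3 : ℕ) • S = 0 ∧ (3 : ℕ) • (S * S) = 0 :=
      ⟨LinearMap.ext fun X => three _, LinearMap.ext fun X => three _⟩
    have hu3 : T u ^ 3 = 1 := by
      refine LinearEquiv.toLinearMap_injective ?_
      rw [coe_pow_eq, hTS]
      have e : (1 + S) ^ 3 = 1 + ((3 : ℕ) • S + (3 : ℕ) • (S * S) + S ^ 3) := by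
        simp only [pow_succ, pow_zero, one_mul]; noncomm_ring
      rw [e, three'.1, three'.2, hS3, add_zero, add_zero, add_zero]
      rfl
    rcases hg with rfl | rfl
    · exact Or.inl ⟨3, hTu ▸ hu3, Or.inr (Or.inl dvd_rfl)⟩
    · refine Or.inr ⟨6, Or.inl dvd_rfl, ?_, ?_⟩
      · rw [← hTu, mul_pow_negE, show 6 = 3 * 2 from rfl, pow_mul (T u), hu3, one_pow, mul_one,
          mul_comm 3 2, pow_mul, pow_two, negE_mul_self, one_pow]
      · rw [← hTu, show 6 = 2 * 3 from rfl, sumPow_two_mul,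
          show ((negE * T u) ^ 2) = T u ^ 2 by rw [mul_pow_negE, pow_two negE, negE_mul_self, one_mul],
          sumPow, Finset.sum_range_succ, Finset.sum_range_succ, Finset.sum_range_one, pow_zero,
          pow_one, coe_pow_eq, hTS]
        have e0 : ((negE * T u : V ≃ₗ[F] V) : V →ₗ[F] V) = -(1 + S) := by
          rw [← hTS]; rfl
        rw [e0]
        rw [show (1 : Module.End F V) + -(1 + S) = -S by abel]
        have e : S * (1 + (1 + S) ^ 2 + ((1 + S) ^ 2) ^ 2) =
            ((3 : ℕ) • S + (3 : ℕ) • (S * S) + (3 : ℕ) • (S * S)) +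
              S ^ 3 * (1 + 1 + 1 + 1 + 1 + 1 + 1 + (S + S + S + S) + S * S) := by
          simp only [pow_succ, pow_zero, one_mul]; noncomm_ring
        refine (neg_mul S (1 + (1 + S) ^ 2 + ((1 + S) ^ 2) ^ 2)).trans ?_
        rw [e, three'.1, three'.2, hS3]
        simp
  · -- semisimple
    push Not at ht1
    obtain ⟨k, hk, hke, hgk⟩ := exists_exponent hq g
    refine Or.inr ⟨k, hk, ?_, sumPow_eq_zero_of_no_fixed h ?_ fun X hX => ?_⟩
    all_goals rcases hg with rfl | rfl
    · exact hgk
    · obtain ⟨j, rfl⟩ := hke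
      rw [mul_pow_negE, hgk, mul_one, ← two_mul, pow_mul, pow_two, negE_mul_self, one_pow]
    · exact hgk
    · obtain ⟨j, rfl⟩ := hke
      rw [mul_pow_negE, hgk, mul_one, ← two_mul, pow_mul, pow_two, negE_mul_self, one_pow]
    · by_contra hne
      rcases trace_of_fixed h3 g 1 (Or.inl rfl) hne (by rw [one_smul]; exact hX) with e | e | e
      exacts [ht0 e, ht1.1 e, ht1.2 e]
    · by_contra hne
      rcases trace_of_fixed h3 g (-1) (Or.inr rfl) hne (by rw [neg_one_smul]; exact hX) with e | e | e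
      exacts [ht0 e, ht1.1 e, ht1.2 e]

/-- `T g` is a sign only for central `g`. -/
theorem sign_T {g : SL} {j : ℕ} (h : negE ^ j * T g = (1 : V ≃ₗ[F] V))
    (hq : Fintype.card F % 4 = 3) : Even j ∧ (g = 1 ∨ g = -1) := by
  set ε : F := (-1 : F) ^ j with hε
  have hεε : ε = 1 ∨ ε = -1 := neg_one_pow_eq_or F j
  set a : Matrix (Fin 2) (Fin 2) F := (g : Matrix (Fin 2) (Fin 2) F)
  have key : ∀ X : V, ε • (a * X) = X * (twist g : SL).1 := by
    intro X
    have e := LinearEquiv.congr_fun h (ε • X)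
    rw [LinearEquiv.mul_apply, apply_negE_pow, map_smul, smul_smul, ← pow_add, ← two_mul, pow_mul,
      neg_one_sq, one_pow, one_smul, T_apply] at e
    have e' := congrArg (· * (twist g : SL).1) e
    simp only [Matrix.mul_assoc] at e'
    rw [← Matrix.SpecialLinearGroup.coe_mul, inv_mul_cancel, Matrix.SpecialLinearGroup.coe_one,
      Matrix.mul_one] at e'
    rw [e', LinearEquiv.coe_one, id_eq, Matrix.smul_mul, smul_smul, hε, ← pow_add, ← two_mul, pow_mul,
      neg_one_sq, one_pow, one_smul]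
  have hb : ε • a = (twist g : SL).1 := by simpa using key 1
  have hcomm : ∀ X : V, X * a = a * X := by
    intro X
    have e := key X
    rw [← hb, Matrix.mul_smul] at e
    rcases hεε with h | h <;> rw [h] at e <;> simpa using e.symm
  have hg : g ∈ Subgroup.center SL :=
    Subgroup.mem_center_iff.2 fun w => Subtype.ext (hcomm (w : Matrix (Fin 2) (Fin 2) F))
  rw [CfsgLib.SpecLin.SLTwo.mem_center_iff'] at hg
  have hg' : g = 1 ∨ g = -1 := by
    rcases hg with h | h
    · exact Or.inl (Subtype.ext h)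
    · exact Or.inr (Subtype.ext (h.trans (by simp)))
  refine ⟨?_, hg'⟩
  have hT : T g = 1 := by
    rcases hg' with rfl | rfl
    · exact map_one T
    · rw [T_neg, map_one]
  rw [hT, mul_one] at h
  by_contra hodd
  have e := LinearEquiv.congr_fun h (1 : V)
  rw [apply_negE_pow, (Nat.not_even_iff_odd.1 hodd).neg_one_pow, LinearEquiv.coe_one, id_eq, neg_one_smul]
    at e
  have h2 := congrFun (congrFun e 0) 0
  simp only [Matrix.neg_apply, Matrix.one_apply_eq] at h2
  exact sq_ne_neg_one hq 1 (by linear_combination -h2)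

theorem range_orderOf (hq : Fintype.card F % 4 = 3) :
    Set.range (orderOf : Semi (H (F := F)) → ℕ) = orders (Fintype.card F) := by
  have : Fact (Nat.Prime 3) := ⟨Nat.prime_three⟩
  have : Fact (Fintype.card F % 4 = 3) := ⟨hq⟩
  refine (range_subset_orders hq).antisymm ?_
  suffices h : ∀ e ∈ ({6, 9, Fintype.card F - 1, (Fintype.card F + 1) / 2} : Set ℕ),
      ∃ x : Semi (H (F := F)), e ∣ orderOf x by
    intro d hd
    obtain ⟨e, he, hde⟩ : ∃ e ∈ ({6, 9, Fintype.card F - 1, (Fintype.card F + 1) / 2} : Set ℕ),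
        d ∣ e := by
      rcases hd with h | h | h | h <;> exact ⟨_, by simp, h⟩
    obtain ⟨x, hx⟩ := h e he
    exact ⟨x ^ (orderOf x / d), orderOf_pow_orderOf_div (orderOf_pos x).ne' (hde.trans hx)⟩
  have hpm : ∀ (g : SL) (j : ℕ), (g ^ j = 1 ∨ g ^ j = -1) → orderOf g ∣ 2 * j := by
    intro g j h
    refine orderOf_dvd_of_pow_eq_one ?_
    rw [mul_comm, pow_mul, pow_two]
    rcases h with e | e <;> simp [e]
  set u : SL := ⟨!![1, 1; 0, 1], by simp [Matrix.det_fin_two]⟩ with hu
  have huo : orderOf u = 3 := by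
    refine orderOf_eq_prime (Subtype.ext ?_) fun e => ?_
    · show ((u ^ 3 : SL) : Matrix (Fin 2) (Fin 2) F) = 1
      rw [pow_succ, pow_two, Matrix.SpecialLinearGroup.coe_mul, Matrix.SpecialLinearGroup.coe_mul]
      have h3 : (3 : F) = 0 := CharP.cast_eq_zero F 3
      ext i j
      fin_cases i <;> fin_cases j <;>
        simp [hu, Matrix.mul_apply, Fin.sum_univ_two] <;> linear_combination h3
    · have := congrFun (congrFun (congrArg Subtype.val e) 0) 1
      simp [hu] at this
  intro e he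
  simp only [Set.mem_insert_iff, Set.mem_singleton_iff] at he
  rcases he with rfl | rfl | rfl | rfl
  · refine exists_dvd (H (F := F)) (h := negE * T u) ⟨u, Or.inr rfl⟩ fun j hj => ?_
    rw [mul_pow_negE, ← map_pow] at hj
    obtain ⟨hje, hg⟩ := sign_T hj hq
    have := huo ▸ hpm u j hg
    obtain ⟨i, rfl⟩ := hje
    omega
  · refine exists_dvd_sq (p := 3) (H (F := F)) (h := T u) ⟨u, Or.inl rfl⟩ ?_ (v := !![0, 0; 1, 0]) ?_
    · rw [← map_pow, ← huo, pow_orderOf_eq_one, map_one]
    · rw [sumPow_apply, Finset.sum_range_succ, Finset.sum_range_succ, Finset.sum_range_one, pow_zero,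
        pow_one, pow_two, LinearEquiv.coe_one, id_eq, LinearEquiv.mul_apply, T_apply, T_apply]
      have htw : twist u = u := by
        refine Subtype.ext ?_
        ext i j
        show frobenius F 3 ((u : Matrix (Fin 2) (Fin 2) F) i j) = _
        fin_cases i <;> fin_cases j <;> simp [hu]
      have hui : u⁻¹ = ⟨!![1, -1; 0, 1], by simp [Matrix.det_fin_two]⟩ :=
        inv_eq_of_mul_eq_one_right (Subtype.ext (by
          show (!![1, 1; 0, 1] : Matrix (Fin 2) (Fin 2) F) * !![1, -1; 0, 1] = 1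
          ext i j
          fin_cases i <;> fin_cases j <;> simp [Matrix.mul_apply, Fin.sum_univ_two]))
      rw [htw, hui]
      intro h
      have h3 : (3 : F) = 0 := CharP.cast_eq_zero F 3
      have h01 := congrFun (congrFun h 0) 1
      simp [hu, Matrix.mul_apply, Fin.sum_univ_two] at h01
      exact one_ne_zero (show (1 : F) = 0 by linear_combination h01 + 2 * h3)
  · obtain ⟨g, hg⟩ := CfsgLib.Recog.RootPowers.exists_orderOf_sub_one (F := F)
    refine exists_dvd (H (F := F)) (h := negE * T g) ⟨g, Or.inr rfl⟩ fun j hj => ?_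
    rw [mul_pow_negE, ← map_pow] at hj
    obtain ⟨hje, hgj⟩ := sign_T hj hq
    have hdvd := hpm g j hgj
    rw [hg, Nat.card_eq_fintype_card] at hdvd
    obtain ⟨c, hc⟩ : 2 ∣ Fintype.card F - 1 := by omega
    rw [hc] at hdvd ⊢
    have hcj : c ∣ j := (Nat.mul_dvd_mul_iff_left (by norm_num : 0 < 2)).1 hdvd
    exact Nat.Coprime.mul_dvd_of_dvd_of_dvd
      ((Nat.Prime.coprime_iff_not_dvd Nat.prime_two).2 (by omega)) (even_iff_two_dvd.1 hje) hcj
  · obtain ⟨g, hg⟩ := CfsgLib.Recog.RootPowers.exists_orderOf_add_one (F := F)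
    refine exists_dvd (H (F := F)) (h := T g) ⟨g, Or.inl rfl⟩ fun j hj => ?_
    rw [← map_pow] at hj
    obtain ⟨-, hgj⟩ := sign_T (j := 0) (by rw [pow_zero, one_mul]; exact hj) hq
    have hdvd := hpm g j hgj
    rw [hg, Nat.card_eq_fintype_card] at hdvd
    obtain ⟨c, hc⟩ : 2 ∣ Fintype.card F + 1 := by omega
    rw [hc] at hdvd ⊢
    rw [Nat.mul_div_cancel_left _ (by norm_num : 0 < 2)]
    exact (Nat.mul_dvd_mul_iff_left (by norm_num : 0 < 2)).1 hdvd

/-- Arbitrarily large groups with these element orders. -/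
theorem exists_large (hq : Fintype.card F % 4 = 3) (N : ℕ) :
    ∃ (G : Type) (_ : Group G) (_ : Fintype G), N < Fintype.card G ∧
      Set.range (orderOf : G → ℕ) = orders (Fintype.card F) := by
  obtain ⟨G, i1, i2, hN, hr⟩ := LinearSemidirect.exists_large (H (F := F)) N
  exact ⟨G, i1, i2, hN, hr.trans (range_orderOf hq)⟩

end CfsgLib.Recog.ReeCubeExtension
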