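import Mathlib
import Cfsg.Agent.Lib.OrderType.Basic

/-!
The sets of numbers of elements of each order in the alternating groups of degree 4, 5 and 6.
-/

set_option autoImplicit false

namespace CfsgLib.Recog.SmallAltData

open CfsgLib.OrderType

/-- The numbers of elements with each computed order. -/
def counts (n : ℕ) : Finset ℕ :=
  let M := (Finset.univ : Finset (alternatingGroup (Fin n))).val.map fun g => ordAux g 7 g 1
  M.toFinset.image fun m => M.count m

theorem image_cnt_eq (n : ℕ) (h : ∀ g : alternatingGroup (Fin n), ordAux g 7 g 1 ≠ 0) :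
    ((fun m : ℕ => Nat.card {g : ↥(alternatingGroup (Fin n)) // orderOf g = m}) ''
      Set.range (orderOf : ↥(alternatingGroup (Fin n)) → ℕ)) = ↑(counts n) := by
  classical
  have hord : ∀ g : alternatingGroup (Fin n), orderOf g = ordAux g 7 g 1 := fun g =>
    ordAux_spec g 7 g 1 (pow_one g).symm (fun j h1 h2 => absurd h2 (by omega)) le_rfl (h g)
  set M := (Finset.univ : Finset (alternatingGroup (Fin n))).val.map fun g => ordAux g 7 g 1
    with hM
  have hc : ∀ m, Nat.card {g : ↥(alternatingGroup (Fin n)) // orderOf g = m} = M.count m := by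
    intro m
    rw [Nat.card_eq_fintype_card, Fintype.card_subtype, hM, Multiset.count_map]
    simp only [← hord]
    rw [← Finset.filter_val, ← Finset.card_def]
    congr 1
    ext g
    simp [eq_comm]
  have hr : Set.range (orderOf : ↥(alternatingGroup (Fin n)) → ℕ) = ↑M.toFinset := by
    ext m
    simp [hM, hord, Set.mem_range]
  rw [hr]
  rw [show counts n = M.toFinset.image (fun m => M.count m) from rfl]
  rw [Finset.coe_image]
  exact Set.image_congr fun m _ => hc m

theorem counts_four : counts 4 = {1, 3, 8} := by decide +kernel
theorem counts_five : counts 5 = {1, 15, 20, 24} := by decide +kernel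
theorem counts_six : counts 6 = {1, 45, 80, 90, 144} := by decide +kernel
theorem aux_four : ∀ g : alternatingGroup (Fin 4), ordAux g 7 g 1 ≠ 0 := by decide +kernel
theorem aux_five : ∀ g : alternatingGroup (Fin 5), ordAux g 7 g 1 ≠ 0 := by decide +kernel
theorem aux_six : ∀ g : alternatingGroup (Fin 6), ordAux g 7 g 1 ≠ 0 := by decide +kernel

end CfsgLib.Recog.SmallAltData
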