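import Mathlib
import Cfsg.Agent.Lib.Recog.Companion

/-!
The element orders of PSL(3,3).
-/

namespace CfsgLib.Recog.SL33

open Companion

/-- The order list. -/
def ords : List ℕ := [1, 2, 3, 4, 6, 8, 13]

theorem mem_ords_of_dvd : ∀ d : ℕ, (d ∣ 13 ∨ d ∣ 8 ∨ d ∣ 6) → d ∈ ords := by
  intro d hd
  have hd0 : d ≠ 0 := by rintro rfl; simp at hd
  have hle : d ≤ 13 := by
    rcases hd with h | h | h <;> have := Nat.le_of_dvd (by norm_num) h <;> omega
  interval_cases d <;> first | exact absurd rfl hd0 | (revert hd; decide)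

theorem cases_decide : ∀ a b : ZMod 3,
    iter3 a b 1 13 = (0, 0, 1) ∨ iter3 a b 1 8 = (0, 0, 1) ∨ iter3 a b 1 6 = (0, 0, 1) := by
  decide +kernel

theorem pow_cases (g : Matrix.SpecialLinearGroup (Fin 3) (ZMod 3)) :
    g ^ 13 = 1 ∨ g ^ 8 = 1 ∨ g ^ 6 = 1 := by
  set M : Matrix (Fin 3) (Fin 3) (ZMod 3) := (g : Matrix (Fin 3) (Fin 3) (ZMod 3)) with hM
  have hdet : M.det = 1 := g.2
  have h : M ^ 3 = (RingHom.id _) M.trace • M ^ 2 + (RingHom.id _) (-M.adjugate.trace) • M +
      (RingHom.id _) (1 : ZMod 3) • 1 := by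
    simp only [RingHom.id_apply, ← hdet]
    exact cubic_identity M
  have key : ∀ k, iter3 M.trace (-M.adjugate.trace) 1 k = (0, 0, 1) → g ^ k = 1 := by
    intro k hk
    apply Subtype.ext
    rw [Matrix.SpecialLinearGroup.coe_pow, Matrix.SpecialLinearGroup.coe_one, ← hM, pow_eq_of_iter3 _ h hk]
    simp
  rcases cases_decide M.trace (-M.adjugate.trace) with h | h | h
  exacts [Or.inl (key _ h), Or.inr (Or.inl (key _ h)), Or.inr (Or.inr (key _ h))]

theorem range_orderOf_sl33 :
    Set.range (orderOf : Matrix.SpecialLinearGroup (Fin 3) (ZMod 3) → ℕ) = {k | k ∈ ords} := by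
  apply Set.Subset.antisymm
  · rintro _ ⟨g, rfl⟩
    refine mem_ords_of_dvd _ ?_
    rcases pow_cases g with h | h | h
    exacts [Or.inl (orderOf_dvd_of_pow_eq_one h), Or.inr (Or.inl (orderOf_dvd_of_pow_eq_one h)),
      Or.inr (Or.inr (orderOf_dvd_of_pow_eq_one h))]
  · let g13 : Matrix.SpecialLinearGroup (Fin 3) (ZMod 3) := ⟨!![0, 0, 1; 1, 0, 1; 0, 1, 0], by decide +kernel⟩
    let g8 : Matrix.SpecialLinearGroup (Fin 3) (ZMod 3) := ⟨!![0, 0, 1; 1, 0, 2; 0, 1, 0], by decide +kernel⟩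
    let g6 : Matrix.SpecialLinearGroup (Fin 3) (ZMod 3) := ⟨!![0, 0, 1; 1, 0, 1; 0, 1, 2], by decide +kernel⟩
    have o13 : orderOf g13 = 13 := orderOf_of_pow (by decide +kernel) (by norm_num) (by
      intro p hp hd
      obtain rfl := (Nat.prime_dvd_prime_iff_eq hp (by norm_num)).1 hd
      decide +kernel)
    have o8 : orderOf g8 = 8 := orderOf_of_pow (by decide +kernel) (by norm_num) (by
      intro p hp hd
      have : p ≤ 8 := Nat.le_of_dvd (by norm_num) hd
      interval_cases p <;> first | (norm_num at hp; done) | (norm_num at hd; done) | decide +kernel)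
    have o6 : orderOf g6 = 6 := orderOf_of_pow (by decide +kernel) (by norm_num) (by
      intro p hp hd
      have : p ≤ 6 := Nat.le_of_dvd (by norm_num) hd
      interval_cases p <;> first | (norm_num at hp; done) | (norm_num at hd; done) | decide +kernel)
    have hd : ∀ {m : ℕ} (g : Matrix.SpecialLinearGroup (Fin 3) (ZMod 3)), m ∣ orderOf g →
        m ∈ Set.range (orderOf : Matrix.SpecialLinearGroup (Fin 3) (ZMod 3) → ℕ) := fun g hm =>
      ⟨g ^ (orderOf g / _), orderOf_pow_orderOf_div (orderOf_pos g).ne' hm⟩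
    intro k hk
    change k ∈ ords at hk
    fin_cases hk
    exacts [hd g8 (by rw [o8]; norm_num), hd g8 (by rw [o8]; norm_num), hd g6 (by rw [o6]; norm_num),
      hd g8 (by rw [o8]; norm_num), ⟨g6, o6⟩, ⟨g8, o8⟩, ⟨g13, o13⟩]

theorem center_eq_bot (F : Type*) [Field F] [CharP F 3] :
    Subgroup.center (Matrix.SpecialLinearGroup (Fin 3) F) = ⊥ := by
  rw [eq_bot_iff]
  intro A hA
  rw [Subgroup.mem_bot]
  have hs := Matrix.SpecialLinearGroup.scalar_eq_self_of_mem_center hA 0
  set r := (A : Matrix (Fin 3) (Fin 3) F) 0 0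
  have hdet : (A : Matrix (Fin 3) (Fin 3) F).det = 1 := A.2
  rw [← hs] at hdet
  simp [Matrix.det_diagonal] at hdet
  haveI : Fact (Nat.Prime 3) := ⟨Nat.prime_three⟩
  have h0 : (r - 1) ^ 3 = 0 := by rw [sub_pow_char_of_commute 3 (Commute.one_right r), hdet]; simp
  have hr : r = 1 := sub_eq_zero.1 (eq_zero_of_pow_eq_zero h0)
  apply Subtype.ext
  rw [← hs, hr]
  simp

theorem range_orderOf_psl33 {F : Type*} [Field F] [Fintype F] (hF : Fintype.card F = 3) :
    Set.range (orderOf : Matrix.ProjectiveSpecialLinearGroup (Fin 3) F → ℕ) = {k | k ∈ ords} := by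
  haveI : Fact (Nat.Prime 3) := ⟨Nat.prime_three⟩
  let φ : ZMod 3 ≃+* F := ZMod.ringEquivOfPrime F Nat.prime_three hF
  haveI : CharP F 3 := charP_of_card_eq_prime_pow (f := 1) (by simp [hF])
  rw [← range_orderOf_sl33]
  let π := QuotientGroup.mk' (Subgroup.center (Matrix.SpecialLinearGroup (Fin 3) F))
  have hπ : Function.Injective π := by
    rw [← MonoidHom.ker_eq_bot_iff, QuotientGroup.ker_mk', center_eq_bot F]
  let ψ := π.comp (Matrix.SpecialLinearGroup.map φ.toRingHom)
  have hψs : Function.Surjective ψ := by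
    intro y
    obtain ⟨x, rfl⟩ := QuotientGroup.mk'_surjective _ y
    refine ⟨Matrix.SpecialLinearGroup.map φ.symm.toRingHom x, ?_⟩
    refine congrArg π ?_
    apply Subtype.ext
    ext i j
    simp
  have hψ : Function.Injective ψ := by
    intro x y h
    have h' := hπ h
    apply Subtype.ext
    ext i j
    exact φ.injective (congrArg (fun z : Matrix.SpecialLinearGroup (Fin 3) F => (z : Matrix (Fin 3) (Fin 3) F) i j) h')
  ext n
  constructor
  · rintro ⟨y, rfl⟩
    obtain ⟨x, rfl⟩ := hψs y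
    exact ⟨x, (orderOf_injective ψ hψ x).symm⟩
  · rintro ⟨x, rfl⟩
    exact ⟨ψ x, orderOf_injective ψ hψ x⟩

end CfsgLib.Recog.SL33
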