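import Cfsg.Agent.Lib.Recog.FpfSemidirect
import Cfsg.Agent.Lib.Recog.SpectrumSL3
import Cfsg.Agent.Lib.Recog.SpectrumSU3

/-!
Solvable groups isospectral to PSL(3,3) and to PSU(3,3).
-/

namespace CfsgLib.Recog.Fpf

open MatList

/-- Generator data. -/
def gaOcta : List ℕ := [0,6,0,0,3,0,0,0,0,0,0,9,0,0,11,0]
/-- Generator data. -/
def gaiOcta : List ℕ := [0,9,0,0,11,0,0,0,0,0,0,6,0,0,3,0]
/-- Generator data. -/
def gbOcta : List ℕ := [2,0,3,0,0,2,0,3,2,0,10,0,0,2,0,10]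
/-- Generator data. -/
def gbiOcta : List ℕ := [10,0,10,0,0,10,0,10,11,0,2,0,0,11,0,2]
/-- All elements. -/
def elemsOcta : List (List ℕ) :=
  [[1,0,0,0,0,1,0,0,0,0,1,0,0,0,0,1],
   [0,6,0,0,3,0,0,0,0,0,0,9,0,0,11,0],
   [2,0,3,0,0,2,0,3,2,0,10,0,0,2,0,10],
   [5,0,0,0,0,5,0,0,0,0,8,0,0,0,0,8],
   [0,12,0,1,6,0,7,0,0,12,0,12,6,0,6,0],
   [0,12,0,5,6,0,9,0,0,5,0,12,9,0,6,0],
   [10,0,10,0,0,10,0,10,11,0,2,0,0,11,0,2],
   [0,4,0,0,2,0,0,0,0,0,0,7,0,0,10,0],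
   [10,0,11,0,0,10,0,11,10,0,2,0,0,10,0,2],
   [10,0,3,0,0,10,0,3,2,0,2,0,0,2,0,2],
   [0,8,0,12,4,0,6,0,0,1,0,5,7,0,9,0],
   [10,0,2,0,0,10,0,2,3,0,2,0,0,3,0,2],
   [0,0,0,7,0,0,10,0,0,9,0,0,11,0,0,0],
   [0,8,0,8,4,0,4,0,0,8,0,5,4,0,9,0],
   [12,0,0,0,0,12,0,0,0,0,12,0,0,0,0,12],
   [0,8,0,1,4,0,7,0,0,12,0,5,6,0,9,0],
   [11,0,2,0,0,11,0,2,3,0,3,0,0,3,0,3],
   [0,8,0,5,4,0,9,0,0,5,0,5,9,0,9,0],
   [0,0,12,0,0,0,0,12,1,0,0,0,0,1,0,0],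
   [11,0,10,0,0,11,0,10,11,0,3,0,0,11,0,3],
   [3,0,10,0,0,3,0,10,11,0,11,0,0,11,0,11],
   [0,0,8,0,0,0,0,8,8,0,0,0,0,8,0,0],
   [0,1,0,1,7,0,7,0,0,12,0,1,6,0,7,0],
   [11,0,11,0,0,11,0,11,10,0,3,0,0,10,0,3],
   [0,1,0,5,7,0,9,0,0,5,0,1,9,0,7,0],
   [0,7,0,0,10,0,0,0,0,0,0,4,0,0,2,0],
   [11,0,3,0,0,11,0,3,2,0,3,0,0,2,0,3],
   [0,0,0,4,0,0,2,0,0,6,0,0,3,0,0,0],
   [0,1,0,12,7,0,6,0,0,1,0,1,7,0,7,0],
   [0,5,0,12,9,0,6,0,0,1,0,8,7,0,4,0],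
   [3,0,11,0,0,3,0,11,10,0,11,0,0,10,0,11],
   [0,1,0,8,7,0,4,0,0,8,0,1,4,0,7,0],
   [3,0,3,0,0,3,0,3,2,0,11,0,0,2,0,11],
   [0,5,0,8,9,0,4,0,0,8,0,8,4,0,4,0],
   [0,0,1,0,0,0,0,1,12,0,0,0,0,12,0,0],
   [0,0,0,9,0,0,11,0,0,7,0,0,10,0,0,0],
   [0,0,5,0,0,0,0,5,5,0,0,0,0,5,0,0],
   [3,0,2,0,0,3,0,2,3,0,11,0,0,3,0,11],
   [8,0,0,0,0,8,0,0,0,0,5,0,0,0,0,5],
   [2,0,2,0,0,2,0,2,3,0,10,0,0,3,0,10],
   [0,5,0,1,9,0,7,0,0,12,0,8,6,0,4,0],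
   [2,0,10,0,0,2,0,10,11,0,10,0,0,11,0,10],
   [0,0,0,6,0,0,3,0,0,4,0,0,2,0,0,0],
   [0,5,0,5,9,0,9,0,0,5,0,8,9,0,4,0],
   [2,0,11,0,0,2,0,11,10,0,10,0,0,10,0,10],
   [0,9,0,0,11,0,0,0,0,0,0,6,0,0,3,0],
   [0,12,0,12,6,0,6,0,0,1,0,12,7,0,6,0],
   [0,12,0,8,6,0,4,0,0,8,0,12,4,0,6,0]]

/-- Generator data. -/
def gaMeta : List ℕ := [2,0,0,0,0,2,0,0,0,0,4,0,0,0,0,4]
/-- Generator data. -/
def gaiMeta : List ℕ := [4,0,0,0,0,4,0,0,0,0,2,0,0,0,0,2]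
/-- Generator data. -/
def gbMeta : List ℕ := [0,0,0,6,0,0,1,0,1,0,0,0,0,1,0,0]
/-- Generator data. -/
def gbiMeta : List ℕ := [0,0,1,0,0,0,0,1,0,1,0,0,6,0,0,0]
/-- All elements. -/
def elemsMeta : List (List ℕ) :=
  [[1,0,0,0,0,1,0,0,0,0,1,0,0,0,0,1],
   [2,0,0,0,0,2,0,0,0,0,4,0,0,0,0,4],
   [0,0,0,6,0,0,1,0,1,0,0,0,0,1,0,0],
   [4,0,0,0,0,4,0,0,0,0,2,0,0,0,0,2],
   [0,0,0,3,0,0,4,0,2,0,0,0,0,2,0,0],
   [0,0,0,5,0,0,2,0,4,0,0,0,0,4,0,0],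
   [0,6,0,0,1,0,0,0,0,0,0,6,0,0,1,0],
   [0,5,0,0,2,0,0,0,0,0,0,3,0,0,4,0],
   [0,3,0,0,4,0,0,0,0,0,0,5,0,0,2,0],
   [0,0,6,0,0,0,0,6,0,6,0,0,1,0,0,0],
   [0,0,3,0,0,0,0,3,0,5,0,0,2,0,0,0],
   [0,0,5,0,0,0,0,5,0,3,0,0,4,0,0,0],
   [6,0,0,0,0,6,0,0,0,0,6,0,0,0,0,6],
   [5,0,0,0,0,5,0,0,0,0,3,0,0,0,0,3],
   [3,0,0,0,0,3,0,0,0,0,5,0,0,0,0,5],
   [0,0,0,1,0,0,6,0,6,0,0,0,0,6,0,0],
   [0,0,0,4,0,0,3,0,5,0,0,0,0,5,0,0],
   [0,0,0,2,0,0,5,0,3,0,0,0,0,3,0,0],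
   [0,1,0,0,6,0,0,0,0,0,0,1,0,0,6,0],
   [0,2,0,0,5,0,0,0,0,0,0,4,0,0,3,0],
   [0,4,0,0,3,0,0,0,0,0,0,2,0,0,5,0],
   [0,0,1,0,0,0,0,1,0,1,0,0,6,0,0,0],
   [0,0,4,0,0,0,0,4,0,2,0,0,5,0,0,0],
   [0,0,2,0,0,0,0,2,0,4,0,0,3,0,0,0]]

theorem octa_exponent :
    elemsOcta.all (fun l => (powL 13 4 l 8 == oneL 4) || (powL 13 4 l 6 == oneL 4)) = true := by decide +kernel

theorem meta_exponent : elemsMeta.all (fun l => powL 7 4 l 24 == oneL 4) = true := by decide +kernel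

theorem order_gaOcta : toMat 13 4 (powL 13 4 gaOcta 8) = 1 ∧
    ∀ d : Fin 8, 0 < (d : ℕ) → toMat 13 4 (powL 13 4 gaOcta d) ≠ 1 := by decide +kernel

theorem order_six_octa : toMat 13 4 (powL 13 4 (mulL 13 4 (powL 13 4 gaOcta 4) gbOcta) 6) = 1 ∧
    ∀ d : Fin 6, 0 < (d : ℕ) → toMat 13 4 (powL 13 4 (mulL 13 4 (powL 13 4 gaOcta 4) gbOcta) d) ≠ 1 := by decide +kernel

theorem order_gbMeta : toMat 7 4 (powL 7 4 gbMeta 8) = 1 ∧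
    ∀ d : Fin 8, 0 < (d : ℕ) → toMat 7 4 (powL 7 4 gbMeta d) ≠ 1 := by decide +kernel

theorem order_twelve_meta : toMat 7 4 (powL 7 4 (mulL 7 4 (powL 7 4 gbMeta 2) gaMeta) 12) = 1 ∧
    ∀ d : Fin 12, 0 < (d : ℕ) → toMat 7 4 (powL 7 4 (mulL 7 4 (powL 7 4 gbMeta 2) gaMeta) d) ≠ 1 := by decide +kernel

theorem solvable_isospectral_sl33 : ∃ (H : Type) (_ : Group H) (_ : Fintype H), Group.IsSolvable H ∧
    Set.range (orderOf : H → ℕ) = {k | k ∈ SL33.ords} := by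
  haveI : Fact (Nat.Prime 13) := ⟨by norm_num⟩
  have a1 : mulL 13 4 gaOcta gaiOcta = oneL 4 := by decide +kernel
  have a2 : mulL 13 4 gaiOcta gaOcta = oneL 4 := by decide +kernel
  have a3 : mulL 13 4 gbOcta gbiOcta = oneL 4 := by decide +kernel
  have a4 : mulL 13 4 gbiOcta gbOcta = oneL 4 := by decide +kernel
  have hone : oneL 4 ∈ elemsOcta := by decide +kernel
  have hclosed : elemsOcta.all (fun l => elemsOcta.contains (mulL 13 4 gaOcta l) && elemsOcta.contains (mulL 13 4 gbOcta l)) = true := by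
    decide +kernel
  have hgood : elemsOcta.all (good 13) = true := by decide +kernel
  let A : grp a1 a2 a3 a4 := ⟨unitL 13 4 gaOcta gaiOcta a1 a2, Subgroup.subset_closure (Set.mem_insert _ _)⟩
  let B : grp a1 a2 a3 a4 := ⟨unitL 13 4 gbOcta gbiOcta a3 a4, Subgroup.subset_closure (Set.mem_insert_of_mem _ rfl)⟩
  have oA : orderOf A = 8 := orderOf_mk_list a1 a2 a3 a4 (by norm_num) A gaOcta rfl order_gaOcta.1 order_gaOcta.2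
  have hex : ∀ (g : grp a1 a2 a3 a4) (e : ℕ), orderOf g = e → e ≠ 12 ∧ e ≠ 5 ∧ e ≠ 10 := fun g e he => by
    obtain ⟨l, hl, hge⟩ := mem_list_of_mem_closure (A := unitL 13 4 gaOcta gaiOcta a1 a2)
      (B := unitL 13 4 gbOcta gbiOcta a3 a4) (ga := gaOcta) (gb := gbOcta) rfl rfl elemsOcta hone
      (fun l hl => by simpa using List.all_eq_true.1 hclosed l hl) g.2
    have hl2 := List.all_eq_true.1 octa_exponent l hl
    simp only [Bool.or_eq_true, beq_iff_eq] at hl2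
    have hd : e ∣ 8 ∨ e ∣ 6 := by
      rcases hl2 with h | h
      · left
        rw [← he]; apply orderOf_dvd_of_pow_eq_one
        apply Subtype.ext; apply Units.ext
        simp [hge, ← toMat_powL, h, toMat_oneL]
      · right
        rw [← he]; apply orderOf_dvd_of_pow_eq_one
        apply Subtype.ext; apply Units.ext
        simp [hge, ← toMat_powL, h, toMat_oneL]
    refine ⟨?_, ?_, ?_⟩ <;> rintro rfl <;> norm_num at hd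
  refine exists_solvable_isospectral a1 a2 a3 a4 (by norm_num) elemsOcta hone hclosed hgood (by decide) SL33.ords ?_ (fun ⟨g, hg⟩ => (hex g 5 hg).2.1 rfl) ?_ ⟨A, oA⟩
  · rintro d (h | ⟨k, hk1, hk, hd, g, hg⟩ | h)
    · rcases (Nat.dvd_prime (by norm_num : Nat.Prime 13)).1 h with rfl | rfl <;> decide
    · obtain ⟨q1, q2, q3⟩ := hex g d hg
      have hle : d ≤ 12 := (Nat.le_of_dvd (by omega) hd).trans (by omega)
      interval_cases d <;> first | decide | omega | (interval_cases k <;> norm_num at hd)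
    · rcases (Nat.dvd_prime Nat.prime_three).1 h with rfl | rfl <;> decide
  · intro d hd
    have o6 : orderOf ((A ^ 4 * B : grp a1 a2 a3 a4)) = 6 :=
      orderOf_mk_list a1 a2 a3 a4 (by norm_num) _ (mulL 13 4 (powL 13 4 gaOcta 4) gbOcta)
        (by rw [toMat_mulL, toMat_powL]; rfl) order_six_octa.1 order_six_octa.2
    fin_cases hd
    exacts [Or.inr ⟨A, one_dvd _⟩, Or.inr ⟨A, by rw [oA]; norm_num⟩, Or.inr ⟨_, by rw [o6]; norm_num⟩,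
      Or.inr ⟨A, by rw [oA]; norm_num⟩, Or.inr ⟨_, by rw [o6]⟩, Or.inr ⟨A, by rw [oA]⟩, Or.inl rfl]

theorem solvable_isospectral_su33 : ∃ (H : Type) (_ : Group H) (_ : Fintype H), Group.IsSolvable H ∧
    Set.range (orderOf : H → ℕ) = {k | k ∈ SU33.ords} := by
  haveI : Fact (Nat.Prime 7) := ⟨by norm_num⟩
  have a1 : mulL 7 4 gaMeta gaiMeta = oneL 4 := by decide +kernel
  have a2 : mulL 7 4 gaiMeta gaMeta = oneL 4 := by decide +kernel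
  have a3 : mulL 7 4 gbMeta gbiMeta = oneL 4 := by decide +kernel
  have a4 : mulL 7 4 gbiMeta gbMeta = oneL 4 := by decide +kernel
  have hone : oneL 4 ∈ elemsMeta := by decide +kernel
  have hclosed : elemsMeta.all (fun l => elemsMeta.contains (mulL 7 4 gaMeta l) && elemsMeta.contains (mulL 7 4 gbMeta l)) = true := by
    decide +kernel
  have hgood : elemsMeta.all (good 7) = true := by decide +kernel
  let A : grp a1 a2 a3 a4 := ⟨unitL 7 4 gaMeta gaiMeta a1 a2, Subgroup.subset_closure (Set.mem_insert _ _)⟩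
  let B : grp a1 a2 a3 a4 := ⟨unitL 7 4 gbMeta gbiMeta a3 a4, Subgroup.subset_closure (Set.mem_insert_of_mem _ rfl)⟩
  have oB : orderOf B = 8 := orderOf_mk_list a1 a2 a3 a4 (by norm_num) B gbMeta rfl order_gbMeta.1 order_gbMeta.2
  have hex : ∀ (g : grp a1 a2 a3 a4) (e : ℕ), orderOf g = e → e ≠ 5 ∧ e ≠ 10 := fun g e he => by
    obtain ⟨l, hl, hge⟩ := mem_list_of_mem_closure (A := unitL 7 4 gaMeta gaiMeta a1 a2)
      (B := unitL 7 4 gbMeta gbiMeta a3 a4) (ga := gaMeta) (gb := gbMeta) rfl rfl elemsMeta hone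
      (fun l hl => by simpa using List.all_eq_true.1 hclosed l hl) g.2
    have hl2 := List.all_eq_true.1 meta_exponent l hl
    simp only [beq_iff_eq] at hl2
    have hd : e ∣ 24 := by
      rw [← he]; apply orderOf_dvd_of_pow_eq_one
      apply Subtype.ext; apply Units.ext
      simp [hge, ← toMat_powL, hl2, toMat_oneL]
    refine ⟨?_, ?_⟩ <;> rintro rfl <;> norm_num at hd
  refine exists_solvable_isospectral a1 a2 a3 a4 (by norm_num) elemsMeta hone hclosed hgood (by decide) SU33.ords ?_ (fun ⟨g, hg⟩ => (hex g 5 hg).1 rfl) ?_ ⟨B, oB⟩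
  · rintro d (h | ⟨k, hk1, hk, hd, g, hg⟩ | h)
    · rcases (Nat.dvd_prime (by norm_num : Nat.Prime 7)).1 h with rfl | rfl <;> decide
    · obtain ⟨q1, q2⟩ := hex g d hg
      have hle : d ≤ 12 := (Nat.le_of_dvd (by omega) hd).trans (by omega)
      interval_cases d <;> first | decide | omega | (interval_cases k <;> norm_num at hd)
    · rcases (Nat.dvd_prime Nat.prime_three).1 h with rfl | rfl <;> decide
  · intro d hd
    have o12 : orderOf ((B ^ 2 * A : grp a1 a2 a3 a4)) = 12 :=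
      orderOf_mk_list a1 a2 a3 a4 (by norm_num) _ (mulL 7 4 (powL 7 4 gbMeta 2) gaMeta)
        (by rw [toMat_mulL, toMat_powL]; rfl) order_twelve_meta.1 order_twelve_meta.2
    fin_cases hd
    exacts [Or.inr ⟨B, one_dvd _⟩, Or.inr ⟨B, by rw [oB]; norm_num⟩, Or.inr ⟨_, by rw [o12]; norm_num⟩,
      Or.inr ⟨B, by rw [oB]; norm_num⟩, Or.inr ⟨_, by rw [o12]; norm_num⟩, Or.inl rfl, Or.inr ⟨B, by rw [oB]⟩,
      Or.inr ⟨_, by rw [o12]⟩]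

end CfsgLib.Recog.Fpf
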