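import Mathlib
import Cfsg.Agent.Lib.TwoFrobenius.Complement
import Cfsg.Agent.Lib.Solvable.CoprimeGeneration

/-!
If every `p`-element has order at most `p` and the centraliser of each nontrivial `p`-element is
a `p`-group, then the Sylow `p`-subgroups meet trivially.  (The same argument as in
`CentralSylowTI`, without the counting hypothesis.)
-/

set_option autoImplicit false
set_option linter.style.haveILetI false

namespace CfsgLib.Recog.SylowExponentTI

universe u

/-- Exponent and centraliser hypotheses. -/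
structure Weak (X : Type u) [Group X] (p : ℕ) : Prop where
  prime : p.Prime
  exp : ∀ v : X, (∃ k, v ^ p ^ k = 1) → v ^ p = 1
  cent : ∀ v : X, v ≠ 1 → (∃ k, v ^ p ^ k = 1) →
    IsPGroup p (Subgroup.centralizer ({v} : Set X))

variable {X : Type u} [Group X] [Finite X] {p : ℕ}

namespace Weak

variable (h : Weak X p) [Fact p.Prime]
include h

omit [Finite X] h in
theorem exists_pow_of_mem {H : Subgroup X} (hH : IsPGroup p H) {v : X} (hv : v ∈ H) :
    ∃ k, v ^ p ^ k = 1 := by
  obtain ⟨k, hk⟩ := hH ⟨v, hv⟩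
  exact ⟨k, by simpa using congrArg Subtype.val hk⟩

/-- A nontrivial `p`-element centralises no nontrivial element of order prime to `p`. -/
theorem eq_one_of_commute {v g : X} (hv : v ≠ 1) (hvp : ∃ k, v ^ p ^ k = 1)
    (hg : ¬ p ∣ orderOf g) (hc : g * v = v * g) : g = 1 := by
  obtain ⟨k, hk⟩ := IsPGroup.iff_orderOf.1 (h.cent v hv hvp)
    ⟨g, Subgroup.mem_centralizer_singleton_iff.2 hc⟩
  rw [← Subgroup.orderOf_coe] at hk
  rcases k with _ | k
  · exact orderOf_eq_one_iff.1 hk
  · exact absurd (hk ▸ dvd_pow_self p (Nat.succ_ne_zero k)) hg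

/-- Inside the normaliser of a nontrivial `p`-subgroup `D`, no nontrivial `p`-element normalises a
nontrivial subgroup of order prime to `p`. -/
theorem no_normalized {D R : Subgroup X} (hD : IsPGroup p D) (hD1 : D ≠ ⊥)
    (hRN : R ≤ Subgroup.normalizer (D : Set X)) (hR : R ≠ ⊥) (hRp : ¬ p ∣ Nat.card R)
    {v : X} (hvN : v ∈ Subgroup.normalizer (D : Set X)) (hv : v ≠ 1) (hvp : ∃ k, v ^ p ^ k = 1)
    (hvR : v ∈ Subgroup.normalizer (R : Set X)) : False := by
  classical
  haveI := Fintype.ofFinite R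
  set ND := Subgroup.normalizer (D : Set X) with hND
  haveI : Nontrivial D := (Subgroup.nontrivial_iff_ne_bot D).2 hD1
  haveI := hD.center_nontrivial
  obtain ⟨w₀, hw₀⟩ := exists_ne (1 : Subgroup.center D)
  set W := (Subgroup.center D).map D.subtype with hW
  have hWD : W ≤ D := Subgroup.map_subtype_le _
  have hWconj : ∀ g ∈ ND, ∀ y ∈ W, g * y * g⁻¹ ∈ W := by
    rintro g hg y ⟨⟨z, hzD⟩, hz, rfl⟩
    refine ⟨⟨g * z * g⁻¹, (Subgroup.mem_normalizer_iff.1 hg z).1 hzD⟩,
      Subgroup.mem_center_iff.2 fun t => Subtype.ext ?_, rfl⟩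
    have ht : g⁻¹ * t * g ∈ D := by
      simpa using (Subgroup.mem_normalizer_iff.1 (inv_mem hg) (t : X)).1 t.2
    have h1 := congrArg Subtype.val (Subgroup.mem_center_iff.1 hz ⟨_, ht⟩)
    show (t : X) * (g * z * g⁻¹) = g * z * g⁻¹ * t
    calc (t : X) * (g * z * g⁻¹) = g * (g⁻¹ * t * g * z) * g⁻¹ := by group
      _ = g * (z * (g⁻¹ * t * g)) * g⁻¹ := by rw [show g⁻¹ * (t : X) * g * z = _ from h1]; rfl
      _ = g * z * g⁻¹ * t := by group
  letI : CommGroup W :=
    { (inferInstance : Group W) with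
      mul_comm := fun a b => by
        obtain ⟨a', ha, hae⟩ := a.2
        obtain ⟨b', hb, hbe⟩ := b.2
        refine Subtype.ext ?_
        show (a : X) * b = b * a
        rw [← hae, ← hbe]
        exact congrArg Subtype.val (Subgroup.mem_center_iff.1 hb a') }
  let c : ND → W →* W := fun g =>
    { toFun := fun y => ⟨g * y * (g : X)⁻¹, hWconj g g.2 y y.2⟩
      map_one' := Subtype.ext (by simp)
      map_mul' := fun a b => Subtype.ext (by simp [mul_assoc]) }
  have hcmul : ∀ (g g' : ND) (y : W), c (g * g') y = c g (c g' y) := fun g g' y =>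
    Subtype.ext (by simp [c, mul_assoc])
  let w : W := ⟨((w₀ : D) : X), ⟨w₀, w₀.2, rfl⟩⟩
  have hw : w ≠ 1 := fun e => hw₀ (Subtype.ext (Subtype.ext (congrArg Subtype.val e :)))
  -- the norm of a nontrivial `p`-element kills `W`
  have hnorm : ∀ u : ND, (∃ k, (u : X) ^ p ^ k = 1) → ∀ y : W,
      ∏ i ∈ Finset.range p, c (u ^ i) y = 1 := by
    intro u hu y
    have key : ∀ n : ℕ, ((∏ i ∈ Finset.range n, c (u ^ i) y : W) : X) * (u : X) ^ n = ((y : X) * u) ^ n := by
      intro n
      induction n with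
      | zero => simp
      | succ n ih =>
        rw [pow_succ ((y : X) * u), ← ih, Finset.prod_range_succ, Subgroup.coe_mul]
        simp only [c, MonoidHom.coe_mk, OneHom.coe_mk, Subgroup.coe_pow, pow_succ]
        group
    have hpu : (u : X) ^ p = 1 := h.exp _ hu
    have hp' : IsPGroup p (Subgroup.zpowers (u : X)) := by
      obtain ⟨i, -, hi⟩ := (Nat.dvd_prime_pow h.prime).1
        ((orderOf_dvd_of_pow_eq_one hpu).trans (pow_one p).symm.dvd)
      exact IsPGroup.of_card (by rw [Nat.card_zpowers, hi])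
    have hsup : IsPGroup p (D ⊔ Subgroup.zpowers (u : X) : Subgroup X) :=
      hD.to_sup_of_normal_left' hp' (Subgroup.zpowers_le.2 u.2)
    have hyu : ((y : X) * u) ^ p = 1 := h.exp _ (exists_pow_of_mem hsup
      (mul_mem (Subgroup.mem_sup_left (hWD y.2))
        (Subgroup.mem_sup_right (Subgroup.mem_zpowers _))))
    have := key p
    rw [hpu, mul_one, hyu] at this
    exact Subtype.ext this
  let ι : R → ND := fun r => ⟨r, hRN r.2⟩
  -- the sum over `R` kills `W`
  have hRsum : ∀ y : W, ∏ r : R, c (ι r) y = 1 := by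
    intro y
    obtain ⟨r₀, hr₀⟩ : ∃ r : R, r ≠ 1 :=
      haveI := (Subgroup.nontrivial_iff_ne_bot R).2 hR
      exists_ne 1
    set z := ∏ r : R, c (ι r) y with hz
    have hfix : c (ι r₀) z = z := by
      rw [hz, map_prod]
      exact Fintype.prod_bijective (fun r => r₀ * r) (Group.mulLeft_bijective r₀) _ _
        fun r => (hcmul (ι r₀) (ι r) y).symm
    by_contra hz1
    apply hr₀
    have hco : ¬ p ∣ orderOf (r₀ : X) := fun hd =>
      hRp (hd.trans (Subgroup.orderOf_dvd_natCard R r₀.2))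
    exact Subtype.ext (h.eq_one_of_commute (fun e => hz1 (Subtype.ext e))
      (exists_pow_of_mem hD (hWD z.2)) hco (mul_inv_eq_iff_eq_mul.1 (congrArg Subtype.val hfix)))
  let u : ND := ⟨v, hvN⟩
  have hup : v ^ p = 1 := h.exp _ hvp
  have hconj : ∀ (i : ℕ) (r : R), v ^ i * (r : X)⁻¹ * (v ^ i)⁻¹ ∈ R := fun i r =>
    (Subgroup.mem_normalizer_iff.1 (pow_mem hvR i) _).1 (inv_mem r.2)
  -- the double product
  have hdouble : ∏ r : R, ∏ i ∈ Finset.range p, c (ι r * u ^ i * (ι r)⁻¹) w = 1 := by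
    refine Finset.prod_eq_one fun r _ => ?_
    rw [← hnorm (ι r * u * (ι r)⁻¹) ⟨1, by simp [conj_pow, u, hup]⟩ w]
    exact Finset.prod_congr rfl fun i _ => by rw [conj_pow]
  rw [Finset.prod_comm] at hdouble
  have hrest : ∀ i ∈ (Finset.range p).erase 0, ∏ r : R, c (ι r * u ^ i * (ι r)⁻¹) w = 1 := by
    intro i hi
    rw [Finset.mem_erase, Finset.mem_range] at hi
    have hvi : v ^ i ≠ 1 := fun e => hv (by
      have hcop : Nat.Coprime i p :=
        ((h.prime.coprime_iff_not_dvd).2 (Nat.not_dvd_of_pos_of_lt (Nat.pos_of_ne_zero hi.1) hi.2)).symm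
      have := pow_gcd_eq_one.2 (⟨e, hup⟩ : v ^ i = 1 ∧ v ^ p = 1)
      rwa [hcop.gcd_eq_one, pow_one] at this)
    let φ : R → R := fun r => r * ⟨_, hconj i r⟩
    have hφ : Function.Bijective φ := by
      refine Finite.injective_iff_bijective.1 fun r r' e => ?_
      have e' : (r : X) * (v ^ i * (r : X)⁻¹ * (v ^ i)⁻¹) = r' * (v ^ i * (r' : X)⁻¹ * (v ^ i)⁻¹) :=
        congrArg Subtype.val e
      have hcm : ((r' : X)⁻¹ * r) * v ^ i = v ^ i * ((r' : X)⁻¹ * r) := by
        calc ((r' : X)⁻¹ * r) * v ^ i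
            = (r' : X)⁻¹ * ((r : X) * (v ^ i * (r : X)⁻¹ * (v ^ i)⁻¹)) * v ^ i * r := by group
          _ = (r' : X)⁻¹ * ((r' : X) * (v ^ i * (r' : X)⁻¹ * (v ^ i)⁻¹)) * v ^ i * r := by rw [e']
          _ = v ^ i * ((r' : X)⁻¹ * r) := by group
      have hco : ¬ p ∣ orderOf ((r' : X)⁻¹ * r) := fun hd =>
        hRp (hd.trans (Subgroup.orderOf_dvd_natCard R (mul_mem (inv_mem r'.2) r.2)))
      have := h.eq_one_of_commute hvi ⟨1, by rw [pow_one, ← pow_mul, mul_comm, pow_mul, hup, one_pow]⟩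
        hco hcm
      exact (Subtype.ext (inv_mul_eq_one.1 this)).symm
    rw [← hRsum (c (u ^ i) w)]
    refine Fintype.prod_bijective φ hφ _ _ fun r => ?_
    rw [← hcmul]
    congr 1
    refine congrArg c (Subtype.ext ?_)
    simp only [φ, ι, u, Subgroup.coe_mul, Subgroup.coe_inv, Subgroup.coe_pow]
    group
  rw [← Finset.mul_prod_erase _ _ (Finset.mem_range.2 h.prime.pos), Finset.prod_eq_one hrest,
    mul_one] at hdouble
  have hone : w ^ Nat.card R = 1 := by
    rw [← hdouble, Nat.card_eq_fintype_card, ← Finset.card_univ, ← Finset.prod_const]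
    refine Finset.prod_congr rfl fun r _ => ?_
    simp [c, pow_zero]
  have hwp : (w : X) ^ p = 1 := h.exp _ (exists_pow_of_mem hD (hWD w.2))
  have := pow_gcd_eq_one.2 (⟨hwp, by simpa using congrArg Subtype.val hone⟩ :
    (w : X) ^ p = 1 ∧ (w : X) ^ Nat.card R = 1)
  rw [((h.prime.coprime_iff_not_dvd).2 hRp).gcd_eq_one, pow_one] at this
  exact hw (Subtype.ext this)

/-- In a subgroup of odd order of the normaliser of `D` the `p`-elements form a subgroup. -/
theorem exists_pSubgroup {D : Subgroup X} (hD : IsPGroup p D) (hD1 : D ≠ ⊥) :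
    ∀ (n : ℕ) (Y : Subgroup X), Nat.card Y ≤ n → Y ≤ Subgroup.normalizer (D : Set X) →
      Odd (Nat.card Y) →
      ∃ Q : Subgroup X, IsPGroup p Q ∧ ∀ v ∈ Y, (∃ k, v ^ p ^ k = 1) → v ∈ Q := by
  intro n
  induction n with
  | zero => intro Y hY; exact absurd hY (by have := Nat.card_pos (α := Y); omega)
  | succ n ih =>
    intro Y hYn hYN hodd
    classical
    by_cases hex : ∃ r : ℕ, r.Prime ∧ r ∣ Nat.card Y ∧ r ≠ p
    swap
    · refine ⟨Y, ?_, fun v hv _ => hv⟩
      refine IsPGroup.of_card (Nat.eq_prime_pow_of_unique_prime_dvd Nat.card_pos.ne' ?_)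
      intro r hr hrd
      by_contra hne
      exact hex ⟨r, hr, hrd, hne⟩
    obtain ⟨hrp, hrd, hrne⟩ := Nat.find_spec hex
    set r := Nat.find hex with hr
    haveI := Fact.mk hrp
    obtain ⟨R⟩ : Nonempty (Sylow r Y) := inferInstance
    have hR1 : (R : Subgroup Y) ≠ ⊥ := R.ne_bot_of_dvd_card hrd
    have hRp : ¬ p ∣ Nat.card (R : Subgroup Y) := by
      obtain ⟨i, hi⟩ := IsPGroup.iff_card.1 R.2
      rw [hi]
      exact fun hd => hrne ((Nat.prime_dvd_prime_iff_eq h.prime hrp).1 (h.prime.dvd_of_dvd_pow hd)).symm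
    have hRodd : Odd (Nat.card (R : Subgroup Y)) :=
      Odd.of_dvd_nat hodd (Subgroup.card_subgroup_dvd_card _)
    set R' := (R : Subgroup Y).map Y.subtype with hR'
    have hR'N : R' ≤ Subgroup.normalizer (D : Set X) := (Subgroup.map_subtype_le _).trans hYN
    have hR'1 : R' ≠ ⊥ := by
      rwa [hR', Ne, Subgroup.map_eq_bot_iff_of_injective _ Y.subtype_injective]
    have hR'c : Nat.card R' = Nat.card (R : Subgroup Y) :=
      Subgroup.card_map_of_injective Y.subtype_injective
    -- `R` is cyclic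
    haveI : Group.IsNilpotent (R : Subgroup Y) := R.2.isNilpotent
    haveI hcyc : IsCyclic (R : Subgroup Y) := by
      refine CfsgLib.TwoFrobenius.isCyclic_of_abelian_cyclic hRodd fun B hB => ?_
      by_contra hBc
      have hinj : Function.Injective (Y.subtype.comp (R : Subgroup Y).subtype) :=
        Y.subtype_injective.comp (Subgroup.subtype_injective _)
      set e := B.equivMapOfInjective _ hinj
      set B' := B.map (Y.subtype.comp (R : Subgroup Y).subtype) with hB'
      haveI : IsMulCommutative B' := ⟨⟨fun a b => by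
        obtain ⟨a', rfl⟩ := e.surjective a
        obtain ⟨b', rfl⟩ := e.surjective b
        rw [← map_mul, ← map_mul, hB.is_comm.comm]⟩⟩
      have hB'c : ¬ IsCyclic B' := fun hc =>
        hBc (isCyclic_of_surjective e.symm e.symm.surjective)
      have hB'R : B' ≤ R' := by
        rw [hB', hR', ← Subgroup.map_map]
        exact Subgroup.map_mono (Subgroup.map_subtype_le _)
      have hB'p : ¬ p ∣ Nat.card B' := fun hd =>
        hRp (hR'c ▸ hd.trans (Subgroup.card_dvd_of_le hB'R))
      obtain ⟨i, hi⟩ := IsPGroup.iff_card.1 hD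
      have hsup := CfsgLib.CoprimeGeneration.iSup_centralizer_eq B' D hB'c (hB'R.trans hR'N)
        (by rw [hi]; exact ((h.prime.coprime_iff_not_dvd).2 hB'p).symm.pow_right i)
      refine hD1 (eq_bot_iff.2 ?_)
      rw [← hsup]
      refine iSup₂_le fun a ha x hx => Subgroup.mem_bot.2 ?_
      by_contra hx1
      exact ha.2 (h.eq_one_of_commute hx1 (exists_pow_of_mem hD hx.1)
        (fun hd => hB'p (hd.trans (Subgroup.orderOf_dvd_natCard B' ha.1)))
        (Subgroup.mem_centralizer_singleton_iff.1 hx.2).symm)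
    -- its normaliser centralises it
    have hnoP : ∀ v ∈ Subgroup.normalizer ((R : Subgroup Y) : Set Y), orderOf v ≠ p := by
      intro v hv hvp
      refine h.no_normalized hD hD1 hR'N hR'1 (hR'c ▸ hRp) (hYN v.2)
        (fun e => h.prime.ne_one (by rw [← hvp, ← Subgroup.orderOf_coe, e, orderOf_one]))
        ⟨1, by rw [pow_one, ← hvp, ← Subgroup.orderOf_coe]; exact pow_orderOf_eq_one _⟩ ?_
      exact Subgroup.le_normalizer_map Y.subtype ⟨v, hv, rfl⟩
    have hNC : Subgroup.normalizer ((R : Subgroup Y) : Set Y) ≤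
        Subgroup.centralizer ((R : Subgroup Y) : Set Y) := by
      set N := Subgroup.normalizer ((R : Subgroup Y) : Set Y) with hN
      set θ := (R : Subgroup Y).normalizerMonoidHom
      have hker : θ.ker = (Subgroup.centralizer ((R : Subgroup Y) : Set Y)).subgroupOf N :=
        Subgroup.normalizerMonoidHom_ker _
      suffices θ.ker.index = 1 by
        intro g hg
        have hm : (⟨g, hg⟩ : N) ∈ θ.ker := Subgroup.index_eq_one.1 this ▸ Subgroup.mem_top _
        rw [hker] at hm
        exact hm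
      by_contra hne
      obtain ⟨s, hs, hsd⟩ := Nat.exists_prime_and_dvd hne
      haveI := Fact.mk hs
      have hsN : s ∣ Nat.card N := hsd.trans (Subgroup.index_dvd_card _)
      have hsp : s ≠ p := by
        rintro rfl
        obtain ⟨v, hv⟩ := exists_prime_orderOf_dvd_card' s hsN
        exact hnoP v v.2 (by rwa [Subgroup.orderOf_coe])
      have hsr : r ≤ s :=
        Nat.find_min' hex ⟨hs, hsN.trans (Subgroup.card_subgroup_dvd_card _), hsp⟩
      have hsAut : s ∣ Nat.card (MulAut (R : Subgroup Y)) := by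
        rw [Subgroup.index_ker] at hsd
        exact hsd.trans (Subgroup.card_subgroup_dvd_card _)
      obtain ⟨a, ha⟩ := IsPGroup.iff_card.1 R.2
      rw [IsCyclic.card_mulAut, ha] at hsAut
      rcases Nat.eq_zero_or_pos a with rfl | hapos
      · rw [pow_zero, Nat.totient_one] at hsAut; exact hs.not_dvd_one hsAut
      rw [Nat.totient_prime_pow hrp hapos] at hsAut
      have hsr' : s = r := by
        rcases hs.dvd_mul.1 hsAut with hd | hd
        · exact (Nat.prime_dvd_prime_iff_eq hs hrp).1 (hs.dvd_of_dvd_pow hd)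
        · have h2 := hrp.two_le
          have := Nat.le_of_dvd (by omega) hd
          omega
      subst hsr'
      refine R.not_dvd_index ?_
      have hRN' : (R : Subgroup Y) ≤ N := Subgroup.le_normalizer
      have hle : ((R : Subgroup Y)).subgroupOf N ≤ θ.ker := by
        rw [hker]
        intro x hx
        rw [Subgroup.mem_subgroupOf, Subgroup.mem_centralizer_iff] at *
        intro y hy
        letI := IsCyclic.commGroup (α := (R : Subgroup Y))
        exact congrArg Subtype.val (mul_comm (⟨y, hy⟩ : (R : Subgroup Y)) ⟨x, hx⟩)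
      exact (hsd.trans (Subgroup.index_dvd_of_le hle)).trans
        (Dvd.intro _ (Subgroup.relIndex_mul_index hRN'))
    have hcomp := MonoidHom.ker_transferSylow_isComplement' R hNC
    set M := (MonoidHom.transferSylow R hNC).ker
    have hMR := hcomp.card_mul
    have hR2 : 2 ≤ Nat.card (R : Subgroup Y) := by
      haveI := (Subgroup.nontrivial_iff_ne_bot (R : Subgroup Y)).2 hR1
      exact Finite.one_lt_card
    have hMc : Nat.card (M.map Y.subtype) = Nat.card M :=
      Subgroup.card_map_of_injective Y.subtype_injective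
    obtain ⟨Q, hQ, hQall⟩ := ih (M.map Y.subtype) (by
      have := Nat.card_pos (α := M)
      nlinarith) ((Subgroup.map_subtype_le _).trans hYN) (by
      rw [hMc]; exact Odd.of_dvd_nat hodd (Subgroup.card_subgroup_dvd_card _))
    refine ⟨Q, hQ, fun v hv hvp => hQall v ⟨⟨v, hv⟩, ?_, rfl⟩ hvp⟩
    obtain ⟨k, hk⟩ := hvp
    haveI : M.Normal := MonoidHom.normal_ker _
    have h1 : (⟨v, hv⟩ : Y) ^ M.index ∈ M := Subgroup.pow_index_mem M _
    rw [hcomp.symm.index_eq_card] at h1
    have hcop : Nat.Coprime (Nat.card (R : Subgroup Y)) (p ^ k) :=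
      ((h.prime.coprime_iff_not_dvd).2 hRp).symm.pow_right k
    have h2 : (⟨v, hv⟩ : Y) ^ p ^ k = 1 := Subtype.ext (by simpa using hk)
    have h3 := (pow_gcd_eq_one (M := Y ⧸ M) (a := QuotientGroup.mk' M ⟨v, hv⟩)).2
      ⟨by rw [← map_pow]; exact (QuotientGroup.eq_one_iff _).2 h1,
        by rw [← map_pow, h2, map_one]⟩
    rw [hcop.gcd_eq_one, pow_one] at h3
    exact (QuotientGroup.eq_one_iff _).1 h3

/-- Distinct Sylow subgroups meet trivially. -/
theorem inf_eq_bot {P P' : Sylow p X} (hne : P ≠ P') : (P : Subgroup X) ⊓ P' = ⊥ := by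
  classical
  by_contra hbot
  by_cases hp2 : p = 2
  · obtain ⟨v, ⟨hvP, hvP'⟩, hv1⟩ := (Subgroup.bot_or_exists_ne_one _).resolve_left hbot
    have hle : ∀ R : Sylow p X, v ∈ (R : Subgroup X) →
        (R : Subgroup X) ≤ Subgroup.centralizer ({v} : Set X) := by
      intro R hR y hy
      rw [Subgroup.mem_centralizer_singleton_iff]
      have hsq : ∀ z ∈ (R : Subgroup X), z * z = 1 := fun z hz => by
        have := h.exp _ (exists_pow_of_mem R.2 hz)
        rwa [hp2, pow_two] at this
      calc y * v = (y * v)⁻¹ := (inv_eq_of_mul_eq_one_left (hsq _ (mul_mem hy hR))).symm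
        _ = v⁻¹ * y⁻¹ := mul_inv_rev _ _
        _ = v * y := by rw [inv_eq_of_mul_eq_one_left (hsq _ hy), inv_eq_of_mul_eq_one_left (hsq _ hR)]
    have hC := h.cent v hv1 (exists_pow_of_mem P.2 hvP)
    exact hne (Sylow.ext ((P.is_maximal' hC (hle P hvP)).symm.trans
      (P'.is_maximal' hC (hle P' hvP'))))
  obtain ⟨⟨P₁, P₂⟩, hmem, hmax⟩ :=
    Set.exists_max_image {x : Sylow p X × Sylow p X | x.1 ≠ x.2 ∧ (x.1 : Subgroup X) ⊓ x.2 ≠ ⊥}
      (fun x => Nat.card ((x.1 : Subgroup X) ⊓ x.2 : Subgroup X)) (Set.toFinite _) ⟨(P, P'), hne, hbot⟩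
  obtain ⟨hne12, hD1⟩ := hmem
  set D := (P₁ : Subgroup X) ⊓ P₂ with hD
  have hDp : IsPGroup p D := P₁.2.to_le inf_le_left
  set ND := Subgroup.normalizer (D : Set X) with hND
  have hgrow : ∀ R : Sylow p X, D ≤ R → D ≠ R → ∃ x ∈ (R : Subgroup X), x ∈ ND ∧ x ∉ D := by
    intro R hle hneR
    haveI : Group.IsNilpotent (R : Subgroup X) := R.2.isNilpotent
    have hlt : D.subgroupOf (R : Subgroup X) < ⊤ := by
      rw [lt_top_iff_ne_top, Ne, Subgroup.subgroupOf_eq_top]
      exact fun hle' => hneR (le_antisymm hle hle')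
    have hn := Group.normalizerCondition_of_isNilpotent (G := (R : Subgroup X)) _ hlt
    obtain ⟨x, hx, hxD⟩ := SetLike.exists_of_lt hn
    refine ⟨x, x.2, ?_, hxD⟩
    rw [hND, Subgroup.mem_normalizer_iff]
    rw [Subgroup.mem_normalizer_iff] at hx
    intro y
    constructor
    · intro hy
      exact (hx ⟨y, hle hy⟩).1 hy
    · intro hy
      have hyR : y ∈ (R : Subgroup X) := by
        have := mul_mem (mul_mem (inv_mem x.2) (hle hy)) x.2
        simpa [mul_assoc] using this
      exact (hx ⟨y, hyR⟩).2 hy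
  have hDne : ∀ R R' : Sylow p X, R ≠ R' → (R : Subgroup X) ⊓ R' ≠ (R : Subgroup X) := fun R R' hRR e =>
    hRR (Sylow.ext (R.is_maximal' R'.2 (inf_eq_left.1 e)).symm)
  obtain ⟨x₁, hx₁, hx₁N, hx₁D⟩ := hgrow P₁ inf_le_left (hDne _ _ hne12)
  obtain ⟨x₂, hx₂, hx₂N, hx₂D⟩ := hgrow P₂ inf_le_right (by
    rw [hD, inf_comm]; exact hDne _ _ hne12.symm)
  -- a Sylow subgroup meeting `Pᵢ` in more than `D` equals it
  have heq : ∀ (R : Sylow p X) (Q : Sylow p X), D ≤ R → D ≤ Q → ∀ x ∈ (R : Subgroup X),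
      x ∈ (Q : Subgroup X) → x ∉ D → R = Q := by
    intro R Q hR hQ x hxR hxQ hxD
    by_contra hRQ
    have hle : D ≤ (R : Subgroup X) ⊓ Q := le_inf hR hQ
    have h1 := hmax (R, Q) ⟨hRQ, fun e => hD1 (eq_bot_iff.2 (e ▸ hle))⟩
    exact hxD ((Subgroup.eq_of_le_of_card_ge hle h1).symm ▸ ⟨hxR, hxQ⟩)
  rcases Nat.even_or_odd (Nat.card ND) with heven | hodd
  · haveI := Fact.mk Nat.prime_two
    obtain ⟨t, ht⟩ := exists_prime_orderOf_dvd_card' 2 (even_iff_two_dvd.1 heven)
    have ht2 : orderOf (t : X) = 2 := by rwa [Subgroup.orderOf_coe]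
    have htp : ¬ p ∣ orderOf (t : X) := by
      rw [ht2]; exact fun hd => hp2 ((Nat.prime_dvd_prime_iff_eq h.prime Nat.prime_two).1 hd)
    have htne : (t : X) ≠ 1 := fun e => by rw [e, orderOf_one] at ht2; omega
    have hinv : ∀ s : X, s ∈ ND → orderOf s = 2 → ∀ y ∈ D, s * y * s⁻¹ = y⁻¹ := by
      intro s hs hs2 y hy
      have hss : s * s = 1 := by rw [← pow_two, ← hs2]; exact pow_orderOf_eq_one s
      let f : D → D := fun z => z⁻¹ * ⟨s * z * s⁻¹, (Subgroup.mem_normalizer_iff.1 hs z).1 z.2⟩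
      have hfinj : Function.Injective f := by
        intro a b e
        have e' : (a : X)⁻¹ * (s * a * s⁻¹) = (b : X)⁻¹ * (s * b * s⁻¹) := congrArg Subtype.val e
        have hc : s * ((b : X) * (a : X)⁻¹) = (b : X) * (a : X)⁻¹ * s := by
          calc s * ((b : X) * (a : X)⁻¹)
              = (b : X) * ((b : X)⁻¹ * (s * b * s⁻¹)) * (s * (a : X)⁻¹ * s⁻¹) * s := by group
            _ = (b : X) * ((a : X)⁻¹ * (s * a * s⁻¹)) * (s * (a : X)⁻¹ * s⁻¹) * s := by rw [e']
            _ = (b : X) * (a : X)⁻¹ * s := by group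
        by_contra hab
        have := h.eq_one_of_commute (v := (b : X) * (a : X)⁻¹) (g := s)
          (fun e1 => hab (Subtype.ext (mul_inv_eq_one.1 e1).symm))
          (exists_pow_of_mem hDp (mul_mem b.2 (inv_mem a.2)))
          (fun hd => hp2 ((Nat.prime_dvd_prime_iff_eq h.prime Nat.prime_two).1 (hs2 ▸ hd))) hc
        rw [this, orderOf_one] at hs2
        omega
      obtain ⟨z, hz⟩ := (Finite.injective_iff_surjective.1 hfinj) ⟨y, hy⟩
      have hz' : (z : X)⁻¹ * (s * z * s⁻¹) = y := congrArg Subtype.val hz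
      rw [← hz']
      calc s * ((z : X)⁻¹ * (s * z * s⁻¹)) * s⁻¹
          = s * (z : X)⁻¹ * s⁻¹ * ((s * s) * z * (s * s)⁻¹) := by group
        _ = ((z : X)⁻¹ * (s * z * s⁻¹))⁻¹ := by rw [hss]; group
    -- the centraliser of `D` in `ND` lies in `D`
    have hK : ∀ c ∈ ND, (∀ y ∈ D, c * y = y * c) → c ∈ D := by
      intro c hc hcD
      set K := ND ⊓ Subgroup.centralizer (D : Set X) with hKdef
      obtain ⟨y₀, hy₀, hy₀1⟩ := (Subgroup.bot_or_exists_ne_one D).resolve_left hD1
      have hKp : IsPGroup p K := (h.cent y₀ hy₀1 (exists_pow_of_mem hDp hy₀)).to_le fun g hg =>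
        Subgroup.mem_centralizer_singleton_iff.2 (Subgroup.mem_centralizer_iff.1 hg.2 y₀ hy₀).symm
      have hnorm : ∀ x ∈ ND, x ∈ Subgroup.normalizer (K : Set X) := by
        intro x hx
        rw [Subgroup.mem_normalizer_iff]
        intro g
        have hsub : ∀ z ∈ ND, ∀ w ∈ K, z * w * z⁻¹ ∈ K := by
          intro z hz w hw
          refine ⟨ND.mul_mem (ND.mul_mem hz hw.1) (ND.inv_mem hz), Subgroup.mem_centralizer_iff.2 fun y hy => ?_⟩
          have hy' : z⁻¹ * y * z ∈ D := by
            simpa using (Subgroup.mem_normalizer_iff.1 (inv_mem hz) y).1 hy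
          have h1 := Subgroup.mem_centralizer_iff.1 hw.2 _ hy'
          calc y * (z * w * z⁻¹) = z * (z⁻¹ * y * z * w) * z⁻¹ := by group
            _ = z * (w * (z⁻¹ * y * z)) * z⁻¹ := by rw [h1]
            _ = z * w * z⁻¹ * y := by group
        refine ⟨fun hg => hsub x hx g hg, fun hg => ?_⟩
        have := hsub x⁻¹ (inv_mem hx) _ hg
        simpa [mul_assoc] using this
      have hin : ∀ (R : Sylow p X) (x : X), D ≤ R → x ∈ (R : Subgroup X) → x ∈ ND → x ∉ D →
          c ∈ (R : Subgroup X) := by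
        intro R x hR hxR hxN hxD
        set T := (R : Subgroup X) ⊓ ND
        have hDT : D ≤ T := le_inf hR Subgroup.le_normalizer
        have hTp : IsPGroup p T := R.2.to_le inf_le_left
        obtain ⟨Q, hQ⟩ := (hKp.to_sup_of_normal_left' hTp fun z hz => hnorm z hz.2).exists_le_sylow
        have := heq R Q hR (hDT.trans (le_sup_right.trans hQ)) x hxR
          (hQ (Subgroup.mem_sup_right ⟨hxR, hxN⟩)) hxD
        exact this ▸ hQ (Subgroup.mem_sup_left ⟨hc, Subgroup.mem_centralizer_iff.2 fun y hy => (hcD y hy).symm⟩)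
      exact ⟨hin P₁ x₁ inf_le_left hx₁ hx₁N hx₁D, hin P₂ x₂ inf_le_right hx₂ hx₂N hx₂D⟩
    set u := x₁ with hu
    have hs : u * (t : X) * u⁻¹ ∈ ND := mul_mem (mul_mem hx₁N t.2) (inv_mem hx₁N)
    have hs2 : orderOf (u * (t : X) * u⁻¹) = 2 := by
      rw [← MulAut.conj_apply, MulEquiv.orderOf_eq, ht2]
    have htt : (t : X) * t = 1 := by rw [← pow_two, ← ht2]; exact pow_orderOf_eq_one _
    set c := (t : X) * (u * t * u⁻¹) with hc
    have hcD : c ∈ D := by
      refine hK c (mul_mem t.2 hs) fun y hy => ?_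
      have h1 := hinv _ hs hs2 y hy
      have h2 := hinv _ t.2 ht2 y⁻¹ (inv_mem hy)
      rw [inv_inv] at h2
      calc c * y = (t : X) * ((u * t * u⁻¹) * y * (u * t * u⁻¹)⁻¹) * (u * t * u⁻¹) := by rw [hc]; group
        _ = (t : X) * y⁻¹ * (u * t * u⁻¹) := by rw [h1]
        _ = (t : X) * y⁻¹ * (t : X)⁻¹ * ((t : X) * (u * t * u⁻¹)) := by group
        _ = y * c := by rw [h2]
    have hco : Odd (orderOf c) := by
      obtain ⟨k, hk⟩ := exists_pow_of_mem hDp hcD
      exact Odd.of_dvd_nat ((h.prime.odd_of_ne_two hp2).pow) (orderOf_dvd_of_pow_eq_one hk)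
    obtain ⟨j, hj⟩ := hco
    set e := c ^ (j + 1) with he
    have hee : e * e = c := by
      rw [he, ← pow_add, show j + 1 + (j + 1) = orderOf c + 1 by omega, pow_succ,
        pow_orderOf_eq_one, one_mul]
    have heD : e ∈ D := pow_mem hcD _
    have hte : (t : X) * e * (t : X)⁻¹ = e⁻¹ := hinv _ t.2 ht2 e heD
    have hcm : (t : X) * (e * u) = e * u * t := by
      have h1 : u * (t : X) * u⁻¹ = e⁻¹ * t * e := by
        calc u * (t : X) * u⁻¹ = ((t : X) * t) * (u * t * u⁻¹) := by rw [htt, one_mul]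
          _ = (t : X) * c := by rw [hc, mul_assoc]
          _ = (t : X) * e * (t : X)⁻¹ * (t * e) := by rw [← hee]; group
          _ = e⁻¹ * t * e := by rw [hte]; group
      calc (t : X) * (e * u) = e * (e⁻¹ * t * e) * u := by group
        _ = e * (u * t * u⁻¹) * u := by rw [h1]
        _ = e * u * t := by group
    have heu : e * u ≠ 1 := fun e1 => hx₁D (by
      rw [eq_inv_of_mul_eq_one_right e1]; exact inv_mem heD)
    exact htne (h.eq_one_of_commute heu
      (exists_pow_of_mem P₁.2 (mul_mem heD.1 hx₁)) htp hcm)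
  · obtain ⟨Q, hQp, hQ⟩ := h.exists_pSubgroup hDp hD1 (Nat.card ND) ND le_rfl le_rfl hodd
    obtain ⟨R, hR⟩ := hQp.exists_le_sylow
    have hDR : D ≤ R := fun y hy => hR (hQ y (Subgroup.le_normalizer hy) (exists_pow_of_mem hDp hy))
    have e1 := heq P₁ R inf_le_left hDR x₁ hx₁ (hR (hQ x₁ hx₁N (exists_pow_of_mem P₁.2 hx₁))) hx₁D
    have e2 := heq P₂ R inf_le_right hDR x₂ hx₂ (hR (hQ x₂ hx₂N (exists_pow_of_mem P₂.2 hx₂))) hx₂D
    exact hne12 (e1.trans e2.symm)

end Weak

end CfsgLib.Recog.SylowExponentTI
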