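import Mathlib
import Cfsg.Agent.Lib.Recog.SylowExponentTI
import Cfsg.Agent.Lib.Recog.CentralSylowTI

/-!
In a group of order `q (q^2 - 1) / d` in which the `p`-elements have order at most `p` and have
`p`-groups as centralisers, the Sylow `p`-subgroups are abelian.
-/

set_option autoImplicit false
set_option linter.style.haveILetI false

namespace CfsgLib.Recog.SylowExponentData

universe u

open CfsgLib.Recog.SylowExponentTI

variable {X : Type u} [Group X] [Finite X] {p : ℕ} [Fact p.Prime]

/-- The Sylow count is `1` modulo the order of a Sylow subgroup. -/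
theorem card_dvd_pred (h : Weak X p) (P : Sylow p X) :
    Nat.card (P : Subgroup X) ∣ Nat.card (Sylow p X) - 1 := by
  classical
  let K : Subgroup X := (P : Subgroup X)
  have hfixP : ∀ g : X, g ∈ K → g • P = P := fun g hg =>
    Sylow.smul_eq_iff_mem_normalizer.2 (Subgroup.le_normalizer hg)
  let _ : MulAction K {R : Sylow p X // R ≠ P} :=
    { smul := fun g R => ⟨(g : X) • R.1, fun e => R.2
        (smul_left_cancel (g : X) (e.trans (hfixP _ g.2).symm))⟩
      one_smul := fun R => Subtype.ext (one_smul X R.1)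
      mul_smul := fun a b R => Subtype.ext (mul_smul (a : X) b R.1) }
  haveI := Fintype.ofFinite {R : Sylow p X // R ≠ P}
  have hstab : ∀ R : {R : Sylow p X // R ≠ P}, MulAction.stabilizer K R = ⊥ := by
    intro R
    rw [Subgroup.eq_bot_iff_forall]
    intro g hg
    have hgR : (g : X) • R.1 = R.1 := congrArg Subtype.val hg
    have hp : IsPGroup p (Subgroup.zpowers (g : X)) :=
      P.2.to_le (Subgroup.zpowers_le.2 g.2)
    have h1 : Subgroup.zpowers (g : X) ⊓ Subgroup.normalizer ((R.1 : Subgroup X) : Set X) =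
        Subgroup.zpowers (g : X) ⊓ (R.1 : Subgroup X) := hp.inf_normalizer_sylow R.1
    have h2 : (g : X) ∈ Subgroup.zpowers (g : X) ⊓
        Subgroup.normalizer ((R.1 : Subgroup X) : Set X) :=
      ⟨Subgroup.mem_zpowers _, Sylow.smul_eq_iff_mem_normalizer.1 hgR⟩
    rw [h1] at h2
    have h3 : (g : X) ∈ (R.1 : Subgroup X) ⊓ (P : Subgroup X) := ⟨h2.2, g.2⟩
    rw [h.inf_eq_bot R.2, Subgroup.mem_bot] at h3
    exact Subtype.ext h3
  have hcard : Nat.card {R : Sylow p X // R ≠ P} = Nat.card (Sylow p X) - 1 := by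
    haveI := Fintype.ofFinite (Sylow p X)
    rw [Nat.card_eq_fintype_card, Fintype.card_subtype_compl, Fintype.card_subtype_eq,
      Nat.card_eq_fintype_card]
  rw [← hcard, Nat.card_congr (MulAction.selfEquivSigmaOrbits K {R : Sylow p X // R ≠ P}),
    Nat.card_sigma]
  refine Finset.dvd_sum fun ω _ => ?_
  rw [Nat.card_coe_set_eq, ← MulAction.index_stabilizer, hstab, Subgroup.index_bot]

/-- The index of a Sylow subgroup in its normaliser divides the order of its centre minus one. -/
theorem relIndex_dvd (h : Weak X p) (P : Sylow p X) :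
    (P : Subgroup X).relIndex (Subgroup.normalizer ((P : Subgroup X) : Set X)) ∣
      Nat.card (Subgroup.center (P : Subgroup X)) - 1 := by
  classical
  set N := Subgroup.normalizer ((P : Subgroup X) : Set X) with hN
  set Y := CfsgLib.Recog.CentralSylowTI.Data.zc P with hYdef
  have hinv : ∀ g ∈ N, ∀ y ∈ Y, g * y * g⁻¹ ∈ Y := fun g hg y hy =>
    CfsgLib.Recog.CentralSylowTI.Data.conj_mem_zc hg hy
  let _ : MulAction N {y : Y // y ≠ 1} :=
    { smul := fun g y => ⟨⟨g * (y.1 : X) * (g : X)⁻¹, hinv g g.2 _ y.1.2⟩, fun e => y.2 (by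
        have e' := congrArg Subtype.val e
        refine Subtype.ext ?_
        simpa [mul_inv_eq_one] using e')⟩
      one_smul := fun y => by
        apply Subtype.ext; apply Subtype.ext
        show (1 : X) * _ * (1 : X)⁻¹ = _
        group
      mul_smul := fun a b y => by
        apply Subtype.ext; apply Subtype.ext
        show ((a : X) * b) * _ * ((a : X) * b)⁻¹ = a * (b * _ * (b : X)⁻¹) * (a : X)⁻¹
        group }
  haveI := Fintype.ofFinite {y : Y // y ≠ 1}
  have hstab : ∀ y : {y : Y // y ≠ 1},
      MulAction.stabilizer N y = (P : Subgroup X).subgroupOf N := by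
    intro y
    have hz := CfsgLib.Recog.CentralSylowTI.Data.mem_zc.1 y.1.2
    have hc : Subgroup.centralizer ({(y.1 : X)} : Set X) = (P : Subgroup X) :=
      P.is_maximal' (h.cent _ (fun e => y.2 (Subtype.ext e)) (Weak.exists_pow_of_mem P.2 hz.1))
        hz.2
    ext g
    rw [MulAction.mem_stabilizer_iff, Subgroup.mem_subgroupOf, ← hc,
      Subgroup.mem_centralizer_singleton_iff]
    constructor
    · intro e
      exact mul_inv_eq_iff_eq_mul.1 (congrArg (fun t : {y : Y // y ≠ 1} => (t.1 : X)) e)
    · intro e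
      apply Subtype.ext; apply Subtype.ext
      exact mul_inv_eq_iff_eq_mul.2 e
  have hcardY : Nat.card {y : Y // y ≠ 1} = Nat.card (Subgroup.center (P : Subgroup X)) - 1 := by
    haveI := Fintype.ofFinite Y
    rw [Nat.card_eq_fintype_card, Fintype.card_subtype_compl, Fintype.card_subtype_eq,
      ← Nat.card_eq_fintype_card, hYdef, CfsgLib.Recog.CentralSylowTI.Data.zc,
      Subgroup.card_map_of_injective (Subgroup.subtype_injective _)]
  rw [← hcardY, Nat.card_congr (MulAction.selfEquivSigmaOrbits N {y : Y // y ≠ 1}), Nat.card_sigma]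
  refine Finset.dvd_sum fun ω _ => ?_
  rw [Nat.card_coe_set_eq, ← MulAction.index_stabilizer, hstab]
  rfl

theorem data (h : Weak X p) {q A d : ℕ} (hpow : ∃ f : ℕ, 1 ≤ f ∧ q = p ^ f) (dle : d ≤ 2)
    (dA : d * A = q ^ 2 - 1) (dlt : d < q) (nA : ¬ p ∣ A) (card : Nat.card X = q * A) :
    CfsgLib.Recog.CentralSylowTI.Data X p q A d := by
  classical
  obtain ⟨f, hf, hq⟩ := hpow
  have hp := h.prime
  have hq1 : 1 < q := hq ▸ Nat.one_lt_pow (by omega) hp.one_lt
  have hA : 0 < A := Nat.pos_of_ne_zero fun e => nA (e ▸ dvd_zero p)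
  have hcP : ∀ P : Sylow p X, Nat.card (P : Subgroup X) = q := fun P => by
    rw [P.card_eq_multiplicity, card, Nat.factorization_mul (by omega) hA.ne', Finsupp.add_apply,
      Nat.factorization_eq_zero_of_not_dvd nA, add_zero, hq, hp.factorization_pow,
      Finsupp.single_eq_same]
  have habel : ∀ P : Sylow p X, ∀ a ∈ (P : Subgroup X), ∀ b ∈ (P : Subgroup X),
      a * b = b * a := by
    intro P
    set Z := Subgroup.center (P : Subgroup X) with hZ
    set c := (P : Subgroup X).relIndex (Subgroup.normalizer ((P : Subgroup X) : Set X)) with hc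
    set n := Nat.card (Sylow p X) with hn
    have hnc : n * c = A := by
      have h1 := Subgroup.relIndex_mul_index (H := (P : Subgroup X))
        (K := Subgroup.normalizer ((P : Subgroup X) : Set X)) Subgroup.le_normalizer
      have h2 := (P : Subgroup X).index_mul_card
      rw [hcP P, card] at h2
      rw [hn, Sylow.card_eq_index_normalizer P, hc, ← Sylow.coe_coe, mul_comm, h1]
      nlinarith
    have hn1 : 1 ≤ n := Nat.card_pos
    have hZq : Nat.card Z ∣ q := hcP P ▸ Subgroup.card_subgroup_dvd_card Z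
    have hZ1 : 1 < Nat.card Z := by
      haveI : Nontrivial (P : Subgroup X) :=
        Finite.one_lt_card_iff_nontrivial.1 (by rw [hcP P]; exact hq1)
      haveI := P.2.center_nontrivial
      exact Finite.one_lt_card
    have hcZ : c ≤ Nat.card Z - 1 := Nat.le_of_dvd (by omega) (relIndex_dvd h P)
    obtain ⟨k, hk⟩ := card_dvd_pred h P
    rw [hcP P] at hk
    have hkey : q ∣ d * c + 1 := by
      have e1 : (d : ℤ) * (n * c) = (q : ℤ) * q - 1 := by
        have h2 : d * (n * c) + 1 = q * q := by
          rw [hnc, dA, ← pow_two]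
          exact Nat.sub_add_cancel (Nat.one_le_pow _ _ (by omega))
        have h3 : (d : ℤ) * (n * c) + 1 = q * q := by exact_mod_cast h2
        linarith
      have e2 : (n : ℤ) = q * k + 1 := by
        have : n = q * k + 1 := by omega
        exact_mod_cast this
      have e3 : ((d * c + 1 : ℕ) : ℤ) = (q : ℤ) * ((q : ℤ) - k * d * c) := by
        push_cast
        rw [e2] at e1
        linear_combination e1
      exact Int.natCast_dvd_natCast.1 ⟨_, e3⟩
    have hZle : Nat.card Z ≤ q := Nat.le_of_dvd (by omega) hZq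
    have hdc : d * c + 1 = q := by
      obtain ⟨j, hj⟩ := hkey
      have hlt : d * c ≤ 2 * (q - 1) := Nat.mul_le_mul dle (by omega)
      rcases j with _ | _ | j
      · omega
      · omega
      · exfalso
        have : q * 2 ≤ q * (j + 1 + 1) := Nat.mul_le_mul_left q (by omega)
        omega
    have hfull : Nat.card Z = q := by
      obtain ⟨m, hm⟩ := hZq
      have : d * c ≤ 2 * (Nat.card Z - 1) := Nat.mul_le_mul dle hcZ
      rcases m with _ | _ | m
      · omega
      · omega
      · exfalso
        have : Nat.card Z * 2 ≤ Nat.card Z * (m + 1 + 1) := Nat.mul_le_mul_left _ (by omega)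
        omega
    have htop : Z = ⊤ := Subgroup.eq_top_of_card_eq _ (hfull.trans (hcP P).symm)
    intro a ha b hb
    have ha' : (⟨a, ha⟩ : (P : Subgroup X)) ∈ Z := htop ▸ Subgroup.mem_top _
    exact (congrArg Subtype.val (Subgroup.mem_center_iff.1 ha' ⟨b, hb⟩)).symm
  refine ⟨hp, ⟨f, hf, hq⟩, dle, dA, dlt, nA, card, fun v hv hvp => ⟨h.cent v hv hvp, ?_⟩⟩
  obtain ⟨k, hk⟩ := hvp
  obtain ⟨i, -, hi⟩ := (Nat.dvd_prime_pow hp).1 (orderOf_dvd_of_pow_eq_one hk)
  obtain ⟨P, hP⟩ := (IsPGroup.of_card
    (show Nat.card (Subgroup.zpowers v) = p ^ i by rw [Nat.card_zpowers, hi])).exists_le_sylow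
  rw [← hcP P]
  refine Subgroup.card_dvd_of_le fun y hy => ?_
  exact Subgroup.mem_centralizer_singleton_iff.2 (habel P y hy v (hP (Subgroup.mem_zpowers v)))

end CfsgLib.Recog.SylowExponentData
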