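import Cfsg.Agent.S0730
import Cfsg.Agent.S0731
import Cfsg.Agent.Lib.PermGroup.SharpTwoKernel
import Cfsg.Agent.Lib.Recognition.TwoTransTwoModFour
import Cfsg.Agent.Lib.PSL2.Borel
import Cfsg.Agent.Lib.ClassicalGroups.SmallIso
import Cfsg.Agent.Classical.SLBasic

/-!
Permutation groups of degree 18 in which a 17-subgroup is transitive off its fixed point and
normalised by the point stabiliser: they are `PSL(2,17)` or `PGL(2,17)`, with 153 Sylow
2-subgroups and at least 136 Sylow 3-subgroups.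
-/

set_option autoImplicit false
set_option linter.unusedSectionVars false

open MulAction Matrix

namespace CfsgLib.Recog.SylowPSLSeventeen

universe u v

theorem prime_seventeen : Nat.Prime 17 := by norm_num

instance fact_seventeen : Fact (Nat.Prime 17) := ⟨prime_seventeen⟩

/-- A special linear matrix whose image modulo scalars has order 9. -/
theorem exists_order_nine (K : Type*) [Field K] [Fintype K] (hK : Fintype.card K = 17) :
    ∃ M : SpecialLinearGroup (Fin 2) K,
      M ^ 9 = 1 ∧ M ^ 3 ∉ Subgroup.center (SpecialLinearGroup (Fin 2) K) := by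
  haveI : CharP K 17 := charP_of_card_eq_prime hK
  let f : ZMod 17 →+* K := ZMod.castHom dvd_rfl K
  let A : SpecialLinearGroup (Fin 2) (ZMod 17) := ⟨!![0, 16; 1, 7], by decide⟩
  have hA9 : A ^ 9 = 1 := by
    apply Subtype.ext
    simp only [A, SpecialLinearGroup.coe_pow, SpecialLinearGroup.coe_one]
    decide
  have hA3 : ((A ^ 3 : SpecialLinearGroup (Fin 2) (ZMod 17)) : Matrix (Fin 2) (Fin 2) (ZMod 17)) 1 0
      = 14 := by
    simp only [A, SpecialLinearGroup.coe_pow]
    decide
  refine ⟨SpecialLinearGroup.map f A, by rw [← map_pow, hA9, map_one], fun h => ?_⟩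
  rw [← map_pow, Matrix.SpecialLinearGroup.mem_center_iff] at h
  obtain ⟨r, -, hr⟩ := h
  have h10 := congrFun (congrFun hr 1) 0
  rw [scalar_apply, diagonal_apply_ne _ (by decide), SpecialLinearGroup.map_apply_coe,
    RingHom.mapMatrix_apply, map_apply, hA3] at h10
  exact absurd (f.injective (h10.symm.trans (map_zero f).symm)) (by decide)

theorem orderOf_nine {Γ : Type*} [Group Γ] {x : Γ} (h9 : x ^ 9 = 1) (h3 : x ^ 3 ≠ 1) :
    orderOf x = 9 :=
  orderOf_eq_prime_pow (p := 3) (n := 1) (by simpa using h3) (by simpa using h9)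

section Perm

variable {X : Type u} {Ω : Type v} [Group X] [Finite X] [MulAction X Ω] [Finite Ω]
  [FaithfulSMul X Ω]

/-- The hypotheses on the permutation group. -/
structure Setup (X : Type u) (Ω : Type v) [Group X] [MulAction X Ω] where
  card_points : Nat.card Ω = 18
  trans : IsPretransitive X Ω
  a : Ω
  U : Subgroup X
  isPGroup : IsPGroup 17 U
  fix : ∀ u ∈ U, u • a = a
  move : ∀ y z : Ω, y ≠ a → z ≠ a → ∃ u ∈ U, u • y = z
  norm : ∀ x : X, x • a = a → ∀ u ∈ U, x * u * x⁻¹ ∈ U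

namespace Setup

variable (S : Setup X Ω)
include S

/-- An element of 17-power order with two fixed points is trivial. -/
theorem eq_one_of_two_fixed {u : X} (hu : ∃ k, u ^ 17 ^ k = 1) {c e : Ω} (hce : c ≠ e)
    (hc : u • c = c) (he : u • e = e) : u = 1 := by
  classical
  obtain ⟨k, hk⟩ := hu
  have hp : IsPGroup 17 (Subgroup.zpowers u) := by
    obtain ⟨j, -, hj⟩ := (Nat.dvd_prime_pow prime_seventeen).1 (orderOf_dvd_of_pow_eq_one hk)
    exact IsPGroup.of_card (by rw [Nat.card_zpowers, hj])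
  have hmod := hp.card_modEq_card_fixedPoints Ω
  rw [S.card_points] at hmod
  set Fx := fixedPoints (Subgroup.zpowers u) Ω with hFx
  have hmem : ∀ w : Ω, u • w = w → w ∈ Fx := by
    rintro w hw ⟨g, hg⟩
    obtain ⟨n, rfl⟩ := Subgroup.mem_zpowers_iff.1 hg
    have h1 : u ^ n ∈ stabilizer X w := zpow_mem (show u ∈ stabilizer X w from hw) n
    exact h1
  have h2 : 1 < Nat.card Fx :=
    Finite.one_lt_card_iff_nontrivial.2 ⟨⟨⟨c, hmem c hc⟩, ⟨e, hmem e he⟩,
      fun h => hce (congrArg Subtype.val h)⟩⟩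
  have h3 : Nat.card Fx ≤ 18 := S.card_points ▸ Finite.card_subtype_le _
  have h4 : Nat.card Fx = 18 := by
    rw [Nat.ModEq] at hmod
    omega
  have hall : Fx = Set.univ := Set.eq_of_subset_of_ncard_le (Set.subset_univ _)
    (by rw [Set.ncard_univ, S.card_points, ← Nat.card_coe_set_eq, h4]) (Set.toFinite _)
  refine FaithfulSMul.eq_of_smul_eq_smul (α := Ω) fun w => ?_
  rw [one_smul]
  exact (hall ▸ Set.mem_univ w : w ∈ Fx) ⟨u, Subgroup.mem_zpowers u⟩

theorem exists_pow_of_mem {u : X} (hu : u ∈ S.U) : ∃ k, u ^ 17 ^ k = 1 := by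
  obtain ⟨k, hk⟩ := S.isPGroup ⟨u, hu⟩
  exact ⟨k, by simpa using congrArg Subtype.val hk⟩

theorem eq_one_of_mem {u : X} (hu : u ∈ S.U) {b : Ω} (hb : b ≠ S.a) (h : u • b = b) : u = 1 :=
  S.eq_one_of_two_fixed (S.exists_pow_of_mem hu) hb h (S.fix u hu)

theorem card_others : Nat.card {w : Ω // w ≠ S.a} = 17 := by
  classical
  haveI := Fintype.ofFinite Ω
  rw [Nat.card_eq_fintype_card, Fintype.card_subtype_compl, Fintype.card_subtype_eq,
    ← Nat.card_eq_fintype_card, S.card_points]

theorem exists_other : ∃ b, b ≠ S.a := by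
  obtain ⟨w⟩ : Nonempty {w : Ω // w ≠ S.a} := Finite.card_pos_iff.1 (by rw [S.card_others]; norm_num)
  exact ⟨w.1, w.2⟩

theorem unique_move (y z : Ω) (hy : y ≠ S.a) (hz : z ≠ S.a) :
    ∃! u : S.U, (u : X) • y = z := by
  obtain ⟨u, hu, huy⟩ := S.move y z hy hz
  refine ⟨⟨u, hu⟩, huy, fun v hv => Subtype.ext ?_⟩
  have h := S.eq_one_of_mem (mul_mem (inv_mem hu) v.2) hy
    (by rw [mul_smul, hv, inv_smul_eq_iff, huy])
  exact (inv_mul_eq_one.1 h).symm

theorem card_U : Nat.card S.U = 17 := by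
  obtain ⟨b, hb⟩ := S.exists_other
  rw [← S.card_others]
  refine Nat.card_congr (Equiv.ofBijective (fun u : S.U => (⟨(u : X) • b, fun h => hb
    (smul_left_cancel (u : X) (h.trans (S.fix u u.2).symm))⟩ : {w : Ω // w ≠ S.a})) ⟨?_, ?_⟩)
  · intro u v h
    exact (S.unique_move b _ hb fun h' => hb
      (smul_left_cancel (u : X) (h'.trans (S.fix u u.2).symm))).unique rfl
        (congrArg Subtype.val h).symm
  · rintro ⟨z, hz⟩
    obtain ⟨u, hu, -⟩ := S.unique_move b z hb hz
    exact ⟨u, Subtype.ext hu⟩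

theorem isCyclic_U : IsCyclic S.U := isCyclic_of_prime_card S.card_U

theorem twoTrans : IsMultiplyPretransitive X Ω 2 := by
  rw [is_two_pretransitive_iff]
  intro p q p' q' hpq hpq'
  haveI := S.trans
  obtain ⟨g, hg⟩ := exists_smul_eq X p S.a
  obtain ⟨g', hg'⟩ := exists_smul_eq X p' S.a
  obtain ⟨u, hu, huq⟩ := S.move (g • q) (g' • q')
    (fun h => hpq (smul_left_cancel g (hg.trans h.symm)))
    (fun h => hpq' (smul_left_cancel g' (hg'.trans h.symm)))
  refine ⟨g'⁻¹ * u * g, ?_, ?_⟩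
  · rw [mul_smul, mul_smul, hg, S.fix u hu, inv_smul_eq_iff, hg']
  · rw [mul_smul, mul_smul, huq, inv_smul_smul]

/-- An element fixing three points is trivial. -/
theorem three_fixed (x : X) (p q r : Ω) (hpq : p ≠ q) (hqr : q ≠ r) (hpr : p ≠ r)
    (hp : x • p = p) (hq : x • q = q) (hr : x • r = r) : x = 1 := by
  haveI := S.trans
  obtain ⟨g, hg⟩ := exists_smul_eq X p S.a
  suffices g * x * g⁻¹ = 1 by simpa using this
  have ne : ∀ {w : Ω}, p ≠ w → g • w ≠ S.a := fun hw h => hw (smul_left_cancel g (hg.trans h.symm))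
  have hfix : ∀ {w : Ω}, x • w = w → (g * x * g⁻¹) • g • w = g • w := fun hw => by
    rw [← mul_smul, inv_mul_cancel_right, mul_smul, hw]
  set y := g * x * g⁻¹ with hy
  have hya : y • S.a = S.a := hg ▸ hfix hp
  obtain ⟨u, hu, huqr⟩ := S.move (g • q) (g • r) (ne hpq) (ne hpr)
  have h1 : (y * u * y⁻¹) • g • q = g • r := by
    rw [mul_smul, mul_smul, inv_smul_eq_iff.2 (hfix hq).symm, huqr, hfix hr]
  have h2 : y * u * y⁻¹ = u := congrArg Subtype.val
    ((S.unique_move _ _ (ne hpq) (ne hpr)).unique (y₁ := ⟨_, S.norm y hya u hu⟩) (y₂ := ⟨u, hu⟩)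
      h1 huqr)
  have hu1 : u ≠ 1 := by
    rintro rfl
    rw [one_smul] at huqr
    exact hqr (smul_left_cancel g huqr)
  have hcent : ∀ v ∈ S.U, Commute y v := by
    intro v hv
    have hgen := zpowers_eq_top_of_prime_card S.card_U (g := (⟨u, hu⟩ : S.U))
      fun h => hu1 (congrArg Subtype.val h)
    obtain ⟨n, hn⟩ := Subgroup.mem_zpowers_iff.1 (hgen ▸ Subgroup.mem_top (⟨v, hv⟩ : S.U))
    have hn' : u ^ n = v := congrArg Subtype.val hn
    rw [← hn']
    exact Commute.zpow_right (mul_inv_eq_iff_eq_mul.1 h2 : y * u = u * y) n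
  refine FaithfulSMul.eq_of_smul_eq_smul (α := Ω) fun w => ?_
  rw [one_smul]
  by_cases hw : w = S.a
  · rw [hw, hya]
  · obtain ⟨v, hv, hvw⟩ := S.move (g • q) w (ne hpq) hw
    rw [← hvw, ← mul_smul, (hcent v hv).eq, mul_smul, hfix hq]

/-- The stabiliser of two points. -/
def pairFix (p q : Ω) : Subgroup X := stabilizer X p ⊓ stabilizer X q

omit [Finite X] [Finite Ω] [FaithfulSMul X Ω] in
theorem mem_pairFix {p q : Ω} {x : X} : x ∈ pairFix p q ↔ x • p = p ∧ x • q = q := Iff.rfl

variable {b : Ω} (hb : b ≠ S.a)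

include hb

theorem card_stab : Nat.card (stabilizer X S.a) = 17 * Nat.card (pairFix (X := X) S.a b) := by
  rw [← S.card_U, ← Nat.card_prod]
  have hUle : ∀ u : S.U, (u : X) ∈ stabilizer X S.a := fun u => S.fix u u.2
  refine (Nat.card_congr (Equiv.ofBijective (fun z : S.U × pairFix (X := X) S.a b =>
    (⟨(z.1 : X) * z.2, mul_mem (hUle z.1) z.2.2.1⟩ : stabilizer X S.a)) ⟨?_, ?_⟩)).symm
  · rintro ⟨u, h⟩ ⟨u', h'⟩ he
    have he' : (u : X) * h = u' * h' := congrArg Subtype.val he
    have h1 : ((u' : X)⁻¹ * u) • b = b := by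
      have : (u' : X)⁻¹ * u = h' * (h : X)⁻¹ := by
        rw [inv_mul_eq_iff_eq_mul, ← mul_assoc, ← he', mul_inv_cancel_right]
      rw [this, mul_smul, inv_smul_eq_iff.2 h.2.2.symm, h'.2.2]
    have huu := inv_mul_eq_one.1 (S.eq_one_of_mem (mul_mem (inv_mem u'.2) u.2) hb h1)
    obtain rfl : u' = u := Subtype.ext huu
    exact Prod.ext rfl (Subtype.ext (mul_left_cancel he'))
  · rintro ⟨x, hx⟩
    obtain ⟨u, hu, hub⟩ := S.move b (x • b) hb fun h => hb (smul_left_cancel x (h.trans hx.symm))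
    refine ⟨(⟨u, hu⟩, ⟨u⁻¹ * x, ?_, ?_⟩), Subtype.ext (mul_inv_cancel_left u x)⟩
    · change (u⁻¹ * x) • S.a = S.a
      rw [mul_smul, hx, inv_smul_eq_iff, S.fix u hu]
    · change (u⁻¹ * x) • b = b
      rw [mul_smul, inv_smul_eq_iff, hub]

theorem card_group : Nat.card X = 306 * Nat.card (pairFix (X := X) S.a b) := by
  haveI := S.trans
  haveI := Fintype.ofFinite Ω
  have h := (stabilizer X S.a).index_mul_card
  rw [index_stabilizer_of_transitive, S.card_points, S.card_stab hb] at h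
  rw [← h]; ring

/-- The two-point stabiliser is cyclic of order dividing 16. -/
theorem pairFix_cyclic :
    IsCyclic (pairFix (X := X) S.a b) ∧ Nat.card (pairFix (X := X) S.a b) ∣ 16 := by
  haveI := S.isCyclic_U
  let ψ : pairFix (X := X) S.a b →* MulAut S.U :=
    { toFun := fun h =>
        { toFun := fun u => ⟨h * u * (h : X)⁻¹, S.norm _ h.2.1 u u.2⟩
          invFun := fun u => ⟨(h : X)⁻¹ * u * h, by
            simpa using S.norm (h : X)⁻¹ (inv_smul_eq_iff.2 h.2.1.symm) u u.2⟩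
          left_inv := fun u => Subtype.ext (by simp [mul_assoc])
          right_inv := fun u => Subtype.ext (by simp [mul_assoc])
          map_mul' := fun u v => Subtype.ext (by simp [mul_assoc]) }
      map_one' := MulEquiv.ext fun u => Subtype.ext (by simp)
      map_mul' := fun h k => MulEquiv.ext fun u => Subtype.ext (by simp [mul_assoc]) }
  have hinj : Function.Injective ψ := by
    rw [injective_iff_map_eq_one]
    intro h hh
    have hc : ∀ u : S.U, (h : X) * u * (h : X)⁻¹ = u := fun u =>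
      congrArg Subtype.val (DFunLike.congr_fun hh u)
    refine Subtype.ext (FaithfulSMul.eq_of_smul_eq_smul (α := Ω) fun w => ?_)
    rw [Subgroup.coe_one, one_smul]
    by_cases hw : w = S.a
    · rw [hw]; exact h.2.1
    · obtain ⟨v, hv, hvw⟩ := S.move b w hb hw
      rw [← hvw, ← mul_smul, mul_inv_eq_iff_eq_mul.1 (hc ⟨v, hv⟩), mul_smul, h.2.2]
  let e := IsCyclic.mulAutMulEquiv S.U
  have hu : Nat.card (ZMod (Nat.card S.U))ˣ = 16 := by
    rw [S.card_U, Nat.card_units]
    simp
  haveI : IsCyclic (ZMod (Nat.card S.U))ˣ := by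
    rw [S.card_U]
    infer_instance
  let ι := e.toMonoidHom.comp ψ
  have hι : Function.Injective ι := e.injective.comp hinj
  exact ⟨isCyclic_of_injective ι hι, hu ▸ Subgroup.card_dvd_of_injective ι hι⟩

theorem two_le_card : 2 ≤ Nat.card (pairFix (X := X) S.a b) := by
  by_contra hlt
  have hbot : pairFix (X := X) S.a b = ⊥ := Subgroup.eq_bot_of_card_le _ (by omega)
  have h2 := S.twoTrans
  have hs : ∀ g : X, ∀ p q : Ω, p ≠ q → g • p = p → g • q = q → g = 1 := by
    intro g p q hpq hp hq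
    obtain ⟨x, hxp, hxq⟩ := is_two_pretransitive_iff.1 h2 hb.symm hpq
    have hmem : x⁻¹ * g * x ∈ pairFix (X := X) S.a b :=
      ⟨show (x⁻¹ * g * x) • S.a = S.a by rw [mul_smul, mul_smul, hxp, hp, inv_smul_eq_iff, hxp],
        show (x⁻¹ * g * x) • b = b by rw [mul_smul, mul_smul, hxq, hq, inv_smul_eq_iff, hxq]⟩
    rw [hbot, Subgroup.mem_bot] at hmem
    calc g = x * (x⁻¹ * g * x) * x⁻¹ := by group
      _ = 1 := by rw [hmem]; group
  obtain ⟨-, -, -, -, -, -, p, j, hp, hj, hcard, -⟩ :=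
    CfsgLib.PermGroup.sharpTwo_kernel h2 hs (by rw [S.card_points]; norm_num)
  rw [S.card_points] at hcard
  have h2' := (Nat.prime_dvd_prime_iff_eq Nat.prime_two hp).1
    (Nat.prime_two.dvd_of_dvd_pow (n := j) (hcard ▸ by norm_num))
  have h3' := (Nat.prime_dvd_prime_iff_eq Nat.prime_three hp).1
    (Nat.prime_three.dvd_of_dvd_pow (n := j) (hcard ▸ by norm_num))
  omega

theorem isZassenhausGroup : Cfsg.IsZassenhausGroup X Ω := by
  refine ⟨inferInstance, S.twoTrans, S.three_fixed, ?_, fun N hN htr => ?_⟩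
  · obtain ⟨h, hh⟩ : ∃ h : pairFix (X := X) S.a b, h ≠ 1 :=
      haveI := Finite.one_lt_card_iff_nontrivial.1 (S.two_le_card hb)
      exists_ne 1
    exact ⟨h, fun e => hh (Subtype.ext e), S.a, b, hb.symm, h.2.1, h.2.2⟩
  · by_contra hall
    simp only [ne_eq, not_exists, not_not] at hall
    have hne : N ≠ ⊥ := by
      rintro rfl
      obtain ⟨g, hg⟩ := exists_smul_eq (⊥ : Subgroup X) S.a b
      rw [Subgroup.mem_bot.1 g.2 |> Subtype.ext (a2 := (1 : (⊥ : Subgroup X))), one_smul] at hg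
      exact hb hg.symm
    haveI := hN
    obtain ⟨p, k, hp, hcard⟩ := CfsgLib.Recognition.exists_card_eq_prime_pow_of_regular
      S.twoTrans N hne S.a fun x hx hxa => by
        have := (hall S.a) ▸ (show (⟨x, hx⟩ : N) ∈ stabilizer N S.a from hxa)
        exact congrArg Subtype.val (Subgroup.mem_bot.1 this)
    rw [S.card_points] at hcard
    have h2' := (Nat.prime_dvd_prime_iff_eq Nat.prime_two hp).1
      (Nat.prime_two.dvd_of_dvd_pow (n := k) (hcard ▸ by norm_num))
    have h3' := (Nat.prime_dvd_prime_iff_eq Nat.prime_three hp).1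
      (Nat.prime_three.dvd_of_dvd_pow (n := k) (hcard ▸ by norm_num))
    omega

end Setup

/-- The conclusion of the recognition. -/
def Shape (X : Type u) [Group X] : Prop :=
  (Nat.card X = 4896 ∧ ∃ (F : Type) (_ : Field F) (_ : Fintype F), Fintype.card F = 17 ∧
      Nonempty (X ≃* Matrix.ProjGenLinGroup (Fin 2) F)) ∨
    (Nat.card X = 2448 ∧ ∃ (F : Type) (_ : Field F) (_ : Fintype F), Fintype.card F = 17 ∧
      Nonempty (X ≃* Matrix.ProjectiveSpecialLinearGroup (Fin 2) F))

theorem card_pgl (F : Type*) [Field F] [Fintype F] (hF : Fintype.card F = 17) :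
    Nat.card (Matrix.ProjGenLinGroup (Fin 2) F) = 4896 := by
  have h := Subgroup.card_eq_card_quotient_mul_card_subgroup (Subgroup.center (GL (Fin 2) F))
  rw [Cfsg.Agent.Classical.card_center_gl 2 (by norm_num), hF, Matrix.card_GL_field,
    Fin.prod_univ_two, hF] at h
  change Nat.card (GL (Fin 2) F ⧸ Subgroup.center (GL (Fin 2) F)) = 4896
  norm_num at h
  omega

theorem Setup.shape (S : Setup X Ω) : Shape X := by
  classical
  haveI := Fintype.ofFinite Ω
  obtain ⟨b, hb⟩ := S.exists_other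
  have hdle := Nat.le_of_dvd (by norm_num) (S.pairFix_cyclic hb).2
  have hdvd := (S.pairFix_cyclic hb).2
  have hG := S.card_group hb
  haveI hab : IsMulCommutative S.U := by
    haveI := S.isCyclic_U
    exact ⟨⟨fun x y => (IsCyclic.commGroup (α := S.U)).mul_comm x y⟩⟩
  have hnorm : (S.U.subgroupOf (stabilizer X S.a)).Normal :=
    ⟨fun u hu g => S.norm g g.2 u hu⟩
  rcases Cfsg.Agent.S0731.result (S.isZassenhausGroup hb) S.a S.U S.fix hnorm hab S.unique_move with
    ⟨h3, hsharp⟩ | ⟨K, iK, iT, -, ⟨e⟩⟩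
  · let φ := MulAction.toPermHom X Ω
    have hφ : Function.Injective φ := MulAction.toPerm_injective
    let e0 : X ≃* φ.range := MonoidHom.ofInjective hφ
    have h3' : IsMultiplyPretransitive φ.range Ω 3 := by
      rw [isMultiplyPretransitive_iff] at h3 ⊢
      intro x y
      obtain ⟨g, hg⟩ := h3 x y
      exact ⟨e0 g, hg⟩
    have hsharp' : ∀ t : Fin 3 ↪ Ω, stabilizer φ.range t = ⊥ := by
      intro t
      rw [Subgroup.eq_bot_iff_forall]
      intro g hg
      obtain ⟨x, rfl⟩ := e0.surjective g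
      have hx : x ∈ stabilizer X t := by
        rw [mem_stabilizer_iff] at hg ⊢
        exact hg
      rw [hsharp t, Subgroup.mem_bot] at hx
      rw [hx, map_one]
    obtain ⟨F, iF, iT, hF, ⟨eF⟩⟩ := Cfsg.Agent.S0730.result (p := 17) (f := 1) prime_seventeen
      (by norm_num) odd_one
      (show Fintype.card Ω = 17 ^ 1 + 1 by rw [← Nat.card_eq_fintype_card, S.card_points]; norm_num)
      φ.range h3' hsharp'
    rw [pow_one] at hF
    refine Or.inl ⟨?_, F, iF, iT, hF, ⟨e0.trans eF⟩⟩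
    rw [Nat.card_congr (e0.trans eF).toEquiv, card_pgl F hF]
  · right
    have hk : Fintype.card K = 17 ∧ Nat.card X = 2448 := by
      have h := CfsgLib.ClassicalGroups.card_psl_two_gcd (K := K)
      rw [← Nat.card_congr e.toEquiv, hG] at h
      have hk1 : 1 < Fintype.card K := Fintype.one_lt_card
      have hg : Nat.gcd 2 (Fintype.card K - 1) ∣ 2 := Nat.gcd_dvd_left _ _
      have hg2 := Nat.le_of_dvd (by norm_num) hg
      have hk22 : Fintype.card K < 23 := by
        by_contra hge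
        have h1 : 529 ≤ Fintype.card K ^ 2 := by nlinarith [not_lt.1 hge]
        have h2 : 23 * 528 ≤ Fintype.card K * (Fintype.card K ^ 2 - 1) :=
          Nat.mul_le_mul (not_lt.1 hge) (by omega)
        nlinarith [Nat.mul_le_mul hg2 (Nat.mul_le_mul_left 306 hdle)]
      rw [hG]
      generalize Fintype.card K = k at h hk1 hk22 ⊢
      generalize Nat.card (Setup.pairFix (X := X) S.a b) = d at h hdle hdvd ⊢
      interval_cases k <;> norm_num at h ⊢ <;>
        first
          | omega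
          | (have : d ∈ Nat.divisors 16 := Nat.mem_divisors.2 ⟨hdvd, by norm_num⟩
             fin_cases this <;> omega)
    exact ⟨hk.2, K, iK, iT, hk.1, ⟨e⟩⟩

theorem exists_orderOf_nine (hS : Shape X) : ∃ x : X, orderOf x = 9 := by
  rcases hS with ⟨-, F, _, _, hF, ⟨e⟩⟩ | ⟨-, F, _, _, hF, ⟨e⟩⟩
  · obtain ⟨M, h9, h3⟩ := exists_order_nine F hF
    refine ⟨e.symm (Matrix.SpecialLinearGroup.toPGL M), ?_⟩
    rw [MulEquiv.orderOf_eq]
    refine orderOf_nine (by rw [← map_pow, h9, map_one]) fun h => h3 ?_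
    rw [← map_pow, ← MonoidHom.mem_ker, Matrix.SpecialLinearGroup.toPGL_ker] at h
    exact h
  · obtain ⟨M, h9, h3⟩ := exists_order_nine F hF
    refine ⟨e.symm (QuotientGroup.mk' _ M), ?_⟩
    rw [MulEquiv.orderOf_eq]
    refine orderOf_nine (by rw [← map_pow, h9, map_one]) fun h => h3 ?_
    rw [← map_pow, QuotientGroup.mk'_apply, QuotientGroup.eq_one_iff] at h
    exact h

end Perm

section Counts

variable {X : Type u} {Ω : Type v} [Group X] [Finite X] [MulAction X Ω] [Finite Ω]
  [FaithfulSMul X Ω]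

theorem factorization_odd_part {d p k : ℕ} [Fact p.Prime] (hp : ¬ p ∣ d) :
    (p ^ k * d).factorization p = k := by
  have hd : d ≠ 0 := fun h => hp (h ▸ dvd_zero p)
  rw [Nat.factorization_mul (pow_ne_zero _ (Fact.out : p.Prime).ne_zero) hd, Finsupp.add_apply,
    (Fact.out : p.Prime).factorization_pow, Finsupp.single_eq_same,
    Nat.factorization_eq_zero_of_not_dvd hp, add_zero]

/-- Setup groups have 153 Sylow 2-subgroups, the setwise stabilisers of pairs. -/
theorem Setup.card_sylow_two (S : Setup X Ω) : Nat.card (Sylow 2 X) = 153 := by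
  classical
  haveI := Fact.mk Nat.prime_two
  obtain ⟨b, hb⟩ := S.exists_other
  set H := Setup.pairFix (X := X) S.a b with hH
  obtain ⟨hcyc, hdvd⟩ := S.pairFix_cyclic hb
  have hG := S.card_group hb
  rw [← hH] at hcyc hdvd hG
  obtain ⟨j, hj, hd⟩ := (Nat.dvd_prime_pow Nat.prime_two).1 (show Nat.card H ∣ 2 ^ 4 by simpa using hdvd)
  have hd8 : 8 ≤ Nat.card H := by
    rcases S.shape with ⟨h, -⟩ | ⟨h, -⟩ <;> omega
  let T : Subgroup X :=
    { carrier := {x | (x • S.a = S.a ∧ x • b = b) ∨ (x • S.a = b ∧ x • b = S.a)}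
      one_mem' := Or.inl ⟨one_smul _ _, one_smul _ _⟩
      mul_mem' := by
        rintro x y (⟨hx, hx'⟩ | ⟨hx, hx'⟩) (⟨hy, hy'⟩ | ⟨hy, hy'⟩)
        · exact Or.inl ⟨by rw [mul_smul, hy, hx], by rw [mul_smul, hy', hx']⟩
        · exact Or.inr ⟨by rw [mul_smul, hy, hx'], by rw [mul_smul, hy', hx]⟩
        · exact Or.inr ⟨by rw [mul_smul, hy, hx], by rw [mul_smul, hy', hx']⟩
        · exact Or.inl ⟨by rw [mul_smul, hy, hx'], by rw [mul_smul, hy', hx]⟩
      inv_mem' := by
        rintro x (⟨hx, hx'⟩ | ⟨hx, hx'⟩)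
        · exact Or.inl ⟨inv_smul_eq_iff.2 hx.symm, inv_smul_eq_iff.2 hx'.symm⟩
        · exact Or.inr ⟨inv_smul_eq_iff.2 hx'.symm, inv_smul_eq_iff.2 hx.symm⟩ }
  obtain ⟨w, hwa, hwb⟩ := is_two_pretransitive_iff.1 S.twoTrans hb.symm hb
  have hwT : w ∈ T := Or.inr ⟨hwa, hwb⟩
  have hcardT : Nat.card T = 2 * Nat.card H := by
    rw [mul_comm, ← show Nat.card Bool = 2 by simp, ← Nat.card_prod]
    refine (Nat.card_congr (Equiv.ofBijective (fun z : H × Bool =>
      (if z.2 then ⟨w * z.1, mul_mem hwT (Or.inl z.1.2)⟩ else ⟨z.1, Or.inl z.1.2⟩ : T))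
      ⟨?_, ?_⟩)).symm
    · rintro ⟨x, i⟩ ⟨y, k⟩ he
      have he' := congrArg Subtype.val he
      cases i <;> cases k <;> simp at he'
      · rw [he']
      · exfalso
        have h2 := x.2.1
        change (x : X) • S.a = S.a at h2
        rw [he', mul_smul, show (y : X) • S.a = S.a from y.2.1, hwa] at h2
        exact hb h2
      · exfalso
        have h2 := y.2.1
        change (y : X) • S.a = S.a at h2
        rw [← he', mul_smul, show (x : X) • S.a = S.a from x.2.1, hwa] at h2
        exact hb h2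
      · rw [he']
    · rintro ⟨x, hx | ⟨hxa, hxb⟩⟩
      · exact ⟨(⟨x, hx⟩, false), rfl⟩
      · refine ⟨(⟨w⁻¹ * x, ?_, ?_⟩, true), Subtype.ext (mul_inv_cancel_left w x)⟩
        · change (w⁻¹ * x) • S.a = S.a
          rw [mul_smul, hxa, inv_smul_eq_iff, hwa]
        · change (w⁻¹ * x) • b = b
          rw [mul_smul, hxb, inv_smul_eq_iff, hwb]
  have hfac : (Nat.card X).factorization 2 = j + 1 := by
    rw [hG, hd, show 306 * 2 ^ j = 2 ^ (j + 1) * 153 by ring]
    exact factorization_odd_part (by norm_num)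
  let Q : Sylow 2 X := Sylow.ofCard T (by rw [hcardT, hfac, hd, pow_succ'])
  obtain ⟨h, hh⟩ := IsCyclic.exists_ofOrder_eq_natCard (α := H)
  have hh2 : (h : X) * h ≠ 1 := by
    intro h1
    have h2 : orderOf h ∣ 2 := orderOf_dvd_of_pow_eq_one (Subtype.ext (by simp [pow_two, h1]))
    have := Nat.le_of_dvd (by norm_num) h2
    omega
  have hN : Subgroup.normalizer ((Q : Subgroup X) : Set X) = T := by
    refine le_antisymm (fun x hx => ?_) Subgroup.le_normalizer
    rw [Subgroup.mem_normalizer_iff] at hx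
    have h1 : x * h * x⁻¹ ∈ T := (hx h).1 (Or.inl h.2)
    have h1' : x⁻¹ * h * x ∈ T :=
      (hx _).2 (show x * (x⁻¹ * (h : X) * x) * x⁻¹ ∈ T by
        rw [show x * (x⁻¹ * (h : X) * x) * x⁻¹ = h by group]; exact Or.inl h.2)
    have sq : ∀ {y : X}, y ∈ T → (y * y) • S.a = S.a ∧ (y * y) • b = b := by
      rintro y (⟨hy, hy'⟩ | ⟨hy, hy'⟩) <;> simp only [mul_smul, hy, hy', and_self]
    obtain ⟨ha', hb'⟩ := sq h1'
    have hfix : ∀ c : Ω, (x⁻¹ * h * x * (x⁻¹ * h * x)) • c = c → ((h : X) * h) • x • c = x • c := by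
      intro c hc
      rw [show x⁻¹ * (h : X) * x * (x⁻¹ * h * x) = x⁻¹ * ((h : X) * h) * x by group,
        mul_smul, mul_smul, inv_smul_eq_iff] at hc
      exact hc
    obtain ⟨f1, f2⟩ := sq (y := (h : X)) (Or.inl h.2)
    have cases2 : ∀ c : Ω, ((h : X) * h) • c = c → c = S.a ∨ c = b := by
      intro c hc
      by_contra hne
      simp only [not_or] at hne
      exact hh2 (S.three_fixed _ S.a b c hb.symm (Ne.symm hne.2) (Ne.symm hne.1) f1 f2 hc)
    rcases cases2 _ (hfix _ ha') with e1 | e1 <;> rcases cases2 _ (hfix _ hb') with e2 | e2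
    · exact absurd (smul_left_cancel x (e1.trans e2.symm)) hb.symm
    · exact Or.inl ⟨e1, e2⟩
    · exact Or.inr ⟨e1, e2⟩
    · exact absurd (smul_left_cancel x (e1.trans e2.symm)) hb.symm
  have hn : Nat.card (Sylow 2 X) = T.index :=
    (Sylow.card_eq_index_normalizer Q).trans (congrArg Subgroup.index hN)
  rw [hn]
  have hidx := T.index_mul_card
  rw [hcardT, hG] at hidx
  have hpos : 0 < Nat.card H := Nat.card_pos
  refine Nat.eq_of_mul_eq_mul_right (m := 2 * Nat.card H) (by omega) ?_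
  rw [hidx]; ring

/-- If a Setup group has at most 136 Sylow 3-subgroups then it has exactly 136. -/
theorem Setup.card_sylow_three (S : Setup X Ω) (hle : Nat.card (Sylow 3 X) ≤ 136) :
    Nat.card (Sylow 3 X) = 136 := by
  classical
  haveI := Fact.mk Nat.prime_three
  obtain ⟨b, hb⟩ := S.exists_other
  obtain ⟨hcyc, hdvd⟩ := S.pairFix_cyclic hb
  have hG := S.card_group hb
  have hd8 : 8 ≤ Nat.card (Setup.pairFix (X := X) S.a b) := by
    rcases S.shape with ⟨h, -⟩ | ⟨h, -⟩ <;> omega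
  set d := Nat.card (Setup.pairFix (X := X) S.a b) with hd
  obtain ⟨j, hj4, hj⟩ := (Nat.dvd_prime_pow Nat.prime_two).1 (show d ∣ 2 ^ 4 by simpa using hdvd)
  obtain ⟨t, ht⟩ := exists_orderOf_nine S.shape
  set T := Subgroup.zpowers t with hT
  have hTcard : Nat.card T = 9 := by rw [hT, Nat.card_zpowers, ht]
  have h3d : ¬ 3 ∣ 34 * d := by
    rw [hj]; intro h
    rcases (Nat.Prime.dvd_mul Nat.prime_three).1 h with h | h
    · norm_num at h
    · exact absurd (Nat.prime_three.dvd_of_dvd_pow h) (by norm_num)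
  have hfac : (Nat.card X).factorization 3 = 2 := by
    rw [hG, show 306 * d = 3 ^ 2 * (34 * d) by ring]
    exact factorization_odd_part h3d
  let Q : Sylow 3 X := Sylow.ofCard T (by rw [hTcard, hfac]; rfl)
  set N := Subgroup.normalizer ((T : Subgroup X) : Set X) with hN
  have hn : Nat.card (Sylow 3 X) = N.index := Sylow.card_eq_index_normalizer Q
  have hTi : T.index = 34 * d := by
    have h := T.index_mul_card
    rw [hTcard, hG] at h; omega
  have hdv : Nat.card (Sylow 3 X) ∣ 34 * d := hTi ▸ Q.card_dvd_index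
  have hmod : Nat.card (Sylow 3 X) % 3 = 1 := card_sylow_modEq_one 3 X
  have hNc := N.index_mul_card
  rw [← hn, hG] at hNc
  have semireg : ∀ x ∈ T, ∀ c : Ω, x • c = c → x = 1 := by
    intro x hx c hc
    haveI := S.trans
    obtain ⟨g, hg⟩ := exists_smul_eq X c S.a
    have hmem : g * x * g⁻¹ ∈ stabilizer X S.a := by
      rw [mem_stabilizer_iff, mul_smul, mul_smul, inv_smul_eq_iff.2 hg.symm, hc, hg]
    have h1 := (stabilizer X S.a).orderOf_dvd_natCard hmem
    rw [S.card_stab hb, ← hd, ← MulAut.conj_apply, MulEquiv.orderOf_eq] at h1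
    have h2 := T.orderOf_dvd_natCard hx
    rw [hTcard] at h2
    have hcop : Nat.Coprime 9 (17 * d) := by
      rw [hj]
      exact Nat.Coprime.mul_right (by norm_num) (Nat.Coprime.pow_right _ (by norm_num))
    exact orderOf_eq_one_iff.1 (Nat.eq_one_of_dvd_coprimes hcop h2 h1)
  haveI : IsCyclic T := ⟨⟨⟨t, Subgroup.mem_zpowers t⟩, fun x => by
    obtain ⟨n, hn⟩ := Subgroup.mem_zpowers_iff.1 x.2
    exact ⟨n, Subtype.ext hn⟩⟩⟩
  let ψ : N →* MulAut T :=
    { toFun := fun x =>
        { toFun := fun y => ⟨x * y * (x : X)⁻¹, (Subgroup.mem_normalizer_iff.1 x.2 y).1 y.2⟩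
          invFun := fun y => ⟨(x : X)⁻¹ * y * x, by
            simpa using (Subgroup.mem_normalizer_iff.1 (inv_mem x.2) y).1 y.2⟩
          left_inv := fun y => Subtype.ext (by simp [mul_assoc])
          right_inv := fun y => Subtype.ext (by simp [mul_assoc])
          map_mul' := fun y z => Subtype.ext (by simp [mul_assoc]) }
      map_one' := MulEquiv.ext fun y => Subtype.ext (by simp)
      map_mul' := fun x z => MulEquiv.ext fun y => Subtype.ext (by simp [mul_assoc]) }
  have haut : Nat.card (MulAut T) = 6 := by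
    rw [IsCyclic.card_mulAut, hTcard]
    decide
  have hker : ∀ x : N, x ∈ ψ.ker → ∀ y ∈ T, (x : X) * y = y * x := fun x hx y hy =>
    mul_inv_eq_iff_eq_mul.1 (congrArg Subtype.val (DFunLike.congr_fun hx ⟨y, hy⟩))
  have h17 : 17 ∣ Nat.card (Sylow 3 X) := by
    by_contra h17
    have h17N : 17 ∣ Nat.card N :=
      ((Nat.Prime.dvd_mul prime_seventeen).1 (hNc ▸ (Dvd.dvd.mul_right (by norm_num) d :
        17 ∣ 306 * d))).resolve_left h17
    obtain ⟨u, hu⟩ := exists_prime_orderOf_dvd_card' 17 h17N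
    have huk : u ∈ ψ.ker := by
      rw [MonoidHom.mem_ker, ← orderOf_eq_one_iff]
      exact Nat.eq_one_of_dvd_coprimes (by norm_num : Nat.Coprime 17 6)
        (hu ▸ orderOf_map_dvd ψ u) (haut ▸ orderOf_dvd_natCard _)
    have hu17 : (u : X) ^ 17 = 1 := by
      rw [← hu]; exact congrArg Subtype.val (pow_orderOf_eq_one u)
    have hp : IsPGroup 17 (Subgroup.zpowers (u : X)) :=
      IsPGroup.of_card (n := 1) (by rw [Nat.card_zpowers, Subgroup.orderOf_coe, hu, pow_one])
    obtain ⟨c, hc⟩ : (fixedPoints (Subgroup.zpowers (u : X)) Ω).Nonempty :=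
      hp.nonempty_fixed_point_of_prime_not_dvd_card Ω (by rw [S.card_points]; norm_num)
    have huc : (u : X) • c = c := hc ⟨_, Subgroup.mem_zpowers _⟩
    have htne : t ≠ 1 := by rintro rfl; rw [orderOf_one] at ht; omega
    have htc : t • c ≠ c := fun h => htne (semireg t (Subgroup.mem_zpowers t) c h)
    have h1 : (u : X) = 1 := S.eq_one_of_two_fixed ⟨1, by simpa using hu17⟩ htc.symm huc
      (by rw [← mul_smul, hker u huk t (Subgroup.mem_zpowers t), mul_smul, huc])
    rw [← Subgroup.orderOf_coe, h1, orderOf_one] at hu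
    omega
  have h34 : Nat.card (Sylow 3 X) ≠ 34 := by
    intro h34
    rw [h34] at hNc
    haveI := Fact.mk Nat.prime_two
    obtain ⟨D, hD⟩ := Sylow.exists_subgroup_card_pow_prime 2 (G := N) (n := j)
      (by rw [show Nat.card N = 9 * 2 ^ j by rw [← hj]; omega]; exact dvd_mul_left _ _)
    let ρ := ψ.comp D.subtype
    have hrange : Nat.card ρ.range ≤ 2 := by
      refine Nat.le_of_dvd (by norm_num) ?_
      have h1 : Nat.card ρ.range ∣ 2 ^ j := hD ▸ Subgroup.card_range_dvd ρ
      have h2 : Nat.card ρ.range ∣ 6 := haut ▸ Subgroup.card_subgroup_dvd_card _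
      have h3 := Nat.dvd_gcd h1 h2
      have h4 : Nat.gcd (2 ^ j) 6 ∣ 2 := by
        interval_cases j <;> decide
      exact h3.trans h4
    have hk : 4 ≤ Nat.card ρ.ker := by
      have h1 := ρ.ker.index_mul_card
      rw [Subgroup.index_ker, hD, ← hj] at h1
      nlinarith
    have hinj : Function.Injective (fun z : T × ρ.ker => ((z.1 : X) * ((z.2 : D) : N)) • S.a) := by
      rintro ⟨y, e⟩ ⟨y', e'⟩ he
      simp only at he
      have hcomm : ∀ z ∈ T, Commute z ((y : X) * ((e : D) : N)) ∧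
          Commute z ((y' : X) * ((e' : D) : N)) := fun z hz =>
        ⟨Commute.mul_right (congrArg Subtype.val ((IsCyclic.commGroup (α := T)).mul_comm ⟨z, hz⟩ y))
          (hker _ e.2 z hz).symm,
         Commute.mul_right (congrArg Subtype.val ((IsCyclic.commGroup (α := T)).mul_comm ⟨z, hz⟩ y'))
          (hker _ e'.2 z hz).symm⟩
      set A := (y : X) * ((e : D) : N)
      set B := (y' : X) * ((e' : D) : N)
      have hx : (A⁻¹ * B) • S.a = S.a := by rw [mul_smul, ← he, inv_smul_smul]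
      have ht2 : t * t ≠ 1 := by
        intro h
        have := orderOf_dvd_of_pow_eq_one (n := 2) (by rw [pow_two, h] : t ^ 2 = 1)
        rw [ht] at this
        norm_num at this
      have htne : t ≠ 1 := by rintro rfl; simp at ht2
      have hfix : ∀ z ∈ T, (A⁻¹ * B) • z • S.a = z • S.a := fun z hz => by
        rw [← mul_smul, ← (((hcomm z hz).1.inv_right).mul_right (hcomm z hz).2).eq, mul_smul, hx]
      have hone : A⁻¹ * B = 1 := S.three_fixed _ S.a (t • S.a) ((t * t) • S.a)
        (fun h => htne (semireg t (Subgroup.mem_zpowers t) _ h.symm))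
        (fun h => htne (semireg t (Subgroup.mem_zpowers t) _ (smul_left_cancel t
          (h.trans (mul_smul t t S.a))).symm))
        (fun h => ht2 (semireg _ (mul_mem (Subgroup.mem_zpowers t) (Subgroup.mem_zpowers t)) _ h.symm))
        hx (hfix t (Subgroup.mem_zpowers t))
        (hfix _ (mul_mem (Subgroup.mem_zpowers t) (Subgroup.mem_zpowers t)))
      have hAB : A = B := inv_mul_eq_one.1 hone
      have hye : (y' : X)⁻¹ * y = ((e' : D) : N) * (((e : D) : N) : X)⁻¹ := by
        rw [inv_mul_eq_iff_eq_mul, ← mul_assoc, eq_mul_inv_iff_mul_eq]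
        exact hAB
      have ho1 : orderOf ((y' : X)⁻¹ * y) ∣ 9 :=
        hTcard ▸ T.orderOf_dvd_natCard (mul_mem (inv_mem y'.2) y.2)
      have ho2 : orderOf ((y' : X)⁻¹ * y) ∣ 2 ^ j := by
        rw [hye, show (((e' : D) : N) : X) * (((e : D) : N) : X)⁻¹ =
          ((((e' : D) * (e : D)⁻¹ : D) : N) : X) from rfl, Subgroup.orderOf_coe, Subgroup.orderOf_coe,
          ← hD]
        exact orderOf_dvd_natCard _
      have h1 := orderOf_eq_one_iff.1 (Nat.eq_one_of_dvd_coprimes
        (Nat.Coprime.pow_right j (by norm_num : Nat.Coprime 9 2)) ho1 ho2)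
      have hyy : y' = y := Subtype.ext (inv_mul_eq_one.1 h1)
      subst hyy
      exact Prod.ext rfl (Subtype.ext (Subtype.ext (Subtype.ext (mul_left_cancel hAB))))
    have := Nat.card_le_card_of_injective _ hinj
    rw [Nat.card_prod, hTcard, S.card_points] at this
    omega
  obtain ⟨m, hm⟩ := h17
  have hm8 : m ≤ 8 := by omega
  have hj16 : 34 * d ∣ 544 := by
    rw [hj]; exact Dvd.dvd.trans (Nat.mul_dvd_mul_left 34 (pow_dvd_pow 2 hj4)) (by norm_num)
  have h544 := hdv.trans hj16
  rw [hm] at hmod h544 h34 ⊢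
  interval_cases m <;> first | omega | norm_num at h544

end Counts


end CfsgLib.Recog.SylowPSLSeventeen
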