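import Cfsg.Agent.Lib.Recog.MinusEightWitness
import Cfsg.Agent.Lib.Orth.CharTwo
import Cfsg.Agent.Lib.Orth.NegOne
import Cfsg.Agent.Lib.Sp.Group

/-!
The element orders of `Sp(8, q)`, of the orthogonal group of minus type in dimension eight and of
the extension of its Dickson kernel by the natural module, for even `q`.
-/

set_option autoImplicit false

namespace CfsgLib.Recog.SympEightSpectrum

open IsometryBlocks EightDimOrders MinusEightWitness SelfReciprocalRoots Matrix QuadraticMap
open CfsgLib.Orth (O app minusQ minusQ_coe dickson dicksonHom fixS mkO app_mkO)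

set_option linter.unusedSectionVars false

variable {F : Type*} [Field F] [Fintype F] [CharP F 2]

/-- The form is anisotropic. -/
def Aniso (a b : F) : Prop := ∀ z, qX a b z = 0 → z = 0

theorem aniso_of_forall {a b : F}
    (h : ∀ z₁ z₂ : F, z₁ ^ 2 + a * z₁ * z₂ + b * z₂ ^ 2 = 0 → z₁ = 0 ∧ z₂ = 0) : Aniso a b :=
  fun z hz => Prod.ext (h z.1 z.2 hz).1 (h z.1 z.2 hz).2

theorem exists_aniso : ∃ b : F, Aniso 1 b := by
  have hns : ¬ Function.Surjective (fun t : F => t ^ 2 + t) := fun hs => by
    have h := Finite.injective_iff_surjective.2 hs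
      (show (fun t : F => t ^ 2 + t) 1 = (fun t : F => t ^ 2 + t) 0 by
        simp [CharTwo.add_self_eq_zero])
    exact one_ne_zero h
  obtain ⟨b, hb⟩ : ∃ b : F, ∀ t : F, t ^ 2 + t ≠ b := by
    simpa [Function.Surjective] using hns
  refine ⟨b, fun z hz => ?_⟩
  by_cases h2 : z.2 = 0
  · simp only [qX, h2, mul_zero, add_zero, zero_pow two_ne_zero] at hz
    exact Prod.ext (pow_eq_zero_iff two_ne_zero |>.1 hz) h2
  · refine absurd ?_ (hb (z.1 / z.2))
    simp only [qX] at hz
    field_simp
    linear_combination hz - b * z.2 ^ 2 * CharTwo.two_eq_zero (R := F)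

theorem left_ne_zero {a b : F} (han : Aniso a b) : a ≠ 0 := by
  intro ha
  obtain ⟨s, hs⟩ := FiniteField.isSquare_of_char_two (ringChar.eq_iff.2 inferInstance) b
  have := han (s, 1) (by
    simp only [qX, ha, hs]
    linear_combination s * s * CharTwo.two_eq_zero (R := F))
  exact one_ne_zero (congrArg Prod.snd this)

variable {a b : F}

theorem nondegenerate (han : Aniso a b) : (minusQ 3 F a b).polarBilin.Nondegenerate := by
  have ha := left_ne_zero han
  have h2 := CharTwo.two_eq_zero (R := F)
  have key : ∀ x, (∀ y, polar (minusQ 3 F a b) x y = 0) → x = 0 := fun x hx => funext fun j => by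
    rcases j with (i | i) | k
    · have := hx (Pi.single (Sum.inl (Sum.inr i)) 1)
      simpa [Orth.polar_minusQ, Pi.single_apply, Finset.sum_add_distrib] using this
    · have := hx (Pi.single (Sum.inl (Sum.inl i)) 1)
      simpa [Orth.polar_minusQ, Pi.single_apply, Finset.sum_add_distrib] using this
    · fin_cases k
      · have := hx (Pi.single (Sum.inr 1) 1)
        simpa [Orth.polar_minusQ, Pi.single_apply, h2, ha] using this
      · have := hx (Pi.single (Sum.inr 0) 1)
        simpa [Orth.polar_minusQ, Pi.single_apply, h2, ha] using this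
  exact ⟨key, fun y hy => key y fun x => by rw [polar_comm]; exact hy x⟩

theorem gens (han : Aniso a b) : Orth.reflClosure (minusQ 3 F a b) = ⊤ :=
  Orth.reflClosure_eq_top (nondegenerate han) (Or.inr (by simp))

/-- An isometry as a linear automorphism. -/
noncomputable def toAut (a b : F) : O (minusQ 3 F a b) →* ((Idx → F) ≃ₗ[F] (Idx → F)) where
  toFun g := LinearEquiv.ofLinear (app g) (app g⁻¹)
    (LinearMap.ext fun x => Orth.app_app_inv g x) (LinearMap.ext fun x => Orth.app_inv_app g x)
  map_one' := LinearEquiv.ext fun x => Orth.app_one x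
  map_mul' g h := LinearEquiv.ext fun x => Orth.app_mul g h x

@[simp] theorem toAut_apply (g : O (minusQ 3 F a b)) (x : Idx → F) : toAut a b g x = app g x := rfl

theorem toAut_injective : Function.Injective (toAut a b) := fun _ _ e =>
  Orth.ext_app fun x => LinearEquiv.congr_fun e x

theorem exists_toAut {g : (Idx → F) ≃ₗ[F] (Idx → F)}
    (hg : ∀ x, Cfsg.quadFormMinus 3 F a b (g x) = Cfsg.quadFormMinus 3 F a b x) :
    ∃ g' : O (minusQ 3 F a b), toAut a b g' = g :=
  ⟨mkO g.toLinearMap g.symm.toLinearMap (LinearMap.ext fun x => g.apply_symm_apply x)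
    (LinearMap.ext fun x => g.symm_apply_apply x)
    (fun x => by rw [minusQ_coe]; exact hg x), LinearEquiv.ext fun x => app_mkO _ _ _ _ _ x⟩

theorem mem_orders_of_pow_eq_one {n : ℕ} {e : ℕ × ℕ} (he : e ∈ bounds (Fintype.card F))
    (h : n ∣ 2 ^ e.1 * e.2) : n ∈ orders (Fintype.card F) := ⟨e, he, h⟩

/-- The Gram matrix. -/
noncomputable def gram (a b : F) : Matrix Idx Idx F :=
  LinearMap.BilinForm.toMatrix' (minusQ 3 F a b).polarBilin

theorem gram_preserved (g : O (minusQ 3 F a b)) :
    ((g : GL Idx F) : Matrix Idx Idx F)ᵀ * gram a b * ((g : GL Idx F) : Matrix Idx Idx F) =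
      gram a b := by
  apply (Matrix.toBilin' (n := Idx) (R₁ := F)).injective
  refine LinearMap.ext fun u => LinearMap.ext fun v => ?_
  rw [Matrix.toBilin'_apply', ← mulVec_mulVec, ← mulVec_mulVec, dotProduct_mulVec u,
    vecMul_transpose, ← Matrix.toBilin'_apply', gram, Matrix.toBilin'_toMatrix']
  exact Orth.polar_app g u v

theorem gram_det (han : Aniso a b) : IsUnit (gram a b).det :=
  isUnit_iff_ne_zero.2
    ((LinearMap.BilinForm.nondegenerate_iff_det_ne_zero (Pi.basisFun F Idx)).1 (nondegenerate han))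

open scoped Classical in
theorem exists_bound_O (han : Aniso a b) (g : O (minusQ 3 F a b)) :
    ∃ e ∈ bounds (Fintype.card F), orderOf g ∣ 2 ^ e.1 * e.2 ∧
      (eigen ((g : GL Idx F) : Matrix Idx Idx F)).count 1 ≤ 2 ^ e.1 := by
  obtain ⟨e, he, hpow, hcnt⟩ := exists_bound_of_preserves (by simp) (gram_det han) (gram_preserved g)
  refine ⟨e, he, orderOf_dvd_of_pow_eq_one (Subtype.ext (Units.ext ?_)), hcnt⟩
  simpa using hpow

theorem range_orderOf_O (han : Aniso a b) :
    Set.range (orderOf : O (minusQ 3 F a b) → ℕ) = orders (Fintype.card F) := by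
  refine Set.Subset.antisymm ?_ ?_
  · rintro _ ⟨g, rfl⟩
    obtain ⟨e, he, hd, -⟩ := exists_bound_O han g
    exact ⟨e, he, hd⟩
  · rintro d ⟨e, he, hd⟩
    have hM := (bounds_spec Fintype.one_lt_card even_card he).1
    obtain ⟨g, hg, ho⟩ := (good_of_mem han he).1.of_dvd (by positivity) hd
    obtain ⟨g', rfl⟩ := exists_toAut hg
    exact ⟨g', by rwa [orderOf_injective _ toAut_injective] at ho⟩

theorem center_symplectic :
    Subgroup.center (symplecticGroup (Fin 4) F) = ⊥ := by
  rw [Subgroup.eq_bot_iff_forall]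
  intro A hA
  rcases Sp.mem_center_iff.1 hA with h | h
  · exact Subtype.ext h
  · refine Subtype.ext (h.trans ?_)
    ext i j
    simp [CharTwo.neg_eq]

theorem range_orderOf_PSp :
    Set.range (orderOf : Cfsg.PSp 4 F → ℕ) = orders (Fintype.card F) := by
  obtain ⟨b, han⟩ := exists_aniso (F := F)
  let π : symplecticGroup (Fin 4) F ≃* Cfsg.PSp 4 F :=
    (QuotientGroup.quotientBot.symm).trans (QuotientGroup.quotientMulEquivOfEq center_symplectic.symm)
  have hπ : Set.range (orderOf : Cfsg.PSp 4 F → ℕ) =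
      Set.range (orderOf : symplecticGroup (Fin 4) F → ℕ) := by
    ext d
    exact ⟨fun ⟨x, hx⟩ => ⟨π.symm x, by rw [MulEquiv.orderOf_eq]; exact hx⟩,
      fun ⟨x, hx⟩ => ⟨π x, by rw [MulEquiv.orderOf_eq]; exact hx⟩⟩
  rw [hπ]
  refine Set.Subset.antisymm ?_ ?_
  · rintro _ ⟨A, rfl⟩
    obtain ⟨e, he, hpow, -⟩ := exists_bound_of_preserves (A := A.1) (by simp)
      (Matrix.isUnit_det_J (Fin 4) F) (SymplecticGroup.mem_iff'.1 A.2)
    exact ⟨e, he, orderOf_dvd_of_pow_eq_one (Subtype.ext (by simpa using hpow))⟩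
  · rw [← range_orderOf_O han]
    rintro _ ⟨g, rfl⟩
    have h3 : ∀ (p : Fin 3 → F) (c : F), (Fin.snoc p c : Fin 4 → F) 3 = c := fun p c =>
      Fin.snoc_last (α := fun _ => F) c p
    let e : (Fin 4 ⊕ Fin 4 → F) ≃ₗ[F] (Idx → F) :=
      { toFun := fun u => Sum.elim
          (Sum.elim (fun i => u (.inl i.castSucc)) (fun i => u (.inr i.castSucc)))
          ![u (.inl 3), u (.inr 3)]
        invFun := fun w => Sum.elim
          (Fin.snoc (fun i => w (.inl (.inl i))) (w (.inr 0)))
          (Fin.snoc (fun i => w (.inl (.inr i))) (w (.inr 1)))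
        map_add' := fun x y => by ext ((i | i) | i) <;> (try fin_cases i) <;> simp
        map_smul' := fun c x => by ext ((i | i) | i) <;> (try fin_cases i) <;> simp
        left_inv := fun u => by
          ext (i | i) <;> refine Fin.lastCases ?_ (fun j => ?_) i <;> simp [h3, show Fin.last 3 = 3 from rfl]
        right_inv := fun w => by
          ext ((i | i) | i) <;> (try fin_cases i) <;> simp [h3, show Fin.last 3 = 3 from rfl] }
    have hform : ∀ u v, polar (minusQ 3 F 1 b) (e u) (e v) = Cfsg.sympForm 4 F u v := by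
      intro u v
      simp [Orth.polar_minusQ, Sp.sympForm_eq_sum, e, Fin.sum_univ_castSucc, CharTwo.two_eq_zero,
        CharTwo.sub_eq_add, show Fin.last 3 = 3 from rfl]
      ring
    have hmem : autCongr e.symm (toAut 1 b g) ∈ Sp.isom (Sp.sympBilin 4 F) := by
      intro u v
      obtain ⟨x, rfl⟩ := e.symm.surjective u
      obtain ⟨y, rfl⟩ := e.symm.surjective v
      simp only [autCongr_apply, Sp.sympBilin_apply, ← hform, LinearEquiv.apply_symm_apply,
        toAut_apply, Orth.polar_app]
    obtain ⟨A, hA⟩ := Sp.exists_toEquiv_eq hmem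
    exact ⟨A, by rw [← orderOf_injective _ Sp.toEquiv_injective, hA, MulEquiv.orderOf_eq,
      orderOf_injective _ toAut_injective]⟩

section Affine

variable (han : Aniso a b)

/-- The kernel of the Dickson invariant. -/
noncomputable abbrev Ker : Subgroup (O (minusQ 3 F a b)) :=
  (dicksonHom (nondegenerate han) (gens han)).ker

/-- The action on the natural module. -/
noncomputable def act : Ker han →* MulAut (Multiplicative (Idx → F)) where
  toFun g := AddEquiv.toMultiplicative (toAut a b g.1).toAddEquiv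
  map_one' := MulEquiv.ext fun _ => by simp
  map_mul' g h := MulEquiv.ext fun _ => by simp

theorem act_apply (g : Ker han) (v : Idx → F) :
    act han g (Multiplicative.ofAdd v) = Multiplicative.ofAdd (app g.1 v) := rfl

/-- The extension of the kernel by the natural module. -/
abbrev Ext : Type _ := Multiplicative (Idx → F) ⋊[act han] Ker han

theorem right_pow (x : Ext han) (n : ℕ) : (x ^ n).right = x.right ^ n :=
  map_pow SemidirectProduct.rightHom x n

instance : Finite (Ext han) := Finite.of_equiv _ SemidirectProduct.equivProd.symm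

theorem ext_pow_left (x : Ext han) (n : ℕ) :
    (x ^ n).left = Multiplicative.ofAdd
      (∑ i ∈ Finset.range n, (toAut a b x.right.1 ^ i) x.left.toAdd) := by
  induction n with
  | zero => simp
  | succ n ih =>
    rw [pow_succ, SemidirectProduct.mul_left, ih, right_pow,
      ← Multiplicative.ofAdd.apply_symm_apply x.left, act_apply, ← ofAdd_add, Finset.sum_range_succ]
    congr 2
    rw [SubgroupClass.coe_pow, ← toAut_apply, map_pow]
    rfl

theorem ext_pow_two_mul (x : Ext han) : x ^ (2 * orderOf x.right) = 1 := by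
  refine SemidirectProduct.ext ?_ ?_
  · rw [ext_pow_left, sum_range_mul _ (fun i => ?_), SemidirectProduct.one_left, two_nsmul]
    · refine Multiplicative.toAdd.injective (funext fun i => ?_)
      simp [CharTwo.add_self_eq_zero]
    · rw [pow_add, show toAut a b x.right.1 ^ orderOf x.right = 1 by
        rw [← map_pow, ← SubgroupClass.coe_pow, pow_orderOf_eq_one, OneMemClass.coe_one, map_one],
        mul_one]
  · rw [right_pow, pow_mul', pow_orderOf_eq_one, one_pow]
    rfl

theorem even_finrank_fixS (g : Ker han) : Even (Module.finrank F (fixS g.1)) := by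
  have hg : dickson g.1 = 1 := g.2
  have hle := Orth.finrank_fix_le_card g.1
  rw [dickson] at hg
  simp only [Fintype.card_sum, Fintype.card_fin] at hg hle
  by_contra hodd
  rw [Nat.not_even_iff_odd] at hodd
  have : Odd (3 + 3 + 2 - Module.finrank F (fixS g.1)) :=
    Nat.Even.sub_odd hle (by decide) hodd
  rw [Odd.neg_one_pow this] at hg
  exact absurd hg (by decide)

theorem orderOf_mem_orders (x : Ext han) : orderOf x ∈ orders (Fintype.card F) := by
  set g := x.right with hgdef
  set A := ((g.1 : GL Idx F) : Matrix Idx Idx F) with hAdef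
  obtain ⟨e, he, hd, hcnt⟩ := exists_bound_O han g.1
  rw [Subgroup.orderOf_coe] at hd
  have hpos : 0 < orderOf g := orderOf_pos g
  set n := orderOf g
  set w := ∑ i ∈ Finset.range n, (toAut a b g.1 ^ i) x.left.toAdd with hw
  by_cases hw0 : w = 0
  · refine ⟨e, he, (orderOf_dvd_of_pow_eq_one (SemidirectProduct.ext ?_ ?_)).trans hd⟩
    · rw [ext_pow_left, ← hw, hw0]
      rfl
    · rw [right_pow]
      exact pow_orderOf_eq_one g
  obtain ⟨c, M, hM, hn⟩ := Nat.exists_eq_pow_mul_and_not_dvd hpos.ne' 2 (by norm_num)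
  have hApow : ∀ i v, (toAut a b g.1 ^ i) v = A ^ i *ᵥ v := by
    intro i v
    rw [← map_pow, toAut_apply, Orth.app_apply, SubgroupClass.coe_pow, Units.val_pow_eq_pow_val]
  have hAn : A ^ n = 1 := by
    have := congrArg (fun h : Ker han => ((h.1 : GL Idx F) : Matrix Idx Idx F)) (pow_orderOf_eq_one g)
    simp only [SubgroupClass.coe_pow, Units.val_pow_eq_pow_val, OneMemClass.coe_one,
      Units.val_one] at this
    exact this
  have hS : (∑ i ∈ Finset.range n, A ^ i) *ᵥ x.left.toAdd = w := by
    simp only [hw, hApow, Matrix.sum_mulVec]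
  have hfix : fixS g.1 = LinearMap.ker (Matrix.toLin' (A - 1)) := by
    ext v
    rw [Orth.mem_fixS, LinearMap.mem_ker, Matrix.toLin'_apply, Matrix.sub_mulVec, Matrix.one_mulVec,
      sub_eq_zero, Orth.app_apply]
  have h2le : 2 ≤ Module.finrank F (LinearMap.ker (Matrix.toLin' (A - 1))) := by
    have hmem : w ∈ LinearMap.ker (Matrix.toLin' (A - 1)) := by
      rw [LinearMap.mem_ker, Matrix.toLin'_apply, ← hS, Matrix.mulVec_mulVec, mul_geom_sum, hAn,
        sub_self, Matrix.zero_mulVec]
    have hne : Module.finrank F (LinearMap.ker (Matrix.toLin' (A - 1))) ≠ 0 := fun h0 => by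
      rw [Submodule.finrank_eq_zero] at h0
      rw [h0, Submodule.mem_bot] at hmem
      exact hw0 hmem
    obtain ⟨k, hk⟩ := even_finrank_fixS han g
    rw [hfix] at hk
    omega
  have hlt := lt_count_one (A := A) (a := c) (M := M) (v := x.left.toAdd) (by rw [← hn]; exact hAn)
    (by rw [← hn, hS]; exact hw0) h2le
  have hce : c < e.1 := (Nat.pow_lt_pow_iff_right (by norm_num)).1 (hlt.trans_le hcnt)
  have hMe : M ∣ e.2 := by
    refine Nat.Coprime.dvd_of_dvd_mul_left (Nat.Coprime.pow_right _ ?_)
      ((Dvd.intro_left _ hn.symm).trans hd)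
    exact Nat.coprime_two_right.2 (Nat.odd_iff.2 (by omega))
  refine ⟨e, he, (orderOf_dvd_of_pow_eq_one (ext_pow_two_mul han x)).trans ?_⟩
  change 2 * n ∣ _
  rw [hn, ← mul_assoc, ← pow_succ']
  exact Nat.mul_dvd_mul (pow_dvd_pow 2 hce) hMe

theorem mem_ker_of_odd {g : O (minusQ 3 F a b)} (h : Odd (orderOf g)) : g ∈ Ker han := by
  rw [MonoidHom.mem_ker]
  rcases Int.units_eq_one_or (dicksonHom (nondegenerate han) (gens han) g) with h1 | h1
  · exact h1
  · have h2 := congrArg (fun u => u ^ orderOf g) h1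
    simp only [← map_pow, pow_orderOf_eq_one, map_one, Odd.neg_one_pow h] at h2
    exact absurd h2 (by decide)

theorem mem_ker_of_even {h : O (minusQ 3 F a b)}
    (hev : Even (Module.finrank F (fixed (toAut a b h)))) : h ∈ Ker han := by
  have e : fixed (toAut a b h) = fixS h := by
    ext v
    rw [mem_fixed, Orth.mem_fixS, toAut_apply]
  rw [e] at hev
  rw [MonoidHom.mem_ker]
  change dickson h = 1
  have hle := Orth.finrank_fix_le_card h
  rw [dickson]
  refine Even.neg_one_pow ?_
  rw [Nat.even_sub hle]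
  simpa [parity_simps] using hev

theorem orders_subset_range : orders (Fintype.card F) ⊆ Set.range (orderOf : Ext han → ℕ) := by
  have hlift : ∀ {n : ℕ}, n ∈ Set.range (orderOf : Ext han → ℕ) → ∀ {d : ℕ}, d ∣ n →
      d ∈ Set.range (orderOf : Ext han → ℕ) := by
    rintro n ⟨x, rfl⟩ d hd
    exact ⟨x ^ (orderOf x / d), orderOf_pow_orderOf_div (orderOf_pos x).ne' hd⟩
  rintro d ⟨e, he, hd⟩
  have hodd := (bounds_spec Fintype.one_lt_card even_card he).2
  refine hlift ?_ hd
  obtain ⟨hE, h0 | hD⟩ := good_of_mem han he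
  · rw [h0, pow_zero, one_mul] at hE ⊢
    obtain ⟨g, hg, ho⟩ := hE
    obtain ⟨g', rfl⟩ := exists_toAut hg
    rw [orderOf_injective _ toAut_injective] at ho
    refine ⟨SemidirectProduct.inr ⟨g', mem_ker_of_odd han (ho ▸ hodd)⟩, ?_⟩
    rw [orderOf_injective _ SemidirectProduct.inr_injective, Subgroup.orderOf_mk, ho]
  obtain ⟨g, h, v, hg, hh, hc, hog, hoh, hev, hs⟩ := hD
  obtain ⟨g', rfl⟩ := exists_toAut hg
  obtain ⟨h', rfl⟩ := exists_toAut hh
  rw [orderOf_injective _ toAut_injective] at hog hoh
  have hc' : Commute g' h' := toAut_injective (by rw [map_mul, map_mul]; exact hc.eq)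
  let k : Ker han :=
    ⟨g' * h', mul_mem (mem_ker_of_odd han (hog ▸ hodd)) (mem_ker_of_even han hev)⟩
  let x : Ext han := ⟨Multiplicative.ofAdd v, k⟩
  have hb1 : 1 ≤ e.1 ∨ e.1 = 0 := by omega
  rcases hb1 with hb1 | hb0
  swap
  · rw [hb0] at hs hoh ⊢
    obtain ⟨g, hg, ho⟩ := hE
    rw [hb0, pow_zero, one_mul] at ho
    obtain ⟨g', rfl⟩ := exists_toAut hg
    rw [orderOf_injective _ toAut_injective] at ho
    refine ⟨SemidirectProduct.inr ⟨g', mem_ker_of_odd han (ho ▸ hodd)⟩, ?_⟩
    rw [orderOf_injective _ SemidirectProduct.inr_injective, Subgroup.orderOf_mk, ho, pow_zero, one_mul]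
  have hok : orderOf k = e.2 * 2 ^ (e.1 - 1) := by
    rw [Subgroup.orderOf_mk, hc'.orderOf_mul_eq_mul_orderOf_of_coprime
      (by rw [hog, hoh]; exact Nat.Coprime.pow_right _ (Nat.coprime_two_right.2 hodd)), hog, hoh]
  have hxn : x ^ orderOf k ≠ 1 := by
    intro hone
    refine hs ?_
    have := congrArg (fun y : Ext han => y.left.toAdd) hone
    simp only [ext_pow_left, SemidirectProduct.one_left, toAdd_one, toAdd_ofAdd] at this
    rw [hok] at this
    simp only [x, k, map_mul, toAdd_ofAdd] at this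
    exact this
  have hdvd : orderOf x ∣ orderOf k * 2 := by
    rw [Nat.mul_comm]
    exact orderOf_dvd_of_pow_eq_one (ext_pow_two_mul han x)
  have hkd : orderOf k ∣ orderOf x := orderOf_map_dvd SemidirectProduct.rightHom x
  obtain ⟨t, ht⟩ := hkd
  rw [ht] at hdvd
  have ht2 : t ∣ 2 := Nat.dvd_of_mul_dvd_mul_left (orderOf_pos k) hdvd
  refine ⟨x, ?_⟩
  rcases (Nat.dvd_prime Nat.prime_two).1 ht2 with rfl | rfl
  · rw [mul_one] at ht
    exact absurd (ht ▸ pow_orderOf_eq_one x) hxn
  · rw [ht, hok, mul_assoc, ← pow_succ, Nat.sub_add_cancel hb1, Nat.mul_comm]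

theorem range_orderOf_Ext : Set.range (orderOf : Ext han → ℕ) = orders (Fintype.card F) := by
  refine Set.Subset.antisymm ?_ (orders_subset_range han)
  rintro _ ⟨x, rfl⟩
  exact orderOf_mem_orders han x

end Affine

end CfsgLib.Recog.SympEightSpectrum
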