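import Mathlib

/-!
Lucido's three primes lemma, by a norm argument.
-/

set_option autoImplicit false

namespace CfsgLib.Recog.ThreePrimes

variable {G : Type*} [Group G] [Finite G]

theorem exists_orderOf_eq_mul_of_commute {a b : G} {p q : ℕ} (hp : p.Prime) (hq : q.Prime)
    (hpq : p ≠ q) (hc : Commute a b) (ha : p ∣ orderOf a) (hb : q ∣ orderOf b) :
    ∃ x : G, orderOf x = p * q := by
  refine ⟨a ^ (orderOf a / p) * b ^ (orderOf b / q), ?_⟩
  have h1 := orderOf_pow_orderOf_div (orderOf_pos a).ne' ha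
  have h2 := orderOf_pow_orderOf_div (orderOf_pos b).ne' hb
  rw [(hc.pow_pow _ _).orderOf_mul_eq_mul_orderOf_of_coprime, h1, h2]
  rw [h1, h2]
  exact (Nat.coprime_primes hp hq).2 hpq

theorem dvd_orderOf_of_isPGroup {H : Subgroup G} {p : ℕ} (hp : p.Prime) (hH : IsPGroup p H)
    {a : G} (ha : a ∈ H) (ha1 : a ≠ 1) : p ∣ orderOf a := by
  have : Fact p.Prime := ⟨hp⟩
  obtain ⟨k, hk⟩ := IsPGroup.iff_orderOf.1 hH ⟨a, ha⟩
  rw [Subgroup.orderOf_mk] at hk
  rcases k with _ | k
  · exact absurd (orderOf_eq_one_iff.1 (by simpa using hk)) ha1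
  · exact hk ▸ dvd_pow_self p (Nat.succ_ne_zero k)

/-- If `E ⋊ ⟨x⟩` is a Frobenius group acting without fixed points on an abelian `p`-group `N`,
and `p` does not divide the order of `E`, then `N` is trivial. -/
theorem eq_bot_of_frobenius_fpf (N E : Subgroup G) (x : G) {p r : ℕ} (hr : r.Prime)
    (hNc : ∀ a ∈ N, ∀ b ∈ N, a * b = b * a) (hxr : orderOf x = r)
    (hE : E ≠ ⊥) (hxE : x ∈ Subgroup.normalizer (E : Set G))
    (hxN : x ∈ Subgroup.normalizer (N : Set G)) (hEN : E ≤ Subgroup.normalizer (N : Set G))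
    (hNp : IsPGroup p N) (hpE : (Nat.card E).Coprime p)
    (hcEN : ∀ e ∈ E, ∀ v ∈ N, Commute e v → e = 1 ∨ v = 1)
    (hcxE : ∀ e ∈ E, Commute x e → e = 1) (hcxN : ∀ v ∈ N, Commute x v → v = 1) :
    N = ⊥ := by
  classical
  have : Fintype E := Fintype.ofFinite E
  letI : CommGroup N :=
    { (inferInstance : Group N) with mul_comm := fun a b => Subtype.ext (hNc _ a.2 _ b.2) }
  let F : Subgroup.normalizer (N : Set G) → (N →* N) := fun g =>
    { toFun := fun v => ⟨g.1 * v.1 * g.1⁻¹, (Subgroup.mem_normalizer_iff.1 g.2 v).1 v.2⟩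
      map_one' := by ext; simp
      map_mul' := fun a b => by ext; simp [mul_assoc] }
  have hFm : ∀ g h v, F (g * h) v = F g (F h v) := by
    intro g h v; ext; simp [F, mul_assoc]
  have hFc : ∀ g v, F g v = v → Commute (g : G) (v : G) := by
    intro g v h
    have := congrArg Subtype.val h
    simp only [F, MonoidHom.coe_mk, OneHom.coe_mk] at this
    exact mul_inv_eq_iff_eq_mul.1 this
  set X : Subgroup.normalizer (N : Set G) := ⟨x, hxN⟩ with hX
  let ι : E → Subgroup.normalizer (N : Set G) := fun e => ⟨e, hEN e.2⟩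
  -- the norm of `x`
  have hsum : ∀ v : N, ∏ i ∈ Finset.range r, F (X ^ i) v = 1 := by
    intro v
    set w := ∏ i ∈ Finset.range r, F (X ^ i) v
    have hX1 : X ^ r = 1 := by
      ext; simp [X, ← hxr, pow_orderOf_eq_one]
    have h1 : F X w = ∏ i ∈ Finset.range r, F (X ^ (i + 1)) v := by
      simp only [w, map_prod, pow_succ', hFm]
    have h2 : (∏ i ∈ Finset.range r, F (X ^ (i + 1)) v) * F (X ^ 0) v = w * F (X ^ r) v :=
      (Finset.prod_range_succ' (fun i => F (X ^ i) v) r).symm.trans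
        (Finset.prod_range_succ (fun i => F (X ^ i) v) r)
    rw [hX1, pow_zero, mul_left_inj] at h2
    rw [h2] at h1
    exact Subtype.ext (hcxN w w.2 (hFc X w h1))
  -- the norm of `E`
  have hsumE : ∀ v : N, ∏ e : E, F (ι e) v = 1 := by
    intro v
    set w := ∏ e : E, F (ι e) v
    obtain ⟨e₀, he₀, he₀'⟩ := Subgroup.ne_bot_iff_exists_ne_one.1 hE |> fun ⟨a, ha⟩ =>
      (⟨a.1, a.2, fun h => ha (Subtype.ext h)⟩ : ∃ a, a ∈ E ∧ a ≠ 1)
    have h1 : F (ι ⟨e₀, he₀⟩) w = w := by
      simp only [w, map_prod, ← hFm]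
      exact Fintype.prod_equiv (Equiv.mulLeft (⟨e₀, he₀⟩ : E)) _ _ fun e => rfl
    rcases hcEN e₀ he₀ w w.2 (hFc _ w h1) with h | h
    · exact absurd h he₀'
    · exact Subtype.ext h
  refine (Subgroup.eq_bot_iff_forall N).2 fun v hv => ?_
  set w : N := ⟨v, hv⟩
  set S := Finset.Ico 1 r
  have hinv : ∀ u : N, ∏ i ∈ S, F (X ^ i) u = u⁻¹ := by
    intro u
    refine eq_inv_of_mul_eq_one_right ?_
    rw [← hsum u, Finset.range_eq_Ico, Finset.prod_eq_prod_Ico_succ_bot hr.pos]
    simp [F]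
    rfl
  have h1 : ∏ i ∈ S, ∏ e : E, F (ι e * X ^ i * (ι e)⁻¹) w = (w ^ Nat.card E)⁻¹ := by
    rw [Finset.prod_comm]
    have : ∀ e : E, ∏ i ∈ S, F (ι e * X ^ i * (ι e)⁻¹) w = w⁻¹ := by
      intro e
      simp only [hFm]
      rw [← map_prod, hinv, map_inv]
      congr 1
      rw [← hFm, mul_inv_cancel]
      ext; simp [F]
    simp [this, Nat.card_eq_fintype_card]
  have h2 : ∏ i ∈ S, ∏ e : E, F (ι e * X ^ i * (ι e)⁻¹) w = 1 := by
    refine Finset.prod_eq_one fun i hi => ?_
    simp only [S, Finset.mem_Ico] at hi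
    have hn : x ^ i ∈ Subgroup.normalizer (E : Set G) := Subgroup.pow_mem _ hxE i
    let ψ : E → E := fun e => ⟨e.1 * (x ^ i * e.1⁻¹ * (x ^ i)⁻¹),
      E.mul_mem e.2 ((Subgroup.mem_normalizer_iff.1 hn _).1 (E.inv_mem e.2))⟩
    have hψ : Function.Injective ψ := by
      intro a b hab
      have h : (a : G) * (x ^ i * a.1⁻¹ * (x ^ i)⁻¹) = b * (x ^ i * b.1⁻¹ * (x ^ i)⁻¹) :=
        congrArg Subtype.val hab
      simp only [← mul_assoc, mul_left_inj] at h
      have hc : Commute (x ^ i) ((b : G)⁻¹ * a) := by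
        calc x ^ i * ((b : G)⁻¹ * a) = b.1⁻¹ * (b * x ^ i * b.1⁻¹) * a := by group
          _ = b.1⁻¹ * (a * x ^ i * a.1⁻¹) * a := by rw [h]
          _ = (b : G)⁻¹ * a * x ^ i := by group
      have hco : (orderOf x).Coprime i := by
        rw [hxr]
        exact hr.coprime_iff_not_dvd.2 fun hd => absurd (Nat.le_of_dvd (by omega) hd) (by omega)
      obtain ⟨m, hm⟩ := exists_pow_eq_self_of_coprime (x := x) (Nat.coprime_comm.1 hco)
      have := hc.pow_left m
      rw [hm] at this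
      have h' := hcxE _ (E.mul_mem (E.inv_mem b.2) a.2) this
      exact Subtype.ext (inv_mul_eq_one.1 h').symm
    calc ∏ e : E, F (ι e * X ^ i * (ι e)⁻¹) w = ∏ e : E, F (ι (ψ e) * X ^ i) w := by
          refine Finset.prod_congr rfl fun e _ => ?_
          congr 2
          ext; simp [ι, ψ, X, mul_assoc]
      _ = ∏ e : E, F (ι e * X ^ i) w :=
          Fintype.prod_equiv (Equiv.ofBijective ψ (Finite.injective_iff_bijective.1 hψ))
            _ _ fun e => rfl
      _ = 1 := by simp only [hFm]; exact hsumE _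
  have h3 : w ^ Nat.card E = 1 := by rw [← inv_eq_one, ← h1, h2]
  obtain ⟨k, hk⟩ := hNp w
  have : w = 1 := orderOf_eq_one_iff.1 <| Nat.eq_one_of_dvd_coprimes (hpE.pow_right k)
    (orderOf_dvd_of_pow_eq_one h3) (orderOf_dvd_of_pow_eq_one hk)
  simpa [w] using congrArg Subtype.val this

theorem centre_ne_bot {P : Subgroup G} {p : ℕ} (hp : p.Prime) (hP : IsPGroup p P) (h : P ≠ ⊥) :
    P ⊓ Subgroup.centralizer (P : Set G) ≠ ⊥ := by
  have : Fact p.Prime := ⟨hp⟩
  have : Nontrivial P := P.nontrivial_iff_ne_bot.2 h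
  have := hP.center_nontrivial
  obtain ⟨z, hz⟩ := exists_ne (1 : Subgroup.center P)
  refine Subgroup.ne_bot_iff_exists_ne_one.2 ⟨⟨z.1.1, z.1.2, ?_⟩, ?_⟩
  · intro g hg
    exact congrArg Subtype.val ((Subgroup.mem_center_iff.1 z.2) ⟨g, hg⟩)
  · intro h1
    exact hz (Subtype.ext (Subtype.ext (congrArg Subtype.val h1 : _)))

theorem mem_normalizer_centre {P : Subgroup G} {g : G} (hg : g ∈ Subgroup.normalizer (P : Set G)) :
    g ∈ Subgroup.normalizer ((P ⊓ Subgroup.centralizer (P : Set G) : Subgroup G) : Set G) := by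
  have key : ∀ g ∈ Subgroup.normalizer (P : Set G),
      ∀ a ∈ P ⊓ Subgroup.centralizer (P : Set G),
        g * a * g⁻¹ ∈ P ⊓ Subgroup.centralizer (P : Set G) := by
    rintro g hg a ⟨ha, ha'⟩
    refine ⟨(Subgroup.mem_normalizer_iff.1 hg a).1 ha, fun b hb => ?_⟩
    have hb' : g⁻¹ * b * g ∈ P := by
      simpa using (Subgroup.mem_normalizer_iff.1 (Subgroup.inv_mem _ hg) b).1 hb
    have h := ha' _ hb'
    calc b * (g * a * g⁻¹) = g * ((g⁻¹ * b * g) * a) * g⁻¹ := by group
      _ = g * (a * (g⁻¹ * b * g)) * g⁻¹ := by rw [h]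
      _ = (g * a * g⁻¹) * b := by group
  refine Subgroup.mem_normalizer_iff.2 fun a => ⟨key g hg a, fun h => ?_⟩
  have := key g⁻¹ (Subgroup.inv_mem _ hg) _ h
  simpa [mul_assoc] using this

/-- The configuration form of the three primes lemma. -/
theorem exists_pair_of_normalizing (P Q : Subgroup G) (x : G) {p q r : ℕ} (hp : p.Prime)
    (hq : q.Prime) (hr : r.Prime) (hpq : p ≠ q) (hpr : p ≠ r) (hqr : q ≠ r)
    (hP : IsPGroup p P) (hP1 : P ≠ ⊥) (hQ : IsPGroup q Q) (hQ1 : Q ≠ ⊥) (hx : orderOf x = r)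
    (hQP : Q ≤ Subgroup.normalizer (P : Set G)) (hxP : x ∈ Subgroup.normalizer (P : Set G))
    (hxQ : x ∈ Subgroup.normalizer (Q : Set G)) :
    (∃ y : G, orderOf y = p * q) ∨ (∃ y : G, orderOf y = p * r) ∨
      (∃ y : G, orderOf y = q * r) := by
  by_contra hne
  simp only [not_or] at hne
  obtain ⟨h1, h2, h3⟩ := hne
  have : Fact q.Prime := ⟨hq⟩
  set N := P ⊓ Subgroup.centralizer (P : Set G)
  set E := Q ⊓ Subgroup.centralizer (Q : Set G)
  have hEq : IsPGroup q E := hQ.to_le inf_le_left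
  refine centre_ne_bot hp hP hP1 (eq_bot_of_frobenius_fpf N E x hr ?_ hx (centre_ne_bot hq hQ hQ1)
    (mem_normalizer_centre hxQ) (mem_normalizer_centre hxP)
    (fun e he => mem_normalizer_centre (hQP he.1)) (hP.to_le inf_le_left) ?_ ?_ ?_ ?_)
  · exact fun a ha b hb => hb.2 a ha.1
  · obtain ⟨k, hk⟩ := IsPGroup.iff_card.1 hEq
    rw [hk]
    exact ((Nat.coprime_primes hq hp).2 hpq.symm).pow_left k
  · intro e he v hv hc
    by_contra! hh
    exact h1 (exists_orderOf_eq_mul_of_commute hp hq hpq hc.symm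
      (dvd_orderOf_of_isPGroup hp hP hv.1 hh.2) (dvd_orderOf_of_isPGroup hq hQ he.1 hh.1))
  · intro e he hc
    by_contra hh
    exact h3 (exists_orderOf_eq_mul_of_commute hq hr hqr hc.symm
      (dvd_orderOf_of_isPGroup hq hQ he.1 hh) (dvd_of_eq hx.symm))
  · intro v hv hc
    by_contra hh
    exact h2 (exists_orderOf_eq_mul_of_commute hp hr hpr hc.symm
      (dvd_orderOf_of_isPGroup hp hP hv.1 hh) (dvd_of_eq hx.symm))

theorem sylow_map_ne_bot {H : Type*} [Group H] (f : H →* G) (hf : Function.Injective f) [Finite H]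
    {p : ℕ} [Fact p.Prime] (P : Sylow p H) (h : p ∣ Nat.card H) :
    (P : Subgroup H).map f ≠ ⊥ := by
  rw [Ne, Subgroup.map_eq_bot_iff_of_injective _ hf]
  exact P.ne_bot_of_dvd_card h

/-- Lucido: primes in three different layers of a normal series are not pairwise non-adjacent. -/
theorem three_primes_across_chain (K M : Subgroup G) [K.Normal] [M.Normal] (hKM : K ≤ M)
    {p q r : ℕ} (hp : p.Prime) (hq : q.Prime) (hr : r.Prime) (hpq : p ≠ q) (hpr : p ≠ r)
    (hqr : q ≠ r) (hpK : p ∣ Nat.card K) (hqM : q ∣ Nat.card M / Nat.card K)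
    (hrG : r ∣ Nat.card G / Nat.card M) :
    (∃ x : G, orderOf x = p * q) ∨ (∃ x : G, orderOf x = p * r) ∨
      (∃ x : G, orderOf x = q * r) := by
  have : Fact p.Prime := ⟨hp⟩
  have : Fact q.Prime := ⟨hq⟩
  have : Fact r.Prime := ⟨hr⟩
  let P : Sylow p K := default
  set P' : Subgroup G := (P : Subgroup K).map K.subtype with hP'
  set L : Subgroup G := Subgroup.normalizer (P' : Set G)
  have hLK : L ⊔ K = ⊤ := Sylow.normalizer_sup_eq_top P
  -- `M ⊓ L` covers `M / K`
  have hmod : M ≤ (M ⊓ L) ⊔ K := by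
    intro m hm
    have hm' : m ∈ L ⊔ K := hLK ▸ Subgroup.mem_top m
    obtain ⟨l, hl, k, hk, rfl⟩ := Subgroup.mem_sup_of_normal_right.1 hm'
    refine Subgroup.mem_sup_of_normal_right.2 ⟨l, ⟨?_, hl⟩, k, hk, rfl⟩
    simpa using M.mul_mem hm (M.inv_mem (hKM hk))
  have hcM : Nat.card M / Nat.card K ∣ Nat.card (M ⊓ L : Subgroup G) := by
    have h1 : Nat.card (M.map (QuotientGroup.mk' K)) * Nat.card K = Nat.card M := by
      have := Subgroup.card_eq_card_quotient_mul_card_subgroup (K.subgroupOf M)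
      rw [Nat.card_congr (Subgroup.subgroupOfEquivOfLe hKM).toEquiv] at this
      rw [this]
      congr 1
      have e := QuotientGroup.quotientKerEquivRange ((QuotientGroup.mk' K).comp M.subtype)
      have hk : ((QuotientGroup.mk' K).comp M.subtype).ker = K.subgroupOf M := by
        rw [← MonoidHom.comap_ker, QuotientGroup.ker_mk']; rfl
      rw [MonoidHom.range_comp, Subgroup.range_subtype] at e
      rw [← hk]
      exact Nat.card_congr e.symm.toEquiv
    have h2 : Nat.card M / Nat.card K = Nat.card (M.map (QuotientGroup.mk' K)) :=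
      Nat.div_eq_of_eq_mul_left Nat.card_pos h1.symm
    have h3 : M.map (QuotientGroup.mk' K) = (M ⊓ L).map (QuotientGroup.mk' K) := by
      refine le_antisymm ?_ (Subgroup.map_mono inf_le_left)
      refine (Subgroup.map_mono hmod).trans ?_
      rw [Subgroup.map_sup, (Subgroup.map_eq_bot_iff K).2 (QuotientGroup.ker_mk' K).ge]
      simp
    rw [h2, h3]
    exact Subgroup.card_map_dvd _ _
  let M' : Subgroup L := M.subgroupOf L
  have hM'card : Nat.card M' = Nat.card (M ⊓ L : Subgroup G) := by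
    rw [← Subgroup.card_map_of_injective L.subtype_injective, Subgroup.subgroupOf_map_subtype]
  let Q : Sylow q M' := default
  set Q₁ : Subgroup L := (Q : Subgroup M').map M'.subtype
  have hQL : Subgroup.normalizer (Q₁ : Set L) ⊔ M' = ⊤ := Sylow.normalizer_sup_eq_top Q
  let ψ : L →* G ⧸ M := (QuotientGroup.mk' M).comp L.subtype
  have hψ : (Subgroup.normalizer (Q₁ : Set L)).map ψ = ⊤ := by
    have h1 : (⊤ : Subgroup L).map ψ = ⊤ := by
      rw [← Subgroup.map_map, ← MonoidHom.range_eq_map, Subgroup.range_subtype]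
      have : (L ⊔ K).map (QuotientGroup.mk' M) = ⊤ := by
        rw [hLK, ← MonoidHom.range_eq_map,
          MonoidHom.range_eq_top.2 (QuotientGroup.mk'_surjective M)]
      rw [Subgroup.map_sup, (Subgroup.map_eq_bot_iff K).2 (hKM.trans (QuotientGroup.ker_mk' M).ge)]
        at this
      simpa using this
    have h2 : M'.map ψ = ⊥ := by
      rw [Subgroup.map_eq_bot_iff]
      intro a ha
      simpa [ψ, M', QuotientGroup.eq_one_iff, Subgroup.mem_subgroupOf] using ha
    rw [← hQL, Subgroup.map_sup, h2] at h1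
    simpa using h1
  have hrN : r ∣ Nat.card (Subgroup.normalizer (Q₁ : Set L)) := by
    refine dvd_trans ?_ (Subgroup.card_map_dvd _ ψ)
    rw [hψ, Subgroup.card_top]
    have := Subgroup.card_eq_card_quotient_mul_card_subgroup M
    rw [this, Nat.mul_div_cancel _ Nat.card_pos] at hrG
    exact hrG
  obtain ⟨x, hx⟩ := exists_prime_orderOf_dvd_card' r hrN
  set Q' : Subgroup G := Q₁.map L.subtype
  refine exists_pair_of_normalizing P' Q' x.1.1 hp hq hr hpq hpr hqr (P.2.map _) ?_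
    ((Q.2.map _).map _) ?_ ?_ ?_ x.1.2 ?_
  · exact sylow_map_ne_bot K.subtype K.subtype_injective P hpK
  · rw [Ne, Subgroup.map_eq_bot_iff_of_injective _ L.subtype_injective]
    exact sylow_map_ne_bot M'.subtype M'.subtype_injective Q (hM'card ▸ hqM.trans hcM)
  · rw [← hx, Subgroup.orderOf_coe, Subgroup.orderOf_coe]
  · rintro _ ⟨a, _, rfl⟩
    exact a.2
  · exact Subgroup.le_normalizer_map L.subtype ⟨x.1, x.2, rfl⟩

end CfsgLib.Recog.ThreePrimes
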