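import Cfsg.Agent.Lib.Recog.IsometryBlocks
import Cfsg.Agent.Helper57WittBasis

/-!
Tori of orders `q ^ k - 1` and `q ^ k + 1` in the orthogonal groups of plus and minus type in
characteristic two.
-/

set_option autoImplicit false

namespace CfsgLib.Recog.TorusWitness

open IsometryBlocks QuadraticMap Cfsg.Agent.WittBasis57 Matrix

set_option linter.unusedSectionVars false

variable {F : Type*} [Field F] [Fintype F] [CharP F 2]

/-- Translations of Artin-Schreier classes: two anisotropic binary forms are equivalent. -/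
theorem qX_equiv {a b c : F} (han : ∀ z, qX a b z = 0 → z = 0) (hc : ∀ t : F, t ^ 2 + t + c ≠ 0) :
    QEq (qX 1 c) (qX a b) := by
  have h2 := CharTwo.two_eq_zero (R := F)
  have ha : a ≠ 0 := by
    intro ha
    obtain ⟨s, hs⟩ := FiniteField.isSquare_of_char_two (ringChar.eq_iff.2 inferInstance) b
    have := han (s, 1) (by simp only [qX, ha, hs]; linear_combination s * s * h2)
    exact one_ne_zero (congrArg Prod.snd this)
  let ψ : F →+ F :=
    { toFun := fun t => t ^ 2 + t
      map_zero' := by simp
      map_add' := fun s t => by linear_combination s * t * h2 }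
  have hker : Nat.card ψ.ker = 2 := by
    have hk : ((ψ.ker : AddSubgroup F) : Set F) = {0, 1} := by
      ext t
      simp only [SetLike.mem_coe, AddMonoidHom.mem_ker, Set.mem_insert_iff, Set.mem_singleton_iff]
      constructor
      · intro e
        have e' : t * (t + 1) = 0 := by
          change t ^ 2 + t = 0 at e
          linear_combination e
        rcases mul_eq_zero.1 e' with h | h
        · exact Or.inl h
        · exact Or.inr (by linear_combination h - h2)
      · rintro (rfl | rfl)
        · exact map_zero ψ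
        · change (1 : F) ^ 2 + 1 = 0
          linear_combination h2
    rw [← SetLike.coe_sort_coe, Nat.card_coe_set_eq, hk, Set.ncard_pair zero_ne_one]
  have hidx : ψ.range.index = 2 := by
    have h1 := ψ.ker.card_mul_index
    rw [AddSubgroup.index_ker, hker] at h1
    have h2' := ψ.range.card_mul_index
    refine Nat.eq_of_mul_eq_mul_left (Nat.card_pos (α := ψ.range)) ?_
    rw [h2', ← h1, Nat.mul_comm]
  have hc' : c ∉ ψ.range := by
    rintro ⟨t, ht⟩
    refine hc t ?_
    change t ^ 2 + t = c at ht
    linear_combination ht + c * h2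
  have hb' : b / a ^ 2 ∉ ψ.range := by
    rintro ⟨t, ht⟩
    change t ^ 2 + t = b / a ^ 2 at ht
    have := han (a * t, 1) (by
      have hb : (t ^ 2 + t) * a ^ 2 = b := by rw [ht]; field_simp
      simp only [qX]
      linear_combination hb + b * h2)
    exact one_ne_zero (congrArg Prod.snd this)
  obtain ⟨t, ht⟩ : c + b / a ^ 2 ∈ ψ.range :=
    (AddSubgroup.add_mem_iff_of_index_two hidx).2 (iff_of_false hc' hb')
  change t ^ 2 + t = c + b / a ^ 2 at ht
  have hb : (t ^ 2 + t) * a ^ 2 = c * a ^ 2 + b := by rw [ht]; field_simp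
  refine ⟨{ toFun := fun z => (z.1 + t * z.2, z.2 / a)
            invFun := fun w => (w.1 - t * (a * w.2), a * w.2)
            map_add' := fun x y => by ext <;> simp [mul_add, add_div]; ring
            map_smul' := fun r x => by ext <;> simp [mul_add, mul_div_assoc, mul_left_comm]
            left_inv := fun z => by ext <;> simp [mul_div_cancel₀ _ ha]
            right_inv := fun w => by ext <;> simp [mul_div_cancel_left₀ _ ha] }, fun z => ?_⟩
  change qX a b (z.1 + t * z.2, z.2 / a) = qX 1 c z
  simp only [qX]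
  field_simp
  linear_combination z.2 ^ 2 * hb + (z.1 * z.2 * t * a ^ 2 + b * z.2 ^ 2) * h2

variable {V : Type*} [AddCommGroup V] [Module F V] [FiniteDimensional F V]

theorem map_sum_singular (Q : QuadraticForm F V) {ι : Type*} (s : Finset ι) (v : ι → V) (x : ι → F)
    (hv : ∀ i, Q (v i) = 0) (hvv : ∀ i j, polarBilin Q (v i) (v j) = 0) :
    Q (∑ i ∈ s, x i • v i) = 0 := by
  classical
  induction s using Finset.induction_on with
  | empty => simp
  | insert i s hi ih =>
    rw [Finset.sum_insert hi, Cfsg.Agent.WittBasis57.map_add', QuadraticMap.map_smul, hv, ih,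
      map_sum]
    simp [hvv]

/-- A space split off into hyperbolic planes and a remainder with a basis. -/
theorem qEq_of_split (Q : QuadraticForm F V) (S : Split Q (⊤ : Submodule F V)) {W : Type*}
    [AddCommGroup W] [Module F W] [FiniteDimensional F W] (R : W → F) (φ : W →ₗ[F] V)
    (hφU : ∀ w, φ w ∈ S.U) (hφ : Function.Injective φ) (hR : ∀ w, Q (φ w) = R w)
    (hdim : Module.finrank F W = Module.finrank F S.U) :
    QEq (qAdd (qP F S.k) R) (fun v => Q v) := by
  let Le : (Fin S.k → F) →ₗ[F] V := Fintype.linearCombination F S.e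
  let Lf : (Fin S.k → F) →ₗ[F] V := Fintype.linearCombination F S.f
  let L : Pl F S.k × W →ₗ[F] V := (Le.coprod Lf).coprod φ
  have hef : ∀ x y : Fin S.k → F, polarBilin Q (Le x) (Lf y) = x ⬝ᵥ y := by
    intro x y
    simp only [Le, Lf, Fintype.linearCombination_apply, map_sum, map_smul, LinearMap.sum_apply,
      LinearMap.smul_apply, S.ef, smul_eq_mul, mul_ite, mul_one, mul_zero, 
      Finset.sum_ite_eq', Finset.mem_univ, if_true, dotProduct]
    exact Finset.sum_congr rfl fun i _ => mul_comm _ _
  have he : ∀ x, ∀ u ∈ S.U, polarBilin Q (Le x) u = 0 := by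
    intro x u hu
    simp [Le, Fintype.linearCombination_apply, map_sum, S.eU _ u hu]
  have hf : ∀ x, ∀ u ∈ S.U, polarBilin Q (Lf x) u = 0 := by
    intro x u hu
    simp [Lf, Fintype.linearCombination_apply, map_sum, S.fU _ u hu]
  have hL : ∀ p, Q (L p) = qAdd (qP F S.k) R p := by
    intro p
    change Q (Le p.1.1 + Lf p.1.2 + φ p.2) = p.1.1 ⬝ᵥ p.1.2 + R p.2
    rw [Cfsg.Agent.WittBasis57.map_add', Cfsg.Agent.WittBasis57.map_add', map_add,
      LinearMap.add_apply, he _ _ (hφU _), hf _ _ (hφU _), hef, hR,
      show Q (Le p.1.1) = 0 by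
        rw [Fintype.linearCombination_apply]; exact map_sum_singular Q _ _ _ S.Qe S.ee,
      show Q (Lf p.1.2) = 0 by
        rw [Fintype.linearCombination_apply]; exact map_sum_singular Q _ _ _ S.Qf S.ff]
    ring
  have hinj : Function.Injective L := by
    rw [← LinearMap.ker_eq_bot, Submodule.eq_bot_iff]
    intro p hp
    rw [LinearMap.mem_ker] at hp
    change Le p.1.1 + Lf p.1.2 + φ p.2 = 0 at hp
    let b := Module.finBasis F W
    have hli : LinearIndependent F (fun i => φ (b i)) :=
      b.linearIndependent.map' φ (LinearMap.ker_eq_bot.2 hφ)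
    have h := Fintype.linearIndependent_iff.1 (split_indep Q S hli fun i => hφU _)
      (Sum.elim (Sum.elim p.1.1 p.1.2) (b.repr p.2)) (by
        rw [Fintype.sum_sum_type, Fintype.sum_sum_type]
        simp only [Sum.elim_inl, Sum.elim_inr, ← map_smul, ← map_sum, b.sum_repr]
        simpa [Le, Lf, Fintype.linearCombination_apply] using hp)
    refine Prod.ext (Prod.ext ?_ ?_) ?_
    · funext i; exact h (Sum.inl (Sum.inl i))
    · funext i; exact h (Sum.inl (Sum.inr i))
    · exact b.repr.map_eq_zero_iff.1 (Finsupp.ext fun i => h (Sum.inr i))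
  have hd : Module.finrank F (Pl F S.k × W) = Module.finrank F V := by
    rw [Module.finrank_prod, Module.finrank_prod, Module.finrank_fintype_fun_eq_card,
      Fintype.card_fin, hdim, ← finrank_top (R := F) (M := V), ← S.dim]
    ring
  exact ⟨LinearEquiv.ofInjectiveOfFinrankEq L hinj hd, fun p => hL p⟩

theorem card_qP_zero {k : ℕ} (hk : 1 ≤ k) :
    Nat.card {v : Pl F k // qP F k v = 0} =
      Fintype.card F ^ k + (Fintype.card F ^ k - 1) * Fintype.card F ^ (k - 1) := by
  classical
  refine (Nat.card_congr (Equiv.subtypeProdEquivSigmaSubtype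
    (fun x y : Fin k → F => x ⬝ᵥ y = 0))).trans ?_
  rw [Nat.card_sigma]
  rw [← Finset.add_sum_erase _ _ (Finset.mem_univ (0 : Fin k → F))]
  congr 1
  · simp [zero_dotProduct]
  · rw [Finset.sum_const_nat (m := Fintype.card F ^ (k - 1)) fun x hx => ?_,
      Finset.card_erase_of_mem (Finset.mem_univ _), Finset.card_univ, Fintype.card_fun,
      Fintype.card_fin]
    let φ : (Fin k → F) →ₗ[F] F := dotProductBilin F F x
    have hφ : φ ≠ 0 := by
      intro e
      refine Finset.ne_of_mem_erase hx (funext fun i => ?_)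
      have := LinearMap.congr_fun e (Pi.single i 1)
      simpa [φ] using this
    have h1 := φ.finrank_range_add_finrank_ker
    rw [LinearMap.range_eq_top.2 (LinearMap.surjective hφ), finrank_top, Module.finrank_self,
      Module.finrank_fintype_fun_eq_card, Fintype.card_fin] at h1
    rw [Nat.card_congr (β := LinearMap.ker φ) (Equiv.subtypeEquivRight fun y => by simp [φ]),
      Module.natCard_eq_pow_finrank (K := F), Nat.card_eq_fintype_card]
    congr 1
    omega

theorem hasElt_plus {k : ℕ} (hk : 1 ≤ k) : HasElt (qP F k) (Fintype.card F ^ k - 1) := by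
  classical
  have : Fact (Nat.Prime 2) := ⟨Nat.prime_two⟩
  have : NeZero k := ⟨by omega⟩
  let L := FiniteField.Extension F 2 k
  have : Fintype L := Fintype.ofFinite L
  let B : Module.Basis (Fin k) F L :=
    Module.finBasisOfFinrankEq F L (FiniteField.finrank_extension F 2 k)
  let toGL : Lˣ →* GL (Fin k) F := Units.map (Algebra.leftMulMatrix B).toRingHom.toMonoidHom
  let lev : GL (Fin k) F →* (Pl F k ≃ₗ[F] Pl F k) :=
    { toFun := fun A =>
        { toFun := fun v => ((A : Matrix (Fin k) (Fin k) F) *ᵥ v.1,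
            v.2 ᵥ* ((A⁻¹ : GL (Fin k) F) : Matrix (Fin k) (Fin k) F))
          invFun := fun v => (((A⁻¹ : GL (Fin k) F) : Matrix (Fin k) (Fin k) F) *ᵥ v.1,
            v.2 ᵥ* (A : Matrix (Fin k) (Fin k) F))
          map_add' := fun v w => by simp [Matrix.mulVec_add, Matrix.add_vecMul]
          map_smul' := fun c v => by simp [Matrix.mulVec_smul, Matrix.smul_vecMul]
          left_inv := fun v => by
            simp [Matrix.mulVec_mulVec, Matrix.vecMul_vecMul]
          right_inv := fun v => by
            simp [Matrix.mulVec_mulVec, Matrix.vecMul_vecMul] }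
      map_one' := by ext v i <;> simp
      map_mul' := fun A B => by
        ext v i <;> simp [Matrix.mulVec_mulVec, Matrix.vecMul_vecMul] }
  have hlev : Function.Injective lev := fun A B e => by
    refine Units.ext (Matrix.ext_of_mulVec_single fun j => ?_)
    exact congrArg Prod.fst (LinearEquiv.congr_fun e (Pi.single j 1, 0))
  obtain ⟨g, hg⟩ := IsCyclic.exists_generator (α := Lˣ)
  refine ⟨lev (toGL g), fun v => ?_, ?_⟩
  · change ((toGL g : GL (Fin k) F) : Matrix (Fin k) (Fin k) F) *ᵥ v.1 ⬝ᵥ
      v.2 ᵥ* (((toGL g)⁻¹ : GL (Fin k) F) : Matrix (Fin k) (Fin k) F) = v.1 ⬝ᵥ v.2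
    rw [dotProduct_comm, ← dotProduct_mulVec, mulVec_mulVec, ← Units.val_mul, inv_mul_cancel,
      Units.val_one, one_mulVec, dotProduct_comm]
  · rw [orderOf_injective lev hlev, orderOf_injective toGL
      (Units.map_injective (Algebra.leftMulMatrix_injective B)),
      orderOf_eq_card_of_forall_mem_zpowers hg, Nat.card_units, FiniteField.natCard_extension,
      Nat.card_eq_fintype_card]

theorem hasElt_minus_aux {a b : F} (han : ∀ z, qX a b z = 0 → z = 0) (k : ℕ) (L : Type)
    [Field L] [Fintype L] [Algebra F L] (hfr : Module.finrank F L = 2 * (k + 1)) :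
    HasElt (qAdd (qP F k) (qX a b)) (Fintype.card F ^ (k + 1) + 1) := by
  classical
  have : CharP L 2 := charP_of_injective_algebraMap' F 2
  set q := Fintype.card F
  have hq : 2 ≤ q := Fintype.one_lt_card
  set r := q ^ (k + 1)
  have hr : 2 ≤ r := hq.trans (Nat.le_self_pow (by omega) q)
  have hcard : Nat.card L = r * r := by
    rw [Module.natCard_eq_pow_finrank (K := F), hfr, Nat.card_eq_fintype_card, two_mul, pow_add]
  let σ : L ≃ₐ[F] L := FiniteField.frobeniusAlgEquivOfAlgebraic F L ^ (k + 1)
  have hσ : ∀ x, σ x = x ^ r := fun x => by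
    simp only [σ, AlgEquiv.coe_pow, FiniteField.coe_frobeniusAlgEquivOfAlgebraic_iterate]
    rfl
  have hσσ : ∀ x, σ (σ x) = x := fun x => by
    rw [hσ, hσ, ← pow_mul, ← hcard, Nat.card_eq_fintype_card, FiniteField.pow_card]
  obtain ⟨g, hg⟩ := IsCyclic.exists_generator (α := Lˣ)
  have hog : orderOf g = r * r - 1 := by
    rw [orderOf_eq_card_of_forall_mem_zpowers hg, Nat.card_units, hcard]
  have hrr : r * r - 1 = (r - 1) * (r + 1) := by
    rw [Nat.mul_comm (r - 1), ← Nat.sq_sub_sq, one_pow, pow_two]
  obtain ⟨c, hc⟩ : ∃ c : L, σ c + c ≠ 0 := by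
    refine ⟨(g : L), fun e => ?_⟩
    rw [hσ, CharTwo.add_eq_zero] at e
    have hgp : g ^ (r - 1) = 1 := by
      refine Units.ext ?_
      rw [Units.val_pow_eq_pow_val, Units.val_one]
      refine mul_left_cancel₀ g.ne_zero ?_
      rw [← pow_succ', Nat.sub_add_cancel (by omega), e, mul_one]
    have := Nat.le_of_dvd (by omega) (orderOf_dvd_of_pow_eq_one hgp)
    rw [hog, hrr] at this
    nlinarith [show 1 ≤ r - 1 by omega]
  let θ := c / (σ c + c)
  have hθ : θ + σ θ = 1 := by
    simp only [θ, map_div₀, map_add, hσσ]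
    rw [add_comm c (σ c), ← add_div, add_comm c (σ c), div_self hc]
  let B : LinearMap.BilinForm F L :=
    LinearMap.mk₂ F (fun x y => Algebra.trace F L (θ * x * σ y))
      (fun x x' y => by simp only [mul_add, add_mul, map_add])
      (fun t x y => by rw [Algebra.mul_smul_comm, Algebra.smul_mul_assoc, map_smul])
      (fun x y y' => by simp only [map_add, mul_add])
      (fun t x y => by rw [map_smul, Algebra.mul_smul_comm, map_smul])
  let Q : QuadraticForm F L := LinearMap.BilinMap.toQuadraticMap B
  have hQ : ∀ x, Q x = Algebra.trace F L (θ * (x * σ x)) := fun x => by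
    rw [← mul_assoc]; rfl
  have hpol : ∀ x y, polarBilin Q x y = Algebra.trace F L (x * σ y) := by
    intro x y
    rw [polarBilin_apply_apply, LinearMap.BilinMap.polar_toQuadraticMap]
    change Algebra.trace F L (θ * x * σ y) + Algebra.trace F L (θ * y * σ x) = _
    rw [← Algebra.trace_eq_of_algEquiv σ (θ * y * σ x), ← map_add]
    congr 1
    rw [map_mul, map_mul, hσσ]
    linear_combination (x * σ y) * hθ
  have hnd : Nondeg Q (⊤ : Submodule F L) := by
    intro x _ hx
    refine (traceForm_nondegenerate F L).1 x fun y => ?_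
    rw [Algebra.traceForm_apply, ← hσσ y, ← hpol]
    exact hx _ trivial
  obtain ⟨S⟩ := exists_split Q ⊤ hnd
  set u := g ^ (r - 1)
  have hou : orderOf u = r + 1 := by
    rw [orderOf_pow_of_dvd (by omega) (by rw [hog, hrr]; exact Dvd.intro _ rfl), hog, hrr,
      Nat.mul_div_cancel_left _ (by omega)]
  have huσ : (u : L) * σ (u : L) = 1 := by
    rw [hσ, ← pow_succ', ← Units.val_pow_eq_pow_val, ← hou, pow_orderOf_eq_one, Units.val_one]
  have hQu : ∀ x : L, Q ((u : L) * x) = Q x := fun x => by
    rw [hQ, hQ, map_mul σ]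
    congr 1
    linear_combination (θ * x * σ x) * huσ
  have hU := finrank_le_two Q S.aniso
  have hdim := S.dim
  rw [finrank_top, hfr] at hdim
  have hU2 : Module.finrank F S.U = 2 := by
    by_contra hne
    have hk0 : Module.finrank F S.U = 0 := by omega
    have hkk : S.k = k + 1 := by omega
    obtain ⟨e, he⟩ := qEq_of_split Q S (W := Fin 0 → F) (fun _ => 0) 0 (fun _ => zero_mem _)
      (fun x y _ => Subsingleton.elim x y) (fun _ => by simp) (by simp [hk0])
    have hcnt : Nat.card {v : Pl F S.k // qP F S.k v = 0} = Nat.card {x : L // Q x = 0} := by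
      refine Nat.card_congr ((Equiv.subtypeEquiv
        ((Equiv.prodUnique (Pl F S.k) (Fin 0 → F)).symm.trans e.toEquiv) fun v => ?_))
      simp [he, qAdd]
    let T : Set Lˣ := {x | Q (x : L) = 0}
    have hsat : QuotientGroup.mk ⁻¹' ((QuotientGroup.mk : Lˣ → Lˣ ⧸ Subgroup.zpowers u) '' T) = T := by
      refine Set.Subset.antisymm ?_ (Set.subset_preimage_image _ _)
      rintro x ⟨y, hy, hxy⟩
      have hst : ∀ n : ℕ, ∀ z : Lˣ, Q (((u ^ n * z : Lˣ)) : L) = Q (z : L) := by
        intro n
        induction n with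
        | zero => intro z; rw [pow_zero, one_mul]
        | succ n ih => intro z; rw [pow_succ', mul_assoc, Units.val_mul, hQu, ih]
      obtain ⟨n, hn⟩ : ∃ n : ℕ, u ^ n = y⁻¹ * x := by
        exact (Submonoid.mem_powers_iff _ _).1
          (mem_powers_iff_mem_zpowers.2 (QuotientGroup.eq.1 hxy))
      change Q (x : L) = 0
      rw [show x = u ^ n * y by rw [hn, mul_comm, mul_inv_cancel_left], hst]
      exact hy
    have hdvd : r + 1 ∣ Nat.card T := by
      rw [← hsat, Nat.card_congr (QuotientGroup.preimageMkEquivSubgroupProdSet _ _), Nat.card_prod,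
        Nat.card_zpowers, hou]
      exact dvd_mul_right _ _
    have hT : Nat.card {x : L // Q x = 0} = Nat.card T + 1 := by
      rw [← Finite.card_option]
      refine Nat.card_congr
        { toFun := fun x => if h : x.1 = 0 then none else some ⟨Units.mk0 x.1 h, x.2⟩
          invFun := fun o => o.elim ⟨0, map_zero Q⟩ fun y => ⟨((y : Lˣ) : L), y.2⟩
          left_inv := fun x => ?_
          right_inv := fun o => ?_ }
      · dsimp only
        split_ifs with h
        · exact Subtype.ext h.symm
        · rfl
      · rcases o with _ | ⟨y, hy⟩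
        · simp
        · simp [Units.ne_zero, Units.mk0_val]
    rw [hT, card_qP_zero (by omega), hkk] at hcnt
    change r + (r - 1) * q ^ (k + 1 - 1) = Nat.card T + 1 at hcnt
    rw [show k + 1 - 1 = k by omega] at hcnt
    obtain ⟨t, ht⟩ := hdvd
    have hP : 0 < q ^ k := Nat.pow_pos (by omega)
    have hrP : r = q * q ^ k := pow_succ' q k
    set P := q ^ k
    have h1 : 2 * (P + 1) + Nat.card T = (r + 1) * (P + 1) := by
      obtain ⟨s, hs⟩ : ∃ s, r = s + 1 := ⟨r - 1, by omega⟩
      rw [hs] at hcnt ⊢
      simp only [Nat.add_sub_cancel] at hcnt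
      nlinarith
    have hd2 : r + 1 ∣ 2 * (P + 1) := by
      rw [ht] at h1
      exact (Nat.dvd_add_left (dvd_mul_right _ t)).1 (h1 ▸ dvd_mul_right _ _)
    have hodd : Nat.Coprime (r + 1) 2 := by
      rw [Nat.coprime_two_right, Nat.odd_add_one, Nat.not_odd_iff_even]
      refine Even.pow_of_ne_zero ?_ (by omega)
      obtain ⟨n, hp, e⟩ := FiniteField.card F 2
      change Even (Fintype.card F)
      rw [e]
      exact even_two.pow_of_ne_zero n.ne_zero
    have := Nat.le_of_dvd (by omega) (hodd.dvd_of_dvd_mul_left hd2)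
    nlinarith
  obtain ⟨x, hx, y, hy, hQx, hxy, hli, hc'⟩ := exists_plane_basis Q hU2
    S.nd S.aniso
  have hk' : S.k = k := by omega
  let φ : F × F →ₗ[F] L := (LinearMap.toSpanSingleton F L x).coprod (LinearMap.toSpanSingleton F L y)
  have hsplit : QEq (qAdd (qP F S.k) (qX 1 (Q y))) (fun v => Q v) := by
    refine qEq_of_split Q S _ φ (fun w => S.U.add_mem (S.U.smul_mem _ hx) (S.U.smul_mem _ hy))
      ?_ (fun w => ?_) (by rw [Module.finrank_prod, Module.finrank_self, hU2])
    · intro w w' e
      rw [← sub_eq_zero, ← map_sub] at e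
      have := LinearIndependent.pair_iff.1 hli _ _ e
      exact sub_eq_zero.1 (Prod.ext this.1 this.2)
    · change Q (w.1 • x + w.2 • y) = _
      rw [Cfsg.Agent.WittBasis57.map_add', QuadraticMap.map_smul, QuadraticMap.map_smul, hQx,
        map_smul, LinearMap.map_smul, LinearMap.smul_apply, hxy]
      simp [qX]
      ring
  rw [hk'] at hsplit
  refine HasElt.congr ?_ (hsplit.symm.trans ((QEq.refl _).add (qX_equiv han hc')))
  let mulU : Lˣ →* (L ≃ₗ[F] L) :=
    { toFun := fun w =>
        { toFun := fun z => (w : L) * z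
          invFun := fun z => ((w⁻¹ : Lˣ) : L) * z
          map_add' := mul_add _
          map_smul' := fun t z => Algebra.mul_smul_comm t _ z
          left_inv := fun z => by simp
          right_inv := fun z => by simp }
      map_one' := by ext z; simp
      map_mul' := fun w w' => by ext z; simp [mul_assoc] }
  refine ⟨mulU u, hQu, ?_⟩
  rw [orderOf_injective mulU, hou]
  intro w w' e
  refine Units.ext ?_
  simpa [mulU] using LinearEquiv.congr_fun e 1

theorem hasElt_minus {a b : F} (han : ∀ z, qX a b z = 0 → z = 0) (k : ℕ) :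
    HasElt (qAdd (qP F k) (qX a b)) (Fintype.card F ^ (k + 1) + 1) := by
  have : Fact (Nat.Prime 2) := ⟨Nat.prime_two⟩
  have : Fintype (FiniteField.Extension F 2 (2 * (k + 1))) := Fintype.ofFinite _
  exact hasElt_minus_aux han k _ (FiniteField.finrank_extension F 2 _)

end CfsgLib.Recog.TorusWitness
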