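import Cfsg.Agent.Lib.Recog.PrimeOrderPerm

/-!
Uniform partitions fixed by a permutation of prime order.
-/

set_option autoImplicit false

namespace CfsgLib.Recog.UniformPartition

open Equiv CfsgLib.Recog.PrimeOrderPerm

theorem exists_bounded_sum : ∀ (m A N : ℕ), N ≤ m * A →
    ∃ c : Fin m → ℕ, (∀ v, c v ≤ A) ∧ ∑ v, c v = N
  | 0, A, N, h => ⟨fun v => v.elim0, fun v => v.elim0, by simp at h ⊢; omega⟩
  | m + 1, A, N, h => by
    obtain ⟨c, hc, hs⟩ := exists_bounded_sum m A (N - min N A) (by
      rw [Nat.succ_mul] at h; omega)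
    refine ⟨Fin.cons (min N A) c, fun v => ?_, ?_⟩
    · refine Fin.cases ?_ (fun i => ?_) v
      · simp
      · simpa using hc i
    · rw [Fin.sum_univ_succ]; simp [hs]

theorem necessity {j r f a b : ℕ} (hr : r.Prime) (ha : 1 ≤ a)
    (g : (Fin j × ZMod r) ⊕ Fin f → Fin b) (hg : ∀ v, Nat.card {p // g p = v} = a) (π : Perm (Fin b))
    (hπ : ∀ p, g (shiftPerm j r f p) = π (g p)) :
    ∃ t, t * r ≤ b ∧ t * a ≤ j ∧ j ≤ t * a + (b - t * r) * (a / r) := by
  classical
  have : NeZero r := ⟨hr.ne_zero⟩
  have : Fact r.Prime := ⟨hr⟩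
  have hsurj : Function.Surjective g := fun v => by
    have : 0 < Nat.card {p // g p = v} := by rw [hg]; omega
    obtain ⟨⟨p, hp⟩⟩ := (Nat.card_pos_iff.1 this).1
    exact ⟨p, hp⟩
  have hpow : ∀ (n : ℕ) p, g ((shiftPerm j r f ^ n) p) = (π ^ n) (g p) := by
    intro n
    induction n with
    | zero => simp
    | succ n ih => intro p; rw [pow_succ', Perm.mul_apply, hπ, ih, pow_succ', Perm.mul_apply]
  have hπr : π ^ r = 1 := by
    ext1 v
    obtain ⟨p, rfl⟩ := hsurj v
    rw [← hpow]
    rcases p with ⟨c, x⟩ | y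
    · simp [shiftPerm_pow_inl]
    · simp [shiftPerm_pow_inr]
  obtain ⟨t, ht⟩ : r ∣ π.support.card := by
    rw [← Perm.sum_cycleType]
    refine Multiset.dvd_sum fun n hn => ?_
    rcases (Nat.dvd_prime hr).1 ((Perm.dvd_of_mem_cycleType hn).trans
      (orderOf_dvd_of_pow_eq_one hπr)) with h | h
    · exact absurd h (by have := Perm.two_le_of_mem_cycleType hn; omega)
    · exact dvd_of_eq h.symm
  have hshift : ∀ (c : Fin j) (x : ZMod r),
      g (Sum.inl (c, x)) = (π ^ x.val) (g (Sum.inl (c, 0))) := by
    intro c x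
    rw [← hpow, shiftPerm_pow_inl, ZMod.natCast_zmod_val, zero_add]
  set Cm : Finset (Fin j) := Finset.univ.filter fun c => g (Sum.inl (c, 0)) ∈ π.support with hCm
  have hpre : Finset.univ.filter (fun p => g p ∈ π.support) =
      (Cm ×ˢ (Finset.univ : Finset (ZMod r))).disjSum ∅ := by
    ext p
    rcases p with ⟨c, x⟩ | y
    · simp only [Finset.mem_filter, Finset.mem_univ, true_and, Finset.inl_mem_disjSum,
        Finset.mem_product, and_true, Cm]
      rw [hshift c x, Perm.pow_apply_mem_support]
    · have := hπ (Sum.inr y)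
      rw [shiftPerm_inr] at this
      simp [Perm.mem_support, ← this]
  have hfib : ∀ v, (Finset.univ.filter (fun p => g p = v)).card = a := fun v => by
    rw [← hg v, Nat.card_eq_fintype_card, Fintype.card_subtype]
  have hcm : Cm.card * r = π.support.card * a := by
    have h1 := congrArg Finset.card hpre
    rw [Finset.card_disjSum, Finset.card_product, Finset.card_empty, Finset.card_univ, ZMod.card,
      add_zero] at h1
    have hmaps : Set.MapsTo g ↑(Finset.univ.filter (fun p => g p ∈ π.support)) ↑π.support :=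
      fun p hp => (Finset.mem_filter.1 (Finset.mem_coe.1 hp)).2
    rw [← h1, Finset.card_eq_sum_card_fiberwise hmaps]
    rw [← smul_eq_mul, ← Finset.sum_const]
    refine Finset.sum_congr rfl fun v hv => ?_
    rw [← hfib v, Finset.filter_filter]
    congr 1
    ext p
    simp only [Finset.mem_filter, Finset.mem_univ, true_and]
    exact ⟨fun h => h.2, fun h => ⟨h ▸ hv, h⟩⟩
  have hcm' : Cm.card = t * a := by
    rw [ht] at hcm
    exact Nat.eq_of_mul_eq_mul_right hr.pos (by rw [hcm]; ring)
  have hbound : Cmᶜ.card ≤ (π.supportᶜ).card * (a / r) := by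
    rw [Finset.card_eq_sum_card_fiberwise (f := fun c => g (Sum.inl (c, (0 : ZMod r))))
      (t := π.supportᶜ) (fun c hc => by simpa [Cm] using hc), ← smul_eq_mul, ← Finset.sum_const]
    refine Finset.sum_le_sum fun v hv => ?_
    rw [Nat.le_div_iff_mul_le hr.pos, ← hfib v]
    calc (Cmᶜ.filter fun c => g (Sum.inl (c, (0 : ZMod r))) = v).card * r
        = ((Cmᶜ.filter fun c => g (Sum.inl (c, (0 : ZMod r))) = v) ×ˢ
            (Finset.univ : Finset (ZMod r))).card := by simp [ZMod.card]
      _ ≤ _ := by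
          refine Finset.card_le_card_of_injOn (fun q => Sum.inl q) ?_ Sum.inl_injective.injOn
          rintro ⟨c, x⟩ hq
          simp only [Finset.coe_product, Set.mem_prod, Finset.mem_coe, Finset.mem_filter] at hq
          simp only [Finset.coe_filter, Finset.mem_univ, true_and, Set.mem_setOf_eq]
          rw [hshift c x, hq.1.2]
          have : π v = v := by simpa using hv
          exact Perm.pow_apply_eq_self_of_apply_eq_self this _
  rw [Finset.card_compl, Finset.card_compl, Fintype.card_fin, Fintype.card_fin, hcm', ht,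
    mul_comm r t] at hbound
  have h1 := Finset.card_le_univ π.support
  rw [ht, Fintype.card_fin, mul_comm r t] at h1
  have h2 := Finset.card_le_univ Cm
  rw [hcm', Fintype.card_fin] at h2
  exact ⟨t, h1, h2, by omega⟩

theorem sufficiency {j r f a b t : ℕ} [NeZero r] (hn : j * r + f = a * b) (ht : t * r ≤ b)
    (hta : t * a ≤ j) (hj : j ≤ t * a + (b - t * r) * (a / r)) :
    ∃ (g : (Fin j × ZMod r) ⊕ Fin f → Fin b) (π : Perm (Fin b)),
      (∀ v, Nat.card {p // g p = v} = a) ∧ ∀ p, g (shiftPerm j r f p) = π (g p) := by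
  classical
  set m := b - t * r with hm
  obtain ⟨c, hc, hcs⟩ := exists_bounded_sum m (a / r) (j - t * a) (by omega)
  have hca : ∀ v, c v * r ≤ a := fun v =>
    (Nat.mul_le_mul_right r (hc v)).trans (Nat.div_mul_le_self a r)
  let E₁ : Fin j ≃ (Fin t × Fin a) ⊕ (Σ v : Fin m, Fin (c v)) :=
    Fintype.equivOfCardEq (by simp [hcs]; omega)
  have hsum : ∑ v : Fin m, (a - c v * r) = f := by
    have h1 : ∑ v : Fin m, (a - c v * r) + (j - t * a) * r = m * a := by
      rw [← hcs, Finset.sum_mul, ← Finset.sum_add_distrib,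
        Finset.sum_congr rfl (fun v _ => Nat.sub_add_cancel (hca v))]
      simp
    have h2 : m * a + t * r * a = a * b := by rw [← Nat.add_mul, hm, Nat.sub_add_cancel ht]; ring
    have h3 : (j - t * a) * r + t * r * a = j * r := by
      rw [show t * r * a = t * a * r by ring, ← Nat.add_mul, Nat.sub_add_cancel hta]
    omega
  let E₂ : Fin f ≃ Σ v : Fin m, Fin (a - c v * r) := Fintype.equivOfCardEq (by simp [hsum])
  let EB : (Fin t × ZMod r) ⊕ Fin m ≃ Fin b :=
    Fintype.equivOfCardEq (by simp [ZMod.card]; omega)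
  let g₀ : (Fin j × ZMod r) ⊕ Fin f → (Fin t × ZMod r) ⊕ Fin m :=
    Sum.elim (fun q => Sum.elim (fun ui => Sum.inl (ui.1, q.2)) (fun s => Sum.inr s.1) (E₁ q.1))
      (fun y => Sum.inr (E₂ y).1)
  refine ⟨EB ∘ g₀, EB.permCongr (shiftPerm t r m), fun v => ?_, fun p => ?_⟩
  · obtain ⟨w, rfl⟩ := EB.surjective v
    simp only [Function.comp_apply, EB.apply_eq_iff_eq]
    rw [Nat.card_eq_fintype_card, Fintype.card_subtype]
    rcases w with ⟨u, x⟩ | v
    · have : (Finset.univ.filter fun p => g₀ p = Sum.inl (u, x)) =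
          (Finset.univ : Finset (Fin a)).image (fun i => Sum.inl (E₁.symm (Sum.inl (u, i)), x)) := by
        ext p
        rcases p with ⟨k, y⟩ | y
        · obtain ⟨⟨u', i⟩ | s, rfl⟩ := E₁.symm.surjective k
          · simp [g₀, eq_comm]
          · simp [g₀]
        · simp [g₀]
      rw [this, Finset.card_image_of_injective _ fun i i' h => by simpa using h]; simp
    · have : (Finset.univ.filter fun p => g₀ p = Sum.inr v) =
          (((Finset.univ : Finset (Fin (c v))).image fun i => E₁.symm (Sum.inr ⟨v, i⟩))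
              ×ˢ (Finset.univ : Finset (ZMod r))).disjSum
            ((Finset.univ : Finset (Fin (a - c v * r))).image fun i => E₂.symm ⟨v, i⟩) := by
        ext p
        rcases p with ⟨k, y⟩ | y
        · obtain ⟨⟨u', i⟩ | ⟨v', i⟩, rfl⟩ := E₁.symm.surjective k
          · simp [g₀]
          · simp only [g₀, Finset.mem_filter, Finset.mem_univ, true_and, Sum.elim_inl,
              Equiv.apply_symm_apply, Sum.elim_inr, Finset.inl_mem_disjSum, Finset.mem_product,
              and_true, Finset.mem_image, E₁.symm.apply_eq_iff_eq,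
              Sum.inr.injEq]
            exact ⟨fun h => by subst h; exact ⟨i, rfl⟩,
              fun ⟨i', h⟩ => (congrArg Sigma.fst h).symm⟩
        · obtain ⟨⟨v', i⟩, rfl⟩ := E₂.symm.surjective y
          simp only [g₀, Finset.mem_filter, Finset.mem_univ, true_and, Sum.elim_inr,
            Equiv.apply_symm_apply, Finset.inr_mem_disjSum, Finset.mem_image,
            E₂.symm.apply_eq_iff_eq, Sum.inr.injEq]
          exact ⟨fun h => by subst h; exact ⟨i, rfl⟩,
            fun ⟨i', h⟩ => (congrArg Sigma.fst h).symm⟩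
      rw [this, Finset.card_disjSum, Finset.card_product,
        Finset.card_image_of_injective _ fun i i' h => by simpa using h,
        Finset.card_image_of_injective _ fun i i' h => by simpa using h]
      simp [ZMod.card]
      have := hca v
      omega
  · simp only [Function.comp_apply, Equiv.permCongr_apply, Equiv.symm_apply_apply,
      EB.apply_eq_iff_eq]
    rcases p with ⟨k, y⟩ | y
    · rcases h : E₁ k with ⟨u, i⟩ | s <;> simp [g₀, h]
    · simp [g₀]

/-- The numerical criterion. -/
theorem arith_iff {a b r : ℕ} (ha : 2 ≤ a) (hr : 2 ≤ r) (hrn : r ≤ a * b) :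
    (∀ j, 1 ≤ j → j * r ≤ a * b →
      ∃ t, t * r ≤ b ∧ t * a ≤ j ∧ j ≤ t * a + (b - t * r) * (a / r)) ↔
      (r ≤ a ∧ (a % r = 0 ∨ (b % r = 0 ∧ a % r = 1) ∨
        (a % r ≠ 0 ∧ b % r ≠ 0 ∧ (b % r) * (a % r) < r ∧
          (b < r ∨ (b % r + r) * (a % r) ≤ (b % r) * a + r)))) := by
  have hr0 : 0 < r := by omega
  have hA := Nat.div_add_mod' a r
  have hB := Nat.div_add_mod' b r
  set A := a / r with hAd
  set l := a % r with hld
  set B := b / r with hBd
  set k := b % r with hkd
  have hl : l < r := Nat.mod_lt _ hr0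
  have hk : k < r := Nat.mod_lt _ hr0
  -- the right end of the interval at `t`
  have htop : ∀ t, t * r ≤ b → t * a + (b - t * r) * A = b * A + t * l := by
    intro t ht
    obtain ⟨u, hu⟩ := Nat.exists_eq_add_of_le ht
    rw [hu, Nat.add_sub_cancel_left]
    nth_rewrite 1 [← hA]
    ring
  have hab : a * b = (b * A + B * l) * r + k * l := by
    rw [← hA, ← hB]; ring
  have hcond : (k + r) * l ≤ k * a + r ↔ l ≤ k * A + 1 := by
    have h1 : (k + r) * l = k * l + l * r := by ring
    have h2 : k * a + r = k * l + (k * A + 1) * r := by rw [← hA]; ring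
    rw [h1, h2, Nat.add_le_add_iff_left]
    exact ⟨fun h => Nat.le_of_mul_le_mul_right h hr0, fun h => Nat.mul_le_mul_right r h⟩
  have hBa : B * a + k * A = b * A + B * l := by rw [← hA, ← hB]; ring
  constructor
  · intro h
    have hra : r ≤ a := by
      by_contra hlt
      have hA0 : A = 0 := Nat.div_eq_of_lt (by omega)
      obtain ⟨t, -, h1, h2⟩ := h 1 le_rfl (by simpa using hrn)
      rw [hA0, mul_zero, add_zero] at h2
      rcases t with _ | t
      · omega
      · rw [Nat.succ_mul] at h1; omega
    have hkl : k * l < r := by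
      by_contra hge
      push Not at hge
      obtain ⟨t, ht, h1, h2⟩ := h (b * A + B * l + 1) (by omega) (by rw [hab, Nat.succ_mul]; omega)
      rw [htop t ht] at h2
      have : t * l ≤ B * l := Nat.mul_le_mul_right l ((Nat.le_div_iff_mul_le hr0).2 ht)
      omega
    have hgap : B = 0 ∨ l ≤ k * A + 1 := by
      by_contra hn
      push Not at hn
      obtain ⟨C, hC⟩ := Nat.exists_eq_succ_of_ne_zero hn.1
      rw [hC, Nat.succ_mul, Nat.succ_mul] at hBa
      obtain ⟨t, ht, h1, h2⟩ := h (C * a + a - 1) (by omega) (by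
        rw [hab, hC, Nat.succ_mul C l]
        exact le_trans (Nat.mul_le_mul_right r (by omega)) (Nat.le_add_right _ _))
      rw [htop t ht] at h2
      have htC : t ≤ C := by
        by_contra hlt
        have := Nat.mul_le_mul_right a (show C + 1 ≤ t by omega)
        rw [Nat.succ_mul] at this
        omega
      have := Nat.mul_le_mul_right l htC
      omega
    refine ⟨hra, ?_⟩
    by_cases hl0 : l = 0
    · exact Or.inl hl0
    by_cases hk0 : k = 0
    · have hb : B ≠ 0 := by
        intro hB0
        rw [hB0, hk0] at hB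
        rw [← hB] at hrn
        simp at hrn
        omega
      rw [hk0] at hgap
      simp [hb] at hgap
      exact Or.inr (Or.inl ⟨hk0, by omega⟩)
    · exact Or.inr (Or.inr ⟨hl0, hk0, hkl, hgap.imp
        (fun h => (Nat.div_eq_zero_iff.1 h).resolve_left hr0.ne') hcond.2⟩)
  · rintro ⟨-, hcases⟩
    have hkl : k * l < r ∧ (B = 0 ∨ l ≤ k * A + 1) := by
      rcases hcases with h | ⟨h1, h2⟩ | ⟨-, -, h, h' | h'⟩
      · rw [h]; simp [hr0]
      · rw [h1, h2]; simp [hr0]
      · exact ⟨h, Or.inl (Nat.div_eq_of_lt h')⟩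
      · exact ⟨h, Or.inr (hcond.1 h')⟩
    intro j hj hjr
    have hjmax : j ≤ b * A + B * l := by
      rw [hab] at hjr
      by_contra hlt
      have := Nat.mul_le_mul_right r (show b * A + B * l + 1 ≤ j by omega)
      rw [Nat.succ_mul] at this
      omega
    refine ⟨min B (j / a), ?_, ?_, ?_⟩
    · exact (Nat.mul_le_mul_right r (min_le_left _ _)).trans (Nat.div_mul_le_self b r)
    · exact (Nat.mul_le_mul_right a (min_le_right _ _)).trans (Nat.div_mul_le_self j a)
    · rw [htop _ ((Nat.mul_le_mul_right r (min_le_left _ _)).trans (Nat.div_mul_le_self b r))]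
      rcases le_or_gt B (j / a) with h | h
      · rwa [min_eq_left h]
      · rw [min_eq_right h.le]
        have h1 := Nat.lt_div_mul_add (a := j) (show 0 < a by omega)
        obtain ⟨d, hd⟩ := Nat.exists_eq_add_of_le (show j / a + 1 ≤ B from h)
        have hg : l ≤ k * A + 1 :=
          hkl.2.resolve_left (fun h0 : B = 0 => absurd (h0 ▸ h) (Nat.not_lt_zero _))
        rw [hd, Nat.add_mul (j / a + 1) d a, Nat.add_mul (j / a + 1) d l, Nat.succ_mul,
          Nat.succ_mul] at hBa
        have hal : d * l ≤ d * a := Nat.mul_le_mul_left d (by omega)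
        omega

end CfsgLib.Recog.UniformPartition
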